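import Cfsg.Agent.H419.EP.Targets_m3
import Cfsg.Agent.H737.EPO.RelOne_m3
import Mathlib
import Cfsg.Agent.H925.OrthBasic
import Cfsg.Agent.H353.IFO.Idx
import Cfsg.Agent.H209.EPX.Defs_m3
import Cfsg.Agent.S0033
import Cfsg.Agent.H59.EP.Count
import Cfsg.Agent.H528.EP.UB3_m3
import Cfsg.Agent.H470.EPK.ParOfVJ
import Cfsg.Agent.KFacts.RgdLieCharP
import Cfsg.Agent.H220.EP.PermSeven
import Cfsg.Agent.S0713
import Cfsg.Agent.S0144
import Cfsg.Agent.KFacts.RgdFilt
import Cfsg.Agent.KFacts.RgdCharP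
import Cfsg.Agent.Nodes.NormX
import Cfsg.Agent.Tits.ExtAux
import Cfsg.Agent.SporRec.TwoSp6.Sp
import Cfsg.Agent.H931.SpProper
import Cfsg.Prelude.Def_GeometricClasses
import Cfsg.Agent.S5662
import Cfsg.Prelude.Def_ClassicalGeometry
import Cfsg.Agent.H889.TensorPow
import Cfsg.Agent.H919.AschWreath
import Cfsg.Agent.S5663
import Cfsg.Agent.Lib.Cores
import Cfsg.Agent.ClassicalGeometry.PSUAutBasic
import Cfsg.Agent.ClassicalGeometry.PSUAutCount
import Cfsg.Agent.ClassicalGeometry.HermOrtho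
import Cfsg.Agent.H914.Uni
import Cfsg.Agent.LieClassical.HermBasic
import Cfsg.Agent.H907.FieldAdj
import Cfsg.Agent.H912.Core4
import Cfsg.Agent.H918.UProper
import Cfsg.Agent.H907.SU3Sylow
import Cfsg.Agent.H922.OddFull
import Cfsg.Agent.S5630
import Cfsg.Agent.H918.TransvWreath
import Cfsg.Agent.H919.AschWreathForm
import Cfsg.Agent.LieClassical.SLGen
import Cfsg.Agent.H321.Ker.AlgY
import Cfsg.Agent.Lib.Zsigmondy
import Cfsg.Agent.H999.PslGraphOdd
import Cfsg.Agent.H765.EPS.Basic_m3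
import Cfsg.Agent.LieClassical.OrthFinite
import Cfsg.Agent.H884.OmegaGL
import Cfsg.Agent.H614.AMod.Main
import Cfsg.Agent.H417.EP.ASix
import Cfsg.Agent.H957.EP.RowSixUB_m3
import Cfsg.Agent.H59.EP.UBGen
import Cfsg.Agent.TypeM.OutLyFin
import Cfsg.Agent.FastGrp
import Cfsg.Agent.Prune
set_option linter.all false

section
prune_inst 0x7ffca8f92bb8a1dedfff7e77a690cdfc39901fffe6dff94b3fe021df0bdf03000945238509e000fe0e82421410a87803f97eca3fa26bd87ffffd1ff41ffbec0f8566b508119488340f300ff603f0678e7f3fffffffffffffffffffffffffffaeffbdffbfffff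

-- part: H284/EP/Hat
section
set_option linter.all false
open scoped Cfsg.Agent.FastGrp

/-!
# The counting criteria for the preimage `Â ≤ S ≤ GL(ι, F)` (helper284)
-/

set_option autoImplicit false
set_option linter.unusedSectionVars false

namespace Cfsg.Agent.H284.Hat

open Subgroup Cfsg.Agent.H284 Cfsg.Agent.H419.EP

variable {Q : Type*} [Group Q] {A : Subgroup Q} {Γ : Subgroup (MulAut Q)}
variable {ι : Type} [Fintype ι] [DecidableEq ι] {F : Type*} [Field F] {S : Subgroup (GL ι F)} (m : Model Q S)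

/-- the image in `Q` of a subgroup of `GL` -/
def im (D : Subgroup (GL ι F)) : Subgroup Q := (D.subgroupOf S).map m.π

theorem im_le {D : Subgroup (GL ι F)} (hD : D ≤ S) {M : Subgroup Q} : im m D ≤ M ↔ D ≤ m.hat M := by
  constructor
  · intro h d hd
    exact m.mem_hat.2 ⟨hD hd, h ⟨⟨d, hD hd⟩, hd, rfl⟩⟩
  · rintro h _ ⟨s, hs, rfl⟩
    exact (m.mem_hat_iff s).1 (h hs)

theorem index_hat : (m.hat A).relIndex S = A.index := by
  have h1 : (m.hat A).subgroupOf S = A.comap m.π := by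
    ext s
    exact m.mem_hat_iff s
  rw [Subgroup.relIndex, h1, Subgroup.index_comap_of_surjective _ m.surj]

theorem relIndex_hat {C : Subgroup (GL ι F)} (hC : C ≤ S) : (m.hat A).relIndex C = A.relIndex (im m C) := by
  have h1 : (m.hat A).relIndex C = (A.comap m.π).relIndex (C.subgroupOf S) := by
    have e1 : (A.comap m.π).map S.subtype = m.hat A := rfl
    rw [← e1]
    have e2 : C = (C.subgroupOf S).map S.subtype := by
      rw [Subgroup.subgroupOf_map_subtype, inf_eq_left.2 hC]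
    conv_lhs => rw [e2]
    have e3 := Subgroup.relIndex_comap ((A.comap m.π).map S.subtype) S.subtype (C.subgroupOf S)
    rw [← e3, Subgroup.comap_map_eq_self_of_injective S.subtype_injective]
  rw [h1, im, Subgroup.relIndex_comap]

variable (h : EPT A Γ)

include h

end Cfsg.Agent.H284.Hat

private theorem dce_f63bdbbe30ad : _root_.True := by
  try have : _root_.True := by simp only [_root_.Cfsg.Agent.H284.Hat.im.eq_1]
  exact _root_.True.intro
end

-- part: H893/EP/GeoL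
section
prune_inst 0x347029047580100000008010a02000607800010200400c0024a20e000309a0688d4088010ba005135802080008000048115c04100200000000000000002407091000040480480008c20090000100000000000000000000000000000000000000200400000
set_option linter.all false
open scoped Cfsg.Agent.FastGrp

-- part: H893/EP/ExtL
section
/-!
# S3499, row Om-C3, extension fields of prime degree at least five: quadratic forms on the field `L` (helper893)

`L / F` finite fields, `[L : F] = r` prime, `r ≥ 5`; `q` a quadratic form on `L` with polar form `φ (k l)`, `q 1 ≠ 0`.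
`exists_sep`: a vector outside a subspace of dimension at most two with the same value of `q`.
`exists_pair`: for `T : L → L` linear with eigenspaces of dimension at most one there are independent `w₁, w₂` with
`q w₁ = q w₂ ≠ 0` whose span is not `T`-invariant.
-/

set_option autoImplicit false
set_option linter.unusedSectionVars false

namespace Cfsg.Agent.H893.EP

open QuadraticMap Module
open Cfsg.Agent.LieClassical.OrthCore Cfsg.Agent.LieClassical.OrthTrans Cfsg.Agent.LieClassical.OrthFinite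

theorem finrank_single_le {F V : Type*} [Field F] [AddCommGroup V] [Module F V] (v : V) :
    finrank F (Submodule.span F {v}) ≤ 1 := by
  classical
  have h := finrank_span_finset_le_card (R := F) ({v} : Finset V)
  rw [Finset.coe_singleton] at h
  exact h

section gal

variable {F L : Type*} [Field F] [Field L] [Algebra F L] [FiniteDimensional F L]

theorem mem_or_top (hr : (finrank F L).Prime) (k : L) :
    (∃ c : F, algebraMap F L c = k) ∨ Algebra.adjoin F {k} = ⊤ := by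
  have := Subalgebra.isSimpleOrder_of_finrank_prime F L hr
  rcases eq_bot_or_eq_top (Algebra.adjoin F ({k} : Set L)) with h | h
  · left
    have h1 : k ∈ Algebra.adjoin F ({k} : Set L) := Algebra.subset_adjoin rfl
    rw [h, Algebra.mem_bot] at h1
    exact h1
  · exact Or.inr h

/-- an automorphism fixing an element outside `F` is trivial -/
theorem mem_of_fixed (hr : (finrank F L).Prime) {τ : L ≃ₐ[F] L} (hτ : τ ≠ 1) {k : L} (hk : τ k = k) :
    ∃ c : F, algebraMap F L c = k := by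
  rcases mem_or_top hr k with h | h
  · exact h
  exfalso
  apply hτ
  have h1 : (τ : L →ₐ[F] L) = AlgHom.id F L := by
    apply AlgHom.ext_of_adjoin_eq_top h
    intro x hx
    rw [Set.mem_singleton_iff.1 hx]
    exact hk
  ext x
  exact DFunLike.congr_fun h1 x

theorem exists_pow_eq [Finite L] (hr : (finrank F L).Prime) {τ : L ≃ₐ[F] L} (hτ : τ ≠ 1) (τ' : L ≃ₐ[F] L) :
    ∃ n : ℕ, τ ^ n = τ' := by
  have := Fact.mk hr
  have h1 : Nat.card (L ≃ₐ[F] L) = finrank F L := IsGalois.card_aut_eq_finrank F L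
  exact mem_powers_of_prime_card h1 hτ

end gal

section form

variable {F L : Type*} [Field F] [Finite F] [Field L] [Algebra F L] [FiniteDimensional F L]
  {q : QuadraticForm F L} {φ : L →ₗ[F] F}

theorem phi_zero (hφ : ∀ k l, polar q k l = φ (k * l)) (h2 : (2 : F) = 0) (l : L) : φ l = 0 := by
  have hfL : Finite L := Module.finite_of_finite F
  have h2L : (2 : L) = 0 := by
    have := congrArg (algebraMap F L) h2
    rwa [map_ofNat, map_zero] at this
  have hchar : ringChar L = 2 := by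
    have : ringChar L ∣ 2 := ringChar.dvd (by exact_mod_cast h2L)
    rcases (Nat.dvd_prime Nat.prime_two).1 this with h7 | h7
    · exact absurd h7 CharP.ringChar_ne_one
    · exact h7
  obtain ⟨k, rfl⟩ := FiniteField.isSquare_of_char_two hchar l
  rw [← hφ, polar_self', h2, zero_mul]

/-- a vector outside a subspace of dimension at most two with the same value of `q` -/
theorem exists_sep (hφ : ∀ k l, polar q k l = φ (k * l)) (h5 : 5 ≤ finrank F L) {P : Submodule F L}
    (hP : finrank F P ≤ 2) {w : L} (hw : w ∈ P) (hqw : q w ≠ 0) : ∃ w', w' ∉ P ∧ q w' = q w := by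
  by_cases h2 : (2 : F) = 0
  · have hz := phi_zero hφ h2
    have hadd : ∀ a b, q (a + b) = q a + q b := by
      intro a b
      rw [Q_add, hφ, hz, add_zero]
    have h22 : ∀ c : F, c + c = 0 := fun c => by rw [← two_mul, h2, zero_mul]
    by_contra hcon
    push Not at hcon
    obtain ⟨C, hC⟩ := P.exists_isCompl
    have hinj : Function.Injective (fun c : C => q (c : L)) := by
      intro a b hab
      by_contra hne
      have hab' : q (a : L) = q (b : L) := hab
      have h3 : (a : L) - b ∈ C := C.sub_mem a.2 b.2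
      have h4 : (a : L) - b ∉ P := by
        intro h
        have h6 : (a : L) - b = 0 := (Submodule.disjoint_def.1 hC.disjoint) _ h h3
        exact hne (Subtype.ext (sub_eq_zero.1 h6))
      refine hcon (w + ((a : L) - b)) (fun h => h4 ?_) ?_
      · have := P.sub_mem h hw
        rwa [add_sub_cancel_left] at this
      · rw [hadd, sub_eq_add_neg, hadd, QuadraticMap.map_neg, hab', h22, add_zero]
    have h3 := Submodule.finrank_add_eq_of_isCompl hC
    have h4 := Nat.card_le_card_of_injective _ hinj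
    rw [Module.natCard_eq_pow_finrank (K := F)] at h4
    have h6 : 2 ≤ Nat.card F := Finite.one_lt_card
    have h7 : Nat.card F ^ 3 ≤ Nat.card F ^ finrank F C := Nat.pow_le_pow_right (by omega) (by omega)
    have h8 : Nat.card F ^ 3 = Nat.card F * (Nat.card F * Nat.card F) := by ring
    nlinarith
  · -- the vector `h`
    obtain ⟨h, hh1, hh2, hh3⟩ : ∃ h : L, φ (w * h) = 0 ∧ h ∉ P ∧ q h ≠ - q w := by
      by_contra hcon
      push Not at hcon
      let ψ : L →ₗ[F] F := φ.comp (LinearMap.mulLeft F w)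
      have hψ : ∀ l, ψ l = φ (w * l) := fun _ => rfl
      have hk : 4 ≤ finrank F (LinearMap.ker ψ) := by
        have h3 := LinearMap.finrank_range_add_finrank_ker ψ
        have h4 : finrank F (LinearMap.range ψ) ≤ 1 := by
          have := Submodule.finrank_le (LinearMap.range ψ)
          rwa [Module.finrank_self] at this
        omega
      have hex : ∀ R : Submodule F L, finrank F R ≤ 3 → ∃ h, φ (w * h) = 0 ∧ h ∉ R := by
        intro R hR
        by_contra hc
        push Not at hc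
        have h3 : LinearMap.ker ψ ≤ R := fun v hv => hc v hv
        have := Submodule.finrank_mono h3
        omega
      obtain ⟨h, h3, h4⟩ := hex P (by omega)
      have hR3 : finrank F ↥(P ⊔ Submodule.span F {h}) ≤ 3 := by
        have h6 := Submodule.finrank_add_le_finrank_add_finrank P (Submodule.span F {h})
        have h7 := finrank_single_le (F := F) h
        omega
      obtain ⟨h', h6, h7⟩ := hex _ hR3
      have hhR : h ∈ P ⊔ Submodule.span F {h} := Submodule.mem_sup_right (Submodule.mem_span_singleton_self h)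
      have e1 := hcon h h3 h4
      have e2 := hcon h' h6 (fun h => h7 (Submodule.mem_sup_left h))
      have e3 := hcon (h + h') (by rw [mul_add, map_add, h3, h6, add_zero]) (fun hc => h7 (by
        have := Submodule.sub_mem _ (Submodule.mem_sup_left (T := Submodule.span F {h}) hc) hhR
        rwa [add_sub_cancel_left] at this))
      have e4 := hcon (h - h') (by rw [mul_sub, map_sub, h3, h6, sub_zero]) (fun hc => h7 (by
        have := Submodule.sub_mem _ hhR (Submodule.mem_sup_left (T := Submodule.span F {h}) hc)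
        rwa [sub_sub_cancel] at this))
      rw [Q_add, e1, e2] at e3
      rw [sub_eq_add_neg, Q_add, QuadraticMap.map_neg, e1, e2, polar_neg_right] at e4
      have h8 : 2 * q w = 0 := by linear_combination - e3 - e4
      rcases mul_eq_zero.1 h8 with h9 | h9
      · exact h2 h9
      · exact hqw h9
    set u := w + h with hu
    have hqu : q u = q w + q h := by rw [hu, Q_add, hφ, hh1, add_zero]
    have hqu0 : q u ≠ 0 := by
      rw [hqu]
      intro h0
      exact hh3 (by linear_combination h0)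
    have hpu : polar q w u = 2 * q w := by
      rw [hu, polar_add_right, polar_self', hφ, hh1, add_zero]
    have huP : u ∉ P := by
      intro h0
      apply hh2
      have := P.sub_mem h0 hw
      rwa [hu, add_sub_cancel_left] at this
    set t := 2 * q w * (q u)⁻¹ with ht
    have ht0 : t ≠ 0 := mul_ne_zero (mul_ne_zero h2 hqw) (inv_ne_zero hqu0)
    refine ⟨w - t • u, fun h0 => huP ?_, ?_⟩
    · have h3 := P.sub_mem hw h0
      rw [sub_sub_cancel] at h3
      have h4 := P.smul_mem t⁻¹ h3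
      rwa [smul_smul, inv_mul_cancel₀ ht0, one_smul] at h4
    · rw [sub_eq_add_neg, Q_add, QuadraticMap.map_neg, QuadraticMap.map_smul, polar_neg_right, polar_smul_right, hpu, ht]
      simp only [smul_eq_mul]
      field_simp
      ring

/-- a pair of vectors with the same value of `q` and span not invariant under `T` -/
theorem exists_pair (hφ : ∀ k l, polar q k l = φ (k * l)) (h5 : 5 ≤ finrank F L) (hq : q 1 ≠ 0) (T : L →ₗ[F] L)
    (hT : ∀ (a b : L) (μ : F), a ≠ 0 → T a = μ • a → T b = μ • b → ∃ c : F, b = c • a) :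
    ∃ w₁ w₂ : L, q w₁ ≠ 0 ∧ q w₂ = q w₁ ∧ (∀ c : F, w₂ ≠ c • w₁) ∧
      ¬ (T w₁ ∈ Submodule.span F {w₁, w₂} ∧ T w₂ ∈ Submodule.span F {w₁, w₂}) := by
  by_contra hcon
  push Not at hcon
  have hne : ∀ w : L, q w ≠ 0 → w ≠ 0 := by
    rintro w hw rfl
    exact hw (QuadraticMap.map_zero q)
  -- three vectors
  have key : ∀ w : L, q w ≠ 0 → ∃ w2 w3 : L, q w2 = q w ∧ q w3 = q w ∧ (∀ c : F, w2 ≠ c • w) ∧
      (∀ a b : F, w3 ≠ a • w + b • w2) := by
    intro w hw
    obtain ⟨w2, h1, h2⟩ := exists_sep (P := Submodule.span F {w}) hφ h5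
      ((finrank_single_le (F := F) w).trans (by norm_num)) (Submodule.mem_span_singleton_self w) hw
    have h3 : finrank F (Submodule.span F ({w, w2} : Set L)) ≤ 2 := by
      classical
      have h := finrank_span_finset_le_card (R := F) ({w, w2} : Finset L)
      rw [Finset.coe_pair] at h
      exact h.trans Finset.card_le_two
    obtain ⟨w3, h4, h6⟩ := exists_sep (P := Submodule.span F {w, w2}) hφ h5 h3
      (Submodule.subset_span (by simp)) hw
    refine ⟨w2, w3, h2, h6, ?_, ?_⟩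
    · rintro c rfl
      exact h1 (Submodule.smul_mem _ _ (Submodule.mem_span_singleton_self w))
    · rintro a b rfl
      exact h4 (Submodule.mem_span_pair.2 ⟨a, b, rfl⟩)
  have eig : ∀ w : L, q w ≠ 0 → ∃ γ : F, T w = γ • w := by
    intro w hw
    obtain ⟨w2, w3, e2, e3, h2, h3⟩ := key w hw
    have h3' : ∀ c : F, w3 ≠ c • w := fun c => by
      have := h3 c 0
      rwa [zero_smul, add_zero] at this
    obtain ⟨h4, -⟩ := hcon w w2 hw e2 h2
    obtain ⟨h6, -⟩ := hcon w w3 hw e3 h3'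
    obtain ⟨a, b, h7⟩ := Submodule.mem_span_pair.1 h4
    obtain ⟨c, d, h8⟩ := Submodule.mem_span_pair.1 h6
    by_cases hd : d = 0
    · refine ⟨c, ?_⟩
      rw [← h8, hd, zero_smul, add_zero]
    · exfalso
      apply h3 (d⁻¹ * (a - c)) (d⁻¹ * b)
      have h9 : d • w3 = (a - c) • w + b • w2 := by
        rw [sub_smul, sub_add_eq_add_sub, h7, ← h8, add_sub_cancel_left]
      rw [mul_smul, mul_smul, ← smul_add, ← h9, smul_smul, inv_mul_cancel₀ hd, one_smul]
  obtain ⟨w2, w3, e2, e3, h2, h3⟩ := key 1 hq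
  have hq2 : q w2 ≠ 0 := by rw [e2]; exact hq
  have hq3 : q w3 ≠ 0 := by rw [e3]; exact hq
  obtain ⟨γ1, g1⟩ := eig 1 hq
  obtain ⟨γ2, g2⟩ := eig w2 hq2
  obtain ⟨γ3, g3⟩ := eig w3 hq3
  have h12 : γ1 ≠ γ2 := by
    intro h
    obtain ⟨c, hc⟩ := hT 1 w2 γ1 one_ne_zero g1 (by rw [g2, h])
    exact h2 c hc
  -- a combination with distinct eigenvalues
  have comb : ∀ ε : F, ε ≠ 0 → q (1 + ε • w2) = 0 := by
    intro ε hε
    by_contra hc
    obtain ⟨γ, hγ⟩ := eig _ hc
    rw [map_add, map_smul, g1, g2] at hγ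
    have h4 : (ε * (γ2 - γ)) • w2 = (γ - γ1) • (1 : L) := by
      rw [sub_smul, mul_sub, sub_smul, mul_smul, mul_smul]
      rw [smul_add] at hγ
      rw [sub_eq_sub_iff_add_eq_add, add_comm (ε • γ2 • w2), hγ, smul_comm γ ε]
    by_cases h6 : ε * (γ2 - γ) = 0
    · have h7 : γ2 = γ := by
        rcases mul_eq_zero.1 h6 with h | h
        · exact (hε h).elim
        · exact sub_eq_zero.1 h
      rw [h6, zero_smul] at h4
      rcases smul_eq_zero.1 h4.symm with h | h
      · exact h12 (by rw [h7]; exact (sub_eq_zero.1 h).symm)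
      · exact one_ne_zero h
    · apply h2 ((ε * (γ2 - γ))⁻¹ * (γ - γ1))
      rw [mul_smul, ← h4, smul_smul, inv_mul_cancel₀ h6, one_smul]
  by_cases h2F : (2 : F) = 0
  · have hz := phi_zero hφ h2F
    have hadd : ∀ a b, q (a + b) = q a + q b := by
      intro a b
      rw [Q_add, hφ, hz, add_zero]
    have hs : q (1 + w2 + w3) ≠ 0 := by
      rw [hadd, hadd, e2, e3]
      have : q 1 + q 1 + q 1 = q 1 := by linear_combination q 1 * h2F
      rw [this]
      exact hq
    obtain ⟨γ, hγ⟩ := eig _ hs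
    rw [map_add, map_add, g1, g2, g3, smul_add, smul_add] at hγ
    have h4 : (γ3 - γ) • w3 = (γ - γ1) • (1 : L) + (γ - γ2) • w2 := by
      rw [sub_smul, sub_smul, sub_smul, sub_eq_iff_eq_add]
      have : γ3 • w3 = γ • (1 : L) + γ • w2 + γ • w3 - γ1 • (1 : L) - γ2 • w2 := by
        rw [← hγ]; abel
      rw [this]; abel
    have h6 : γ3 = γ := by
      by_contra h
      have h7 := sub_ne_zero.2 h
      apply h3 ((γ3 - γ)⁻¹ * (γ - γ1)) ((γ3 - γ)⁻¹ * (γ - γ2))
      rw [mul_smul, mul_smul, ← smul_add, ← h4, smul_smul, inv_mul_cancel₀ h7, one_smul]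
    rw [h6, sub_self, zero_smul] at h4
    have h7 : γ = γ2 := by
      by_contra h
      have h8 := sub_ne_zero.2 h
      apply h2 (-((γ - γ2)⁻¹ * (γ - γ1)))
      have h9 : (γ - γ2) • w2 = - ((γ - γ1) • (1 : L)) := by
        rw [eq_neg_iff_add_eq_zero, add_comm]; exact h4.symm
      rw [neg_smul, mul_smul, ← smul_neg, ← h9, smul_smul, inv_mul_cancel₀ h8, one_smul]
    rw [h7, sub_self, zero_smul, add_zero] at h4
    rcases smul_eq_zero.1 h4.symm with h | h
    · exact h12 (sub_eq_zero.1 h).symm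
    · exact one_ne_zero h
  · have c1 := comb 1 one_ne_zero
    have c2 := comb (-1) (neg_ne_zero.2 one_ne_zero)
    rw [one_smul, Q_add, e2] at c1
    rw [neg_smul, one_smul, Q_add, QuadraticMap.map_neg, polar_neg_right, e2] at c2
    have h4 : (2 * 2) * q 1 = 0 := by linear_combination c1 + c2
    rcases mul_eq_zero.1 h4 with h | h
    · rcases mul_eq_zero.1 h with h | h <;> exact h2F h
    · exact hq h

end form

end Cfsg.Agent.H893.EP
end

-- part: H893/EP/GeoL
section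
/-!
# S3499, row Om-C3, extension fields of prime degree at least five: the element `x` (helper893)

`V` an orthogonal space over `F` and a vector space over `L`, `[L : F] = r ≥ 5` prime, `dim_L V ∈ {1, 2}`, `L` self-adjoint.
`exists_x`: there is `x ∈ Ω`, not semilinear, such that every semilinear `a ∈ Ω` with `x⁻¹ a x` semilinear is a scalar.
-/

set_option autoImplicit false
set_option linter.unusedSectionVars false

namespace Cfsg.Agent.H893.EP

open QuadraticMap Module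
open Cfsg.Agent.LieClassical.OrthCore Cfsg.Agent.LieClassical.OrthTrans Cfsg.Agent.LieClassical.OrthFinite

section form

variable {F L : Type*} [Field F] [Finite F] [Field L] [Algebra F L] [FiniteDimensional F L]
  {q : QuadraticForm F L} {φ : L →ₗ[F] F}

theorem pm_one (hφ : ∀ k l, polar q k l = φ (k * l)) {k₀ : L} (hq : q k₀ ≠ 0) {ρ : L}
    (h : ∀ l, q (l * ρ) = q l) : ρ = 1 ∨ ρ = -1 := by
  by_cases h2 : (2 : F) = 0
  · left
    by_contra hρ
    have hρ' : ρ - 1 ≠ 0 := sub_ne_zero.2 hρ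
    apply hq
    have hz := phi_zero hφ h2
    set l := k₀ * (ρ - 1)⁻¹ with hl
    have e : k₀ = l * ρ + -l := by
      have : l * ρ + -l = l * (ρ - 1) := by ring
      rw [this, hl, mul_assoc, inv_mul_cancel₀ hρ', mul_one]
    rw [e, Q_add, hφ, hz, QuadraticMap.map_neg, h, add_zero, ← two_mul, h2, zero_mul]
  · have hpol : ∀ k l, polar q (k * ρ) (l * ρ) = polar q k l := by
      intro k l
      rw [polar, ← add_mul, h, h, h]
      rfl
    have h3 : ∀ m, φ (m * (ρ * ρ - 1)) = 0 := by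
      intro m
      have h4 := hpol m 1
      rw [hφ, hφ, mul_one, one_mul] at h4
      rw [mul_sub, map_sub, sub_eq_zero, mul_one, ← mul_assoc]
      exact h4
    have h4 : ρ * ρ - 1 = 0 := by
      by_contra hne
      apply hq
      have h5 : polar q k₀ k₀ = 0 := by
        rw [hφ]
        have := h3 (k₀ * k₀ * (ρ * ρ - 1)⁻¹)
        rwa [mul_assoc, inv_mul_cancel₀ hne, mul_one] at this
      rw [polar_self'] at h5
      exact (mul_eq_zero.1 h5).resolve_left h2
    exact mul_self_eq_one_iff.1 (sub_eq_zero.1 h4)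

theorem exists_w (hφ : ∀ k l, polar q k l = φ (k * l)) (hr : (finrank F L).Prime) (h5 : 5 ≤ finrank F L)
    (hq : q 1 ≠ 0) :
    ∃ w₁ w₂ : L, q w₁ ≠ 0 ∧ q w₂ = q w₁ ∧ (∀ c : F, w₂ ≠ c • w₁) ∧
      ∀ (T : L →ₗ[F] L) (τ : L ≃ₐ[F] L) (ρ : L), τ ≠ 1 → (∀ k, T k = τ k * ρ) → (∀ k, q (T k) = q k) →
        ¬ (T w₁ ∈ Submodule.span F {w₁, w₂} ∧ T w₂ ∈ Submodule.span F {w₁, w₂}) := by
  have hfL : Finite L := Module.finite_of_finite F
  by_cases hB : ∃ (T : L →ₗ[F] L) (τ : L ≃ₐ[F] L) (ρ : L), τ ≠ 1 ∧ (∀ k, T k = τ k * ρ) ∧ ∀ k, q (T k) = q k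
  · obtain ⟨T1, τ1, ρ1, hτ1, hT1, hq1⟩ := hB
    have hρ1 : ρ1 ≠ 0 := by
      rintro rfl
      have h1 := hq1 1
      rw [hT1, mul_zero, QuadraticMap.map_zero] at h1
      exact hq h1.symm
    obtain ⟨w1, w2, h1, h2, h3, h4⟩ := exists_pair hφ h5 hq T1 (by
      intro a b μ ha hTa hTb
      have hτa : τ1 a ≠ 0 := fun h => ha (by
        have := congrArg τ1.symm h
        rwa [AlgEquiv.symm_apply_apply, map_zero] at this)
      have h6 : τ1 b * a = τ1 a * b := by
        have e1 : τ1 b * ρ1 * a = τ1 a * ρ1 * b := by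
          rw [← hT1, ← hT1, hTa, hTb, smul_mul_assoc, smul_mul_assoc, mul_comm a b]
        have e2 : ρ1 * (τ1 b * a - τ1 a * b) = 0 := by linear_combination e1
        exact sub_eq_zero.1 ((mul_eq_zero.1 e2).resolve_left hρ1)
      obtain ⟨c, hc⟩ := mem_of_fixed hr hτ1 (k := b * a⁻¹) (by
        rw [map_mul, map_inv₀]
        field_simp
        linear_combination h6)
      refine ⟨c, ?_⟩
      rw [Algebra.smul_def, hc, mul_assoc, inv_mul_cancel₀ ha, mul_one])
    refine ⟨w1, w2, h1, h2, h3, fun T τ ρ hτ hT hqT hinv => h4 ?_⟩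
    obtain ⟨n, hn⟩ := exists_pow_eq hr hτ τ1
    have hTn : ∀ m : ℕ, ∃ ρ' : L, ∀ k, (T ^ m) k = (τ ^ m) k * ρ' := by
      intro m
      induction m with
      | zero => exact ⟨1, fun k => (mul_one k).symm⟩
      | succ m ih =>
        obtain ⟨ρ', h⟩ := ih
        refine ⟨(τ ^ m) ρ * ρ', fun k => ?_⟩
        rw [pow_succ, Module.End.mul_apply, hT, h, map_mul, mul_assoc, pow_succ]
        rfl
    have hqn : ∀ (m : ℕ) (k : L), q ((T ^ m) k) = q k := by
      intro m
      induction m with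
      | zero => intro k; rfl
      | succ m ih =>
        intro k
        rw [pow_succ, Module.End.mul_apply, ih, hqT]
    have hin : ∀ w ∈ Submodule.span F {w1, w2}, T w ∈ Submodule.span F {w1, w2} := by
      intro w hw
      obtain ⟨a, b, rfl⟩ := Submodule.mem_span_pair.1 hw
      rw [map_add, map_smul, map_smul]
      exact Submodule.add_mem _ (Submodule.smul_mem _ _ hinv.1) (Submodule.smul_mem _ _ hinv.2)
    have hinn : ∀ (m : ℕ), ∀ w ∈ Submodule.span F {w1, w2}, (T ^ m) w ∈ Submodule.span F {w1, w2} := by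
      intro m
      induction m with
      | zero => intro w hw; exact hw
      | succ m ih =>
        intro w hw
        rw [pow_succ, Module.End.mul_apply]
        exact ih _ (hin w hw)
    obtain ⟨ρ', hρ'⟩ := hTn n
    rw [hn] at hρ'
    have h6 : ρ' * ρ1⁻¹ = 1 ∨ ρ' * ρ1⁻¹ = -1 := by
      refine pm_one hφ hq fun l => ?_
      have e1 := hqn n (τ1.symm (l * ρ1⁻¹))
      rw [hρ', AlgEquiv.apply_symm_apply] at e1
      have e2 := hq1 (τ1.symm (l * ρ1⁻¹))
      rw [hT1, AlgEquiv.apply_symm_apply, mul_assoc, inv_mul_cancel₀ hρ1, mul_one] at e2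
      rw [e2, ← e1]
      congr 1
      ring
    have h8 : ρ' = ρ1 ∨ ρ' = - ρ1 := by
      rcases h6 with h | h
      · left
        rw [mul_inv_eq_one₀ hρ1] at h
        exact h
      · right
        rw [mul_inv_eq_iff_eq_mul₀ hρ1, neg_one_mul] at h
        exact h
    have h9 : ∀ w ∈ Submodule.span F {w1, w2}, T1 w ∈ Submodule.span F {w1, w2} := by
      intro w hw
      have h10 := hinn n w hw
      rw [hρ'] at h10
      rcases h8 with h | h
      · rw [hT1, ← h]
        exact h10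
      · have : T1 w = - (τ1 w * ρ') := by rw [hT1, h, mul_neg, neg_neg]
        rw [this]
        exact Submodule.neg_mem _ h10
    exact ⟨h9 _ (Submodule.subset_span (by simp)), h9 _ (Submodule.subset_span (by simp))⟩
  · obtain ⟨w2, h1, h2⟩ := exists_sep (P := Submodule.span F {(1 : L)}) hφ h5
      ((finrank_single_le (F := F) (1 : L)).trans (by norm_num)) (Submodule.mem_span_singleton_self 1) hq
    refine ⟨1, w2, hq, h2, ?_, fun T τ ρ hτ hT hqT _ => hB ⟨T, τ, ρ, hτ, hT, hqT⟩⟩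
    rintro c rfl
    exact h1 (Submodule.smul_mem _ _ (Submodule.mem_span_singleton_self 1))

end form

section det

variable {F V : Type*} [Field F] [AddCommGroup V] [Module F V] {Q : QuadraticForm F V}

theorem det_E (hG : Good Q) {a : V ≃ₗ[F] V} (ha : a ∈ E Q) : LinearMap.det (a : V →ₗ[F] V) = 1 := by
  rw [← hG.commutator_eq_E] at ha
  have h1 : a ∈ commutator (V ≃ₗ[F] V) := (Subgroup.commutator_mono le_top le_top : ⁅O Q, O Q⁆ ≤ ⁅⊤, ⊤⁆) ha
  have h2 := Abelianization.commutator_subset_ker (LinearEquiv.det (R := F) (M := V)) h1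
  rw [MonoidHom.mem_ker] at h2
  have h3 := congrArg Units.val h2
  rwa [LinearEquiv.coe_det, Units.val_one] at h3

open Cfsg.Agent.H375.Odd Cfsg.Agent.H199.Out in
theorem even_E [FiniteDimensional F V] (hG : Good Q) (h2 : (2 : F) = 0) {a : V ≃ₗ[F] V} (ha : a ∈ E Q) :
    Even (finrank F (bW a)) := by
  have hchar : ringChar F = 2 := by
    have : ringChar F ∣ 2 := ringChar.dvd (by exact_mod_cast h2)
    rcases (Nat.dvd_prime Nat.prime_two).1 this with h7 | h7
    · exact absurd h7 CharP.ringChar_ne_one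
    · exact h7
  have : CharP F 2 := ringChar.of_eq hchar
  have hβ : Alt (polarBilin Q) := ⟨fun v => by rw [polarBilin_apply_apply, polar_self', h2, zero_mul], hG.nondeg⟩
  have hQF : QF (⇑Q) (polarBilin Q) := ⟨fun u v => Q_add u v, fun c v => by
    rw [QuadraticMap.map_smul, smul_eq_mul, pow_two]⟩
  rw [← hG.commutator_eq_E] at ha
  have hle : ⁅O Q, O Q⁆ ≤ OM hβ hQF := by
    rw [Subgroup.commutator_le]
    intro f hf g hg
    have hf' : f ∈ OQ (⇑Q) := hf
    have hg' : g ∈ OQ (⇑Q) := hg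
    rw [commutatorElement_def]
    by_cases h3 : f ∈ OM hβ hQF
    · have := conj_mem_OM hβ hQF ((OM hβ hQF).inv_mem h3) hg'
      have e : f * g * f⁻¹ * g⁻¹ = f * (g * f⁻¹ * g⁻¹) := by group
      rw [e]
      exact (OM hβ hQF).mul_mem h3 this
    · by_cases h4 : g ∈ OM hβ hQF
      · exact (OM hβ hQF).mul_mem (conj_mem_OM hβ hQF h4 hf') ((OM hβ hQF).inv_mem h4)
      · have h5 := mul_mem_OM hβ hQF hf' hg' h3 h4
        have h6 := mul_mem_OM hβ hQF ((OQ (⇑Q)).inv_mem hf') ((OQ (⇑Q)).inv_mem hg')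
          (fun h => h3 (by simpa using (OM hβ hQF).inv_mem h)) (fun h => h4 (by simpa using (OM hβ hQF).inv_mem h))
        have e : f * g * f⁻¹ * g⁻¹ = (f * g) * (f⁻¹ * g⁻¹) := by group
        rw [e]
        exact (OM hβ hQF).mul_mem h5 h6
  exact (hle ha).2

end det

section geo

variable {F L V : Type*} [Field F] [Field L] [Algebra F L] [AddCommGroup V] [Module F V] [Module L V]
  [IsScalarTower F L V]

/-- `k ↦ k v` -/
def mvv (F : Type*) {L V : Type*} [Field F] [Field L] [Algebra F L] [AddCommGroup V] [Module F V] [Module L V]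
    [IsScalarTower F L V] (v : V) : L →ₗ[F] V where
  toFun k := k • v
  map_add' a b := add_smul a b v
  map_smul' c k := smul_assoc c k v

theorem mvv_apply (v : V) (k : L) : mvv F v k = k • v := rfl

/-- `v ↦ k v` -/
def ml (F : Type*) {L : Type*} (V : Type*) [Field F] [Field L] [Algebra F L] [AddCommGroup V] [Module F V] [Module L V]
    [IsScalarTower F L V] (k : L) : V →ₗ[F] V where
  toFun v := k • v
  map_add' a b := smul_add k a b
  map_smul' c v := smul_algebra_smul_comm c k v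

/-- semilinear maps -/
def SL (a : V ≃ₗ[F] V) (τ : L ≃ₐ[F] L) : Prop := ∀ (k : L) (v : V), a (k • v) = τ k • a v

theorem line_le [FiniteDimensional F L] [FiniteDimensional F V] {v : V} (hv : v ≠ 0) {D : Submodule F V}
    (hD : ∀ k : L, k • v ∈ D) : finrank F L ≤ finrank F D := by
  let f : L →ₗ[F] D := (mvv F v).codRestrict D hD
  apply LinearMap.finrank_le_finrank_of_injective (f := f)
  rw [injective_iff_map_eq_zero]
  intro k hk
  have h1 : k • v = 0 := congrArg Subtype.val hk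
  exact (smul_eq_zero.1 h1).resolve_right hv

theorem mvv_inj {v : V} (hv : v ≠ 0) : Function.Injective (mvv F v : L →ₗ[F] V) := by
  rw [injective_iff_map_eq_zero]
  intro k hk
  exact (smul_eq_zero.1 hk).resolve_right hv

/-- a semilinear map of small rank is trivial -/
theorem eq_one_of_rank [FiniteDimensional F L] [FiniteDimensional F V] (hr : (finrank F L).Prime)
    (h5 : 5 ≤ finrank F L) (hn : finrank F V = finrank F L ∨ finrank F V = 2 * finrank F L)
    (h7 : 7 ≤ finrank F V) {a : V ≃ₗ[F] V} {τ : L ≃ₐ[F] L} (ha : SL a τ) {D : Submodule F V}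
    (hD : finrank F D ≤ 4) (haD : ∀ v, a v - v ∈ D) : ∀ v, a v = v := by
  by_cases hτ : τ = 1
  · subst hτ
    intro v
    by_contra hv
    have h1 := line_le (F := F) (L := L) (D := D) (sub_ne_zero.2 hv) (by
      intro k
      have h2 := haD (k • v)
      rw [ha] at h2
      rw [smul_sub]
      exact h2)
    omega
  exfalso
  rcases hn with hn | hn
  · -- one-dimensional
    let f : V →ₗ[F] V := (a : V →ₗ[F] V) - LinearMap.id
    have hf : ∀ v, f v = a v - v := fun _ => rfl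
    have hrange : LinearMap.range f ≤ D := by
      rintro _ ⟨v, rfl⟩
      exact haD v
    have h1 := LinearMap.finrank_range_add_finrank_ker f
    have h2 := Submodule.finrank_mono hrange
    have h3 : LinearMap.ker f ≠ ⊥ := by
      intro h
      rw [h, finrank_bot] at h1
      omega
    obtain ⟨u, hu, hu0⟩ := (Submodule.ne_bot_iff _).1 h3
    have h4 : ¬ LinearMap.ker f ≤ Submodule.span F {u} := by
      intro h
      have h6 := Submodule.finrank_mono h
      have h8 := finrank_single_le (F := F) u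
      omega
    obtain ⟨v, hv, hvu⟩ := Set.not_subset.1 h4
    have hsurj : Function.Surjective (mvv F u : L →ₗ[F] V) :=
      (LinearMap.injective_iff_surjective_of_finrank_eq_finrank hn.symm).1 (mvv_inj hu0)
    obtain ⟨k, hk⟩ := hsurj v
    rw [mvv_apply] at hk
    have hau : a u = u := sub_eq_zero.1 hu
    have hav : a v = v := sub_eq_zero.1 hv
    rw [← hk, ha, hau, ← sub_eq_zero, ← sub_smul] at hav
    obtain ⟨c, hc⟩ := mem_of_fixed hr hτ (sub_eq_zero.1 ((smul_eq_zero.1 hav).resolve_right hu0))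
    apply hvu
    rw [← hk, ← hc, algebraMap_smul]
    exact Submodule.smul_mem _ _ (Submodule.mem_span_singleton_self u)
  · obtain ⟨k, hk⟩ : ∃ k, τ k ≠ k := by
      by_contra hcon
      push Not at hcon
      exact hτ (AlgEquiv.ext hcon)
    have hm := sub_ne_zero.2 hk
    have htop : (⊤ : Submodule F V) ≤ D ⊔ D.map (ml F V k) := by
      intro w _
      set v := a.symm ((τ k - k)⁻¹ • w) with hv
      have h1 : a v = (τ k - k)⁻¹ • w := by rw [hv, LinearEquiv.apply_symm_apply]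
      have h2 : w = (a (k • v) - k • v) - k • (a v - v) := by
        rw [ha, smul_sub, sub_sub_sub_cancel_right, ← sub_smul, h1, smul_smul, mul_inv_cancel₀ hm, one_smul]
      rw [h2]
      exact Submodule.sub_mem _ (Submodule.mem_sup_left (haD _)) (Submodule.mem_sup_right ⟨_, haD v, rfl⟩)
    have h1 := Submodule.finrank_mono htop
    rw [finrank_top] at h1
    have h2 := Submodule.finrank_add_le_finrank_add_finrank D (D.map (ml F V k))
    have h3 := Submodule.finrank_map_le (ml F V k) D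
    omega

variable {Q : QuadraticForm F V}

/-- the form on the line `L e` -/
def qe (L : Type*) [Field L] [Algebra F L] [Module L V] [IsScalarTower F L V] (Q : QuadraticForm F V) (e : V) :
    QuadraticForm F L := Q.comp (mvv F e)

theorem qe_apply (e : V) (k : L) : qe L Q e k = Q (k • e) := rfl

def phe (L : Type*) [Field L] [Algebra F L] [Module L V] [IsScalarTower F L V] (Q : QuadraticForm F V) (e : V) :
    L →ₗ[F] F := (polarBilin Q e).comp (mvv F e)

theorem phe_apply (e : V) (k : L) : phe L Q e k = polar Q e (k • e) := rfl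

theorem qe_polar (hsa : ∀ (k : L) (v w : V), polar Q (k • v) w = polar Q v (k • w)) (e : V) (k l : L) :
    polar (qe L Q e) k l = phe L Q e (k * l) := by
  rw [phe_apply, mul_smul, ← hsa, polar, qe_apply, qe_apply, qe_apply, add_smul]
  rfl

theorem phe_inj (hsa : ∀ (k : L) (v w : V), polar Q (k • v) w = polar Q v (k • w)) (h2 : (2 : F) ≠ 0) {e : V}
    (he : Q e ≠ 0) {k : L} (hk : ∀ m : L, polar Q (k • e) (m • e) = 0) : k = 0 := by
  by_contra h0
  have h1 := hk (k⁻¹)
  rw [hsa, smul_smul, mul_inv_cancel₀ h0, one_smul, polar_self'] at h1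
  rcases mul_eq_zero.1 h1 with h | h
  · exact h2 h
  · exact he h

/-- an `L`-linear element of `Ω` which is `± 1` on the line `L e` is a scalar -/
theorem parity [Finite F] [FiniteDimensional F L] [FiniteDimensional F V] (hG : Good Q) (hr : (finrank F L).Prime)
    (h5 : 5 ≤ finrank F L) (hn : finrank F V = 2 * finrank F L)
    (hsa : ∀ (k : L) (v w : V), polar Q (k • v) w = polar Q v (k • w)) {e : V} (he : Q e ≠ 0)
    {a : V ≃ₗ[F] V} (haE : a ∈ E Q) (ha : ∀ (k : L) (v : V), a (k • v) = k • a v) {c : F} (hc : c = 1 ∨ c = -1)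
    (hae : a e = c • e) (v : V) : a v = c • v := by
  have hodd : Odd (finrank F L) := hr.odd_of_ne_two (by omega)
  have haO : ∀ v, Q (a v) = Q v := E_le_O haE
  have hc2 : c * c = 1 := by rcases hc with rfl | rfl <;> norm_num
  have hae' : ∀ k : L, a (k • e) = c • k • e := by
    intro k
    rw [ha, hae, smul_algebra_smul_comm]
  by_cases h2 : (2 : F) = 0
  · -- characteristic two
    have hc1 : c = 1 := by
      rcases hc with h | h
      · exact h
      · rw [h]
        linear_combination - h2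
    subst hc1
    simp only [one_smul] at hae' ⊢
    have hev := even_E hG h2 haE
    by_contra hne
    let f : V →ₗ[F] V := (a : V →ₗ[F] V) - LinearMap.id
    have hf : ∀ v, f v = a v - v := fun _ => rfl
    have hfr : Cfsg.Agent.H375.Odd.bW a = LinearMap.range f := rfl
    rw [hfr] at hev
    have he0 : e ≠ 0 := by
      rintro rfl
      exact he (QuadraticMap.map_zero Q)
    have h1 := LinearMap.finrank_range_add_finrank_ker f
    have h3 : finrank F L ≤ finrank F (LinearMap.ker f) := line_le he0 fun k => by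
      rw [LinearMap.mem_ker, hf, hae', sub_self]
    have h4 : finrank F L ≤ finrank F (LinearMap.range f) := line_le (sub_ne_zero.2 hne) fun k => by
      refine ⟨k • v, ?_⟩
      rw [hf, ha, smul_sub]
    have h6 : finrank F (LinearMap.range f) = finrank F L := by omega
    rw [h6] at hev
    exact (Nat.not_even_iff_odd.2 hodd) hev
  · -- odd characteristic
    have hinj : ∀ z : V, z ≠ 0 → (∀ k : L, polar Q z (k • e) = 0) → ∀ w : V, ∃ k l : L, w = k • e + l • z := by
      intro z hz0 hz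
      let θ : L × L →ₗ[F] V := LinearMap.coprod (mvv F e) (mvv F z)
      have hθ : ∀ k l : L, θ (k, l) = k • e + l • z := fun k l => rfl
      have hi : Function.Injective θ := by
        rw [injective_iff_map_eq_zero]
        rintro ⟨k, l⟩ hkl
        rw [hθ] at hkl
        have hk : k = 0 := by
          apply phe_inj hsa h2 he
          intro m
          have h3 : polar Q (k • e + l • z) (m • e) = 0 := by rw [hkl, polar_zero_left]
          rw [polar_add_left, hsa l z, smul_smul, hz, add_zero] at h3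
          exact h3
        rw [hk, zero_smul, zero_add] at hkl
        rw [hk, (smul_eq_zero.1 hkl).resolve_right hz0]
        rfl
      have hs : Function.Surjective θ := (LinearMap.injective_iff_surjective_of_finrank_eq_finrank (by
        rw [Module.finrank_prod, hn, two_mul])).1 hi
      intro w
      obtain ⟨⟨k, l⟩, h⟩ := hs w
      exact ⟨k, l, by rw [← h, hθ]⟩
    -- the orthogonal line
    let Φ : V →ₗ[F] (L →ₗ[F] F) := (LinearMap.lcomp F F (mvv F e)).comp (polarBilin Q)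
    have hΦ : LinearMap.ker Φ ≠ ⊥ := by
      apply LinearMap.ker_ne_bot_of_finrank_lt
      rw [Module.finrank_linearMap_self, hn]
      omega
    obtain ⟨z, hz, hz0⟩ := (Submodule.ne_bot_iff _).1 hΦ
    have hz' : ∀ k : L, polar Q z (k • e) = 0 := fun k => DFunLike.congr_fun hz k
    obtain ⟨m, hm⟩ : ∃ m : L, Q (m • z) ≠ 0 := by
      by_contra hcon
      push Not at hcon
      obtain ⟨w, hw⟩ := hG.nondeg.exists_polar_ne hz0
      obtain ⟨k, l, rfl⟩ := hinj z hz0 hz' w
      apply hw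
      rw [polar_add_right, hz', zero_add, polar, hcon l]
      have h3 := hcon 1
      have h4 := hcon (1 + l)
      rw [add_smul] at h4
      rw [one_smul] at h3 h4
      rw [h3, h4]
      ring
    set e' := m • z with he'
    have he'0 : e' ≠ 0 := by
      intro h
      rw [h] at hm
      exact hm (QuadraticMap.map_zero Q)
    have he'p : ∀ k : L, polar Q e' (k • e) = 0 := by
      intro k
      rw [he', hsa, smul_smul, hz']
    have hall := hinj e' he'0 he'p
    obtain ⟨k, l, hkl⟩ := hall (a e')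
    have hk0 : k = 0 := by
      apply phe_inj hsa h2 he
      intro n
      have h3 : polar Q (a e') (n • e) = 0 := by
        have e1 : n • e = c • a (n • e) := by rw [hae', smul_smul, hc2, one_smul]
        rw [e1, polar_smul_right]
        have e2 : polar Q (a e') (a (n • e)) = polar Q e' (n • e) := polar_map (E_le_O haE) _ _
        rw [e2, he'p, smul_zero]
      rw [hkl, polar_add_left, hsa l e', smul_smul, he'p, add_zero] at h3
      exact h3
    rw [hk0, zero_smul, zero_add] at hkl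
    have hl : l = 1 ∨ l = -1 := by
      refine pm_one (q := qe L Q e') (φ := phe L Q e') (qe_polar hsa e') (k₀ := 1) (by
        rw [qe_apply, one_smul]; exact hm) fun n => ?_
      rw [qe_apply, qe_apply, mul_smul, ← hkl, ← ha, haO]
    obtain ⟨ε, hε, hlε⟩ : ∃ ε : F, (ε = 1 ∨ ε = -1) ∧ a e' = ε • e' := by
      rcases hl with h | h
      · exact ⟨1, Or.inl rfl, by rw [hkl, h, one_smul, one_smul]⟩
      · exact ⟨-1, Or.inr rfl, by rw [hkl, h, neg_smul, neg_smul, one_smul, one_smul]⟩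
    have hae2 : ∀ n : L, a (n • e') = ε • n • e' := by
      intro n
      rw [ha, hlε, smul_algebra_smul_comm]
    by_cases hεc : ε = c
    · obtain ⟨n1, n2, rfl⟩ := hall v
      rw [map_add, hae', hae2, hεc, smul_add]
    · exfalso
      have hεc' : ε = -c := by
        rcases hε with rfl | rfl <;> rcases hc with rfl | rfl
        · exact (hεc rfl).elim
        · rw [neg_neg]
        · rfl
        · exact (hεc rfl).elim
      -- the determinant
      let θ0 : L × L →ₗ[F] V := LinearMap.coprod (mvv F e) (mvv F e')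
      have hs : Function.Surjective θ0 := fun w => by
        obtain ⟨k, l, h⟩ := hall w
        exact ⟨(k, l), h.symm⟩
      have hi : Function.Injective θ0 := (LinearMap.injective_iff_surjective_of_finrank_eq_finrank (by
        rw [Module.finrank_prod, hn, two_mul])).2 hs
      let θ : (L × L) ≃ₗ[F] V := LinearEquiv.ofBijective θ0 ⟨hi, hs⟩
      have hθ : ∀ k l : L, θ (k, l) = k • e + l • e' := fun k l => rfl
      have h3 : (a : V →ₗ[F] V) = (θ : L × L →ₗ[F] V) ∘ₗ
          (LinearMap.prodMap (c • LinearMap.id) (ε • LinearMap.id)) ∘ₗ (θ.symm : V →ₗ[F] L × L) := by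
        apply LinearMap.ext
        intro w
        obtain ⟨⟨k, l⟩, rfl⟩ := θ.surjective w
        show a (θ (k, l)) = θ ((LinearMap.prodMap (c • LinearMap.id) (ε • LinearMap.id)) (θ.symm (θ (k, l))))
        rw [LinearEquiv.symm_apply_apply, LinearMap.prodMap_apply]
        show a (θ (k, l)) = θ (c • k, ε • l)
        rw [hθ, hθ, map_add, hae', hae2, smul_assoc, smul_assoc]
      have h4 := det_E hG haE
      rw [h3, LinearMap.det_conj, LinearMap.det_prodMap, LinearMap.det_smul, LinearMap.det_smul, LinearMap.det_id,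
        mul_one, mul_one, hεc', hodd.neg_pow, mul_neg, ← mul_pow, hc2, one_pow] at h4
      apply h2
      linear_combination - h4

end geo

end Cfsg.Agent.H893.EP
end

private theorem dce_d7da37fe7447 : _root_.True := by
  try have : _root_.True := by simp only [_root_.Cfsg.Agent.H199.Out.OM.congr_simp]
  exact _root_.True.intro
end

-- part: H284/EP/PS
section
prune_inst 0x10000000400000
set_option linter.all false
open scoped Cfsg.Agent.FastGrp

/-!
# Extremely primitive groups: the prime Sylow criterion (helper284; idea of helper67)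
-/

set_option autoImplicit false
set_option linter.unusedSectionVars false

namespace Cfsg.Agent.H284

open MulAction Subgroup

/-- A subgroup of prime order acting without fixed points: the group is nilpotent of order `1` modulo the prime. -/
theorem fpf_sub {Q : Type*} [Group Q] [Finite Q] {s : ℕ} (hs : s.Prime) {Y L : Subgroup Q} (hY : Nat.card Y = s)
    (hLn : ∀ y ∈ Y, ∀ a ∈ L, y * a * y⁻¹ ∈ L) (hfix : ∀ a ∈ L, (∀ y ∈ Y, y * a = a * y) → a = 1) :
    (L ≠ ⊥ → Group.IsNilpotent L) ∧ Nat.card L ≡ 1 [MOD s] := by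
  have := Fact.mk hs
  constructor
  · intro hL
    have hnt : Nontrivial Y := by
      rw [← Finite.one_lt_card_iff_nontrivial, hY]
      exact hs.one_lt
    obtain ⟨y, hy⟩ := exists_ne (1 : Y)
    have hgen : ∀ z ∈ Y, z ∈ zpowers (y : Q) := by
      intro z hz
      have h1 := zpowers_eq_top_of_prime_card hY hy
      have h2 : (⟨z, hz⟩ : Y) ∈ zpowers y := by rw [h1]; exact mem_top _
      obtain ⟨k, hk⟩ := mem_zpowers_iff.1 h2
      exact mem_zpowers_iff.2 ⟨k, Subtype.ext_iff.1 hk⟩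
    have hle : Y ≤ Subgroup.normalizer (L : Set Q) := by
      intro m hm
      rw [Subgroup.mem_normalizer_iff]
      intro n
      constructor
      · exact hLn m hm n
      · intro hn
        have := hLn m⁻¹ (inv_mem hm) _ hn
        have e : m⁻¹ * (m * n * m⁻¹) * m⁻¹⁻¹ = n := by group
        rwa [e] at this
    let φ : Y →* MulAut L := (L.normalizerMonoidHom).comp (inclusion hle)
    have hφ : ∀ (m : Y) (n : L), ((φ m n : L) : Q) = m * n * (m : Q)⁻¹ := fun m n => rfl
    have hfpf : MonoidHom.FixedPointFree ((φ y : L ≃* L) : L →* L) := by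
      intro a ha
      apply Subtype.ext
      apply hfix a a.2
      intro z hz
      have h1 : (y : Q) * a = a * y := by
        have h2 := Subtype.ext_iff.1 ha
        have h3 := hφ y a
        have h4 : (y : Q) * a * (y : Q)⁻¹ = a := by rw [← h3]; exact h2
        exact mul_inv_eq_iff_eq_mul.1 h4
      obtain ⟨k, rfl⟩ := mem_zpowers_iff.1 (hgen z hz)
      exact ((show Commute (y : Q) a from h1).zpow_left k)
    refine Cfsg.Agent.S0033.result (φ y) hfpf s hs ?_
    apply orderOf_eq_prime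
    · rw [← map_pow]
      have : y ^ s = 1 := by rw [← hY]; exact pow_card_eq_one'
      rw [this, map_one]
    · intro e
      apply hL
      rw [Subgroup.eq_bot_iff_forall]
      intro a ha
      apply hfix a ha
      intro z hz
      obtain ⟨k, rfl⟩ := mem_zpowers_iff.1 (hgen z hz)
      have h3 := hφ y ⟨a, ha⟩
      rw [e, MulAut.one_apply] at h3
      exact ((show Commute (y : Q) a from (mul_inv_eq_iff_eq_mul.1 h3.symm)).zpow_left k)
  · let _ : MulAction Y L :=
      { smul := fun y a => ⟨y * a * (y : Q)⁻¹, hLn y y.2 a a.2⟩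
        one_smul := fun a => Subtype.ext (by
          show (1 : Q) * a * (1 : Q)⁻¹ = a
          group)
        mul_smul := fun y z a => Subtype.ext (by
          show ((y : Q) * z) * a * ((y : Q) * z)⁻¹ = y * (z * a * (z : Q)⁻¹) * (y : Q)⁻¹
          group) }
    have hYp : IsPGroup s Y := IsPGroup.of_card (n := 1) (by rw [hY, pow_one])
    have h1 := hYp.card_modEq_card_fixedPoints L
    have h2 : Nat.card (fixedPoints Y L) = 1 := by
      rw [Nat.card_eq_one_iff_unique]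
      have key : ∀ a : L, a ∈ fixedPoints Y L → a = 1 := by
        intro a ha
        apply Subtype.ext
        apply hfix a a.2
        intro y hy
        have h3 := Subtype.ext_iff.1 (ha ⟨y, hy⟩)
        exact mul_inv_eq_iff_eq_mul.1 h3
      refine ⟨⟨?_⟩, ⟨1, ?_⟩⟩
      · rintro ⟨a, ha⟩ ⟨b, hb⟩
        apply Subtype.ext
        show a = b
        rw [key a ha, key b hb]
      · intro y
        apply Subtype.ext
        show (y : Q) * 1 * (y : Q)⁻¹ = 1
        group
    rw [h2] at h1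
    exact h1

/-- in a group with a nilpotent normal `s`-complement the `l`-elements form a subgroup -/
theorem exists_lpart {Q : Type*} [Group Q] [Finite Q] {L : Subgroup Q} (hL : Group.IsNilpotent L) {l : ℕ} (hl : l.Prime) :
    ∃ R : Subgroup Q, (∀ x, x ∈ R ↔ x ∈ L ∧ ∃ k : ℕ, x ^ (l ^ k) = 1) ∧ IsPGroup l R := by
  have := Fact.mk hl
  obtain ⟨P⟩ : Nonempty (Sylow l L) := inferInstance
  have hPn : (P : Subgroup L).Normal := Sylow.normal_of_normalizerCondition Group.normalizerCondition_of_isNilpotent P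
  refine ⟨(P : Subgroup L).map L.subtype, ?_, P.isPGroup'.map _⟩
  intro x
  constructor
  · rintro ⟨y, hy, rfl⟩
    refine ⟨y.2, ?_⟩
    obtain ⟨k, hk⟩ := P.isPGroup' ⟨y, hy⟩
    refine ⟨k, ?_⟩
    have h1 : y ^ (l ^ k) = 1 := Subtype.ext_iff.1 hk
    rw [← map_pow, h1, map_one]
  · rintro ⟨hx, k, hk⟩
    refine ⟨⟨x, hx⟩, ?_, rfl⟩
    have h1 : IsPGroup l (zpowers (⟨x, hx⟩ : L)) := by
      have h2 : (⟨x, hx⟩ : L) ^ (l ^ k) = 1 := Subtype.ext hk
      rw [IsPGroup.iff_orderOf]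
      intro g
      have h3 : orderOf (⟨x, hx⟩ : L) ∣ l ^ k := orderOf_dvd_of_pow_eq_one h2
      have h4 : orderOf g ∣ orderOf (⟨x, hx⟩ : L) := by
        have := orderOf_dvd_natCard g
        rwa [Nat.card_zpowers] at this
      obtain ⟨j, _, hj⟩ := (Nat.dvd_prime_pow hl).1 (h4.trans h3)
      exact ⟨j, hj⟩
    obtain ⟨P', hP'⟩ := h1.exists_le_sylow
    have hu := Sylow.unique_of_normal P hPn
    have h5 : P' = P := (hu.eq_default P').trans (hu.eq_default P).symm
    rw [h5] at hP'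
    exact hP' (mem_zpowers _)

namespace EPT

variable {Q : Type*} [Group Q] [Finite Q] {A : Subgroup Q} {Γ : Subgroup (MulAut Q)} (h : EPT A Γ)

include h

/-- the normaliser part of **(PS)** -/
theorem PS_norm (hF : ∀ K : Subgroup Q, K ≤ A → (∀ σ ∈ Γ, ∀ k ∈ K, σ k ∈ K) → (∀ a ∈ K, ∀ b ∈ K, a * b = b * a) → K = ⊥)
    {s : ℕ} (hs : s.Prime) {Y : Subgroup Q} (hYA : Y ≤ A) (hY : Nat.card Y = s)
    (hYc : ∀ a ∈ A, (∀ y ∈ Y, a * y = y * a) → a ∈ Y)
    (hfrob : ∀ l, l.Prime → l ∣ Nat.card A → l ≠ s → ¬ l ^ (Nat.card A).factorization l ≡ 1 [MOD s])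
    {c : Q} (hYc' : Y ≤ cj c A) (hcA : c ∉ A) :
    ∃ u ∈ A ⊓ cj c A, (∀ y ∈ Y, u * y * u⁻¹ ∈ Y) ∧ u ∉ Y := by
  have := Fact.mk hs
  by_contra hcon
  have hno : ∀ u ∈ A ⊓ cj c A, (∀ y ∈ Y, u * y * u⁻¹ ∈ Y) → u ∈ Y := by
    intro u hu hun
    by_contra huY
    exact hcon ⟨u, hu, hun, huY⟩
  set M0 := A ⊓ cj c A with hM0
  have hYM : Y ≤ M0 := le_inf hYA hYc'
  have hYp : IsPGroup s Y := IsPGroup.of_card (n := 1) (by rw [hY, pow_one])
  have hYab : ∀ a ∈ Y, ∀ b ∈ Y, a * b = b * a := by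
    have := isCyclic_of_prime_card hY
    have hc : ∀ a b : Y, a * b = b * a := fun a b => (IsCyclic.commGroup (α := Y)).mul_comm a b
    exact fun a ha b hb => Subtype.ext_iff.1 (hc ⟨a, ha⟩ ⟨b, hb⟩)
  have hYM' : IsPGroup s (Y.subgroupOf M0) := hYp.of_equiv (Subgroup.subgroupOfEquivOfLe hYM).symm
  obtain ⟨P, hP⟩ := hYM'.exists_le_sylow
  have hPY : (P : Subgroup M0).map M0.subtype = Y := by
    by_contra hne
    obtain ⟨y, hy1, hy2, hy3⟩ := exists_norm_lt hs (P.isPGroup'.map M0.subtype) (R := Y) (by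
      intro y hy
      exact ⟨⟨y, hYM hy⟩, hP hy, rfl⟩) hne
    apply hy2
    obtain ⟨z, _, rfl⟩ := hy1
    exact hno _ z.2 hy3
  have hPmem : ∀ y : M0, y ∈ (P : Subgroup M0) ↔ (y : Q) ∈ Y := by
    intro y
    constructor
    · intro hy
      rw [← hPY]
      exact ⟨y, hy, rfl⟩
    · intro hy
      rw [← hPY] at hy
      obtain ⟨z, hz, e⟩ := hy
      have : z = y := Subtype.ext e
      rwa [← this]
  have hPc : Subgroup.normalizer ((P : Subgroup M0) : Set M0) ≤ Subgroup.centralizer ((P : Subgroup M0) : Set M0) := by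
    intro y hy
    rw [Subgroup.mem_centralizer_iff]
    rw [Subgroup.mem_normalizer_iff] at hy
    have h1 : (y : Q) ∈ Y := by
      apply hno _ y.2
      intro k hk
      exact (hPmem _).1 ((hy ⟨k, hYM hk⟩).1 ((hPmem _).2 hk))
    intro z hz
    apply Subtype.ext
    exact hYab _ ((hPmem z).1 hz) _ h1
  obtain ⟨L', hL'n, hcomp, hnd, hlL'⟩ : ∃ L' : Subgroup M0, L'.Normal ∧ Subgroup.IsComplement' L' (P : Subgroup M0) ∧
      ¬ s ∣ Nat.card L' ∧ ∀ x : M0, ∀ l : ℕ, l.Prime → l ≠ s → (∃ k : ℕ, x ^ (l ^ k) = 1) → x ∈ L' := by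
    refine ⟨(MonoidHom.transferSylow P hPc).ker, MonoidHom.normal_ker _,
      MonoidHom.ker_transferSylow_isComplement' P hPc, MonoidHom.not_dvd_card_ker_transferSylow P hPc, ?_⟩
    rintro x l hl hls ⟨k, hk⟩
    rw [MonoidHom.mem_ker]
    have h1 : orderOf (MonoidHom.transferSylow P hPc x) ∣ l ^ k := by
      apply orderOf_dvd_of_pow_eq_one
      rw [← map_pow, hk, map_one]
    obtain ⟨j, hj⟩ := P.isPGroup' (MonoidHom.transferSylow P hPc x)
    have h2 : orderOf (MonoidHom.transferSylow P hPc x) ∣ s ^ j := orderOf_dvd_of_pow_eq_one hj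
    have h3 : Nat.Coprime (l ^ k) (s ^ j) := Nat.Coprime.pow _ _ ((Nat.coprime_primes hl hs).2 hls)
    have h4 : orderOf (MonoidHom.transferSylow P hPc x) ∣ 1 := by
      rw [← h3]
      exact Nat.dvd_gcd h1 h2
    exact orderOf_eq_one_iff.1 (Nat.dvd_one.1 h4)
  by_cases hbot : L' = ⊥
  · -- `M0 = Y` is abelian
    rw [hbot, Subgroup.isComplement'_bot_left] at hcomp
    have hM0Y : M0 ≤ Y := by
      intro m hm
      have : (⟨m, hm⟩ : M0) ∈ (P : Subgroup M0) := by rw [hcomp]; exact mem_top _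
      exact (hPmem _).1 this
    obtain ⟨K, h1, h2, h3, h4⟩ := h.abM0 c hcA (fun a ha b hb => hYab a (hM0Y ha) b (hM0Y hb))
    exact h3 (hF K h1 h2 h4)
  · set L := L'.map M0.subtype with hL
    have hLM : L ≤ M0 := by
      rintro _ ⟨y, _, rfl⟩
      exact y.2
    have hLn : ∀ m ∈ M0, ∀ a ∈ L, m * a * m⁻¹ ∈ L := by
      rintro m hm _ ⟨a, ha, rfl⟩
      exact ⟨⟨m, hm⟩ * a * ⟨m, hm⟩⁻¹, hL'n.conj_mem a ha _, rfl⟩
    have hLY : ∀ a ∈ L, a ∈ Y → a = 1 := by
      rintro _ ⟨a, ha, rfl⟩ haY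
      have h1 : a ∈ (P : Subgroup M0) := (hPmem a).2 haY
      have h2 := hcomp.disjoint
      rw [Subgroup.disjoint_def] at h2
      rw [h2 ha h1, map_one]
    have hLne : L ≠ ⊥ := by
      rw [hL, Ne, Subgroup.map_eq_bot_iff_of_injective _ M0.subtype_injective]
      exact hbot
    have hfixL : ∀ a ∈ L, (∀ y ∈ Y, y * a = a * y) → a = 1 := by
      intro a ha hya
      apply hLY a ha
      apply hYc a (mem_inf.1 (hLM ha)).1
      intro y hy
      exact (hya y hy).symm
    have hnil : Group.IsNilpotent L := (fpf_sub (L := L) hs hY (fun y hy => hLn y (hYM hy)) hfixL).1 hLne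
    have hcardL : Nat.card L ≠ 1 := fun e => hLne (Subgroup.card_eq_one.1 e)
    obtain ⟨l, hl, hld⟩ := Nat.exists_prime_and_dvd hcardL
    have := Fact.mk hl
    have hcLL' : Nat.card L = Nat.card L' := (Nat.card_congr (L'.equivMapOfInjective _ M0.subtype_injective).toEquiv).symm
    have hls : l ≠ s := by
      rintro rfl
      rw [hcLL'] at hld
      exact hnd hld
    -- `l`-elements of `M0` are in `L`
    have hlL : ∀ x ∈ M0, (∃ k : ℕ, x ^ (l ^ k) = 1) → x ∈ L := by
      rintro x hx ⟨k, hk⟩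
      exact ⟨⟨x, hx⟩, hlL' _ l hl hls ⟨k, Subtype.ext hk⟩, rfl⟩
    obtain ⟨R, hR, hRp⟩ := exists_lpart hnil hl
    have hR' : ∀ x, x ∈ R ↔ x ∈ M0 ∧ ∃ k : ℕ, x ^ (l ^ k) = 1 := by
      intro x
      rw [hR]
      exact ⟨fun hx => ⟨hLM hx.1, hx.2⟩, fun hx => ⟨hlL x hx.1 hx.2, hx.2⟩⟩
    have hRne : R ≠ ⊥ := by
      intro e
      obtain ⟨d, hd⟩ := exists_prime_orderOf_dvd_card' l hld
      have h2 : (d : Q) ∈ R := (hR _).2 ⟨d.2, 1, by
        rw [pow_one]
        have := pow_orderOf_eq_one d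
        rw [hd] at this
        exact Subtype.ext_iff.1 this⟩
      rw [e, mem_bot] at h2
      have h3 : d = 1 := Subtype.ext h2
      rw [h3, orderOf_one] at hd
      exact hl.one_lt.ne hd
    have hRA : R ≤ A := fun x hx => (mem_inf.1 ((hR' x).1 hx).1).1
    -- `R` is a Sylow subgroup of `A`
    have hRA' : IsPGroup l (R.subgroupOf A) := hRp.of_equiv (Subgroup.subgroupOfEquivOfLe hRA).symm
    obtain ⟨P', hP'⟩ := hRA'.exists_le_sylow
    have hPR : (P' : Subgroup A).map A.subtype = R := by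
      apply h.sylow hcA hl hR' hRne
      · rintro _ ⟨y, _, rfl⟩
        exact y.2
      · exact P'.isPGroup'.map _
      · intro y hy
        exact ⟨⟨y, hRA hy⟩, hP' hy, rfl⟩
    have hcardR : Nat.card R = l ^ (Nat.card A).factorization l := by
      rw [← hPR, ← P'.card_eq_multiplicity]
      exact (Nat.card_congr ((P' : Subgroup A).equivMapOfInjective _ A.subtype_injective).toEquiv).symm
    have hfix := (fpf_sub hs hY (L := R) (by
      intro y hy a ha
      rw [hR'] at ha ⊢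
      obtain ⟨ha1, k, hk⟩ := ha
      refine ⟨M0.mul_mem (M0.mul_mem (hYM hy) ha1) (M0.inv_mem (hYM hy)), k, ?_⟩
      rw [conj_pow, hk, mul_one, mul_inv_cancel]) (by
      intro a ha hya
      apply hLY a ((hR a).1 ha).1
      apply hYc a (hRA ha)
      intro y hy
      exact (hya y hy).symm)).2
    refine hfrob l hl ?_ hls ?_
    · exact hld.trans (Subgroup.card_dvd_of_le (hLM.trans inf_le_left))
    · rw [← hcardR]
      exact hfix

/-- **(PS)** the prime Sylow criterion -/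
theorem PS (hF : ∀ K : Subgroup Q, K ≤ A → (∀ σ ∈ Γ, ∀ k ∈ K, σ k ∈ K) → (∀ a ∈ K, ∀ b ∈ K, a * b = b * a) → K = ⊥)
    {s : ℕ} (hs : s.Prime) {Y : Subgroup Q} (hYA : Y ≤ A) (hY : Nat.card Y = s)
    (hYc : ∀ a ∈ A, (∀ y ∈ Y, a * y = y * a) → a ∈ Y)
    (hfrob : ∀ l, l.Prime → l ∣ Nat.card A → l ≠ s → ¬ l ^ (Nat.card A).factorization l ≡ 1 [MOD s])
    {w : Q} (hwY : ∀ y ∈ Y, w * y * w⁻¹ ∈ Y) (hws : ¬ s ∣ orderOf w)
    (hN : ∀ a ∈ A, (∀ y ∈ Y, a * y * a⁻¹ ∈ Y) → ∃ y ∈ Y, ∃ k : ℤ, a = y * w ^ k)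
    {c : Q} (hc : ∀ y ∈ Y, c * y = y * c) (hcA : c ∉ A) :
    ∃ l, l.Prime ∧ l ∣ orderOf w ∧ ∃ y ∈ Y, (c * y) * w ^ (orderOf w / l) = w ^ (orderOf w / l) * (c * y) := by
  have := Fact.mk hs
  have hYab : ∀ a ∈ Y, ∀ b ∈ Y, a * b = b * a := by
    have := isCyclic_of_prime_card hY
    have hc : ∀ a b : Y, a * b = b * a := fun a b => (IsCyclic.commGroup (α := Y)).mul_comm a b
    exact fun a ha b hb => Subtype.ext_iff.1 (hc ⟨a, ha⟩ ⟨b, hb⟩)
  have hYc' : Y ≤ cj c A := by
    intro y hy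
    rw [mem_cj, mul_assoc, ← hc y hy, inv_mul_cancel_left]
    exact hYA hy
  obtain ⟨u, hu, hun, huY⟩ := h.PS_norm hF hs hYA hY hYc hfrob hYc' hcA
  obtain ⟨y₁, hy₁, k, rfl⟩ := hN u (mem_inf.1 hu).1 hun
  have hYM : Y ≤ A ⊓ cj c A := le_inf hYA hYc'
  have hwk : w ^ k ∈ A ⊓ cj c A := (Subgroup.mul_mem_cancel_left _ (hYM hy₁)).1 hu
  have hwkY : w ^ k ∉ Y := fun e => huY (Y.mul_mem hy₁ e)
  set e := orderOf w with he
  have he0 : 0 < e := orderOf_pos w
  -- the prime `l`
  obtain ⟨g, m, hgm, hg, hm1⟩ : ∃ g m : ℕ, e = g * m ∧ w ^ g ∈ zpowers (w ^ k) ∧ m ≠ 1 := by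
    refine ⟨Int.gcd k e, e / Int.gcd k e, ?_, ?_, ?_⟩
    · rw [Nat.mul_div_cancel' ?_]
      have := Int.gcd_dvd_right k (e : ℤ)
      exact Int.natCast_dvd_natCast.1 this
    · rw [mem_zpowers_iff]
      refine ⟨Int.gcdA k e, ?_⟩
      have h1 := Int.gcd_eq_gcd_ab k (e : ℤ)
      have h2 : w ^ ((Int.gcd k e : ℕ) : ℤ) = (w ^ k) ^ (Int.gcdA k e) := by
        rw [h1, zpow_add, zpow_mul, zpow_mul, zpow_natCast, pow_orderOf_eq_one, one_zpow, mul_one]
      rw [← h2, zpow_natCast]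
    · intro h1
      apply hwkY
      have h2 : (e : ℤ) ∣ k := by
        have h3 : Int.gcd k e ∣ e := Int.natCast_dvd_natCast.1 (Int.gcd_dvd_right k (e : ℤ))
        have h4 : e = Int.gcd k e := by
          have := Nat.div_mul_cancel h3
          rw [h1, one_mul] at this
          exact this.symm
        rw [h4]
        exact Int.gcd_dvd_left k (e : ℤ)
      rw [he, orderOf_dvd_iff_zpow_eq_one] at h2
      rw [h2]
      exact Y.one_mem
  obtain ⟨l, hl, hlm⟩ := Nat.exists_prime_and_dvd hm1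
  obtain ⟨m', rfl⟩ := hlm
  have hle : l ∣ e := by rw [hgm]; exact ⟨g * m', by ring⟩
  have hel : e / l = g * m' := by
    rw [hgm]
    have : g * (l * m') = l * (g * m') := by ring
    rw [this, Nat.mul_div_cancel_left _ hl.pos]
  refine ⟨l, hl, hle, ?_⟩
  set v := w ^ (e / l) with hv
  have hvM : v ∈ A ⊓ cj c A := by
    rw [hv, hel, pow_mul]
    refine Subgroup.pow_mem _ ?_ _
    obtain ⟨j, hj⟩ := mem_zpowers_iff.1 hg
    rw [← hj]
    exact Subgroup.zpow_mem _ hwk _
  have hv1 : v ≠ 1 := by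
    intro h1
    have h2 : e ∣ e / l := orderOf_dvd_of_pow_eq_one h1
    have h3 : 0 < e / l := Nat.div_pos (Nat.le_of_dvd he0 hle) hl.pos
    have h4 := Nat.le_of_dvd h3 h2
    have h5 := Nat.div_lt_self he0 hl.one_lt
    omega
  have hvY : v ∉ Y := by
    intro h1
    apply hv1
    have h2 : orderOf v ∣ s := by
      rw [← hY]
      have h3 : orderOf v = orderOf (⟨v, h1⟩ : Y) := Subgroup.orderOf_coe (⟨v, h1⟩ : Y)
      rw [h3]
      exact orderOf_dvd_natCard _
    have h3 : orderOf v ∣ e := orderOf_pow_dvd _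
    rcases (Nat.dvd_prime hs).1 h2 with h4 | h4
    · exact orderOf_eq_one_iff.1 h4
    · exact absurd (h4 ▸ h3) hws
  have hwn : ∀ n : ℕ, ∀ y ∈ Y, w ^ n * y * (w ^ n)⁻¹ ∈ Y := by
    intro n
    induction n with
    | zero => intro y hy; rw [pow_zero, one_mul, inv_one, mul_one]; exact hy
    | succ n ih =>
      intro y hy
      have e1 : w ^ (n + 1) * y * (w ^ (n + 1))⁻¹ = w * (w ^ n * y * (w ^ n)⁻¹) * w⁻¹ := by
        rw [pow_succ']; group
      rw [e1]
      exact hwY _ (ih y hy)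
  have hvn : ∀ y ∈ Y, v * y * v⁻¹ ∈ Y := hwn _
  have hvc : ¬ ∀ y ∈ Y, v * y = y * v := fun h1 => hvY (hYc v (mem_inf.1 hvM).1 h1)
  have ht : c⁻¹ * v * c ∈ A := mem_cj.1 (mem_inf.1 hvM).2
  have hy3 : v⁻¹ * (c⁻¹ * v * c) ∈ Y := by
    apply hYc _ (A.mul_mem (A.inv_mem (mem_inf.1 hvM).1) ht)
    intro y hy
    have h1 := hc y hy
    have h2 := hc _ (hvn y hy)
    have h3 : (c⁻¹ * v * c) * y = (v * y * v⁻¹) * (c⁻¹ * v * c) := by
      calc (c⁻¹ * v * c) * y = c⁻¹ * v * (c * y) := by group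
        _ = c⁻¹ * v * (y * c) := by rw [h1]
        _ = c⁻¹ * ((v * y * v⁻¹) * c) * (c⁻¹ * v * c) := by group
        _ = c⁻¹ * (c * (v * y * v⁻¹)) * (c⁻¹ * v * c) := by rw [h2]
        _ = _ := by group
    calc v⁻¹ * (c⁻¹ * v * c) * y = v⁻¹ * ((c⁻¹ * v * c) * y) := by group
      _ = v⁻¹ * ((v * y * v⁻¹) * (c⁻¹ * v * c)) := by rw [h3]
      _ = y * (v⁻¹ * (c⁻¹ * v * c)) := by group
  -- the map `y ↦ v⁻¹ y⁻¹ v y` is onto
  have hgen : ∀ z ∈ Y, z ≠ 1 → ∀ y ∈ Y, ∃ j : ℤ, y = z ^ j := by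
    intro z hz hz1 y hy
    have h1 := zpowers_eq_top_of_prime_card hY (g := ⟨z, hz⟩) (fun e1 => hz1 (Subtype.ext_iff.1 e1))
    have h2 : (⟨y, hy⟩ : Y) ∈ zpowers (⟨z, hz⟩ : Y) := by rw [h1]; exact mem_top _
    obtain ⟨j, hj⟩ := mem_zpowers_iff.1 h2
    exact ⟨j, (Subtype.ext_iff.1 hj).symm⟩
  have hfY : ∀ y : Y, v⁻¹ * (y : Q)⁻¹ * v * y ∈ Y := by
    intro y
    have h1 := hvn
    have h2 : ∀ n : ℕ, ∀ y ∈ Y, v ^ n * y * (v ^ n)⁻¹ ∈ Y := by
      intro n
      rw [hv, ← pow_mul]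
      exact hwn _
    have h3 := h2 (orderOf v - 1) _ (Y.inv_mem y.2)
    have h4 : v ^ (orderOf v - 1) = v⁻¹ := by
      rw [eq_inv_iff_mul_eq_one, ← pow_succ, Nat.sub_add_cancel (orderOf_pos v), pow_orderOf_eq_one]
    rw [h4, inv_inv] at h3
    exact Y.mul_mem h3 y.2
  let f : Y → Y := fun y => ⟨_, hfY y⟩
  have hfi : Function.Injective f := by
    intro y y' hyy
    have h1 : v⁻¹ * (y : Q)⁻¹ * v * y = v⁻¹ * (y' : Q)⁻¹ * v * y' := Subtype.ext_iff.1 hyy
    by_contra hne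
    apply hvc
    have hz : (y' : Q) * (y : Q)⁻¹ ∈ Y := Y.mul_mem y'.2 (Y.inv_mem y.2)
    have hz1 : (y' : Q) * (y : Q)⁻¹ ≠ 1 := by
      intro e1
      exact hne (Subtype.ext (mul_inv_eq_one.1 e1).symm)
    have hzv : ((y' : Q) * (y : Q)⁻¹) * v = v * ((y' : Q) * (y : Q)⁻¹) := by
      have h2 : (y : Q)⁻¹ * v * y = (y' : Q)⁻¹ * v * y' := by
        have h3 := congrArg (fun q => v * q) h1
        simp only [mul_assoc, mul_inv_cancel_left] at h3
        simpa only [mul_assoc] using h3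
      calc ((y' : Q) * (y : Q)⁻¹) * v = y' * ((y : Q)⁻¹ * v * y) * (y : Q)⁻¹ := by group
        _ = y' * ((y' : Q)⁻¹ * v * y') * (y : Q)⁻¹ := by rw [h2]
        _ = _ := by group
    intro x hx
    obtain ⟨j, rfl⟩ := hgen _ hz hz1 x hx
    exact ((show Commute v _ from hzv.symm).zpow_right j)
  obtain ⟨y, hy⟩ := (Finite.injective_iff_surjective.1 hfi) ⟨_, Y.inv_mem hy3⟩
  have hy' : v⁻¹ * (y : Q)⁻¹ * v * y = (v⁻¹ * (c⁻¹ * v * c))⁻¹ := Subtype.ext_iff.1 hy
  refine ⟨y, y.2, ?_⟩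
  have h5 := hYab _ y.2 _ hy3
  have h6 : (c * (y : Q))⁻¹ * v * (c * y) = v := by
    calc (c * (y : Q))⁻¹ * v * (c * y) = (y : Q)⁻¹ * v * ((v⁻¹ * (c⁻¹ * v * c)) * y) := by group
      _ = (y : Q)⁻¹ * v * (y * (v⁻¹ * (c⁻¹ * v * c))) := by rw [h5]
      _ = v * (v⁻¹ * (y : Q)⁻¹ * v * y) * (v⁻¹ * (c⁻¹ * v * c)) := by group
      _ = v := by rw [hy']; group
  rw [mul_assoc, inv_mul_eq_iff_eq_mul] at h6
  exact h6.symm

end EPT

end Cfsg.Agent.H284
end

-- part: H52/EP/U43
section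
prune_inst 0x2570084001e2020000008596d12020044c00019000200c00dda20f420a06732a0d82a1404d801d075a08a28100050020005c04d000400000040004000025072990aa560433740c0ce6009f803183180c00000000000000000000000000051004200400000
set_option linter.all false
open scoped Cfsg.Agent.FastGrp

-- part: H52/EP/Cnt
section
/-!
# S3499, `U₄(3)` (helper52): counting subgroups
-/

set_option autoImplicit false

namespace Cfsg.Agent.H52.EP

open Subgroup Cfsg.Agent.H59.EP

variable {B : Type*} [Group B]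

/-- a simple group with a subgroup of index `k > 1` has at most `k!` elements -/
theorem card_le_factorial [Finite B] (hs : IsSimpleGroup B) {H : Subgroup B} (hH : H ≠ ⊤) :
    Nat.card B ≤ H.index.factorial := by
  have hinj : Function.Injective (MulAction.toPermHom B (B ⧸ H)) := by
    rw [← MonoidHom.ker_eq_bot_iff]
    rcases hs.eq_bot_or_eq_top_of_normal (MulAction.toPermHom B (B ⧸ H)).ker inferInstance with h | h
    · exact h
    · exfalso
      apply hH
      rw [Subgroup.eq_top_iff']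
      intro g
      have h1 : g ∈ (MulAction.toPermHom B (B ⧸ H)).ker := by rw [h]; exact mem_top _
      rw [MonoidHom.mem_ker] at h1
      have h2 : g • ((1 : B) : B ⧸ H) = ((1 : B) : B ⧸ H) := by
        have := congrArg (fun f : Equiv.Perm (B ⧸ H) => f ((1 : B) : B ⧸ H)) h1
        exact this
      have h3 : ((g * 1 : B) : B ⧸ H) = ((1 : B) : B ⧸ H) := h2
      rw [eq_comm, QuotientGroup.eq, inv_one, one_mul, mul_one] at h3
      exact h3
  have := Nat.card_le_card_of_injective _ hinj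
  rwa [Nat.card_perm] at this

/-- elementary abelian subgroups, by Sylow subgroups -/
theorem ncard_elab_sylow [Finite B] {s : ℕ} (hs : s.Prime) :
    {X : Subgroup B | ElAb s X ∧ X ≠ ⊥}.ncard ≤
      (Nat.card B / s ^ (Nat.card B).factorization s) * gal s ((Nat.card B).factorization s) := by
  classical
  have hfact : Fact s.Prime := ⟨hs⟩
  have hfin : Finite (Sylow s B) := inferInstance
  have := Fintype.ofFinite (Sylow s B)
  have hsub : {X : Subgroup B | ElAb s X ∧ X ≠ ⊥} ⊆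
      ⋃ P ∈ (Finset.univ : Finset (Sylow s B)), {E : Subgroup B | E ≤ (P : Subgroup B) ∧ ElAb s E ∧ E ≠ ⊥} := by
    rintro X ⟨h1, h2⟩
    have hps : IsPGroup s X := by
      rintro ⟨y, hy⟩
      refine ⟨1, Subtype.ext ?_⟩
      rw [pow_one]
      exact h1.exp y hy
    obtain ⟨R, hR⟩ := hps.exists_le_sylow
    simp only [Set.mem_iUnion]
    exact ⟨R, Finset.mem_univ _, hR, h1, h2⟩
  have hun : ∀ I : Finset (Sylow s B), (⋃ P ∈ I, {E : Subgroup B | E ≤ (P : Subgroup B) ∧ ElAb s E ∧ E ≠ ⊥}).ncard ≤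
      ∑ P ∈ I, {E : Subgroup B | E ≤ (P : Subgroup B) ∧ ElAb s E ∧ E ≠ ⊥}.ncard := by
    intro I
    induction I using Finset.induction_on with
    | empty => simp only [_root_.Finset.notMem_empty, _root_.ne_eq, _root_.Set.iUnion_of_empty, _root_.Set.iUnion_empty, _root_.Set.ncard_empty, _root_.Finset.sum_empty, _root_.Std.le_refl]
    | insert j I hj ih =>
      rw [Finset.sum_insert hj, Finset.set_biUnion_insert]
      exact (Set.ncard_union_le _ _).trans (Nat.add_le_add_left ih _)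
  refine (Set.ncard_le_ncard hsub (Set.toFinite _)).trans ((hun _).trans ?_)
  have hc : ∀ P : Sylow s B, Nat.card (P : Subgroup B) = s ^ (Nat.card B).factorization s := fun P => P.card_eq_multiplicity
  have h1 : ∀ P ∈ (Finset.univ : Finset (Sylow s B)),
      {E : Subgroup B | E ≤ (P : Subgroup B) ∧ ElAb s E ∧ E ≠ ⊥}.ncard ≤ gal s ((Nat.card B).factorization s) :=
    fun P _ => ncard_elab_le hs (hc P)
  refine (Finset.sum_le_card_nsmul _ _ _ h1).trans ?_
  rw [smul_eq_mul]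
  apply Nat.mul_le_mul_right
  rw [Finset.card_univ, ← Nat.card_eq_fintype_card]
  let P : Sylow s B := default
  have h2 := Nat.le_of_dvd (Nat.pos_of_ne_zero (Subgroup.index_ne_zero_of_finite)) (Sylow.card_dvd_index P)
  have h3 : (P : Subgroup B).index = Nat.card B / s ^ (Nat.card B).factorization s := by
    have h4 := (P : Subgroup B).card_mul_index
    rw [hc P] at h4
    exact (Nat.div_eq_of_eq_mul_right (pow_pos hs.pos _) h4.symm).symm
  rwa [h3] at h2

/-- simple subgroups of order at least `c` -/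
theorem ncard_simple_mul_le [Finite B] {𝒮 : Set (Subgroup B)} {c : ℕ} (hs : ∀ X ∈ 𝒮, IsSimpleGroup X ∧ ¬ Group.IsSolvable X)
    (hgen : ∀ X ∈ 𝒮, ∃ a b : X, _root_.Subgroup.closure ({a, b} : Set X) = ⊤) (hc : ∀ X ∈ 𝒮, c ≤ Nat.card X) :
    𝒮.ncard * c ≤ Nat.card B ^ 2 := by
  classical
  have hfin : 𝒮.Finite := Set.toFinite _
  let G : Subgroup B → Set (B × B) := fun X => {p | _root_.Subgroup.closure ({p.1, p.2} : Set B) = X}
  have hG : ∀ X ∈ 𝒮, c ≤ (G X).ncard := by
    intro X hX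
    obtain ⟨hXs, hXn⟩ := hs X hX
    obtain ⟨a, b, hab⟩ := hgen X hX
    refine (hc X hX).trans ?_
    have hcl : _root_.Subgroup.closure ({(a : B), (b : B)} : Set B) = X := by
      have h1 := congrArg (Subgroup.map X.subtype) hab
      rw [MonoidHom.map_closure, Set.image_pair, ← MonoidHom.range_eq_map, X.range_subtype] at h1
      exact h1
    have hinj : Set.InjOn (fun g : B => (g * a * g⁻¹, g * b * g⁻¹)) (X : Set B) := by
      intro g hg k hk e
      simp only [Prod.mk.injEq] at e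
      have h1 : ∀ x ∈ X, (k⁻¹ * g) * x = x * (k⁻¹ * g) := by
        have hle : X ≤ centralizer {k⁻¹ * g} := by
          rw [← hcl, closure_le]
          rintro x (rfl | rfl)
          · rw [SetLike.mem_coe, mem_centralizer_singleton_iff]
            have h2 := e.1
            rw [mul_inv_eq_iff_eq_mul] at h2
            have h3 : k⁻¹ * (g * a) = a * k⁻¹ * g := by rw [h2]; group
            rw [mul_assoc k⁻¹ g, h3, mul_assoc]
          · rw [SetLike.mem_coe, mem_centralizer_singleton_iff]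
            have h2 := e.2
            rw [mul_inv_eq_iff_eq_mul] at h2
            have h3 : k⁻¹ * (g * b) = b * k⁻¹ * g := by rw [h2]; group
            rw [mul_assoc k⁻¹ g, h3, mul_assoc]
        intro x hx
        exact (mem_centralizer_singleton_iff.1 (hle hx)).symm
      have hz : (⟨k⁻¹ * g, mul_mem (inv_mem hk) hg⟩ : X) ∈ center X := by
        rw [mem_center_iff]
        intro x
        exact Subtype.ext (h1 x x.2).symm
      have hzb : center X = ⊥ := by
        rcases hXs.eq_bot_or_eq_top_of_normal (center X) inferInstance with h2 | h2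
        · exact h2
        · exfalso
          apply hXn
          apply Group.isSolvable_of_comm
          intro x y
          have : y ∈ center X := by rw [h2]; exact mem_top _
          exact mem_center_iff.1 this x
      rw [hzb, mem_bot] at hz
      have h2 : k⁻¹ * g = 1 := Subtype.ext_iff.1 hz
      rw [inv_mul_eq_one] at h2
      exact h2.symm
    have hcard : Nat.card X = ((fun g : B => (g * (a : B) * g⁻¹, g * (b : B) * g⁻¹)) '' (X : Set B)).ncard := by
      rw [hinj.ncard_image]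
      rfl
    rw [hcard]
    refine Set.ncard_le_ncard ?_ (Set.toFinite _)
    rintro _ ⟨g, hg, rfl⟩
    show _root_.Subgroup.closure ({g * (a : B) * g⁻¹, g * (b : B) * g⁻¹} : Set B) = X
    have h1 : ({g * (a : B) * g⁻¹, g * (b : B) * g⁻¹} : Set B) = (MulAut.conj g).toMonoidHom '' {(a : B), (b : B)} := by
      rw [Set.image_pair]
      rfl
    rw [h1, ← MonoidHom.map_closure, hcl]
    ext y
    constructor
    · rintro ⟨x, hx, rfl⟩
      exact X.mul_mem (X.mul_mem hg hx) (X.inv_mem hg)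
    · intro hy
      refine ⟨g⁻¹ * y * g, X.mul_mem (X.mul_mem (X.inv_mem hg) hy) hg, ?_⟩
      show g * (g⁻¹ * y * g) * g⁻¹ = y
      group
  have hdis : (hfin.toFinset : Set (Subgroup B)).PairwiseDisjoint fun X => (Set.toFinite (G X)).toFinset := by
    intro X _ Y _ hne
    rw [Function.onFun, Finset.disjoint_left]
    intro p hp hq
    rw [Set.Finite.mem_toFinset] at hp hq
    exact hne (hp.symm.trans hq)
  have h1 : (hfin.toFinset.biUnion fun X => (Set.toFinite (G X)).toFinset).card ≤ Nat.card (B × B) := by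
    have := Set.ncard_le_ncard (Set.subset_univ
      ((hfin.toFinset.biUnion fun X => (Set.toFinite (G X)).toFinset : Finset (B × B)) : Set (B × B))) (Set.toFinite _)
    rw [Set.ncard_coe_finset, Set.ncard_univ] at this
    exact this
  rw [Finset.card_biUnion hdis, Nat.card_prod, ← pow_two] at h1
  refine le_trans ?_ h1
  rw [Set.ncard_eq_toFinset_card _ hfin, ← smul_eq_mul]
  apply Finset.card_nsmul_le_sum
  intro X hX
  rw [← Set.ncard_eq_toFinset_card _ (Set.toFinite _)]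
  exact hG X (hfin.mem_toFinset.1 hX)

/-- subgroups of the order `p`, when `p` divides the order exactly once -/
theorem ncard_order_p [Finite B] {p : ℕ} (hp : p.Prime) (h1 : (Nat.card B).factorization p = 1) :
    {P : Subgroup B | Nat.card P = p}.ncard = Nat.card (Sylow p B) := by
  have hfact : Fact p.Prime := ⟨hp⟩
  rw [← Nat.card_coe_set_eq]
  refine Nat.card_congr ⟨fun P => Sylow.ofCard P.1 (by rw [h1, pow_one]; exact P.2),
    fun P => ⟨(P : Subgroup B), by
      show Nat.card (P : Subgroup B) = p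
      rw [P.card_eq_multiplicity, h1, pow_one]⟩, fun P => rfl, fun P => Sylow.ext rfl⟩

/-- subgroups generated by any two of their `n` subgroups of order `p` -/
theorem ncard_pair_le [Finite B] {𝒮 : Set (Subgroup B)} {p n : ℕ}
    (h1 : ∀ X ∈ 𝒮, {P : Subgroup B | Nat.card P = p ∧ P ≤ X}.ncard = n)
    (h2 : ∀ X ∈ 𝒮, ∀ P Q : Subgroup B, Nat.card P = p → P ≤ X → Nat.card Q = p → Q ≤ X → P ≠ Q → P ⊔ Q = X) :
    𝒮.ncard * (n * n - n) ≤ {P : Subgroup B | Nat.card P = p}.ncard ^ 2 := by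
  classical
  have hfin : 𝒮.Finite := Set.toFinite _
  let U : Subgroup B → Finset (Subgroup B) := fun X => (Set.toFinite {P : Subgroup B | Nat.card P = p ∧ P ≤ X}).toFinset
  let V : Finset (Subgroup B) := (Set.toFinite {P : Subgroup B | Nat.card P = p}).toFinset
  have hU : ∀ X P, P ∈ U X ↔ Nat.card P = p ∧ P ≤ X := fun X P => Set.Finite.mem_toFinset _
  have hV : ∀ P, P ∈ V ↔ Nat.card P = p := fun P => Set.Finite.mem_toFinset _
  let W : Subgroup B → Finset (Subgroup B × Subgroup B) := fun X => (U X).offDiag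
  have hW : ∀ X ∈ 𝒮, (W X).card = n * n - n := by
    intro X hX
    have h3 : (U X).card = n := by rw [← h1 X hX, Set.ncard_eq_toFinset_card _ (Set.toFinite _)]
    rw [Finset.offDiag_card, h3]
  have hdis : (hfin.toFinset : Set (Subgroup B)).PairwiseDisjoint W := by
    intro X hX Y hY hne
    rw [Function.onFun, Finset.disjoint_left]
    rintro ⟨P, R⟩ hp hq
    rw [Finset.mem_offDiag, hU, hU] at hp hq
    rw [Finset.mem_coe, Set.Finite.mem_toFinset] at hX hY
    apply hne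
    rw [← h2 X hX P R hp.1.1 hp.1.2 hp.2.1.1 hp.2.1.2 hp.2.2, ← h2 Y hY P R hq.1.1 hq.1.2 hq.2.1.1 hq.2.1.2 hq.2.2]
  have hle : (hfin.toFinset.biUnion W).card ≤ (V ×ˢ V).card := by
    apply Finset.card_le_card
    intro ⟨P, R⟩ hp
    rw [Finset.mem_biUnion] at hp
    obtain ⟨X, _, hp⟩ := hp
    rw [Finset.mem_offDiag, hU, hU] at hp
    rw [Finset.mem_product, hV, hV]
    exact ⟨hp.1.1, hp.2.1.1⟩
  rw [Finset.card_biUnion hdis, Finset.card_product, ← pow_two] at hle
  have h4 : V.card = {P : Subgroup B | Nat.card P = p}.ncard := by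
    rw [Set.ncard_eq_toFinset_card _ (Set.toFinite _)]
  rw [← h4]
  refine le_trans ?_ hle
  rw [Set.ncard_eq_toFinset_card _ hfin, ← smul_eq_mul]
  apply Finset.card_nsmul_le_sum
  intro X hX
  rw [hW X (hfin.mem_toFinset.1 hX)]

end Cfsg.Agent.H52.EP
end

-- part: H52/EP/Small
section
/-!
# S3499, `U₄(3)` (helper52): the simple subgroups of a group of order `3265920`
-/

set_option autoImplicit false

namespace Cfsg.Agent.H52.EP

open Subgroup Cfsg.Agent.H59.EP

section Gen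

variable {G : Type*} [Group G] [Finite G]

/-- the number of Sylow `p`-subgroups for `|G| = p m` -/
theorem sylow_facts {p m : ℕ} (hp : p.Prime) (hG : Nat.card G = p * m) (hpm : ¬ p ∣ m) :
    Nat.card (Sylow p G) ∣ m ∧ Nat.card (Sylow p G) % p = 1 % p ∧ (Nat.card G).factorization p = 1 := by
  have hfact : Fact p.Prime := ⟨hp⟩
  have hm : m ≠ 0 := by
    rintro rfl
    exact hpm (dvd_zero _)
  have h1 : (Nat.card G).factorization p = 1 := by
    rw [hG, Nat.factorization_mul hp.ne_zero hm, Finsupp.add_apply, hp.factorization_self,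
      Nat.factorization_eq_zero_of_not_dvd hpm]
  refine ⟨?_, card_sylow_modEq_one p G, h1⟩
  let P : Sylow p G := default
  have h2 := Sylow.card_dvd_index P
  have h3 : (P : Subgroup G).index = m := by
    have h4 := (P : Subgroup G).card_mul_index
    rw [P.card_eq_multiplicity, h1, pow_one, hG] at h4
    exact Nat.eq_of_mul_eq_mul_left hp.pos h4
  rwa [h3] at h2

/-- two subgroups of order `p` generate a subgroup with more than one Sylow subgroup -/
theorem two_sylow {p m : ℕ} (hp : p.Prime) (hG : Nat.card G = p * m) (hpm : ¬ p ∣ m) {P Q : Subgroup G}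
    (hP : Nat.card P = p) (hQ : Nat.card Q = p) (hne : P ≠ Q) :
    ∃ m' n : ℕ, Nat.card (P ⊔ Q : Subgroup G) = p * m' ∧ m' ∣ m ∧ n ∣ m' ∧ n % p = 1 % p ∧ n ≠ 1 := by
  have hfact : Fact p.Prime := ⟨hp⟩
  have h1 : p ∣ Nat.card (P ⊔ Q : Subgroup G) := by
    conv_lhs => rw [← hP]
    exact Subgroup.card_dvd_of_le le_sup_left
  obtain ⟨m', hm'⟩ := h1
  have h2 : m' ∣ m := by
    have h3 : p * m' ∣ p * m := by
      rw [← hm', ← hG]
      exact Subgroup.card_subgroup_dvd_card _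
    exact Nat.dvd_of_mul_dvd_mul_left hp.pos h3
  have hpm' : ¬ p ∣ m' := fun h => hpm (h.trans h2)
  obtain ⟨s1, s2, s3⟩ := sylow_facts hp hm' hpm'
  refine ⟨m', _, hm', h2, s1, s2, ?_⟩
  intro hn
  have hsub : Subsingleton (Sylow p (P ⊔ Q : Subgroup G)) := (Nat.card_eq_one_iff_unique.1 hn).1
  have hc : ∀ R : Subgroup G, Nat.card R = p → R ≤ P ⊔ Q → Nat.card (R.subgroupOf (P ⊔ Q)) =
      p ^ (Nat.card (P ⊔ Q : Subgroup G)).factorization p := by
    intro R hR hle
    rw [s3, pow_one, ← hR]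
    exact Nat.card_congr (Subgroup.subgroupOfEquivOfLe hle).toEquiv
  have h3 := Subsingleton.elim (Sylow.ofCard _ (hc P hP le_sup_left)) (Sylow.ofCard _ (hc Q hQ le_sup_right))
  have h4 : P.subgroupOf (P ⊔ Q) = Q.subgroupOf (P ⊔ Q) := congrArg Sylow.toSubgroup h3
  apply hne
  rw [Subgroup.subgroupOf_inj, inf_eq_left.2 le_sup_left, inf_eq_left.2 le_sup_right] at h4
  exact h4

theorem sup_eq_top_sixty (hs : IsSimpleGroup G) (hG : Nat.card G = 60) {P Q : Subgroup G} (hP : Nat.card P = 5)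
    (hQ : Nat.card Q = 5) (hne : P ≠ Q) : P ⊔ Q = ⊤ := by
  obtain ⟨m, n, h1, h2, h3, h4, h5⟩ := two_sylow (m := 12) (by norm_num) (by rw [hG]) (by norm_num) hP hQ hne
  by_contra htop
  have h6 := card_le_factorial hs htop
  have h7 := (P ⊔ Q).card_mul_index
  rw [hG] at h6 h7
  rw [h1] at h7
  have hm : m ≤ 12 := Nat.le_of_dvd (by norm_num) h2
  have hn : n ≤ m := Nat.le_of_dvd (Nat.pos_of_ne_zero (by rintro rfl; omega)) h3
  have h8 : n = 6 ∨ n = 11 := by omega
  have h9 : m = 6 ∨ m = 12 ∨ m = 11 := by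
    rcases h8 with rfl | rfl <;> (clear * - hm h3 hn; omega)
  rcases h9 with rfl | rfl | rfl
  · have : (P ⊔ Q).index = 2 := by omega
    rw [this] at h6
    norm_num [Nat.factorial] at h6
  · have : (P ⊔ Q).index = 1 := by omega
    rw [this] at h6
    norm_num [Nat.factorial] at h6
  · omega

theorem sup_eq_top_168 (hs : IsSimpleGroup G) (hG : Nat.card G = 168) {P Q : Subgroup G} (hP : Nat.card P = 7)
    (hQ : Nat.card Q = 7) (hne : P ≠ Q) : P ⊔ Q = ⊤ := by
  obtain ⟨m, n, h1, h2, h3, h4, h5⟩ := two_sylow (m := 24) (by norm_num) (by rw [hG]) (by norm_num) hP hQ hne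
  by_contra htop
  have h6 := card_le_factorial hs htop
  have h7 := (P ⊔ Q).card_mul_index
  rw [hG] at h6 h7
  rw [h1] at h7
  have hm : m ≤ 24 := Nat.le_of_dvd (by norm_num) h2
  have hn : n ≤ m := Nat.le_of_dvd (Nat.pos_of_ne_zero (by rintro rfl; omega)) h3
  have h8 : n = 8 ∨ n = 15 ∨ n = 22 := by (clear * - h4 h5 hm hn; omega)
  have h9 : m = 8 ∨ m = 24 := by
    rcases h8 with rfl | rfl | rfl
    · have : m = 8 ∨ m = 16 ∨ m = 24 := by (clear * - hm h3 hn; omega)
      rcases this with rfl | rfl | rfl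
      · exact Or.inl rfl
      · omega
      · exact Or.inr rfl
    · have h10 : m = 15 := by
        have : m ≠ 0 := by
          rintro rfl
          omega
        omega
      subst h10
      norm_num at h2
    · have h10 : m = 22 := by
        have : m ≠ 0 := by
          rintro rfl
          omega
        omega
      subst h10
      norm_num at h2
  rcases h9 with rfl | rfl
  · have : (P ⊔ Q).index = 3 := by omega
    rw [this] at h6
    norm_num [Nat.factorial] at h6
  · have : (P ⊔ Q).index = 1 := by omega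
    rw [this] at h6
    norm_num [Nat.factorial] at h6

/-- the number of Sylow subgroups is not `1` in a simple group which is not a `p`-group -/
theorem sylow_ne_one (hs : IsSimpleGroup G) {p m : ℕ} (hp : p.Prime) (hG : Nat.card G = p * m) (hpm : ¬ p ∣ m)
    (hm : m ≠ 1) : Nat.card (Sylow p G) ≠ 1 := by
  have hfact : Fact p.Prime := ⟨hp⟩
  obtain ⟨s1, s2, s3⟩ := sylow_facts hp hG hpm
  intro h
  have hsub : Subsingleton (Sylow p G) := (Nat.card_eq_one_iff_unique.1 h).1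
  let P : Sylow p G := default
  have hn : (P : Subgroup G).Normal := Sylow.normal_of_subsingleton P
  have hc : Nat.card (P : Subgroup G) = p := by rw [P.card_eq_multiplicity, s3, pow_one]
  rcases hs.eq_bot_or_eq_top_of_normal _ hn with h1 | h1
  · rw [h1, Subgroup.card_bot] at hc
    exact hp.one_lt.ne hc
  · rw [h1, Subgroup.card_top, hG] at hc
    apply hm
    have := hp.pos
    nlinarith only [hc, this]

end Gen

variable {B : Type*} [Group B]

/-- transfer to subgroups -/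
theorem ncard_sub (X : Subgroup B) (p : ℕ) :
    {P : Subgroup B | Nat.card P = p ∧ P ≤ X}.ncard = {P : Subgroup X | Nat.card P = p}.ncard := by
  have h1 : {P : Subgroup B | Nat.card P = p ∧ P ≤ X} = (fun P : Subgroup X => P.map X.subtype) '' {P : Subgroup X | Nat.card P = p} := by
    ext P
    constructor
    · rintro ⟨h1, h2⟩
      refine ⟨P.subgroupOf X, ?_, ?_⟩
      · show Nat.card (P.subgroupOf X) = p
        rw [← h1]
        exact Nat.card_congr (Subgroup.subgroupOfEquivOfLe h2).toEquiv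
      · exact (Subgroup.map_subgroupOf_eq_of_le h2)
    · rintro ⟨P, h1, rfl⟩
      refine ⟨?_, ?_⟩
      · rw [← (show Nat.card P = p from h1)]
        exact (Nat.card_congr (P.equivMapOfInjective _ X.subtype_injective).toEquiv).symm
      · rintro _ ⟨y, _, rfl⟩
        exact y.2
  rw [h1, Set.ncard_image_of_injective _ (Subgroup.map_injective X.subtype_injective)]

theorem ncard_sixty [Finite B] (hB : Nat.card B = 3265920) :
    {X : Subgroup B | IsSimpleGroup X ∧ Nat.card X = 60}.ncard ≤ 888852787 := by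
  have h1 : ∀ X ∈ {X : Subgroup B | IsSimpleGroup X ∧ Nat.card X = 60}, {P : Subgroup B | Nat.card P = 5 ∧ P ≤ X}.ncard = 6 := by
    rintro X ⟨hX, hc⟩
    obtain ⟨s1, s2, s3⟩ := sylow_facts (G := X) (m := 12) Nat.prime_five (by rw [hc]) (by norm_num)
    have s4 := sylow_ne_one hX (m := 12) Nat.prime_five (by rw [hc]) (by norm_num) (by norm_num)
    rw [ncard_sub, ncard_order_p Nat.prime_five s3]
    have h2 := Nat.le_of_dvd (by norm_num) s1
    generalize Nat.card (Sylow 5 X) = n at *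
    interval_cases n <;> omega
  have h2 : ∀ X ∈ {X : Subgroup B | IsSimpleGroup X ∧ Nat.card X = 60}, ∀ P Q : Subgroup B, Nat.card P = 5 → P ≤ X →
      Nat.card Q = 5 → Q ≤ X → P ≠ Q → P ⊔ Q = X := by
    rintro X ⟨hX, hc⟩ P Q hP hPX hQ hQX hne
    have h3 : P.subgroupOf X ⊔ Q.subgroupOf X = ⊤ := by
      apply sup_eq_top_sixty hX hc
      · rw [← hP]; exact Nat.card_congr (Subgroup.subgroupOfEquivOfLe hPX).toEquiv
      · rw [← hQ]; exact Nat.card_congr (Subgroup.subgroupOfEquivOfLe hQX).toEquiv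
      · intro e
        rw [Subgroup.subgroupOf_inj, inf_eq_left.2 hPX, inf_eq_left.2 hQX] at e
        exact hne e
    have h4 := congrArg (Subgroup.map X.subtype) h3
    rwa [Subgroup.map_sup, Subgroup.map_subgroupOf_eq_of_le hPX, Subgroup.map_subgroupOf_eq_of_le hQX,
      ← MonoidHom.range_eq_map, X.range_subtype] at h4
  have h3 := ncard_pair_le h1 h2
  obtain ⟨s1, s2, s3⟩ := sylow_facts (G := B) (m := 653184) Nat.prime_five (by rw [hB]) (by norm_num)
  rw [ncard_order_p Nat.prime_five s3] at h3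
  have h4 : Nat.card (Sylow 5 B) ≤ 163296 := by
    obtain ⟨c, hc⟩ := s1
    have h5 : c % 5 = 4 := by
      have h6 : (Nat.card (Sylow 5 B) * c) % 5 = 4 := by rw [← hc]
      rw [Nat.mul_mod, s2] at h6
      omega
    have h7 : 4 ≤ c := by omega
    linarith only [hc, Nat.mul_le_mul_left (Nat.card (Sylow 5 B)) h7]
  have h5 : Nat.card (Sylow 5 B) ^ 2 ≤ 163296 ^ 2 := Nat.pow_le_pow_left h4 2
  omega

theorem ncard_168 [Finite B] (hB : Nat.card B = 3265920) :
    {X : Subgroup B | IsSimpleGroup X ∧ Nat.card X = 168}.ncard ≤ 431901257 := by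
  have hp7 : Nat.Prime 7 := by norm_num
  have h1 : ∀ X ∈ {X : Subgroup B | IsSimpleGroup X ∧ Nat.card X = 168}, {P : Subgroup B | Nat.card P = 7 ∧ P ≤ X}.ncard = 8 := by
    rintro X ⟨hX, hc⟩
    obtain ⟨s1, s2, s3⟩ := sylow_facts (G := X) (m := 24) hp7 (by rw [hc]) (by norm_num)
    have s4 := sylow_ne_one hX (m := 24) hp7 (by rw [hc]) (by norm_num) (by norm_num)
    rw [ncard_sub, ncard_order_p hp7 s3]
    have h2 := Nat.le_of_dvd (by norm_num) s1
    generalize Nat.card (Sylow 7 X) = n at *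
    interval_cases n <;> (clear * - s1 s4 s2; omega)
  have h2 : ∀ X ∈ {X : Subgroup B | IsSimpleGroup X ∧ Nat.card X = 168}, ∀ P Q : Subgroup B, Nat.card P = 7 → P ≤ X →
      Nat.card Q = 7 → Q ≤ X → P ≠ Q → P ⊔ Q = X := by
    rintro X ⟨hX, hc⟩ P Q hP hPX hQ hQX hne
    have h3 : P.subgroupOf X ⊔ Q.subgroupOf X = ⊤ := by
      apply sup_eq_top_168 hX hc
      · rw [← hP]; exact Nat.card_congr (Subgroup.subgroupOfEquivOfLe hPX).toEquiv
      · rw [← hQ]; exact Nat.card_congr (Subgroup.subgroupOfEquivOfLe hQX).toEquiv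
      · intro e
        rw [Subgroup.subgroupOf_inj, inf_eq_left.2 hPX, inf_eq_left.2 hQX] at e
        exact hne e
    have h4 := congrArg (Subgroup.map X.subtype) h3
    rwa [Subgroup.map_sup, Subgroup.map_subgroupOf_eq_of_le hPX, Subgroup.map_subgroupOf_eq_of_le hQX,
      ← MonoidHom.range_eq_map, X.range_subtype] at h4
  have h3 := ncard_pair_le h1 h2
  obtain ⟨s1, s2, s3⟩ := sylow_facts (G := B) (m := 466560) hp7 (by rw [hB]) (by norm_num)
  rw [ncard_order_p hp7 s3] at h3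
  have h4 : Nat.card (Sylow 7 B) ≤ 155520 := by
    obtain ⟨c, hc⟩ := s1
    have h5 : c % 7 = 3 := by
      have h6 : (Nat.card (Sylow 7 B) * c) % 7 = 3 := by rw [← hc]
      rw [Nat.mul_mod, s2] at h6
      omega
    have h7 : 3 ≤ c := by omega
    linarith only [hc, Nat.mul_le_mul_left (Nat.card (Sylow 7 B)) h7]
  have h5 : Nat.card (Sylow 7 B) ^ 2 ≤ 155520 ^ 2 := Nat.pow_le_pow_left h4 2
  omega

theorem ncard_big [Finite B] (hB : Nat.card B = 3265920)
    (hgen : ∀ X : Subgroup B, IsSimpleGroup X → ∃ a b : X, _root_.Subgroup.closure ({a, b} : Set X) = ⊤) :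
    {X : Subgroup B | (IsSimpleGroup X ∧ ¬ Group.IsSolvable X) ∧ 360 ≤ Nat.card X}.ncard ≤ 29628426240 := by
  have h1 := ncard_simple_mul_le (B := B) (𝒮 := {X : Subgroup B | (IsSimpleGroup X ∧ ¬ Group.IsSolvable X) ∧ 360 ≤ Nat.card X})
    (c := 360) (fun X hX => hX.1) (fun X hX => hgen X hX.1.1) (fun X hX => hX.2)
  rw [hB] at h1
  omega

theorem ncard_simple [Finite B] (hB : Nat.card B = 3265920)
    (hgen : ∀ X : Subgroup B, IsSimpleGroup X → ∃ a b : X, _root_.Subgroup.closure ({a, b} : Set X) = ⊤)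
    (hsm : ∀ X : Subgroup B, IsSimpleGroup X → ¬ Group.IsSolvable X → Nat.card X < 360 → Nat.card X = 60 ∨ Nat.card X = 168) :
    {X : Subgroup B | IsSimpleGroup X ∧ ¬ Group.IsSolvable X}.ncard ≤ 30949180284 := by
  have hsub : {X : Subgroup B | IsSimpleGroup X ∧ ¬ Group.IsSolvable X} ⊆
      ({X : Subgroup B | IsSimpleGroup X ∧ Nat.card X = 60} ∪ {X : Subgroup B | IsSimpleGroup X ∧ Nat.card X = 168}) ∪
      {X : Subgroup B | (IsSimpleGroup X ∧ ¬ Group.IsSolvable X) ∧ 360 ≤ Nat.card X} := by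
    rintro X ⟨h1, h2⟩
    by_cases h : 360 ≤ Nat.card X
    · exact Or.inr ⟨⟨h1, h2⟩, h⟩
    · left
      rcases hsm X h1 h2 (by omega) with h3 | h3
      · exact Or.inl ⟨h1, h3⟩
      · exact Or.inr ⟨h1, h3⟩
  have h1 := ncard_sixty hB
  have h2 := ncard_168 hB
  have h3 := ncard_big hB hgen
  refine (Set.ncard_le_ncard hsub (Set.toFinite _)).trans ((Set.ncard_union_le _ _).trans ?_)
  have h4 := Set.ncard_union_le {X : Subgroup B | IsSimpleGroup X ∧ Nat.card X = 60} {X : Subgroup B | IsSimpleGroup X ∧ Nat.card X = 168}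
  omega

end Cfsg.Agent.H52.EP
end

-- part: H52/EP/U43
section
/-!
# S3499, `U₄(3)` (helper52): the bound of the index
-/

set_option autoImplicit false
set_option linter.unusedSectionVars false

namespace Cfsg.Agent.H52.EP

open Subgroup Cfsg.Agent.H284 Cfsg.Agent.H59.EP

section Base

variable {Q : Type*} [Group Q] [Finite Q] {A N : Subgroup Q} {Γ : Subgroup (MulAut Q)} (h : EPT A Γ) (hNA : N ≤ A)
  (hN : ∀ a ∈ A, ∀ n ∈ N, a * n * a⁻¹ ∈ N) (hC : ∀ a ∈ A, (∀ n ∈ N, a * n = n * a) → a = 1) (hs : IsSimpleGroup N)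

include h hNA hN hC hs

/-- `N` is invariant under `Γ` -/
theorem inv_N {σ : MulAut Q} (hσ : σ ∈ Γ) {n : Q} (hn : n ∈ N) : σ n ∈ N := by
  set N' : Subgroup Q := N.map σ.toMonoidHom with hN'
  have hN'A : N' ≤ A := by
    rintro _ ⟨y, hy, rfl⟩
    exact (h.inv σ hσ y).2 (hNA hy)
  have hN'n : ∀ a ∈ A, ∀ y ∈ N', a * y * a⁻¹ ∈ N' := by
    rintro a ha _ ⟨y, hy, rfl⟩
    have h1 : σ⁻¹ a ∈ A := (h.inv σ⁻¹ (inv_mem hσ) a).2 ha
    refine ⟨σ⁻¹ a * y * (σ⁻¹ a)⁻¹, hN _ h1 y hy, ?_⟩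
    show σ (σ⁻¹ a * y * (σ⁻¹ a)⁻¹) = a * σ y * a⁻¹
    rw [map_mul, map_mul, map_inv, MulAut.apply_inv_self]
  have hn' : ((N' ⊓ N).subgroupOf N).Normal := ⟨by
    rintro ⟨y, hy⟩ hy' ⟨a, ha⟩
    exact ⟨hN'n a (hNA ha) y (mem_inf.1 hy').1, N.mul_mem (N.mul_mem ha hy) (N.inv_mem ha)⟩⟩
  rcases hs.eq_bot_or_eq_top_of_normal _ hn' with h1 | h1
  · exfalso
    have h2 : ∀ y ∈ N', y = 1 := by
      intro y hy
      apply hC y (hN'A hy)
      intro m hm
      have h3 : y * m * y⁻¹ * m⁻¹ ∈ N' ⊓ N := by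
        refine ⟨?_, N.mul_mem (hN y (hN'A hy) m hm) (N.inv_mem hm)⟩
        have e : y * m * y⁻¹ * m⁻¹ = y * (m * y⁻¹ * m⁻¹) := by group
        rw [e]
        exact N'.mul_mem hy (hN'n m (hNA hm) _ (N'.inv_mem hy))
      have h4 : (⟨_, (mem_inf.1 h3).2⟩ : N) ∈ (N' ⊓ N).subgroupOf N := h3
      rw [h1, mem_bot] at h4
      have h5 : y * m * y⁻¹ * m⁻¹ = 1 := Subtype.ext_iff.1 h4
      rwa [mul_inv_eq_one, mul_inv_eq_iff_eq_mul] at h5
    obtain ⟨a, b, hab⟩ := hs.toNontrivial.exists_pair_ne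
    apply hab
    have h6 : ∀ c : N, c = 1 := by
      intro c
      have h7 := h2 (σ c) ⟨c, c.2, rfl⟩
      rw [← map_one σ] at h7
      exact Subtype.ext (σ.injective h7)
    rw [h6 a, h6 b]
  · have h2 : N ≤ N' := by
      intro y hy
      have h3 : (⟨y, hy⟩ : N) ∈ (N' ⊓ N).subgroupOf N := by rw [h1]; exact mem_top _
      exact (mem_inf.1 h3).1
    have h3 : N = N' := by
      apply Subgroup.eq_of_le_of_card_ge h2
      rw [hN']
      exact (Nat.card_congr (N.equivMapOfInjective _ σ.injective).toEquiv).symm.le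
    rw [h3]
    exact ⟨n, hn, rfl⟩

/-- characteristic subgroups of `N ∩ A^x` are invariant under `Γ_x` -/
theorem char_inv {x : Q} (Y : Subgroup (N ⊓ cj x A : Subgroup Q)) [hY : Y.Characteristic] {σ : MulAut Q}
    (hσ : σ ∈ Γ) (hσx : x⁻¹ * σ x ∈ A) : ∀ k ∈ Y.map (Subgroup.subtype _), σ k ∈ Y.map (Subgroup.subtype _) := by
  have hs' : ∀ y : (N ⊓ cj x A : Subgroup Q), σ y ∈ N ⊓ cj x A := fun y =>
    ⟨inv_N h hNA hN hC hs hσ (mem_inf.1 y.2).1,
      (mem_inf.1 (h.stab_M0 hσ hσx (y := y) ⟨hNA (mem_inf.1 y.2).1, (mem_inf.1 y.2).2⟩)).2⟩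
  let f : (N ⊓ cj x A : Subgroup Q) →* (N ⊓ cj x A : Subgroup Q) :=
    (σ.toMonoidHom.comp (Subgroup.subtype _)).codRestrict _ hs'
  have hf : Function.Injective f := by
    intro y z e
    have e' : σ y = σ z := Subtype.ext_iff.1 e
    exact Subtype.ext (σ.injective e')
  let τ : MulAut (N ⊓ cj x A : Subgroup Q) := MulEquiv.ofBijective f (Finite.injective_iff_bijective.1 hf)
  have hτ : Y.map τ.toMonoidHom = Y := Subgroup.characteristic_iff_map_eq.1 hY τ
  rintro _ ⟨k, hk, rfl⟩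
  have h1 : τ k ∈ Y := by
    rw [← hτ]
    exact ⟨k, hk, rfl⟩
  exact ⟨τ k, h1, rfl⟩

/-- characteristic subgroups of `N ∩ A^x` -/
theorem norm_N {x : Q} (hx : x ∉ A) (Y : Subgroup (N ⊓ cj x A : Subgroup Q)) [hY : Y.Characteristic] (hne : Y ≠ ⊥)
    {a : Q} (ha : a ∈ A) (haY : ∀ k ∈ Y.map (Subgroup.subtype _), a * k * a⁻¹ ∈ Y.map (Subgroup.subtype _)) :
    a ∈ cj x A := by
  rw [← h.conj_stab ha]
  refine h.norm x hx (Y.map (Subgroup.subtype _)) ?_ ?_ ?_ _ ((h.conj a).2 ha) haY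
  · rintro _ ⟨y, _, rfl⟩
    exact ⟨hNA (mem_inf.1 y.2).1, (mem_inf.1 y.2).2⟩
  · intro σ hσ hσx
    exact char_inv h hNA hN hC hs Y hσ hσx
  · intro e
    rw [Subgroup.map_eq_bot_iff_of_injective _ (Subgroup.subtype_injective _)] at e
    exact hne e

/-- conversely `A ∩ A^x` normalises them -/
theorem norm_N' {x : Q} (Y : Subgroup (N ⊓ cj x A : Subgroup Q)) [hY : Y.Characteristic]
    {a : Q} (ha : a ∈ A) (hax : a ∈ cj x A) :
    ∀ k ∈ Y.map (Subgroup.subtype _), a * k * a⁻¹ ∈ Y.map (Subgroup.subtype _) :=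
  char_inv h hNA hN hC hs Y ((h.conj a).2 ha) ((h.conj_stab ha).2 hax)

/-- `|A| |N ∩ A^x| ≤ |N| |A ∩ A^x|` -/
theorem card_le_M {x : Q} (hx : x ∉ A) : Nat.card A * Nat.card (N ⊓ cj x A : Subgroup Q) ≤
    Nat.card N * Nat.card (A ⊓ cj x A : Subgroup Q) := by
  have hne : N ≠ ⊥ := by
    rintro e
    obtain ⟨a, b, hab⟩ := hs.toNontrivial.exists_pair_ne
    apply hab
    apply Subtype.ext
    have ha : (a : Q) ∈ (⊥ : Subgroup Q) := e ▸ a.2
    have hb : (b : Q) ∈ (⊥ : Subgroup Q) := e ▸ b.2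
    rw [mem_bot] at ha hb
    rw [ha, hb]
  have hf : ∀ a : A, ∃ k : N, ∃ m : (A ⊓ cj x A : Subgroup Q), (a : Q) = k * m := by
    intro a
    obtain ⟨k, hk, m, hm, e⟩ := h.fac_A hNA (fun σ hσ k hk => inv_N h hNA hN hC hs hσ hk) hne hx a.2
    exact ⟨⟨k, hk⟩, ⟨m, hm⟩, e⟩
  choose k m hkm using hf
  rw [← Nat.card_prod, ← Nat.card_prod]
  apply Nat.card_le_card_of_injective (fun p : A × (N ⊓ cj x A : Subgroup Q) =>
    ((k p.1 * ⟨(p.2 : Q), (mem_inf.1 p.2.2).1⟩⁻¹, ⟨(p.2 : Q), hNA (mem_inf.1 p.2.2).1, (mem_inf.1 p.2.2).2⟩ * m p.1) :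
      N × (A ⊓ cj x A : Subgroup Q)))
  rintro ⟨a, c⟩ ⟨b, d⟩ e
  rw [Prod.mk.injEq] at e
  obtain ⟨e1, e2⟩ := e
  have e3 : (k a : Q) * (c : Q)⁻¹ = k b * (d : Q)⁻¹ := congrArg Subtype.val e1
  have e4 : (c : Q) * m a = d * m b := congrArg Subtype.val e2
  have h1 : (a : Q) = b := by
    rw [hkm a, hkm b]
    have h2 : (k a : Q) * m a = (k a * (c : Q)⁻¹) * (c * m a) := by group
    rw [h2, e3, e4]
    group
  have h2 : a = b := Subtype.ext h1
  subst h2
  have h3 : (c : Q) = d := by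
    have := mul_left_cancel e3
    exact inv_injective this
  exact Prod.ext rfl (Subtype.ext h3)

omit h hC hs hN in
/-- `|N| |A ∩ A^x| ≤ |A| |N ∩ A^x|` -/
theorem card_M_le {x : Q} : Nat.card N * Nat.card (A ⊓ cj x A : Subgroup Q) ≤
    Nat.card A * Nat.card (N ⊓ cj x A : Subgroup Q) := by
  have h1 : N.relIndex (A ⊓ cj x A) ≤ N.relIndex A := relIndex_le_of_le_right inf_le_left (by
    rw [relIndex]
    exact Subgroup.index_ne_zero_of_finite)
  have h2 : N.relIndex A * Nat.card N = Nat.card A := by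
    have h3 := Subgroup.card_mul_index (N.subgroupOf A)
    rw [Nat.card_congr (Subgroup.subgroupOfEquivOfLe hNA).toEquiv] at h3
    rw [relIndex, mul_comm]
    exact h3
  have h4 : N.relIndex (A ⊓ cj x A) * Nat.card (N ⊓ cj x A : Subgroup Q) = Nat.card (A ⊓ cj x A : Subgroup Q) := by
    have h3 := Subgroup.card_mul_index (N.subgroupOf (A ⊓ cj x A))
    have h5 : Nat.card (N.subgroupOf (A ⊓ cj x A)) = Nat.card (N ⊓ cj x A : Subgroup Q) := by
      rw [← Subgroup.inf_subgroupOf_right]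
      have h6 : N ⊓ (A ⊓ cj x A) = N ⊓ cj x A := by rw [← inf_assoc, inf_eq_left.2 hNA]
      rw [h6]
      exact Nat.card_congr (Subgroup.subgroupOfEquivOfLe (inf_le_inf_right _ hNA)).toEquiv
    rw [h5] at h3
    rw [relIndex, mul_comm]
    exact h3
  calc Nat.card N * Nat.card (A ⊓ cj x A : Subgroup Q)
      = N.relIndex (A ⊓ cj x A) * (Nat.card N * Nat.card (N ⊓ cj x A : Subgroup Q)) := by rw [← h4]; ring
    _ ≤ N.relIndex A * (Nat.card N * Nat.card (N ⊓ cj x A : Subgroup Q)) := Nat.mul_le_mul_right _ h1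
    _ = Nat.card A * Nat.card (N ⊓ cj x A : Subgroup Q) := by rw [← h2]; ring

end Base

section Num

variable {Q : Type*} [Group Q] [Finite Q] {A N : Subgroup Q} {Γ : Subgroup (MulAut Q)} (h : EPT A Γ) (hNA : N ≤ A)
  (hN : ∀ a ∈ A, ∀ n ∈ N, a * n * a⁻¹ ∈ N) (hC : ∀ a ∈ A, (∀ n ∈ N, a * n = n * a) → a = 1) (hs : IsSimpleGroup N)
  (hcN : Nat.card N = 3265920) {k : ℕ} (hk : k ∣ 8) (hcA : Nat.card A = Nat.card N * k)

include h hNA hN hC hs hcN hk hcA

omit h hC hs hcN in
/-- `a ^ 8 ∈ N` -/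
theorem pow_eight {a : Q} (ha : a ∈ A) : a ^ 8 ∈ N := by
  have hn : (N.subgroupOf A).Normal := ⟨by
    rintro ⟨n, hn'⟩ hn ⟨a, ha⟩
    exact hN a ha n hn⟩
  have h1 := Subgroup.card_mul_index (N.subgroupOf A)
  rw [Nat.card_congr (Subgroup.subgroupOfEquivOfLe hNA).toEquiv, hcA] at h1
  have h2 : (N.subgroupOf A).index = k := Nat.eq_of_mul_eq_mul_left Nat.card_pos h1
  have h3 := Subgroup.pow_index_mem (N.subgroupOf A) (⟨a, ha⟩ : A)
  rw [h2] at h3
  obtain ⟨c, hc⟩ := hk
  have h4 : a ^ k ∈ N := h3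
  rw [hc, pow_mul]
  exact N.pow_mem h4 c

/-- if `N ∩ A^x` is a `2`-group then it has order at least `128` -/
theorem two_group {x : Q} (hx : x ∉ A) (h2 : ∀ y ∈ N ⊓ cj x A, ∃ j : ℕ, y ^ (2 ^ j) = 1) :
    128 ≤ Nat.card (N ⊓ cj x A : Subgroup Q) := by
  have h2' : Fact (Nat.Prime 2) := ⟨Nat.prime_two⟩
  have h3 : ∀ y ∈ A ⊓ cj x A, ∃ j : ℕ, y ^ (2 ^ j) = 1 := by
    intro y hy
    obtain ⟨j, hj⟩ := h2 (y ^ 8) ⟨pow_eight hNA hN hk hcA (mem_inf.1 hy).1, Subgroup.pow_mem _ (mem_inf.1 hy).2 8⟩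
    refine ⟨3 + j, ?_⟩
    rw [pow_add, pow_mul]
    exact hj
  have h4 : IsPGroup 2 ((A ⊓ cj x A).subgroupOf A) := by
    rintro ⟨⟨y, hyA⟩, hy⟩
    obtain ⟨j, hj⟩ := h3 y hy
    exact ⟨j, Subtype.ext (Subtype.ext hj)⟩
  obtain ⟨P, hP⟩ := h4.exists_le_sylow
  have h5 := h.sylow hx Nat.prime_two (R := A ⊓ cj x A) (fun y => ⟨fun hy => ⟨hy, h3 y hy⟩, fun hy => hy.1⟩) (h.M0 x hx)
    (P := (P : Subgroup A).map A.subtype) (by
      rintro _ ⟨y, _, rfl⟩
      exact y.2) (P.isPGroup'.map _) (by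
      intro y hy
      exact ⟨⟨y, (mem_inf.1 hy).1⟩, hP hy, rfl⟩)
  have h6 : Nat.card ((P : Subgroup A).map A.subtype) = Nat.card (P : Subgroup A) :=
    (Nat.card_congr ((P : Subgroup A).equivMapOfInjective _ A.subtype_injective).toEquiv).symm
  have h7 : 2 ^ 7 * k ∣ Nat.card (P : Subgroup A) := by
    obtain ⟨j, hj, rfl⟩ := (Nat.dvd_prime_pow Nat.prime_two (m := 3)).1 hk
    rw [← pow_add]
    apply P.pow_dvd_card_of_pow_dvd_card
    rw [hcA, hcN, pow_add]
    exact Nat.mul_dvd_mul (by norm_num) dvd_rfl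
  rw [← h6, h5] at h7
  have h8 := card_M_le (A := A) hNA (x := x)
  have h9 := Nat.le_of_dvd Nat.card_pos h7
  rw [hcA] at h8
  have hk0 : 0 < k := Nat.pos_of_dvd_of_pos hk (by norm_num)
  have h10 : Nat.card (A ⊓ cj x A : Subgroup Q) ≤ k * Nat.card (N ⊓ cj x A : Subgroup Q) := by
    rw [mul_assoc] at h8
    exact Nat.le_of_mul_le_mul_left h8 Nat.card_pos
  have h11 : k * 128 ≤ k * Nat.card (N ⊓ cj x A : Subgroup Q) := by
    refine le_trans ?_ h10
    rw [mul_comm k]
    exact h9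
  exact Nat.le_of_mul_le_mul_left h11 hk0

/-- `N ∩ A^x ≠ 1` -/
theorem inf_ne_bot {x : Q} (hx : x ∉ A) : N ⊓ cj x A ≠ ⊥ := by
  intro e
  have h1 := two_group h hNA hN hC hs hcN hk hcA hx (by
    intro y hy
    rw [e, mem_bot] at hy
    exact ⟨0, by rw [hy, one_pow]⟩)
  rw [e, Subgroup.card_bot] at h1
  omega

/-- `N ∩ A^x` is not a `3`-group of order `9` -/
theorem not_nine {x : Q} (hx : x ∉ A) : Nat.card (N ⊓ cj x A : Subgroup Q) ≠ 9 := by
  intro h9
  have h3' : Fact (Nat.Prime 3) := ⟨Nat.prime_three⟩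
  have hy9 : ∀ y ∈ N ⊓ cj x A, y ^ (3 ^ 2) = 1 := by
    intro y hy
    have := pow_card_eq_one' (G := (N ⊓ cj x A : Subgroup Q)) (x := ⟨y, hy⟩)
    rw [h9] at this
    exact Subtype.ext_iff.1 this
  have hp : IsPGroup 3 ((N ⊓ cj x A).subgroupOf A) := by
    rintro ⟨⟨y, hyA⟩, hy⟩
    exact ⟨2, Subtype.ext (Subtype.ext (hy9 y hy))⟩
  obtain ⟨P, hP⟩ := hp.exists_le_sylow
  have h5 := h.sylow hx Nat.prime_three (R := N ⊓ cj x A) (fun y => ?_) (inf_ne_bot h hNA hN hC hs hcN hk hcA hx)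
    (P := (P : Subgroup A).map A.subtype) (by
      rintro _ ⟨y, _, rfl⟩
      exact y.2) (P.isPGroup'.map _) (by
      intro y hy
      exact ⟨⟨y, hNA (mem_inf.1 hy).1⟩, hP hy, rfl⟩)
  · have h6 : Nat.card ((P : Subgroup A).map A.subtype) = Nat.card (P : Subgroup A) :=
      (Nat.card_congr ((P : Subgroup A).equivMapOfInjective _ A.subtype_injective).toEquiv).symm
    have h7 : 3 ^ 3 ∣ Nat.card (P : Subgroup A) := by
      apply P.pow_dvd_card_of_pow_dvd_card
      rw [hcA, hcN]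
      exact Dvd.dvd.mul_right (by norm_num) k
    rw [← h6, h5, h9] at h7
    norm_num at h7
  · constructor
    · intro hy
      exact ⟨⟨hNA (mem_inf.1 hy).1, (mem_inf.1 hy).2⟩, 2, hy9 y hy⟩
    · rintro ⟨hy, j, hj⟩
      have h8 : y ^ 8 ∈ N ⊓ cj x A := ⟨pow_eight hNA hN hk hcA (mem_inf.1 hy).1, Subgroup.pow_mem _ (mem_inf.1 hy).2 8⟩
      have h10 : (y ^ 8) ^ (3 ^ 2) = 1 := hy9 _ h8
      have h11 : orderOf y ∣ 3 ^ j := orderOf_dvd_of_pow_eq_one hj
      have h12 : orderOf y ∣ 8 * 3 ^ 2 := orderOf_dvd_of_pow_eq_one (by rw [pow_mul]; exact h10)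
      have h13 : Nat.Coprime (orderOf y) 8 :=
        Nat.Coprime.coprime_dvd_left h11 (Nat.Coprime.pow_left j (by norm_num))
      have h14 : orderOf y ∣ 9 := h13.dvd_of_dvd_mul_left h12
      have h15 : y ^ 9 = 1 := orderOf_dvd_iff_pow_eq_one.1 h14
      have h16 : y = (y ^ 8) ^ 8 := by
        rw [← pow_mul]
        have : y ^ (8 * 8) = y ^ (9 * 7 + 1) := by norm_num
        rw [this, pow_succ, pow_mul, h15, one_pow, one_mul]
      rw [h16]
      exact Subgroup.pow_mem _ h8 8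

omit h hC hs hk hcA in
/-- the normaliser in `N` of a subgroup of order `p ^ n` -/
theorem dvd_of_norm {p n : ℕ} (hp : p.Prime) (hd : p ^ (n + 1) ∣ 3265920) {X : Subgroup Q} (hX : X ≤ N)
    (hcX : Nat.card X = p ^ n) {M : Subgroup Q} (hM : ∀ a ∈ N, (∀ y ∈ X, a * y * a⁻¹ ∈ X) → a ∈ M) (hMN : M ≤ N) :
    p ^ (n + 1) ∣ Nat.card M := by
  have hfact : Fact p.Prime := ⟨hp⟩
  have h1 : Nat.card (X.subgroupOf N) = p ^ n := by
    rw [← hcX]
    exact Nat.card_congr (Subgroup.subgroupOfEquivOfLe hX).toEquiv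
  have h2 := Sylow.prime_pow_dvd_card_normalizer (G := N) (by rw [hcN]; exact hd) h1
  refine h2.trans ?_
  have h3 : (normalizer ((X.subgroupOf N : Subgroup N) : Set N)) ≤ M.subgroupOf N := by
    intro a ha
    apply hM a a.2
    intro y hy
    exact (mem_normalizer_iff.1 ha ⟨y, hX hy⟩).1 hy
  have h4 := Subgroup.card_dvd_of_le h3
  rwa [Nat.card_congr (Subgroup.subgroupOfEquivOfLe hMN).toEquiv] at h4

omit h hC hs hk hcA in
/-- the normaliser in `N` of a Sylow subgroup of order `p` -/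
theorem sylow_norm {p m c : ℕ} (hp : p.Prime) (hm : 3265920 = p * m) (hpm : ¬ p ∣ m)
    (hc : ∀ n e : ℕ, n % p = 1 % p → n * e = m → c ≤ e) {X : Subgroup Q} (hX : X ≤ N)
    (hcX : Nat.card X = p) {M : Subgroup Q} (hM : ∀ a ∈ N, (∀ y ∈ X, a * y * a⁻¹ ∈ X) → a ∈ M) (hMN : M ≤ N) :
    p * c ≤ Nat.card M := by
  have hfact : Fact p.Prime := ⟨hp⟩
  have h1 : Nat.card (X.subgroupOf N) = p := by
    rw [← hcX]
    exact Nat.card_congr (Subgroup.subgroupOfEquivOfLe hX).toEquiv
  obtain ⟨s1, s2, s3⟩ := sylow_facts (G := N) hp (hcN.trans hm) hpm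
  let P : Sylow p N := Sylow.ofCard (X.subgroupOf N) (by rw [s3, pow_one]; exact h1)
  have h2 := P.card_eq_index_normalizer
  have h3 := (normalizer (P : Set N)).card_mul_index
  rw [← h2, hcN, hm] at h3
  have h4 : p ∣ Nat.card (normalizer (P : Set N)) := by
    conv_lhs => rw [← h1]
    exact Subgroup.card_dvd_of_le (le_normalizer (H := (P : Subgroup N)))
  obtain ⟨e, he⟩ := h4
  have h5 : Nat.card (Sylow p N) * e = m := by
    rw [he] at h3
    have h6 : p * (Nat.card (Sylow p N) * e) = p * m := by rw [← h3]; ring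
    exact Nat.eq_of_mul_eq_mul_left hp.pos h6
  have h7 := hc _ e s2 h5
  have h8 : (normalizer (P : Set N)) ≤ M.subgroupOf N := by
    intro a ha
    apply hM a a.2
    intro y hy
    exact (mem_normalizer_iff.1 ha ⟨y, hX hy⟩).1 hy
  have h9 := Nat.le_of_dvd Nat.card_pos (Subgroup.card_dvd_of_le h8)
  rw [Nat.card_congr (Subgroup.subgroupOfEquivOfLe hMN).toEquiv, he] at h9
  exact (Nat.mul_le_mul_left p h7).trans h9

/-- **the key**: for every `x ∉ A` there is `X` -/
theorem key {x : Q} (hx : x ∉ A) : ∃ X : Subgroup Q, X ≤ N ∧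
    (∀ a ∈ A, (∀ k ∈ X, a * k * a⁻¹ ∈ X) ↔ a ∈ cj x A) ∧ 12 ≤ Nat.card (N ⊓ cj x A : Subgroup Q) ∧
    ((∃ s ∈ ({2, 3, 5, 7} : Finset ℕ), ElAb s X ∧ X ≠ ⊥) ∨ (IsSimpleGroup X ∧ ¬ Group.IsSolvable X)) := by
  have hMn : Nontrivial (N ⊓ cj x A : Subgroup Q) :=
    (Subgroup.nontrivial_iff_ne_bot _).2 (inf_ne_bot h hNA hN hC hs hcN hk hcA hx)
  obtain ⟨Y, hY, hYne, hYmin⟩ := exists_min_char (B := (N ⊓ cj x A : Subgroup Q))
  have hYn : Nontrivial Y := (Subgroup.nontrivial_iff_ne_bot Y).2 hYne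
  have hYc : ∀ Z : Subgroup Y, Z.Characteristic → Z = ⊥ ∨ Z = ⊤ := by
    intro Z hZ
    by_cases hZb : Z = ⊥
    · exact Or.inl hZb
    right
    have h1 := hYmin (Z.map Y.subtype) char_trans (by
      rintro _ ⟨z, _, rfl⟩
      exact z.2) (by
      intro e
      rw [Subgroup.map_eq_bot_iff_of_injective _ Y.subtype_injective] at e
      exact hZb e)
    rw [Subgroup.eq_top_iff']
    intro y
    have h2 : (y : (N ⊓ cj x A : Subgroup Q)) ∈ Z.map Y.subtype := by rw [h1]; exact y.2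
    obtain ⟨z, hz, e⟩ := h2
    have : z = y := Subtype.ext e
    rw [← this]
    exact hz
  set X : Subgroup Q := Y.map (N ⊓ cj x A : Subgroup Q).subtype with hX
  have hXle : X ≤ N ⊓ cj x A := by
    rintro _ ⟨y, _, rfl⟩
    exact y.2
  have hXN : X ≤ N := hXle.trans inf_le_left
  have hcard : Nat.card X = Nat.card Y :=
    (Nat.card_congr (Y.equivMapOfInjective _ (N ⊓ cj x A : Subgroup Q).subtype_injective).toEquiv).symm
  have e : Y ≃* X := Y.equivMapOfInjective _ (N ⊓ cj x A : Subgroup Q).subtype_injective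
  have hXd : Nat.card X ∣ 3265920 := by
    rw [← hcN]
    exact Subgroup.card_dvd_of_le hXN
  have hXne : X ≠ ⊥ := by
    intro e
    rw [hX, Subgroup.map_eq_bot_iff_of_injective _ (N ⊓ cj x A : Subgroup Q).subtype_injective] at e
    exact hYne e
  have hnorm : ∀ a ∈ A, (∀ k ∈ X, a * k * a⁻¹ ∈ X) → a ∈ cj x A := fun a ha hak =>
    norm_N h hNA hN hC hs hx Y hYne ha hak
  have hnormN : ∀ a ∈ N, (∀ k ∈ X, a * k * a⁻¹ ∈ X) → a ∈ N ⊓ cj x A := fun a ha hak =>
    ⟨ha, hnorm a (hNA ha) hak⟩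
  have h5 : ∀ p, p.Prime → 5 ≤ p → ¬ p ^ 2 ∣ Nat.card Y := by
    intro p hp hp5 hd
    have h6 : p ^ 2 ∣ 3265920 := by
      rw [← hcard] at hd
      exact hd.trans hXd
    have h7 : (3265920 : ℕ) = 2 ^ 7 * 3 ^ 6 * 5 * 7 := by norm_num
    rw [h7] at h6
    have hc2 : Nat.Coprime (p ^ 2) (2 ^ 7 * 3 ^ 6) := by
      apply Nat.Coprime.pow_left
      rw [Nat.coprime_primes hp Nat.prime_two |>.2 (by omega) |> fun h => Nat.coprime_mul_iff_right]
      exact ⟨((Nat.coprime_primes hp Nat.prime_two).2 (by omega)).pow_right 7,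
        ((Nat.coprime_primes hp Nat.prime_three).2 (by omega)).pow_right 6⟩
    have h8 : p ^ 2 ∣ 35 := by
      have : (2 ^ 7 * 3 ^ 6 * 5 * 7 : ℕ) = 2 ^ 7 * 3 ^ 6 * 35 := by norm_num
      rw [this] at h6
      exact hc2.dvd_of_dvd_mul_left h6
    have h9 := Nat.le_of_dvd (by norm_num) h8
    have h10 : p ≤ 5 := by nlinarith only [h9]
    have h11 : p = 5 := by omega
    rw [h11] at h8
    norm_num at h8
  refine ⟨X, hXN, fun a ha => ⟨hnorm a ha, fun hax => norm_N' h hNA hN hC hs Y ha hax⟩, ?_⟩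
  rcases char_simple hYc h5 with ⟨s, hs', hsd, hel⟩ | ⟨h1, h2⟩
  · have hsd' : s ∣ 3265920 := by
      rw [← hcard] at hsd
      exact hsd.trans hXd
    have hs4 : s ∈ ({2, 3, 5, 7} : Finset ℕ) := by
      have h7 : (3265920 : ℕ) = 2 ^ 7 * 3 ^ 6 * 5 * 7 := by norm_num
      rw [h7] at hsd'
      rcases (Nat.Prime.dvd_mul hs').1 hsd' with h8 | h8
      · rcases (Nat.Prime.dvd_mul hs').1 h8 with h9 | h9
        · rcases (Nat.Prime.dvd_mul hs').1 h9 with h10 | h10
          · rw [(Nat.prime_dvd_prime_iff_eq hs' Nat.prime_two).1 (hs'.dvd_of_dvd_pow h10)]; simp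
          · rw [(Nat.prime_dvd_prime_iff_eq hs' Nat.prime_three).1 (hs'.dvd_of_dvd_pow h10)]; simp
        · rw [(Nat.prime_dvd_prime_iff_eq hs' Nat.prime_five).1 h9]; simp
      · rw [(Nat.prime_dvd_prime_iff_eq hs' (by norm_num)).1 h8]; simp
    have hXel : ElAb s X := by
      refine ⟨?_, ?_⟩
      · rintro _ ⟨a, ha, rfl⟩ _ ⟨b, hb, rfl⟩
        have := hel.comm ⟨a, ha⟩ (mem_top _) ⟨b, hb⟩ (mem_top _)
        have h1 : a * b = b * a := Subtype.ext_iff.1 this
        rw [← map_mul, ← map_mul, h1]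
      · rintro _ ⟨a, ha, rfl⟩
        have := hel.exp ⟨a, ha⟩ (mem_top _)
        have h1 : a ^ s = 1 := Subtype.ext_iff.1 this
        rw [← map_pow, h1, map_one]
    refine ⟨?_, Or.inl ⟨s, hs4, hXel, hXne⟩⟩
    have hfact : Fact s.Prime := ⟨hs'⟩
    have hps : IsPGroup s X := by
      rintro ⟨y, hy⟩
      refine ⟨1, Subtype.ext ?_⟩
      rw [pow_one]
      exact hXel.exp y hy
    obtain ⟨j, hj⟩ := IsPGroup.iff_card.1 hps
    have hj0 : j ≠ 0 := by
      rintro rfl
      apply hXne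
      rw [← Subgroup.card_eq_one, hj, pow_zero]
    have hjd : s ^ j ∣ 3265920 := by rw [← hj]; exact hXd
    simp only [Finset.mem_insert, Finset.mem_singleton] at hs4
    rcases hs4 with rfl | rfl | rfl | rfl
    · -- s = 2
      have h12 : 4 ∣ Nat.card (N ⊓ cj x A : Subgroup Q) := by
        by_cases h13 : 2 ^ (j + 1) ∣ 3265920
        · have h14 := dvd_of_norm hNA hN hcN Nat.prime_two h13 hXN hj hnormN inf_le_left
          refine dvd_trans ?_ h14
          exact (pow_dvd_pow 2 (show 2 ≤ j + 1 by omega))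
        · have h15 : 2 ≤ j := by
            by_contra h16
            have : j = 1 := by omega
            rw [this] at h13
            norm_num at h13
          refine dvd_trans ?_ (Subgroup.card_dvd_of_le hXle)
          rw [hj]
          exact (pow_dvd_pow 2 h15)
      by_contra hlt
      have h16 : Nat.card (N ⊓ cj x A : Subgroup Q) = 4 ∨ Nat.card (N ⊓ cj x A : Subgroup Q) = 8 := by
        have := Nat.card_pos (α := (N ⊓ cj x A : Subgroup Q))
        omega
      have h17 := two_group h hNA hN hC hs hcN hk hcA hx (by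
        intro y hy
        refine ⟨3, ?_⟩
        have h18 := pow_card_eq_one' (G := (N ⊓ cj x A : Subgroup Q)) (x := ⟨y, hy⟩)
        rcases h16 with h19 | h19
        · rw [h19] at h18
          have h20 : y ^ 4 = 1 := Subtype.ext_iff.1 h18
          rw [show (2 ^ 3 : ℕ) = 4 * 2 by norm_num, pow_mul, h20, one_pow]
        · rw [h19] at h18
          exact Subtype.ext_iff.1 h18)
      omega
    · -- s = 3
      have h12 : 9 ∣ Nat.card (N ⊓ cj x A : Subgroup Q) := by
        by_cases h13 : 3 ^ (j + 1) ∣ 3265920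
        · have h14 := dvd_of_norm hNA hN hcN Nat.prime_three h13 hXN hj hnormN inf_le_left
          refine dvd_trans ?_ h14
          exact (pow_dvd_pow 3 (show 2 ≤ j + 1 by omega))
        · have h15 : 2 ≤ j := by
            by_contra h16
            have : j = 1 := by omega
            rw [this] at h13
            norm_num at h13
          refine dvd_trans ?_ (Subgroup.card_dvd_of_le hXle)
          rw [hj]
          exact (pow_dvd_pow 3 h15)
      have h13 := not_nine h hNA hN hC hs hcN hk hcA hx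
      have := Nat.card_pos (α := (N ⊓ cj x A : Subgroup Q))
      omega
    · -- s = 5
      have hj1 : j = 1 := by
        by_contra hne
        have : 5 ^ 2 ∣ 3265920 := (pow_dvd_pow 5 (show 2 ≤ j by omega)).trans hjd
        norm_num at this
      rw [hj1, pow_one] at hj
      have h12 := sylow_norm hNA hN hcN Nat.prime_five (m := 653184) (c := 4) (by norm_num) (by norm_num) (by
        intro n e hn hne
        have h6 : (n * e) % 5 = 4 := by rw [hne]
        rw [Nat.mul_mod, hn] at h6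
        omega) hXN hj hnormN inf_le_left
      omega
    · -- s = 7
      have hj1 : j = 1 := by
        by_contra hne
        have : 7 ^ 2 ∣ 3265920 := (pow_dvd_pow 7 (show 2 ≤ j by omega)).trans hjd
        norm_num at this
      rw [hj1, pow_one] at hj
      have h12 := sylow_norm hNA hN hcN (show Nat.Prime 7 by norm_num) (m := 466560) (c := 3) (by norm_num) (by norm_num) (by
        intro n e hn hne
        have h6 : (n * e) % 7 = 3 := by rw [hne]
        rw [Nat.mul_mod, hn] at h6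
        omega) hXN hj hnormN inf_le_left
      omega
  · have hXs : IsSimpleGroup X := e.symm.isSimpleGroup
    have hXns : ¬ Group.IsSolvable X := fun h => h2 (Group.isSolvable_of_isSolvable_injective (f := e.toMonoidHom) e.injective)
    refine ⟨?_, Or.inr ⟨hXs, hXns⟩⟩
    have h60 := Cfsg.Agent.H168.NoSolv.sixty_le hXns
    have h61 := Nat.le_of_dvd Nat.card_pos (Subgroup.card_dvd_of_le hXle)
    omega

/-- the number of the `M₀` -/
theorem ncard_M0 (hgen : ∀ X : Subgroup N, IsSimpleGroup X → ∃ a b : X, _root_.Subgroup.closure ({a, b} : Set X) = ⊤)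
    (hsm : ∀ X : Subgroup N, IsSimpleGroup X → ¬ Group.IsSolvable X → Nat.card X < 360 →
      Nat.card X = 60 ∨ Nat.card X = 168) :
    {M : Subgroup Q | ∃ x, x ∉ A ∧ M = A ⊓ cj x A}.ncard ≤ 31949325573 := by
  classical
  have key' : ∀ M ∈ {M : Subgroup Q | ∃ x, x ∉ A ∧ M = A ⊓ cj x A}, ∃ X : Subgroup N,
      (∀ a ∈ A, (∀ k ∈ X.map N.subtype, a * k * a⁻¹ ∈ X.map N.subtype) ↔ a ∈ M) ∧ M ≤ A ∧
      ((∃ s ∈ ({2, 3, 5, 7} : Finset ℕ), ElAb s X ∧ X ≠ ⊥) ∨ (IsSimpleGroup X ∧ ¬ Group.IsSolvable X)) := by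
    rintro _ ⟨x, hx, rfl⟩
    obtain ⟨X, hXN, h1, -, h3⟩ := key h hNA hN hC hs hcN hk hcA hx
    have hmap : (X.subgroupOf N).map N.subtype = X := Subgroup.map_subgroupOf_eq_of_le hXN
    refine ⟨X.subgroupOf N, ?_, inf_le_left, ?_⟩
    · intro a ha
      rw [hmap, h1 a ha]
      exact ⟨fun h4 => ⟨ha, h4⟩, fun h4 => h4.2⟩
    · rcases h3 with ⟨s, hs4, hel, hne⟩ | ⟨h4, h5⟩
      · left
        refine ⟨s, hs4, ⟨?_, ?_⟩, ?_⟩
        · intro a ha b hb
          exact Subtype.ext (hel.comm _ ha _ hb)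
        · intro a ha
          exact Subtype.ext (hel.exp _ ha)
        · intro e
          apply hne
          rw [← hmap, e, Subgroup.map_bot]
      · right
        have e := Subgroup.subgroupOfEquivOfLe hXN
        refine ⟨e.isSimpleGroup, fun h6 => h5 ?_⟩
        exact Group.isSolvable_of_isSolvable_injective (f := e.symm.toMonoidHom) e.symm.injective
  choose! f hf1 hf2 hf3 using key'
  have hinj : Set.InjOn f {M : Subgroup Q | ∃ x, x ∉ A ∧ M = A ⊓ cj x A} := by
    intro M hM M' hM' e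
    ext a
    constructor
    · intro ha
      have haA := hf2 M hM ha
      rw [← hf1 M' hM' a haA, ← e, hf1 M hM a haA]
      exact ha
    · intro ha
      have haA := hf2 M' hM' ha
      rw [← hf1 M hM a haA, e, hf1 M' hM' a haA]
      exact ha
  rw [← hinj.ncard_image]
  have hsub : f '' {M : Subgroup Q | ∃ x, x ∉ A ∧ M = A ⊓ cj x A} ⊆
      (({X : Subgroup N | ElAb 2 X ∧ X ≠ ⊥} ∪ {X : Subgroup N | ElAb 3 X ∧ X ≠ ⊥}) ∪
        ({X : Subgroup N | ElAb 5 X ∧ X ≠ ⊥} ∪ {X : Subgroup N | ElAb 7 X ∧ X ≠ ⊥})) ∪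
      {X : Subgroup N | IsSimpleGroup X ∧ ¬ Group.IsSolvable X} := by
    rintro _ ⟨M, hM, rfl⟩
    rcases hf3 M hM with ⟨s, hs4, hel⟩ | h4
    · left
      simp only [Finset.mem_insert, Finset.mem_singleton] at hs4
      rcases hs4 with rfl | rfl | rfl | rfl
      · exact Or.inl (Or.inl hel)
      · exact Or.inl (Or.inr hel)
      · exact Or.inr (Or.inl hel)
      · exact Or.inr (Or.inr hel)
    · exact Or.inr h4
  have c2 := ncard_elab_sylow (B := N) Nat.prime_two
  have c3 := ncard_elab_sylow (B := N) Nat.prime_three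
  have c5 := ncard_elab_sylow (B := N) Nat.prime_five
  have c7 := ncard_elab_sylow (B := N) (show Nat.Prime 7 by norm_num)
  have cs := ncard_simple hcN hgen hsm
  have hfac : ∀ (p e m : ℕ), p.Prime → m ≠ 0 → ¬ p ∣ m → 3265920 = p ^ e * m → (Nat.card N).factorization p = e := by
    intro p e m hp hm hpm heq
    rw [hcN, heq, Nat.factorization_mul (pow_ne_zero _ hp.ne_zero) hm, Finsupp.add_apply, hp.factorization_pow,
      Finsupp.single_eq_same, Nat.factorization_eq_zero_of_not_dvd hpm, add_zero]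
  rw [hfac 2 7 25515 Nat.prime_two (by norm_num) (by norm_num) (by norm_num), hcN,
    show gal 2 7 = 29211 by decide +kernel] at c2
  rw [hfac 3 6 4480 Nat.prime_three (by norm_num) (by norm_num) (by norm_num), hcN,
    show gal 3 6 = 56631 by decide +kernel] at c3
  rw [hfac 5 1 653184 Nat.prime_five (by norm_num) (by norm_num) (by norm_num), hcN,
    show gal 5 1 = 1 by decide +kernel] at c5
  rw [hfac 7 1 466560 (by norm_num) (by norm_num) (by norm_num) (by norm_num), hcN,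
    show gal 7 1 = 1 by decide +kernel] at c7
  norm_num only [_root_.ne_eq] at c2 c3 c5 c7
  have u1 := Set.ncard_union_le {X : Subgroup N | ElAb 2 X ∧ X ≠ ⊥} {X : Subgroup N | ElAb 3 X ∧ X ≠ ⊥}
  have u2 := Set.ncard_union_le {X : Subgroup N | ElAb 5 X ∧ X ≠ ⊥} {X : Subgroup N | ElAb 7 X ∧ X ≠ ⊥}
  have u3 := Set.ncard_union_le ({X : Subgroup N | ElAb 2 X ∧ X ≠ ⊥} ∪ {X : Subgroup N | ElAb 3 X ∧ X ≠ ⊥})
    ({X : Subgroup N | ElAb 5 X ∧ X ≠ ⊥} ∪ {X : Subgroup N | ElAb 7 X ∧ X ≠ ⊥})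
  have u4 := Set.ncard_union_le (({X : Subgroup N | ElAb 2 X ∧ X ≠ ⊥} ∪ {X : Subgroup N | ElAb 3 X ∧ X ≠ ⊥}) ∪
    ({X : Subgroup N | ElAb 5 X ∧ X ≠ ⊥} ∪ {X : Subgroup N | ElAb 7 X ∧ X ≠ ⊥}))
    {X : Subgroup N | IsSimpleGroup X ∧ ¬ Group.IsSolvable X}
  refine (Set.ncard_le_ncard hsub (Set.toFinite _)).trans ?_
  simp only [ne_eq] at *
  omega

/-- the bound of the index -/
theorem index_le (hsQ : IsSimpleGroup Q)
    (hgen : ∀ X : Subgroup N, IsSimpleGroup X → ∃ a b : X, _root_.Subgroup.closure ({a, b} : Set X) = ⊤)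
    (hsm : ∀ X : Subgroup N, IsSimpleGroup X → ¬ Group.IsSolvable X → Nat.card X < 360 →
      Nat.card X = 60 ∨ Nat.card X = 168) : A.index ≤ 174 * 10 ^ 14 := by
  have hk0 : 0 < k := Nat.pos_of_dvd_of_pos hk (by norm_num)
  have h1 := Cfsg.Agent.H173.EP.ub1 hsQ h (μ := 12 * k) (by omega) (fun x hx => by
    obtain ⟨_, -, -, h2, -⟩ := key h hNA hN hC hs hcN hk hcA hx
    have h3 := card_le_M h hNA hN hC hs hx
    rw [hcA, mul_assoc] at h3
    have h4 := Nat.le_of_mul_le_mul_left h3 Nat.card_pos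
    linarith only [h4, Nat.mul_le_mul_left k h2])
  have h2 := ncard_M0 h hNA hN hC hs hcN hk hcA hgen hsm
  have h3 : Nat.card A / (12 * k) = 272160 := by
    rw [hcA, hcN]
    exact Nat.div_eq_of_eq_mul_left (by omega) (by ring)
  rw [h3] at h1
  refine h1.trans ?_
  have h4 := Nat.mul_le_mul_right (2 * 272160) h2
  omega

end Num

end Cfsg.Agent.H52.EP
end
end

-- part: H833/TenFive/Par
section
set_option linter.all false
open scoped Cfsg.Agent.FastGrp

/-!
# The parabolic step for extremely primitive groups (helper833, task 6155)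

`A` a maximal subgroup with `EPT A Γ`, `N ≤ A` a `Γ`-invariant simple group with a filtered root group datum of
characteristic `p`, `U` a Sylow `p`-subgroup of `N` and `x ∉ A` with `U ≤ A^x`. Then `N_N(U) ≤ A^x`
(`normalizer_le_cj`).
-/

set_option autoImplicit false
set_option linter.unusedSectionVars false

namespace Cfsg.Agent.H833.TenFive

open CoxeterSystem Cfsg.Agent.ChevalleyStructure.CoxeterGeom Cfsg.Agent.Tits.Roots Cfsg.Agent.Tits.Core
  Cfsg.Agent.Tits.RootComb Cfsg.Agent.Tits.Exchange Cfsg.Agent.Nodes.Reps Cfsg.Agent.Nodes.BNOf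
  Cfsg.Agent.Nodes.StabComb Cfsg.Agent.Nodes.Bruhat Cfsg.Agent.Nodes.OppDec Cfsg.Agent.Nodes.LeviDec
  Cfsg.Agent.Nodes.Coroot Cfsg.Agent.KFacts.RgdPar Cfsg.Agent.KFacts.RgdSL Cfsg.Agent.KFacts.RgdVJ
  Cfsg.Agent.KFacts.RgdCharP Cfsg.Agent.KFacts.RgdFilt

/-- `S` is a maximal `p`-subgroup -/
def MaxP {G : Type*} [Group G] (p : ℕ) (S : Subgroup G) : Prop :=
  IsPGroup p S ∧ ∀ P : Subgroup G, IsPGroup p P → S ≤ P → P = S

section

variable {G : Type*} [Group G] {p : ℕ}

theorem MaxP.exists_sylow {S : Subgroup G} (hS : MaxP p S) : ∃ P : Sylow p G, (P : Subgroup G) = S :=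
  ⟨⟨S, hS.1, fun h1 h2 => hS.2 _ h1 h2⟩, rfl⟩

theorem maxP_of_sylow (P : Sylow p G) : MaxP p (P : Subgroup G) :=
  ⟨P.2, fun _ h1 h2 => P.3 h1 h2⟩

theorem MaxP.cj {S : Subgroup G} (hS : MaxP p S) (g : G) : MaxP p (cj g S) := by
  refine ⟨hS.1.map _, fun P hP h1 => ?_⟩
  have h2 := hS.2 (Nodes.Reps.cj g⁻¹ P) (hP.map _) (by
    have := cj_mono g⁻¹ h1
    rwa [cj_inv_cj] at this)
  rw [← h2, cj_cj_inv]

theorem MaxP.conj_in [Finite G] [Fact p.Prime] {S S' K : Subgroup G} (hS : MaxP p S) (hS' : MaxP p S') (h : S ≤ K)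
    (h' : S' ≤ K) : ∃ k ∈ K, S' = Nodes.Reps.cj k S := by
  have key : ∀ {T : Subgroup G}, MaxP p T → T ≤ K → ∃ P : Sylow p K, (P : Subgroup K) = T.subgroupOf K := by
    intro T hT hTK
    refine ⟨⟨T.subgroupOf K, hT.1.comap_subtype, fun {Q} h1 h2 => ?_⟩, rfl⟩
    have h3 := hT.2 (Q.map K.subtype) (h1.map _) (by
      have := Subgroup.map_mono (f := K.subtype) h2
      rwa [Subgroup.subgroupOf_map_subtype, inf_eq_left.2 hTK] at this)
    rw [← h3]
    ext y
    rw [Subgroup.mem_subgroupOf]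
    exact (Subgroup.mem_map_iff_mem K.subtype_injective).symm
  obtain ⟨P, hP⟩ := key hS h
  obtain ⟨P', hP'⟩ := key hS' h'
  obtain ⟨k, hk⟩ := MulAction.exists_smul_eq K P P'
  refine ⟨k, k.2, ?_⟩
  have h1 : (P' : Subgroup K) = (P : Subgroup K).map (MulAut.conj k).toMonoidHom := by
    rw [← hk]; rfl
  rw [hP, hP'] at h1
  have h2 := congrArg (Subgroup.map K.subtype) h1
  rw [Subgroup.subgroupOf_map_subtype, inf_eq_left.2 h', Subgroup.map_map] at h2
  rw [h2]
  ext y
  constructor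
  · rintro ⟨a, ha, rfl⟩
    exact ⟨a, ha, rfl⟩
  · rintro ⟨a, ha, rfl⟩
    exact ⟨⟨a, h ha⟩, ha, rfl⟩

end

/-- the parabolic step inside `N` -/
theorem exists_par {N : Type*} [Group N] [Finite N] [IsSimpleGroup N] {p : ℕ} [Fact p.Prime] (hN : HasFilt p N)
    (hc : ∃ a b : N, a * b ≠ b * a) {K U : Subgroup N} (hK : K ≠ ⊤) (hU : MaxP p U) (hUK : U ≤ K) :
    U ≠ ⊥ ∧ ∃ P : Subgroup N, P ≠ ⊤ ∧ K ≤ P ∧ (∀ φ : MulAut N, (∀ k ∈ K, φ k ∈ K) → ∀ x ∈ P, φ x ∈ P) ∧
      (P ≤ K → ∀ g : N, (∀ u ∈ U, g * u * g⁻¹ ∈ U) → g ∈ K) := by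
  obtain ⟨l, M, A, h, T, n, X, R, hW, hBT, hGG, -, hconn, hX, hl⟩ := hN.data hc
  have hP0 : MaxP p (RGD.Sup X (RGD.Pos M.toCoxeterSystem h)) := by
    refine ⟨R.isPGroup_Upos, fun P hP h1 => ?_⟩
    exact KFacts.RgdEx.eq_U R h1 (by rw [hGG]; exact le_top) hP
  obtain ⟨g, -, hg⟩ := MaxP.conj_in (K := ⊤) hP0 hU le_top le_top
  have hV : cj g (VJ M.toCoxeterSystem h X ∅) ≤ K := by
    unfold VJ
    rw [H470.EPK.NotJ_empty, ← hg]
    exact hUK
  have hne : (∅ : Set (Fin l)) ≠ Set.univ := by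
    intro h1
    have : (⟨0, hl⟩ : Fin l) ∈ (∅ : Set (Fin l)) := by rw [h1]; trivial
    exact this
  obtain ⟨J, g', hJ, h1, h2⟩ := H470.EPK.par_of_VJ R hBT hGG hX hconn hK hne hV
  have hUb : U ≠ ⊥ := by
    intro h3
    have h4 : RGD.Sup X (RGD.Pos M.toCoxeterSystem h) = ⊥ := by
      rw [← cj_inv_cj g (RGD.Sup X (RGD.Pos M.toCoxeterSystem h)), ← hg, h3]
      exact Subgroup.map_bot _
    have h5 : X (sr ⟨0, hl⟩) ≤ RGD.Sup X (RGD.Pos M.toCoxeterSystem h) :=
      RGD.le_Sup ⟨isRoot_sr M.toCoxeterSystem h ⟨0, hl⟩, sr_nonneg _⟩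
    exact X_ne_bot R (isRoot_sr M.toCoxeterSystem h ⟨0, hl⟩) (le_bot_iff.1 (h4 ▸ h5))
  refine ⟨hUb, cj g' (PJ M.toCoxeterSystem h T X J), ?_, h1, h2, ?_⟩
  · intro h3
    have hP : PJ M.toCoxeterSystem h T X J = Subgroup.normalizer (VJ M.toCoxeterSystem h X J : Set N) := by
      apply le_antisymm (PJ_le_normalizer_VJ R J)
      have h3 := normalizer_VJ R J
      rw [hGG, inf_top_eq] at h3
      exact h3.le
    have h4 : Subgroup.normalizer (VJ M.toCoxeterSystem h X J : Set N) = ⊤ := by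
      rw [← hP, ← cj_inv_cj g' (PJ M.toCoxeterSystem h T X J), h3, eq_top_iff]
      intro y _
      rw [mem_cj]
      trivial
    have h5 := Subgroup.normalizer_eq_top_iff.1 h4
    rcases h5.eq_bot_or_eq_top with h6 | h6
    · obtain ⟨i, hi⟩ : ∃ i, i ∉ J := by
        by_contra hcon
        push Not at hcon
        exact hJ (Set.eq_univ_of_forall hcon)
      have h7 : X (sr i) ≤ VJ M.toCoxeterSystem h X J := RGD.le_Sup (sr_mem_NotJ hi)
      exact X_ne_bot R (isRoot_sr M.toCoxeterSystem h i) (le_bot_iff.1 (h6 ▸ h7))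
    · have h7 : IsPGroup p (⊤ : Subgroup N) := h6 ▸ isPGroup_VJ R J
      have h8 : IsPGroup p N := h7.of_equiv Subgroup.topEquiv
      have h9 := h8.center_nontrivial
      rw [KFacts.RgdLieCharP.center_eq_bot hc] at h9
      exact not_nontrivial _ h9
  · intro hPK y hy
    have hUP : cj g' (RGD.Sup X (RGD.Pos M.toCoxeterSystem h)) ≤ K := by
      refine le_trans (cj_mono g' ?_) hPK
      exact le_trans (RGD.Sup_le fun x hx => RGD.X_le_B hx.1 hx.2) B_le_PJ
    obtain ⟨k, hk, e⟩ := MaxP.conj_in (hP0.cj g') hU hUP hUK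
    have h3 : y ∈ Subgroup.normalizer (U : Set N) := by
      rw [mem_normalizer_iff_cj]
      apply Subgroup.eq_of_le_of_card_ge
      · rintro _ ⟨u, hu, rfl⟩
        exact hy u hu
      · unfold cj
        rw [Subgroup.card_map_of_injective (MulAut.conj y).injective]
    rw [e, ← cj_mul, Nodes.NormX.normalizer_cj, KFacts.RgdAut.normalizer_U' R hGG] at h3
    have h4 : cj (k * g') (RGD.B M.toCoxeterSystem h T X) ≤ K := by
      rw [cj_mul]
      have h5 : cj g' (RGD.B M.toCoxeterSystem h T X) ≤ K := le_trans (cj_mono g' B_le_PJ) hPK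
      have h6 := cj_mono k h5
      rwa [cj_eq_of_mem hk] at h6
    exact h4 h3

/-- **The parabolic step** (H). -/
theorem normalizer_le_cj {Q : Type*} [Group Q] [Finite Q] {A : Subgroup Q} {Γ : Subgroup (MulAut Q)}
    (h : H284.EPT A Γ) {N : Subgroup Q} (hNs : IsSimpleGroup N) (hNA : N ≤ A) (hNΓ : ∀ σ ∈ Γ, ∀ k ∈ N, σ k ∈ N)
    {p : ℕ} [Fact p.Prime] (hN : HasFilt p N) (hc : ∃ a b : N, a * b ≠ b * a) {U : Subgroup N} (hU : MaxP p U)
    {x : Q} (hx : x ∉ A) (hUx : U.map N.subtype ≤ H284.cj x A) {g : N} (hg : ∀ u ∈ U, g * u * g⁻¹ ∈ U) :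
    (g : Q) ∈ H284.cj x A := by
  set K : Subgroup N := (H284.cj x A).subgroupOf N with hKd
  have hNb : N ≠ ⊥ := by
    intro e
    obtain ⟨a, b, hab⟩ := hc
    apply hab
    apply Subtype.ext
    have ha : (a : Q) = 1 := (Subgroup.eq_bot_iff_forall _).1 e a a.2
    have hb : (b : Q) = 1 := (Subgroup.eq_bot_iff_forall _).1 e b b.2
    show (a : Q) * b = b * a
    rw [ha, hb]
  have hK : K ≠ ⊤ := by
    intro e
    apply hNb
    refine h.F1 x hx N hNA hNΓ ?_
    rwa [hKd, Subgroup.subgroupOf_eq_top] at e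
  have hUK : U ≤ K := fun u hu => hUx ⟨u, hu, rfl⟩
  obtain ⟨hUb, P, hP1, hP2, hP3, hP4⟩ := exists_par hN hc hK hU hUK
  refine hP4 ?_ g hg
  -- the restriction of `σ ∈ Γ` to `N`
  have hres : ∀ σ ∈ Γ, ∃ φ : MulAut N, ∀ k : N, (φ k : Q) = σ k := by
    intro σ hσ
    refine ⟨⟨⟨fun k => ⟨σ k, hNΓ σ hσ k k.2⟩, fun k => ⟨σ⁻¹ k, hNΓ _ (Γ.inv_mem hσ) k k.2⟩, ?_, ?_⟩, ?_⟩,
      fun k => rfl⟩
    · intro k
      apply Subtype.ext
      exact MulAut.inv_apply_self Q σ k
    · intro k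
      apply Subtype.ext
      exact MulAut.apply_inv_self Q σ k
    · intro k l
      apply Subtype.ext
      exact map_mul σ (k : Q) l
  let L : Subgroup (MulAut Q) :=
    { carrier := {σ | σ ∈ Γ ∧ ∀ k ∈ P.map N.subtype, σ k ∈ P.map N.subtype}
      one_mem' := ⟨Γ.one_mem, fun k hk => hk⟩
      mul_mem' := fun {a b} ha hb => ⟨Γ.mul_mem ha.1 hb.1, fun k hk => ha.2 _ (hb.2 k hk)⟩
      inv_mem' := by
        intro a ha
        refine ⟨Γ.inv_mem ha.1, fun k hk => ?_⟩
        have h1 : (P.map N.subtype).map a.toMonoidHom = P.map N.subtype := by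
          apply Subgroup.eq_of_le_of_card_ge
          · rintro _ ⟨u, hu, rfl⟩
            exact ha.2 u hu
          · exact (Nat.card_congr ((P.map N.subtype).equivMapOfInjective a.toMonoidHom a.injective).toEquiv).le
        rw [← h1] at hk
        obtain ⟨u, hu, rfl⟩ := hk
        have : a⁻¹ (a.toMonoidHom u) = u := MulAut.inv_apply_self Q a u
        rw [this]
        exact hu }
  have hLΓ : L ≤ Γ := fun σ hσ => hσ.1
  have hxL : ∀ σ ∈ Γ, x⁻¹ * σ x ∈ A → σ ∈ L := by
    intro σ hσ hσx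
    refine ⟨hσ, ?_⟩
    obtain ⟨φ, hφ⟩ := hres σ hσ
    have hφK : ∀ k ∈ K, φ k ∈ K := by
      intro k hk
      rw [hKd, Subgroup.mem_subgroupOf, H284.mem_cj] at hk ⊢
      rw [hφ]
      have e1 : x⁻¹ * σ k * x = (x⁻¹ * σ x) * σ (x⁻¹ * k * x) * (x⁻¹ * σ x)⁻¹ := by
        rw [map_mul, map_mul, map_inv]
        group
      rw [e1]
      exact A.mul_mem (A.mul_mem hσx ((h.inv σ hσ _).2 hk)) (A.inv_mem hσx)
    rintro _ ⟨k, hk, rfl⟩
    exact ⟨φ k, hP3 φ hφK k hk, hφ k⟩
  rcases h.two x hx L hLΓ hxL with h1 | h1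
  · exfalso
    have hPn : P.Normal := by
      refine ⟨fun k hk a => ?_⟩
      have h2 : MulAut.conj (a : Q) ∈ L := by
        rw [h1]
        exact (h.conj a).2 (hNA a.2)
      obtain ⟨k', hk', e⟩ := h2.2 k ⟨k, hk, rfl⟩
      have e2 : k' = a * k * a⁻¹ := Subtype.ext e
      rw [← e2]
      exact hk'
    rcases hPn.eq_bot_or_eq_top with h2 | h2
    · exact hUb (le_bot_iff.1 (h2 ▸ hUK.trans hP2))
    · exact hP1 h2
  · intro y hy
    rw [hKd, Subgroup.mem_subgroupOf, H284.mem_cj]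
    have hyA : (y : Q) ∈ A := hNA y.2
    have h2 := h1 (MulAut.conj (y : Q)) ⟨(h.conj _).2 hyA, by
      rintro _ ⟨k, hk, rfl⟩
      exact ⟨y * k * y⁻¹, P.mul_mem (P.mul_mem hy hk) (P.inv_mem hy), rfl⟩⟩
    have e1 : x⁻¹ * y * x = (x⁻¹ * MulAut.conj (y : Q) x) * y := by
      rw [MulAut.conj_apply]
      group
    rw [e1]
    exact A.mul_mem h2 hyA

end Cfsg.Agent.H833.TenFive
end

-- part: H833/TenFive/ParJ
section
prune_inst 0x10000000400000
set_option linter.all false
open scoped Cfsg.Agent.FastGrp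

/-!
# The parabolic step with a given root group datum (helper833, task 6155)

* `par_le` : `A^x ∩ N` is the parabolic subgroup found by Borel–Tits (maximality of the stabiliser);
* `exists_sylow_cj` : `V_J ≤ A^x ∩ N` implies `V_J ≤ U^g ≤ A^x` for some `g ∈ N`.
-/

set_option autoImplicit false
set_option linter.unusedSectionVars false

namespace Cfsg.Agent.H833.TenFive

open CoxeterSystem Cfsg.Agent.ChevalleyStructure.CoxeterGeom Cfsg.Agent.Tits.Roots Cfsg.Agent.Tits.Core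
  Cfsg.Agent.Tits.RootComb Cfsg.Agent.Tits.Exchange Cfsg.Agent.Nodes.Reps Cfsg.Agent.Nodes.BNOf
  Cfsg.Agent.Nodes.StabComb Cfsg.Agent.Nodes.Bruhat Cfsg.Agent.Nodes.OppDec Cfsg.Agent.Nodes.LeviDec
  Cfsg.Agent.Nodes.Coroot Cfsg.Agent.KFacts.RgdPar Cfsg.Agent.KFacts.RgdSL Cfsg.Agent.KFacts.RgdVJ
  Cfsg.Agent.KFacts.RgdCharP Cfsg.Agent.KFacts.RgdFilt

/-- a `p`-subgroup lies in a conjugate of a Sylow subgroup -/
theorem MaxP.exists_ge {G : Type*} [Group G] [Finite G] {p : ℕ} [Fact p.Prime] {S V K : Subgroup G} (hS : MaxP p S)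
    (hSK : S ≤ K) (hV : IsPGroup p V) (hVK : V ≤ K) : ∃ k ∈ K, V ≤ Nodes.Reps.cj k S := by
  have key : ∃ P : Sylow p K, (P : Subgroup K) = S.subgroupOf K := by
    refine ⟨⟨S.subgroupOf K, hS.1.comap_subtype, fun {Q} h1 h2 => ?_⟩, rfl⟩
    have h3 := hS.2 (Q.map K.subtype) (h1.map _) (by
      have := Subgroup.map_mono (f := K.subtype) h2
      rwa [Subgroup.subgroupOf_map_subtype, inf_eq_left.2 hSK] at this)
    rw [← h3]
    ext y
    rw [Subgroup.mem_subgroupOf]
    exact (Subgroup.mem_map_iff_mem K.subtype_injective).symm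
  obtain ⟨P, hP⟩ := key
  obtain ⟨P', hP'⟩ := (hV.comap_subtype (K := K)).exists_le_sylow
  obtain ⟨k, hk⟩ := MulAction.exists_smul_eq K P P'
  refine ⟨k, k.2, ?_⟩
  have h1 : (P' : Subgroup K) = (P : Subgroup K).map (MulAut.conj k).toMonoidHom := by
    rw [← hk]; rfl
  intro y hy
  have h2 : (⟨y, hVK hy⟩ : K) ∈ (P' : Subgroup K) := hP' (show (⟨y, hVK hy⟩ : K) ∈ V.subgroupOf K from hy)
  rw [h1, hP] at h2
  obtain ⟨a, ha, e⟩ := h2
  exact ⟨a, ha, congrArg Subtype.val e⟩

section ept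

variable {Q : Type*} [Group Q] [Finite Q] {A : Subgroup Q} {Γ : Subgroup (MulAut Q)}

/-- `A^x ∩ N` is parabolic -/
theorem par_le (h : H284.EPT A Γ) {N : Subgroup Q} (hNs : IsSimpleGroup N) (hNA : N ≤ A)
    (hNΓ : ∀ σ ∈ Γ, ∀ k ∈ N, σ k ∈ N) {x : Q} (hx : x ∉ A) {P : Subgroup N} (hP0 : P ≠ ⊥) (hP1 : P ≠ ⊤)
    (hP3 : ∀ φ : MulAut N, (∀ k ∈ (H284.cj x A).subgroupOf N, φ k ∈ (H284.cj x A).subgroupOf N) →
      ∀ x ∈ P, φ x ∈ P) : P ≤ (H284.cj x A).subgroupOf N := by
  set K : Subgroup N := (H284.cj x A).subgroupOf N with hKd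
  -- the restriction of `σ ∈ Γ` to `N`
  have hres : ∀ σ ∈ Γ, ∃ φ : MulAut N, ∀ k : N, (φ k : Q) = σ k := by
    intro σ hσ
    refine ⟨⟨⟨fun k => ⟨σ k, hNΓ σ hσ k k.2⟩, fun k => ⟨σ⁻¹ k, hNΓ _ (Γ.inv_mem hσ) k k.2⟩, ?_, ?_⟩, ?_⟩,
      fun k => rfl⟩
    · intro k
      apply Subtype.ext
      exact MulAut.inv_apply_self Q σ k
    · intro k
      apply Subtype.ext
      exact MulAut.apply_inv_self Q σ k
    · intro k l
      apply Subtype.ext
      exact map_mul σ (k : Q) l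
  let L : Subgroup (MulAut Q) :=
    { carrier := {σ | σ ∈ Γ ∧ ∀ k ∈ P.map N.subtype, σ k ∈ P.map N.subtype}
      one_mem' := ⟨Γ.one_mem, fun k hk => hk⟩
      mul_mem' := fun {a b} ha hb => ⟨Γ.mul_mem ha.1 hb.1, fun k hk => ha.2 _ (hb.2 k hk)⟩
      inv_mem' := by
        intro a ha
        refine ⟨Γ.inv_mem ha.1, fun k hk => ?_⟩
        have h1 : (P.map N.subtype).map a.toMonoidHom = P.map N.subtype := by
          apply Subgroup.eq_of_le_of_card_ge
          · rintro _ ⟨u, hu, rfl⟩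
            exact ha.2 u hu
          · exact (Nat.card_congr ((P.map N.subtype).equivMapOfInjective a.toMonoidHom a.injective).toEquiv).le
        rw [← h1] at hk
        obtain ⟨u, hu, rfl⟩ := hk
        have : a⁻¹ (a.toMonoidHom u) = u := MulAut.inv_apply_self Q a u
        rw [this]
        exact hu }
  have hLΓ : L ≤ Γ := fun σ hσ => hσ.1
  have hxL : ∀ σ ∈ Γ, x⁻¹ * σ x ∈ A → σ ∈ L := by
    intro σ hσ hσx
    refine ⟨hσ, ?_⟩
    obtain ⟨φ, hφ⟩ := hres σ hσ
    have hφK : ∀ k ∈ K, φ k ∈ K := by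
      intro k hk
      rw [hKd, Subgroup.mem_subgroupOf, H284.mem_cj] at hk ⊢
      rw [hφ]
      have e1 : x⁻¹ * σ k * x = (x⁻¹ * σ x) * σ (x⁻¹ * k * x) * (x⁻¹ * σ x)⁻¹ := by
        rw [map_mul, map_mul, map_inv]
        group
      rw [e1]
      exact A.mul_mem (A.mul_mem hσx ((h.inv σ hσ _).2 hk)) (A.inv_mem hσx)
    rintro _ ⟨k, hk, rfl⟩
    exact ⟨φ k, hP3 φ hφK k hk, hφ k⟩
  rcases h.two x hx L hLΓ hxL with h1 | h1
  · exfalso
    have hPn : P.Normal := by
      refine ⟨fun k hk a => ?_⟩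
      have h2 : MulAut.conj (a : Q) ∈ L := by
        rw [h1]
        exact (h.conj a).2 (hNA a.2)
      obtain ⟨k', hk', e⟩ := h2.2 k ⟨k, hk, rfl⟩
      have e2 : k' = a * k * a⁻¹ := Subtype.ext e
      rw [← e2]
      exact hk'
    rcases hPn.eq_bot_or_eq_top with h2 | h2
    · exact hP0 h2
    · exact hP1 h2
  · intro y hy
    rw [hKd, Subgroup.mem_subgroupOf, H284.mem_cj]
    have hyA : (y : Q) ∈ A := hNA y.2
    have h2 := h1 (MulAut.conj (y : Q)) ⟨(h.conj _).2 hyA, by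
      rintro _ ⟨k, hk, rfl⟩
      exact ⟨y * k * y⁻¹, P.mul_mem (P.mul_mem hy hk) (P.inv_mem hy), rfl⟩⟩
    have e1 : x⁻¹ * y * x = (x⁻¹ * MulAut.conj (y : Q) x) * y := by
      rw [MulAut.conj_apply]
      group
    rw [e1]
    exact A.mul_mem h2 hyA

variable {I W : Type*} [Fintype I] [DecidableEq I] [Group W] {M : CoxeterMatrix I}
  {cs : CoxeterSystem M W} {C : I → I → ℤ} {hC : IsCartan M C} {p : ℕ} {N : Subgroup Q} {T : Subgroup N} {n : I → N}
  {X : (I → ℤ) → Subgroup N}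

/-- **Borel–Tits for the stabilisers of two points.** -/
theorem exists_sylow_cj (h : H284.EPT A Γ) (hNs : IsSimpleGroup N) (hNA : N ≤ A)
    (hNΓ : ∀ σ ∈ Γ, ∀ k ∈ N, σ k ∈ N) (hc : ∃ a b : N, a * b ≠ b * a) [Fact p.Prime] [Finite W]
    (R : RGD cs hC p T n X) (hBT : BT cs hC p T X) (hGG : GG cs hC T X = ⊤)
    (hX : RGD.Sup X {x | IsRoot cs hC x} = ⊤) (hconn : Conn M) {J : Set I} (hJ : J ≠ Set.univ) {g : N} {x : Q}
    (hx : x ∉ A) (hV : Nodes.Reps.cj g (VJ cs hC X J) ≤ (H284.cj x A).subgroupOf N) :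
    ∃ g' : N, Nodes.Reps.cj g (VJ cs hC X J) ≤ Nodes.Reps.cj g' (RGD.Sup X (RGD.Pos cs hC)) ∧
      Nodes.Reps.cj g' (RGD.Sup X (RGD.Pos cs hC)) ≤ (H284.cj x A).subgroupOf N := by
  have hVne : ∀ {J : Set I}, J ≠ Set.univ → VJ cs hC X J ≠ ⊥ := by
    intro J hJ e
    obtain ⟨i, hi⟩ : ∃ i, i ∉ J := by
      by_contra hcon
      push Not at hcon
      exact hJ (Set.eq_univ_of_forall hcon)
    have h7 : X (sr i) ≤ VJ cs hC X J := RGD.le_Sup (sr_mem_NotJ hi)
    exact X_ne_bot R (isRoot_sr cs hC i) (le_bot_iff.1 (e ▸ h7))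
  have hNb : N ≠ ⊥ := by
    intro e
    obtain ⟨a, b, hab⟩ := hc
    apply hab
    apply Subtype.ext
    have ha : (a : Q) = 1 := (Subgroup.eq_bot_iff_forall _).1 e a a.2
    have hb : (b : Q) = 1 := (Subgroup.eq_bot_iff_forall _).1 e b b.2
    show (a : Q) * b = b * a
    rw [ha, hb]
  have hK : (H284.cj x A).subgroupOf N ≠ ⊤ := by
    intro e
    apply hNb
    refine h.F1 x hx N hNA hNΓ ?_
    rwa [Subgroup.subgroupOf_eq_top] at e
  obtain ⟨J', g', hJ', h1, h2⟩ := H470.EPK.par_of_VJ R hBT hGG hX hconn hK hJ hV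
  have hP1 : Nodes.Reps.cj g' (PJ cs hC T X J') ≠ ⊤ := by
    intro h3
    have hP : PJ cs hC T X J' = Subgroup.normalizer (VJ cs hC X J' : Set N) := by
      apply le_antisymm (PJ_le_normalizer_VJ R J')
      have h3 := normalizer_VJ R J'
      rw [hGG, inf_top_eq] at h3
      exact h3.le
    have h4 : Subgroup.normalizer (VJ cs hC X J' : Set N) = ⊤ := by
      rw [← hP, ← cj_inv_cj g' (PJ cs hC T X J'), h3, eq_top_iff]
      intro y _
      rw [mem_cj]
      trivial
    have h5 := Subgroup.normalizer_eq_top_iff.1 h4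
    rcases h5.eq_bot_or_eq_top with h6 | h6
    · exact hVne hJ' h6
    · have h7 : IsPGroup p (⊤ : Subgroup N) := h6 ▸ isPGroup_VJ R J'
      have h8 : IsPGroup p N := h7.of_equiv Subgroup.topEquiv
      have h9 := h8.center_nontrivial
      rw [KFacts.RgdLieCharP.center_eq_bot hc] at h9
      exact not_nontrivial _ h9
  have hP0 : Nodes.Reps.cj g' (PJ cs hC T X J') ≠ ⊥ := by
    intro h3
    have h4 := le_bot_iff.1 (h3 ▸ hV.trans h1)
    apply hVne hJ
    rw [← cj_inv_cj g (VJ cs hC X J), h4]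
    exact Subgroup.map_bot _
  have hPK := par_le h hNs hNA hNΓ hx hP0 hP1 h2
  have hU0 : MaxP p (RGD.Sup X (RGD.Pos cs hC)) := by
    refine ⟨R.isPGroup_Upos, fun P hP h1 => ?_⟩
    exact KFacts.RgdEx.eq_U R h1 (by rw [hGG]; exact le_top) hP
  have hUP : Nodes.Reps.cj g' (RGD.Sup X (RGD.Pos cs hC)) ≤ (H284.cj x A).subgroupOf N := by
    refine le_trans (cj_mono g' ?_) hPK
    exact le_trans (RGD.Sup_le fun x hx => RGD.X_le_B hx.1 hx.2) B_le_PJ
  obtain ⟨k, hk, e⟩ := MaxP.exists_ge (hU0.cj g') hUP ((isPGroup_VJ R J).map (MulAut.conj g).toMonoidHom) hV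
  refine ⟨k * g', ?_, ?_⟩
  · rw [cj_mul]
    exact e
  · rw [cj_mul]
    have h6 := cj_mono k hUP
    rwa [cj_eq_of_mem hk] at h6

end ept

end Cfsg.Agent.H833.TenFive
end

-- part: H417/EP/AEight
section
prune_inst 0x4706c4400c0120000008586d1203c46ce000190002b0c00cde20e4006827f2b0d82af60fd801f074a028205003d0028025c00904040000004000600411d01a090aa7684b348a10ce6009f80a903000000000000000000000000000000051004200000000
set_option linter.all false
open scoped Cfsg.Agent.FastGrp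

-- part: H417/EP/AEightA
section
/-!
# S3499 (IV-L), `soc(A) = A₈`: maximal subgroups of `A₈` and `S₈` (helper417)

Intransitive and imprimitive subgroups; the order of a primitive subgroup; regular elementary abelian subgroups.
-/

set_option autoImplicit false

namespace Cfsg.Agent.H417.EP.A8

open Subgroup Equiv Equiv.Perm Cfsg.Agent.H839.EP
open scoped commutatorElement

/-- a primitive group of degree `8` not containing `A₈` contains no Sylow subgroup of `S₈` -/
theorem not_pow_dvd {L : Subgroup (Perm (Fin 8))} (hP : MulAction.IsPreprimitive L (Fin 8))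
    (hn : ¬ alternatingGroup (Fin 8) ≤ L) {p : ℕ} (hp : p.Prime) (hp7 : p ≤ 5) :
    ¬ p ^ ((Nat.factorial 8).factorization p) ∣ Nat.card L := by
  intro hd
  have hpf := Fact.mk hp
  have hc10 : Nat.card (Perm (Fin 8)) = Nat.factorial 8 := by
    rw [Nat.card_perm, Nat.card_eq_fintype_card, Fintype.card_fin]
  obtain ⟨c, hc⟩ : ∃ c : Perm (Fin 8), c.cycleType = {p} :=
    (Equiv.Perm.exists_with_cycleType_iff _).2 ⟨by
      simp only [Multiset.sum_singleton, Fintype.card_fin]; omega, by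
      intro a ha
      rw [Multiset.mem_singleton] at ha
      rw [ha]
      exact hp.two_le⟩
  have hcy : c.IsCycle := by rw [← card_cycleType_eq_one, hc]; simp
  have hsup : c.support.card = p := by rw [← sum_cycleType, hc]; simp
  have hord : orderOf c = p := by rw [hcy.orderOf, hsup]
  have hcp : IsPGroup p (zpowers c) := by
    refine IsPGroup.of_card (n := 1) ?_
    rw [Nat.card_zpowers, hord, pow_one]
  obtain ⟨S, hS⟩ := hcp.exists_le_sylow
  obtain ⟨P⟩ : Nonempty (Sylow p L) := inferInstance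
  have hcardP : Nat.card ((P : Subgroup L).map L.subtype : Subgroup (Perm (Fin 8))) =
      p ^ (Nat.card (Perm (Fin 8))).factorization p := by
    have h1 : Nat.card ((P : Subgroup L).map L.subtype : Subgroup (Perm (Fin 8))) = Nat.card P :=
      (Nat.card_congr ((P : Subgroup L).equivMapOfInjective L.subtype L.subtype_injective).toEquiv).symm
    rw [h1, P.card_eq_multiplicity]
    congr 1
    apply le_antisymm
    · exact (Nat.factorization_le_iff_dvd Nat.card_pos.ne' Nat.card_pos.ne').2 L.card_subgroup_dvd_card p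
    · rw [hc10]
      exact (hp.pow_dvd_iff_le_factorization Nat.card_pos.ne').1 hd
  obtain ⟨g, hg⟩ := MulAction.exists_smul_eq (Perm (Fin 8)) S (Sylow.ofCard _ hcardP)
  have h2 : g * c * g⁻¹ ∈ L := by
    have h3 : g * c * g⁻¹ ∈ ((Sylow.ofCard _ hcardP : Sylow p (Perm (Fin 8))) : Subgroup (Perm (Fin 8))) := by
      rw [← hg, Sylow.smul_def]
      refine ⟨c, hS (mem_zpowers c), rfl⟩
    obtain ⟨y, -, hy⟩ := h3
    rw [← hy]
    exact y.2
  apply hn
  refine Cfsg.Agent.S0713.result L hP hp (by simp) (by simp; omega) (g := g * c * g⁻¹) ?_ ?_ h2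
  · exact (card_cycleType_eq_one).1 (by rw [cycleType_conj, hc]; simp)
  · rw [card_support_conj, hsup]

theorem not_pow_dvd' {L : Subgroup (Perm (Fin 8))} (hP : MulAction.IsPreprimitive L (Fin 8))
    (hn : ¬ alternatingGroup (Fin 8) ≤ L) {p k : ℕ} (hp : p.Prime) (hp7 : p ≤ 5)
    (hk : ¬ p ^ (k + 1) ∣ Nat.factorial 8) : ¬ p ^ k ∣ Nat.card L := by
  intro hd
  apply not_pow_dvd hP hn hp hp7
  refine (Nat.pow_dvd_pow p ?_).trans hd
  by_contra hcon
  push Not at hcon
  exact hk ((hp.pow_dvd_iff_le_factorization (Nat.factorial_ne_zero 8)).2 hcon)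

/-- the order of a primitive group of degree `8` not containing `A₈` -/
theorem card_dvd {L : Subgroup (Perm (Fin 8))} (hP : MulAction.IsPreprimitive L (Fin 8))
    (hn : ¬ alternatingGroup (Fin 8) ≤ L) : Nat.card L ∣ 1344 := by
  have h5 : ¬ 5 ^ 1 ∣ Nat.card L := not_pow_dvd' hP hn (by norm_num) (by norm_num) (by decide)
  have h9 : ¬ 3 ^ 2 ∣ Nat.card L := not_pow_dvd' hP hn (by norm_num) (by norm_num) (by decide)
  have h2 : ¬ 2 ^ 7 ∣ Nat.card L := not_pow_dvd' hP hn (by norm_num) (by norm_num) (by decide)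
  have hL : Nat.card L ∣ 2 ^ 7 * (3 ^ 2 * (5 * 7)) := by
    have h1 := L.card_subgroup_dvd_card
    rw [Nat.card_perm, Nat.card_fin] at h1
    exact h1
  obtain ⟨y, z, hy, hz, hyz⟩ := Nat.dvd_mul.1 hL
  obtain ⟨z1, z2, hz1, hz2, hz12⟩ := Nat.dvd_mul.1 hz
  obtain ⟨z3, z4, hz3, hz4, hz34⟩ := Nat.dvd_mul.1 hz2
  obtain ⟨a, ha, rfl⟩ := (Nat.dvd_prime_pow (by norm_num)).1 hy
  obtain ⟨b, hb, rfl⟩ := (Nat.dvd_prime_pow (by norm_num)).1 hz1
  have ha7 : a ≠ 7 := by
    rintro rfl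
    exact h2 (Dvd.intro _ hyz)
  have hb2 : b ≠ 2 := by
    rintro rfl
    exact h9 ⟨2 ^ a * z2, by rw [← hyz, ← hz12]; ring⟩
  have hz35 : z3 ≠ 5 := by
    rintro rfl
    exact h5 ⟨2 ^ a * (3 ^ b * z4), by rw [← hyz, ← hz12, ← hz34]; ring⟩
  have hz31 : z3 = 1 := by
    rcases (Nat.dvd_prime (by norm_num)).1 hz3 with h | h
    · exact h
    · exact absurd h hz35
  rw [← hyz, ← hz12, ← hz34, hz31, one_mul, show (1344 : ℕ) = 2 ^ 6 * (3 ^ 1 * 7) by norm_num]
  exact Nat.mul_dvd_mul (Nat.pow_dvd_pow 2 (by omega)) (Nat.mul_dvd_mul (Nat.pow_dvd_pow 3 (by omega)) hz4)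

/-- a nontrivial normal subgroup of a primitive group is transitive -/
theorem trans_of_normal {L : Subgroup (Perm (Fin 8))} (_hP : MulAction.IsPreprimitive L (Fin 8)) (N : Subgroup L)
    (_hN : N.Normal) (hne : N ≠ ⊥) : MulAction.IsPretransitive N (Fin 8) := by
  apply MulAction.IsQuasiPreprimitive.isPretransitive_of_normal (G := L)
  intro h1
  apply hne
  rw [Subgroup.eq_bot_iff_forall]
  intro g hg
  apply Subtype.ext
  ext i
  have h2 : i ∈ MulAction.fixedPoints N (Fin 8) := by rw [h1]; exact Set.mem_univ i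
  have h3 := h2 ⟨g, hg⟩
  rw [show ((⟨g, hg⟩ : N) • i) = (g : Perm (Fin 8)) i from rfl] at h3
  rw [h3]
  rfl

theorem eight_dvd_of_trans {N : Type*} [Group N] [Finite N] [MulAction N (Fin 8)] (h : MulAction.IsPretransitive N (Fin 8)) :
    8 ∣ Nat.card N := by
  have h1 := MulAction.index_stabilizer_of_transitive N (0 : Fin 8)
  rw [Nat.card_eq_fintype_card, Fintype.card_fin] at h1
  rw [← h1]
  exact Subgroup.index_dvd_card _

/-- transitive groups with corresponding point stabilisers are conjugate -/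
theorem conj_of_stab {X₁ X₂ : Subgroup (Perm (Fin 8))} (h1 : MulAction.IsPretransitive X₁ (Fin 8))
    (h2 : MulAction.IsPretransitive X₂ (Fin 8)) (φ : X₁ ≃* X₂) (a b : Fin 8)
    (hst : ∀ x : X₁, (x : Perm (Fin 8)) a = a ↔ ((φ x : X₂) : Perm (Fin 8)) b = b) :
    ∃ f : Perm (Fin 8), X₂ = X₁.map (MulAut.conj f).toMonoidHom := by
  have hex : ∀ i : Fin 8, ∃ x : X₁, (x : Perm (Fin 8)) a = i := fun i => h1.exists_smul_eq a i
  choose x hx using hex
  let g : Fin 8 → Fin 8 := fun i => ((φ (x i) : X₂) : Perm (Fin 8)) b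
  have key : ∀ y z : X₁, (y : Perm (Fin 8)) a = (z : Perm (Fin 8)) a ↔
      ((φ y : X₂) : Perm (Fin 8)) b = ((φ z : X₂) : Perm (Fin 8)) b := by
    intro y z
    have h3 := hst (z⁻¹ * y)
    have e1 : ((z⁻¹ * y : X₁) : Perm (Fin 8)) a = a ↔ (y : Perm (Fin 8)) a = (z : Perm (Fin 8)) a := by
      show (z : Perm (Fin 8))⁻¹ ((y : Perm (Fin 8)) a) = a ↔ _
      rw [Perm.inv_eq_iff_eq]
    have e2 : ((φ (z⁻¹ * y) : X₂) : Perm (Fin 8)) b = b ↔
        ((φ y : X₂) : Perm (Fin 8)) b = ((φ z : X₂) : Perm (Fin 8)) b := by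
      rw [map_mul, map_inv]
      show ((φ z : X₂) : Perm (Fin 8))⁻¹ (((φ y : X₂) : Perm (Fin 8)) b) = b ↔ _
      rw [Perm.inv_eq_iff_eq]
    rw [← e1, ← e2]
    exact h3
  have hgi : Function.Injective g := by
    intro i j hij
    have h3 := (key (x i) (x j)).2 hij
    rw [hx, hx] at h3
    exact h3
  let f : Perm (Fin 8) := Equiv.ofBijective g (Finite.injective_iff_bijective.1 hgi)
  have hf : ∀ i, f i = ((φ (x i) : X₂) : Perm (Fin 8)) b := fun i => rfl
  have heq : ∀ y : X₁, ((φ y : X₂) : Perm (Fin 8)) * f = f * y := by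
    intro y
    ext i
    congr 1
    show ((φ y : X₂) : Perm (Fin 8)) (f i) = f ((y : Perm (Fin 8)) i)
    rw [hf, hf]
    have h3 := (key (y * x i) (x ((y : Perm (Fin 8)) i))).1 (by
      rw [hx]
      show (y : Perm (Fin 8)) ((x i : Perm (Fin 8)) a) = _
      rw [hx])
    rw [map_mul] at h3
    exact h3
  refine ⟨f, ?_⟩
  ext z
  constructor
  · intro hz
    refine ⟨(φ.symm ⟨z, hz⟩ : X₁), (φ.symm ⟨z, hz⟩).2, ?_⟩
    show f * (φ.symm ⟨z, hz⟩ : X₁) * f⁻¹ = z
    rw [← heq, φ.apply_symm_apply]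
    group
  · rintro ⟨y, hy, rfl⟩
    show f * y * f⁻¹ ∈ X₂
    rw [show f * y = ((φ ⟨y, hy⟩ : X₂) : Perm (Fin 8)) * f from (heq ⟨y, hy⟩).symm, mul_inv_cancel_right]
    exact (φ ⟨y, hy⟩).2

/-- the number of conjugates -/
theorem ncard_class_le {G : Type*} [Group G] [Finite G] (X : Subgroup G) :
    {Y : Subgroup G | ∃ f : G, Y = X.map (MulAut.conj f).toMonoidHom}.ncard ≤ X.index := by
  have h1 : {Y : Subgroup G | ∃ f : G, Y = X.map (MulAut.conj f).toMonoidHom} ⊆
      (fun c : G ⧸ X => X.map (MulAut.conj c.out).toMonoidHom) '' Set.univ := by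
    rintro _ ⟨f, rfl⟩
    refine ⟨(f : G ⧸ X), Set.mem_univ _, ?_⟩
    obtain ⟨y, hy⟩ := QuotientGroup.mk_out_eq_mul X f
    show X.map (MulAut.conj (f : G ⧸ X).out).toMonoidHom = _
    rw [hy]
    have key : ∀ (f : G) (y : X), X.map (MulAut.conj (f * y)).toMonoidHom ≤ X.map (MulAut.conj f).toMonoidHom := by
      rintro f y _ ⟨z, hz, rfl⟩
      refine ⟨y * z * y⁻¹, X.mul_mem (X.mul_mem y.2 hz) (X.inv_mem y.2), ?_⟩
      show f * (y * z * (y : G)⁻¹) * f⁻¹ = f * y * z * (f * y)⁻¹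
      group
    apply le_antisymm (key f y)
    have h2 := key (f * y) y⁻¹
    rw [show f * (y : G) * ((y⁻¹ : X) : G) = f by simp] at h2
    exact h2
  refine (Set.ncard_le_ncard h1 (Set.toFinite _)).trans ((Set.ncard_image_le Set.finite_univ).trans ?_)
  rw [Set.ncard_univ]
  exact le_rfl

open scoped Pointwise

theorem case_orbit {G L : Subgroup (Perm (Fin 8))} (hG : alternatingGroup (Fin 8) ≤ G) (hL : MaxNot G L)
    (ht : ¬ MulAction.IsPretransitive L (Fin 8)) :
    ∃ Δ : Set (Fin 8), L = G ⊓ MulAction.stabilizer (Perm (Fin 8)) Δ := by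
  obtain ⟨i, j, hij⟩ : ∃ i j : Fin 8, ∀ g ∈ L, g i ≠ j := by
    by_contra hcon
    push Not at hcon
    apply ht
    refine ⟨fun i j => ?_⟩
    obtain ⟨g, hg, h1⟩ := hcon i j
    exact ⟨⟨g, hg⟩, h1⟩
  refine ⟨{k | ∃ g ∈ L, g i = k}, hL.eq_inf hG ?_ ?_⟩
  · intro g hg
    rw [MulAction.mem_stabilizer_set]
    intro b
    constructor
    · rintro ⟨h, hh, h1⟩
      refine ⟨g⁻¹ * h, L.mul_mem (L.inv_mem hg) hh, ?_⟩
      rw [Perm.mul_apply, h1, Perm.smul_def]
      exact g.symm_apply_apply b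
    · rintro ⟨h, hh, rfl⟩
      exact ⟨g * h, L.mul_mem hg hh, rfl⟩
  · intro hle
    have h1 := alternatingGroup.isPretransitive_of_three_le_card (Fin 8) (by simp)
    obtain ⟨a, ha⟩ := h1.exists_smul_eq i j
    have h2 := MulAction.mem_stabilizer_set.1 (hle a.2) i
    obtain ⟨g, hg, h3⟩ := h2.2 ⟨1, one_mem _, rfl⟩
    exact hij g hg (h3.trans ha)

theorem case_four {G L : Subgroup (Perm (Fin 8))} (hG : alternatingGroup (Fin 8) ≤ G) (hL : MaxNot G L)
    {B : Set (Fin 8)} (hB : MulAction.IsBlock L B) (h5 : B.ncard = 4) :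
    L = G ⊓ MulAction.stabilizer (Perm (Fin 8)) ({B, Bᶜ} : Set (Set (Fin 8))) := by
  have hBc : Bᶜ.ncard = 4 := by
    have := Set.ncard_add_ncard_compl B
    rw [h5, Nat.card_fin] at this
    omega
  refine hL.eq_inf hG ?_ ?_
  · intro g hg
    rw [MulAction.mem_stabilizer_iff, Set.smul_set_insert, Set.smul_set_singleton, Set.smul_set_compl]
    rcases MulAction.isBlock_iff_smul_eq_or_disjoint.1 hB ⟨g, hg⟩ with h1 | h1
    · have h2 : g • B = B := h1
      rw [h2]
    · have h2 : g • B = Bᶜ := by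
        refine Set.eq_of_subset_of_ncard_le (Set.disjoint_left.1 h1) ?_
        rw [hBc, Set.ncard_smul_set, h5]
      rw [h2, compl_compl, Set.pair_comm]
  · intro hle
    have h1 := alternatingGroup.isPreprimitive_of_three_le_card (Fin 8) (by simp)
    have h2 : MulAction.IsBlock (alternatingGroup (Fin 8)) B := by
      rw [MulAction.isBlock_iff_smul_eq_or_disjoint]
      intro g
      have h3 := MulAction.mem_stabilizer_iff.1 (hle g.2)
      have h4 : (g : Perm (Fin 8)) • B ∈ ({B, Bᶜ} : Set (Set (Fin 8))) := by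
        rw [← h3]
        exact Set.smul_mem_smul_set (Set.mem_insert _ _)
      rcases h4 with h4 | h4
      · exact Or.inl h4
      · right
        have h5 : g • B = Bᶜ := h4
        rw [h5]
        exact disjoint_compl_left
    rcases h1.isTrivialBlock_of_isBlock h2 with h3 | h3
    · have := Set.ncard_le_one_iff_subsingleton.2 h3
      omega
    · rw [h3, Set.ncard_univ, Nat.card_fin] at h5
      omega

theorem case_two {G L : Subgroup (Perm (Fin 8))} (hG : alternatingGroup (Fin 8) ≤ G) (hL : MaxNot G L)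
    (ht : MulAction.IsPretransitive L (Fin 8)) {B : Set (Fin 8)} (hB : MulAction.IsBlock L B) (h2 : B.ncard = 2) :
    ∃ τ : Perm (Fin 8), τ.cycleType = Multiset.replicate 4 2 ∧ L = G ⊓ centralizer ({τ} : Set (Perm (Fin 8))) := by
  obtain ⟨i₀, j₀, hne, rfl⟩ := Set.ncard_eq_two.1 h2
  have hex : ∀ i : Fin 8, ∃ g : L, (g : Perm (Fin 8)) i₀ = i := fun i => ht.exists_smul_eq i₀ i
  choose g hg using hex
  -- the translates
  have hsm : ∀ x : L, x • ({i₀, j₀} : Set (Fin 8)) = {(x : Perm (Fin 8)) i₀, (x : Perm (Fin 8)) j₀} := by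
    intro x
    rw [Set.smul_set_insert, Set.smul_set_singleton]
    rfl
  have htr : ∀ x y : L, (∃ k, k ∈ ({(x : Perm (Fin 8)) i₀, (x : Perm (Fin 8)) j₀} : Set (Fin 8)) ∧
      k ∈ ({(y : Perm (Fin 8)) i₀, (y : Perm (Fin 8)) j₀} : Set (Fin 8))) →
      ({(x : Perm (Fin 8)) i₀, (x : Perm (Fin 8)) j₀} : Set (Fin 8)) = {(y : Perm (Fin 8)) i₀, (y : Perm (Fin 8)) j₀} := by
    rintro x y ⟨k, h3, h4⟩
    by_contra hcon
    rw [← hsm, ← hsm] at hcon
    have h5 := hB hcon
    rw [hsm, hsm] at h5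
    exact Set.disjoint_left.1 h5 h3 h4
  have hij : ∀ x : L, (x : Perm (Fin 8)) i₀ ≠ (x : Perm (Fin 8)) j₀ := fun x e => hne ((x : Perm (Fin 8)).injective e)
  let τ : Fin 8 → Fin 8 := fun i => (g i : Perm (Fin 8)) j₀
  have h1 : ∀ x : L, (x : Perm (Fin 8)) j₀ = τ ((x : Perm (Fin 8)) i₀) := by
    intro x
    have h3 := htr x (g ((x : Perm (Fin 8)) i₀)) ⟨(x : Perm (Fin 8)) i₀, Set.mem_insert _ _, by
      rw [hg]; exact Set.mem_insert _ _⟩
    have h4 : (x : Perm (Fin 8)) j₀ ∈ ({(g ((x : Perm (Fin 8)) i₀) : Perm (Fin 8)) i₀,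
      (g ((x : Perm (Fin 8)) i₀) : Perm (Fin 8)) j₀} : Set (Fin 8)) := by
      rw [← h3]; exact Set.mem_insert_of_mem _ rfl
    rcases h4 with h4 | h4
    · rw [hg] at h4
      exact absurd h4.symm (hij x)
    · exact h4
  have h1' : ∀ x : L, (x : Perm (Fin 8)) i₀ = τ ((x : Perm (Fin 8)) j₀) := by
    intro x
    have h3 := htr x (g ((x : Perm (Fin 8)) j₀)) ⟨(x : Perm (Fin 8)) j₀, Set.mem_insert_of_mem _ rfl, by
      rw [hg]; exact Set.mem_insert _ _⟩
    have h4 : (x : Perm (Fin 8)) i₀ ∈ ({(g ((x : Perm (Fin 8)) j₀) : Perm (Fin 8)) i₀,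
      (g ((x : Perm (Fin 8)) j₀) : Perm (Fin 8)) j₀} : Set (Fin 8)) := by
      rw [← h3]; exact Set.mem_insert _ _
    rcases h4 with h4 | h4
    · rw [hg] at h4
      exact absurd h4 (hij x)
    · exact h4
  have hinv : Function.Involutive τ := by
    intro i
    have h3 := h1' (g i)
    rw [hg] at h3
    exact h3.symm
  have hfix : ∀ i, τ i ≠ i := by
    intro i h3
    have h4 := hij (g i)
    rw [hg] at h4
    exact h4 h3.symm
  let T : Perm (Fin 8) := Function.Involutive.toPerm τ hinv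
  have hτ : ∀ i, T i = τ i := fun i => rfl
  refine ⟨T, ?_, hL.eq_inf hG ?_ ?_⟩
  · have hp : Fact (Nat.Prime 2) := ⟨Nat.prime_two⟩
    have h3 : T ^ 2 = 1 := by
      ext i
      rw [pow_two, Perm.mul_apply, hτ, hτ, hinv]
      rfl
    have h4 := cycleType_of_pow_prime_eq_one h3
    have h5 : T.support = Finset.univ := by
      ext i
      rw [mem_support, hτ]
      simp only [Finset.mem_univ, iff_true]
      exact hfix i
    have h6 := sum_cycleType T
    rw [h5, Finset.card_univ, Fintype.card_fin, h4, Multiset.sum_replicate, smul_eq_mul] at h6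
    rw [h4]
    congr 1
    omega
  · intro x hx
    rw [mem_centralizer_singleton_iff]
    ext i
    congr 1
    change x (τ i) = τ (x i)
    have h3 := h1 (⟨x, hx⟩ * g i)
    have h4 : ((⟨x, hx⟩ * g i : L) : Perm (Fin 8)) i₀ = x i := by
      show x ((g i : Perm (Fin 8)) i₀) = x i
      rw [hg]
    rw [h4] at h3
    exact h3
  · intro hle
    have h3 : T = 1 := by
      apply Cfsg.Agent.StandardComponent.AltAut.eq_one_of_centralizes (m := 6) (by omega)
      intro x
      have h4 := mem_centralizer_singleton_iff.1 (hle x.2)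
      rw [mul_inv_eq_iff_eq_mul]
      exact h4.symm
    have h4 := hfix 0
    rw [← hτ, h3] at h4
    exact h4 rfl

/-! ### normalisers -/

theorem not_alt_norm {X : Subgroup (Perm (Fin 8))} (h1 : X ≠ ⊥) (h2 : ¬ alternatingGroup (Fin 8) ≤ X) :
    ¬ alternatingGroup (Fin 8) ≤ normalizer (X : Set (Perm (Fin 8))) := by
  intro hle
  have hs := alternatingGroup.isSimpleGroup (α := Fin 8) (by simp)
  have hnor : (X.subgroupOf (alternatingGroup (Fin 8))).Normal := by
    constructor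
    intro y hy x
    rw [mem_subgroupOf] at hy ⊢
    exact (mem_normalizer_iff.1 (hle x.2) _).1 hy
  rcases hnor.eq_bot_or_eq_top with h3 | h3
  · apply h1
    rw [Subgroup.eq_bot_iff_forall]
    intro x hx
    apply Cfsg.Agent.StandardComponent.AltAut.eq_one_of_centralizes (m := 6) (by omega)
    intro a
    have h4 : (a : Perm (Fin 8)) * x * (a : Perm (Fin 8))⁻¹ * x⁻¹ ∈ X :=
      X.mul_mem ((mem_normalizer_iff.1 (hle a.2) x).1 hx) (X.inv_mem hx)
    have hn : (alternatingGroup (Fin 8)).Normal := inferInstance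
    have h5 : (a : Perm (Fin 8)) * x * (a : Perm (Fin 8))⁻¹ * x⁻¹ ∈ alternatingGroup (Fin 8) := by
      have e1 : (a : Perm (Fin 8)) * x * (a : Perm (Fin 8))⁻¹ * x⁻¹ = a * (x * (a : Perm (Fin 8))⁻¹ * x⁻¹) := by group
      rw [e1]
      exact mul_mem a.2 (hn.conj_mem _ (inv_mem a.2) x)
    have h6 : (⟨_, h5⟩ : alternatingGroup (Fin 8)) ∈ X.subgroupOf (alternatingGroup (Fin 8)) := mem_subgroupOf.2 h4
    rw [h3, mem_bot] at h6
    have h7 : (a : Perm (Fin 8)) * x * (a : Perm (Fin 8))⁻¹ * x⁻¹ = 1 := Subtype.ext_iff.1 h6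
    rw [mul_inv_eq_one, mul_inv_eq_iff_eq_mul] at h7
    rw [mul_inv_eq_iff_eq_mul]
    exact h7.symm
  · rw [subgroupOf_eq_top] at h3
    exact h2 h3

theorem eq_inf_norm {G L X : Subgroup (Perm (Fin 8))} (hG : alternatingGroup (Fin 8) ≤ G) (hL : MaxNot G L)
    (hX : X ≤ L) (h1 : X ≠ ⊥) (hn : ∀ g ∈ L, ∀ x ∈ X, g * x * g⁻¹ ∈ X) :
    L = G ⊓ normalizer (X : Set (Perm (Fin 8))) := by
  refine hL.eq_inf hG ?_ (not_alt_norm h1 fun h => hL.nalt (h.trans hX))
  intro x hx
  rw [mem_normalizer_iff]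
  intro y
  constructor
  · intro hy
    exact hn x hx y hy
  · intro hy
    have h3 := hn _ (L.inv_mem hx) _ hy
    have e1 : x⁻¹ * (x * y * x⁻¹) * x⁻¹⁻¹ = y := by group
    rwa [e1] at h3

/-! ### regular elementary abelian subgroups -/

/-- the transitive elementary abelian `2`-subgroups -/
def EE : Set (Subgroup (Perm (Fin 8))) :=
  {X | MulAction.IsPretransitive X (Fin 8) ∧ (∀ x ∈ X, ∀ y ∈ X, x * y = y * x) ∧ ∀ x ∈ X, x * x = 1}

theorem EE.eq_one {X : Subgroup (Perm (Fin 8))} (hX : X ∈ EE) {x : Perm (Fin 8)} (hx : x ∈ X) {i : Fin 8} (hi : x i = i) :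
    x = 1 := by
  ext j
  obtain ⟨y, hy⟩ := hX.1.exists_smul_eq i j
  have h1 : (y : Perm (Fin 8)) i = j := hy
  have h2 : x ((y : Perm (Fin 8)) i) = (y : Perm (Fin 8)) (x i) := by
    rw [← Perm.mul_apply, hX.2.1 x hx y y.2, Perm.mul_apply]
  rw [← h1, h2, hi, Perm.one_apply]

theorem EE.card {X : Subgroup (Perm (Fin 8))} (hX : X ∈ EE) : Nat.card X = 8 := by
  have := hX.1
  have h1 := MulAction.index_stabilizer_of_transitive X (0 : Fin 8)
  have h2 : MulAction.stabilizer X (0 : Fin 8) = ⊥ := by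
    rw [Subgroup.eq_bot_iff_forall]
    intro x hx
    exact Subtype.ext (EE.eq_one hX x.2 (i := 0) hx)
  rw [h2, index_bot, Nat.card_fin] at h1
  exact h1

theorem EE.ne_bot {X : Subgroup (Perm (Fin 8))} (hX : X ∈ EE) : X ≠ ⊥ := by
  rintro rfl
  have := EE.card hX
  rw [card_bot] at this
  omega

theorem elemAb_equiv {A B : Type*} [Group A] [Group B] [Finite A] [Finite B] (hA : ∀ x y : A, x * y = y * x)
    (hA2 : ∀ x : A, x * x = 1) (hB : ∀ x y : B, x * y = y * x) (hB2 : ∀ x : B, x * x = 1)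
    (hc : Nat.card A = Nat.card B) : Nonempty (A ≃* B) := by
  classical
  let iA : CommGroup A := { (inferInstance : Group A) with mul_comm := hA }
  let iB : CommGroup B := { (inferInstance : Group B) with mul_comm := hB }
  let mA : Module (ZMod 2) (Additive A) := AddCommGroup.zmodModule (n := 2) fun x => by
    rw [two_nsmul]
    exact hA2 x
  let mB : Module (ZMod 2) (Additive B) := AddCommGroup.zmodModule (n := 2) fun x => by
    rw [two_nsmul]
    exact hB2 x
  have : Fact (Nat.Prime 2) := ⟨Nat.prime_two⟩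
  have : Finite (Additive A) := inferInstanceAs (Finite A)
  have : Finite (Additive B) := inferInstanceAs (Finite B)
  have : Fintype (Additive A) := Fintype.ofFinite _
  have : Fintype (Additive B) := Fintype.ofFinite _
  have : Module.Finite (ZMod 2) (Additive A) := Module.Finite.of_finite
  have : Module.Finite (ZMod 2) (Additive B) := Module.Finite.of_finite
  have h1 := Module.card_eq_pow_finrank (K := ZMod 2) (V := Additive A)
  have h2 := Module.card_eq_pow_finrank (K := ZMod 2) (V := Additive B)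
  rw [← Nat.card_eq_fintype_card, ZMod.card] at h1 h2
  have h3 : Nat.card (Additive A) = Nat.card (Additive B) := hc
  rw [h1, h2] at h3
  have h4 := Nat.pow_right_injective le_rfl h3
  obtain ⟨e⟩ := FiniteDimensional.nonempty_linearEquiv_of_finrank_eq h4
  exact ⟨MulEquiv.toAdditive.symm e.toAddEquiv⟩

theorem ncard_EE : EE.ncard ≤ 5040 := by
  rcases Set.eq_empty_or_nonempty EE with h0 | ⟨X₁, h1⟩
  · rw [h0, Set.ncard_empty]
    exact Nat.zero_le _
  have hsub : EE ⊆ {Y | ∃ f : Perm (Fin 8), Y = X₁.map (MulAut.conj f).toMonoidHom} := by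
    intro X₂ h2
    obtain ⟨φ⟩ := elemAb_equiv (A := X₁) (B := X₂) (fun x y => Subtype.ext (h1.2.1 x x.2 y y.2))
      (fun x => Subtype.ext (h1.2.2 x x.2)) (fun x y => Subtype.ext (h2.2.1 x x.2 y y.2))
      (fun x => Subtype.ext (h2.2.2 x x.2)) (by rw [EE.card h1, EE.card h2])
    refine conj_of_stab h1.1 h2.1 φ 0 0 ?_
    intro x
    constructor
    · intro h3
      have h4 : x = 1 := Subtype.ext (EE.eq_one h1 x.2 h3)
      rw [h4, map_one]
      rfl
    · intro h3
      have h4 : φ x = 1 := Subtype.ext (EE.eq_one h2 (φ x).2 h3)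
      rw [map_eq_one_iff φ φ.injective] at h4
      rw [h4]
      rfl
  refine (Set.ncard_le_ncard hsub (Set.toFinite _)).trans ((ncard_class_le X₁).trans ?_)
  have h3 := X₁.index_mul_card
  rw [Nat.card_perm, Nat.card_fin, EE.card h1] at h3
  have h4 : Nat.factorial 8 = 40320 := by decide
  omega

/-- a primitive solvable group -/
theorem exists_EE {L : Subgroup (Perm (Fin 8))} (hP : MulAction.IsPreprimitive L (Fin 8)) (hs : Group.IsSolvable L) :
    ∃ X ∈ EE, X ≤ L ∧ ∀ g ∈ L, ∀ x ∈ X, g * x * g⁻¹ ∈ X := by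
  classical
  -- an abelian normal subgroup
  have h0 : derivedSeries L (Nat.find hs.solvable) = ⊥ := Nat.find_spec hs.solvable
  have hL1 : Nontrivial L := by
    by_contra hcon
    rw [not_nontrivial_iff_subsingleton] at hcon
    have h1 := eight_dvd_of_trans hP.toIsPretransitive
    rw [Nat.card_eq_one_iff_unique.2 ⟨hcon, inferInstance⟩] at h1
    omega
  have hpos : 0 < Nat.find hs.solvable := by
    by_contra hcon
    have h1 : Nat.find hs.solvable = 0 := by omega
    rw [h1, derivedSeries_zero] at h0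
    exact bot_ne_top h0.symm
  obtain ⟨n, hn⟩ : ∃ n, Nat.find hs.solvable = n + 1 := ⟨Nat.find hs.solvable - 1, by omega⟩
  have hA : derivedSeries L n ≠ ⊥ := Nat.find_min hs.solvable (by omega)
  rw [hn, derivedSeries_succ] at h0
  have hcomm : ∀ x ∈ derivedSeries L n, ∀ y ∈ derivedSeries L n, x * y = y * x := by
    intro x hx y hy
    have h1 : ⁅x, y⁆ ∈ (⊥ : Subgroup L) := by
      rw [← h0]
      exact commutator_mem_commutator hx hy
    rw [mem_bot, commutatorElement_eq_one_iff_mul_comm] at h1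
    exact h1
  have hAn : (derivedSeries L n).Normal := inferInstance
  have h8 : 8 ∣ Nat.card (derivedSeries L n) := eight_dvd_of_trans (trans_of_normal hP _ hAn hA)
  -- its elements of order two
  let E : Subgroup L :=
    { carrier := {x | x ∈ derivedSeries L n ∧ x * x = 1}
      one_mem' := ⟨one_mem _, one_mul 1⟩
      mul_mem' := by
        rintro x y ⟨hx, hx2⟩ ⟨hy, hy2⟩
        refine ⟨mul_mem hx hy, ?_⟩
        have e1 : x * y * (x * y) = x * (y * x) * y := by group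
        rw [e1, ← hcomm x hx y hy]
        have e2 : x * (x * y) * y = (x * x) * (y * y) := by group
        rw [e2, hx2, hy2, one_mul]
      inv_mem' := by
        rintro x ⟨hx, hx2⟩
        refine ⟨inv_mem hx, ?_⟩
        rw [← mul_inv_rev, hx2, inv_one] }
  have hE : ∀ x : L, x ∈ E ↔ x ∈ derivedSeries L n ∧ x * x = 1 := fun x => Iff.rfl
  have hEn : E.Normal := by
    constructor
    intro x hx g
    rw [hE] at hx ⊢
    refine ⟨hAn.conj_mem x hx.1 g, ?_⟩
    have e1 : g * x * g⁻¹ * (g * x * g⁻¹) = g * (x * x) * g⁻¹ := by group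
    rw [e1, hx.2, mul_one, mul_inv_cancel]
  have hEne : E ≠ ⊥ := by
    intro h1
    have : Fact (Nat.Prime 2) := ⟨Nat.prime_two⟩
    obtain ⟨t, ht⟩ := exists_prime_orderOf_dvd_card' 2 ((by norm_num : (2 : ℕ) ∣ 8).trans h8)
    have h2 : (t : L) ∈ E := by
      rw [hE]
      refine ⟨t.2, ?_⟩
      have h3 := pow_orderOf_eq_one t
      rw [ht, pow_two] at h3
      exact congrArg Subtype.val h3
    rw [h1, mem_bot] at h2
    have h3 : t = 1 := Subtype.ext h2
    rw [h3, orderOf_one] at ht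
    omega
  have hEt := trans_of_normal hP E hEn hEne
  refine ⟨E.map L.subtype, ⟨?_, ?_, ?_⟩, map_subtype_le E, ?_⟩
  · refine ⟨fun i j => ?_⟩
    obtain ⟨x, hx⟩ := hEt.exists_smul_eq i j
    exact ⟨⟨((x : L) : Perm (Fin 8)), (x : L), x.2, rfl⟩, hx⟩
  · rintro _ ⟨x, hx, rfl⟩ _ ⟨y, hy, rfl⟩
    exact congrArg Subtype.val (hcomm x hx.1 y hy.1)
  · rintro _ ⟨x, hx, rfl⟩
    exact congrArg Subtype.val hx.2
  · rintro g hg _ ⟨x, hx, rfl⟩
    exact ⟨(⟨g, hg⟩ * x * ⟨g, hg⟩⁻¹ :), hEn.conj_mem x hx ⟨g, hg⟩, rfl⟩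

end Cfsg.Agent.H417.EP.A8
end

-- part: H417/EP/AEight
section
/-!
# S3499 (IV-L), `soc(A) = A₈` (helper417)

`EPT A Γ` with socle `A₈`: `|Q : A| ≤ 10607 ^ 2 ≤ 122000000`.
-/

set_option autoImplicit false

namespace Cfsg.Agent.H417.EP

open Cfsg.Agent.H839.EP

namespace A8

open Subgroup Equiv Equiv.Perm MulAction

/-! ### The embedding of `S_n` in `S_{n+1}` -/

section iota

variable {n : ℕ}

/-- the embedding of `S_n` in `S_{n+1}`, fixing `0` -/
noncomputable def iota : Perm (Fin n) →* Perm (Fin (n + 1)) := extendDomainHom (finSuccAboveEquiv (0 : Fin (n + 1)))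

theorem iota_succ (d : Perm (Fin n)) (j : Fin n) : iota d j.succ = (d j).succ := by
  have h := extendDomain_apply_image d (finSuccAboveEquiv (0 : Fin (n + 1))) j
  simp only [finSuccAboveEquiv_apply, Fin.zero_succAbove] at h
  exact h

theorem iota_zero (d : Perm (Fin n)) : iota d 0 = 0 :=
  extendDomain_apply_not_subtype d (finSuccAboveEquiv (0 : Fin (n + 1))) (by simp)

theorem iota_inj : Function.Injective (iota (n := n)) := extendDomainHom_injective _

theorem exists_iota {g : Perm (Fin (n + 1))} (h : g 0 = 0) : ∃ d, iota d = g := by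
  have hne : ∀ j : Fin n, g j.succ ≠ 0 := by
    intro j hj
    rw [← h] at hj
    exact Fin.succ_ne_zero j (g.injective hj)
  let f : Fin n → Fin n := fun j => (g j.succ).pred (hne j)
  have hf : Function.Injective f := by
    intro i j hij
    have := Fin.pred_inj.1 hij
    exact Fin.succ_injective _ (g.injective this)
  refine ⟨Equiv.ofBijective f (Finite.injective_iff_bijective.1 hf), ?_⟩
  ext i
  congr 1
  induction i using Fin.cases with
  | zero => rw [iota_zero, h]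
  | succ j =>
    rw [iota_succ]
    show (f j).succ = _
    exact Fin.succ_pred _ _

theorem iota_mem_alt {d : Perm (Fin n)} : iota d ∈ alternatingGroup (Fin (n + 1)) ↔ d ∈ alternatingGroup (Fin n) := by
  rw [mem_alternatingGroup, mem_alternatingGroup]
  have : sign (iota d) = sign d := sign_extendDomain d (finSuccAboveEquiv (0 : Fin (n + 1)))
  rw [this]

end iota

theorem card_trans {M : Subgroup (Perm (Fin 8))} (h : IsPretransitive M (Fin 8)) :
    Nat.card M = 8 * Nat.card (M.comap iota) := by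
  have h1 := index_stabilizer_of_transitive M (0 : Fin 8)
  rw [Nat.card_fin] at h1
  have h2 := (stabilizer M (0 : Fin 8)).index_mul_card
  rw [h1] at h2
  rw [← h2]
  congr 1
  symm
  refine Nat.card_congr (Equiv.ofBijective
    (fun d : M.comap iota => (⟨⟨iota (d : Perm (Fin 7)), d.2⟩, iota_zero _⟩ : stabilizer M (0 : Fin 8))) ⟨?_, ?_⟩)
  · intro a b hab
    apply Subtype.ext
    apply iota_inj
    exact congrArg (fun x : stabilizer M (0 : Fin 8) => ((x : M) : Perm (Fin 8))) hab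
  · rintro ⟨⟨g, hg⟩, h0⟩
    obtain ⟨d, hd⟩ := exists_iota (g := g) h0
    refine ⟨⟨d, by rw [mem_comap, hd]; exact hg⟩, ?_⟩
    apply Subtype.ext
    apply Subtype.ext
    exact hd

theorem trans_aux {K : Subgroup (Perm (Fin 8))} {D : Subgroup (Perm (Fin 7))} (hD : IsPretransitive D (Fin 7))
    (hDK : D.map iota ≤ K) {t : Perm (Fin 8)} (ht : t ∈ K) (h0 : t 0 ≠ 0) : IsPretransitive K (Fin 8) := by
  obtain ⟨k, hk⟩ := Fin.exists_succ_eq.2 h0
  have key : ∀ i : Fin 8, ∃ g ∈ K, g 0 = i := by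
    intro i
    rcases Fin.eq_zero_or_eq_succ i with h1 | ⟨j, h1⟩
    · exact ⟨1, one_mem _, h1.symm⟩
    · obtain ⟨d, hd⟩ := hD.exists_smul_eq k j
      have hd' : (d : Perm (Fin 7)) k = j := hd
      refine ⟨iota (d : Perm (Fin 7)) * t, K.mul_mem (hDK ⟨(d : Perm (Fin 7)), d.2, rfl⟩) ht, ?_⟩
      rw [h1, Perm.mul_apply, ← hk, iota_succ, hd']
  refine ⟨fun i j => ?_⟩
  obtain ⟨g, hg, rfl⟩ := key i
  obtain ⟨h, hh, rfl⟩ := key j
  refine ⟨⟨h * g⁻¹, K.mul_mem hh (K.inv_mem hg)⟩, ?_⟩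
  show (h * g⁻¹) (g 0) = h 0
  simp only [_root_.Fin.isValue, _root_.Equiv.Perm.coe_mul, _root_.Equiv.Perm.coe_inv, _root_.Function.comp_apply, _root_.Equiv.symm_apply_apply]

/-- the group generated by `D` (fixing `0`) and `t` -/
def gen (D : Subgroup (Perm (Fin 7))) (t : Perm (Fin 8)) : Subgroup (Perm (Fin 8)) :=
  _root_.Subgroup.closure ((D.map iota : Subgroup (Perm (Fin 8))) ∪ {t} : Set (Perm (Fin 8)))

theorem eq_gen {M : Subgroup (Perm (Fin 8))} (hM : IsPretransitive M (Fin 8)) (h7 : 7 ∣ Nat.card (M.comap iota))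
    {t : Perm (Fin 8)} (ht : t ∈ M) (h0 : t 0 ≠ 0) : M = gen (M.comap iota) t := by
  have h1 : (M.comap iota).map iota ≤ gen (M.comap iota) t := fun x hx => _root_.Subgroup.subset_closure (Or.inl hx)
  have h2 : t ∈ gen (M.comap iota) t := _root_.Subgroup.subset_closure (Or.inr rfl)
  have h3 := trans_aux (Cfsg.Agent.H220.EP.pretrans h7) h1 h2 h0
  have h4 := card_trans h3
  have h5 := card_trans hM
  have h6 : M.comap iota ≤ (gen (M.comap iota) t).comap iota := fun d hd => h1 ⟨d, hd, rfl⟩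
  have h7' : gen (M.comap iota) t ≤ M := by
    rw [gen, closure_le]
    rintro x (hx | hx)
    · exact map_comap_le _ _ hx
    · rw [Set.mem_singleton_iff] at hx
      rw [hx]
      exact ht
  symm
  refine Subgroup.eq_of_le_of_card_ge h7' ?_
  rw [h4, h5]
  exact Nat.mul_le_mul_left 8 (Subgroup.card_le_of_le h6)

theorem exists_swap {M : Subgroup (Perm (Fin 8))} (hM : IsPretransitive M (Fin 8)) (h7 : 7 ∣ Nat.card (M.comap iota)) :
    ∃ t ∈ M, t 0 = 1 ∧ t 1 = 0 := by
  obtain ⟨g, hg⟩ := hM.exists_smul_eq (1 : Fin 8) 0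
  have hg1 : (g : Perm (Fin 8)) 1 = 0 := hg
  have hg0 : (g : Perm (Fin 8)) 0 ≠ 0 := by
    intro h
    have h2 : (0 : Fin 8) = 1 := (g : Perm (Fin 8)).injective (h.trans hg1.symm)
    exact absurd h2 (by decide)
  obtain ⟨k, hk⟩ := Fin.exists_succ_eq.2 hg0
  obtain ⟨d, hd⟩ := (Cfsg.Agent.H220.EP.pretrans h7).exists_smul_eq k 0
  have hd' : (d : Perm (Fin 7)) k = 0 := hd
  refine ⟨iota (d : Perm (Fin 7)) * g, M.mul_mem d.2 g.2, ?_, ?_⟩
  · rw [Perm.mul_apply, ← hk, iota_succ, hd']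
    rfl
  · rw [Perm.mul_apply, hg1, iota_zero]

/-- the fixed point free involutions moving `0` to `1` -/
def S15 : Set (Perm (Fin 8)) := {s | s * s = 1 ∧ (∀ i, s i ≠ i) ∧ s 0 = 1}

theorem exists_S15 {M : Subgroup (Perm (Fin 8))} (hM : IsPretransitive M (Fin 8)) (h7 : 7 ∣ Nat.card (M.comap iota))
    (hodd : Odd (Nat.card (M.comap iota))) : ∃ s ∈ M, s ∈ S15 := by
  obtain ⟨t, ht, h0, h1⟩ := exists_swap hM h7
  obtain ⟨d, hd⟩ := exists_iota (g := t * t) (by rw [Perm.mul_apply, h0, h1])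
  have hdM : d ∈ M.comap iota := by
    rw [mem_comap, hd]
    exact M.mul_mem ht ht
  have hpow : ∀ x ∈ M.comap iota, x ^ Nat.card (M.comap iota) = 1 := by
    intro x hx
    exact congrArg Subtype.val (pow_card_eq_one' (x := (⟨x, hx⟩ : M.comap iota)))
  obtain ⟨k, hk⟩ := hodd
  set m := Nat.card (M.comap iota) with hm
  have hss : t ^ m * t ^ m = 1 := by
    rw [← pow_add, ← two_mul, pow_mul, pow_two, ← hd, ← map_pow, hpow d hdM, map_one]
  have hs0 : (t ^ m) 0 = 1 := by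
    rw [hk, pow_succ', pow_mul, pow_two, ← hd, ← map_pow, Perm.mul_apply, iota_zero, h0]
  refine ⟨t ^ m, M.pow_mem ht _, hss, ?_, hs0⟩
  intro i hi
  obtain ⟨g, hg⟩ := hM.exists_smul_eq (0 : Fin 8) i
  have hg' : (g : Perm (Fin 8)) 0 = i := hg
  obtain ⟨d', hd'⟩ := exists_iota (g := (g : Perm (Fin 8))⁻¹ * t ^ m * (g : Perm (Fin 8))) (by
    rw [Perm.mul_apply, Perm.mul_apply, hg', hi, ← hg']
    exact (g : Perm (Fin 8)).symm_apply_apply 0)
  have h2 : d' ∈ M.comap iota := by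
    rw [mem_comap, hd']
    exact M.mul_mem (M.mul_mem (M.inv_mem g.2) (M.pow_mem ht _)) g.2
  have h3 : d' * d' = 1 := by
    apply iota_inj
    rw [map_mul, hd', map_one]
    have e1 : (g : Perm (Fin 8))⁻¹ * t ^ m * g * ((g : Perm (Fin 8))⁻¹ * t ^ m * g) =
        (g : Perm (Fin 8))⁻¹ * (t ^ m * t ^ m) * g := by group
    rw [e1, hss, mul_one, inv_mul_cancel]
  have h4 : d' = 1 := by
    have h5 := hpow d' h2
    rw [hk, pow_succ, pow_mul, pow_two, h3, one_pow, one_mul] at h5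
    exact h5
  rw [h4, map_one] at hd'
  have h5 : t ^ m = 1 := by
    have e1 : t ^ m = g * ((g : Perm (Fin 8))⁻¹ * t ^ m * g) * (g : Perm (Fin 8))⁻¹ := by group
    rw [e1, ← hd', mul_one, mul_inv_cancel]
  rw [h5, Perm.one_apply] at hs0
  exact absurd hs0 (by decide)

/-! ### counting -/

/-- the codes of the elements of `S15` -/
def LL : List (List (Fin 8)) :=
  [[3, 2, 5, 4, 7, 6], [3, 2, 6, 7, 4, 5], [3, 2, 7, 6, 5, 4], [4, 5, 2, 3, 7, 6], [4, 6, 2, 7, 3, 5], [4, 7, 2, 6, 5, 3], [5, 4, 3, 2, 7, 6],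
      [5, 6, 7, 2, 3, 4], [5, 7, 6, 2, 4, 3], [6, 4, 3, 7, 2, 5], [6, 5, 7, 3, 2, 4], [6, 7, 5, 4, 2, 3], [7, 4, 3, 6, 5, 2], [7, 5, 6, 3, 4, 2], [7, 6, 5, 4, 3, 2]]

set_option synthInstance.maxHeartbeats 1000000 in
set_option synthInstance.maxSize 10000 in
/-- the codes of the elements of `S15` -/
theorem codes : ∀ a2 : Fin 8, (a2 ≠ 0 ∧ a2 ≠ 1 ∧ a2 ≠ 2) → ∀ a3 : Fin 8, (a3 ≠ 0 ∧ a3 ≠ 1 ∧ a3 ≠ 3 ∧ a3 ≠ a2 ∧ (a2 = 3 ↔ a3 = 2)) →
    ∀ a4 : Fin 8, (a4 ≠ 0 ∧ a4 ≠ 1 ∧ a4 ≠ 4 ∧ a4 ≠ a2 ∧ a4 ≠ a3 ∧ (a2 = 4 ↔ a4 = 2) ∧ (a3 = 4 ↔ a4 = 3)) →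
    ∀ a5 : Fin 8, (a5 ≠ 0 ∧ a5 ≠ 1 ∧ a5 ≠ 5 ∧ a5 ≠ a2 ∧ a5 ≠ a3 ∧ a5 ≠ a4 ∧ (a2 = 5 ↔ a5 = 2) ∧ (a3 = 5 ↔ a5 = 3) ∧
      (a4 = 5 ↔ a5 = 4)) →
    ∀ a6 : Fin 8, (a6 ≠ 0 ∧ a6 ≠ 1 ∧ a6 ≠ 6 ∧ a6 ≠ a2 ∧ a6 ≠ a3 ∧ a6 ≠ a4 ∧ a6 ≠ a5 ∧ (a2 = 6 ↔ a6 = 2) ∧ (a3 = 6 ↔ a6 = 3) ∧
      (a4 = 6 ↔ a6 = 4) ∧ (a5 = 6 ↔ a6 = 5)) →
    ∀ a7 : Fin 8, (a7 ≠ 0 ∧ a7 ≠ 1 ∧ a7 ≠ 7 ∧ a7 ≠ a2 ∧ a7 ≠ a3 ∧ a7 ≠ a4 ∧ a7 ≠ a5 ∧ a7 ≠ a6 ∧ (a2 = 7 ↔ a7 = 2) ∧
      (a3 = 7 ↔ a7 = 3) ∧ (a4 = 7 ↔ a7 = 4) ∧ (a5 = 7 ↔ a7 = 5) ∧ (a6 = 7 ↔ a7 = 6)) →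
    [a2, a3, a4, a5, a6, a7] ∈ LL := by
  decide +kernel

theorem ncard_S15 : S15.ncard ≤ 15 := by
  have hLL : ((LL.toFinset : Finset (List (Fin 8))) : Set (List (Fin 8))).ncard = 15 := by
    rw [Set.ncard_coe_finset]
    decide
  rw [← hLL]
  refine Set.ncard_le_ncard_of_injOn (fun s : Perm (Fin 8) => [s 2, s 3, s 4, s 5, s 6, s 7]) ?_ ?_ (Set.toFinite _)
  · rintro s ⟨h1, h2, h3⟩
    have h4 : s 1 = 0 := by
      rw [← h3, ← Perm.mul_apply, h1, Perm.one_apply]
    have hne : ∀ i j, i ≠ j → s i ≠ s j := fun i j hij e => hij (s.injective e)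
    have hinv : ∀ i j, s i = j ↔ s j = i := by
      intro i j
      constructor
      · rintro rfl
        rw [← Perm.mul_apply, h1, Perm.one_apply]
      · rintro rfl
        rw [← Perm.mul_apply, h1, Perm.one_apply]
    have h0 : ∀ i, i ≠ 1 → s i ≠ 0 := by
      intro i hi
      rw [← h4]
      exact hne i 1 hi
    have h1' : ∀ i, i ≠ 0 → s i ≠ 1 := by
      intro i hi
      rw [← h3]
      exact hne i 0 hi
    rw [Finset.mem_coe, List.mem_toFinset]
    refine codes (s 2) ⟨h0 _ (by decide), h1' _ (by decide), h2 _⟩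
      (s 3) ⟨h0 _ (by decide), h1' _ (by decide), h2 _, hne _ _ (by decide), hinv _ _⟩
      (s 4) ⟨h0 _ (by decide), h1' _ (by decide), h2 _, hne _ _ (by decide), hne _ _ (by decide), hinv _ _, hinv _ _⟩
      (s 5) ⟨h0 _ (by decide), h1' _ (by decide), h2 _, hne _ _ (by decide), hne _ _ (by decide), hne _ _ (by decide),
        hinv _ _, hinv _ _, hinv _ _⟩
      (s 6) ⟨h0 _ (by decide), h1' _ (by decide), h2 _, hne _ _ (by decide), hne _ _ (by decide), hne _ _ (by decide),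
        hne _ _ (by decide), hinv _ _, hinv _ _, hinv _ _, hinv _ _⟩
      (s 7) ⟨h0 _ (by decide), h1' _ (by decide), h2 _, hne _ _ (by decide), hne _ _ (by decide), hne _ _ (by decide),
        hne _ _ (by decide), hne _ _ (by decide), hinv _ _, hinv _ _, hinv _ _, hinv _ _, hinv _ _⟩
  · rintro s ⟨h1, -, h3⟩ s' ⟨h1', -, h3'⟩ he
    simp only [List.cons.injEq, and_true] at he
    obtain ⟨e2, e3, e4, e5, e6, e7⟩ := he
    have h4 : s 1 = 0 := by
      rw [← h3, ← Perm.mul_apply, h1, Perm.one_apply]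
    have h4' : s' 1 = 0 := by
      rw [← h3', ← Perm.mul_apply, h1', Perm.one_apply]
    apply Equiv.ext
    intro i
    fin_cases i
    · exact h3.trans h3'.symm
    · exact h4.trans h4'.symm
    · exact e2
    · exact e3
    · exact e4
    · exact e5
    · exact e6
    · exact e7

/-- elements exchanging `0` and `1` -/
def T01 : Set (Perm (Fin 8)) := {t | t 0 = 1 ∧ t 1 = 0}

theorem ncard_T01 : T01.ncard ≤ 720 := by
  have h1 : T01 ⊆ (fun d : Perm (Fin 6) => swap 0 1 * iota (iota d)) '' Set.univ := by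
    rintro t ⟨h0, h1⟩
    obtain ⟨d, hd⟩ := exists_iota (g := swap 0 1 * t) (by rw [Perm.mul_apply, h0, swap_apply_right])
    have h2 : d 0 = 0 := by
      have h3 : (swap 0 1 * t : Perm (Fin 8)) 1 = 1 := by rw [Perm.mul_apply, h1, swap_apply_left]
      rw [← hd, show (1 : Fin 8) = Fin.succ 0 from rfl, iota_succ] at h3
      exact Fin.succ_injective _ h3
    obtain ⟨d', hd'⟩ := exists_iota h2
    refine ⟨d', Set.mem_univ _, ?_⟩
    show swap 0 1 * iota (iota d') = t
    rw [hd', hd, ← mul_assoc, swap_mul_self, one_mul]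
  refine (Set.ncard_le_ncard h1 (Set.toFinite _)).trans ((Set.ncard_image_le Set.finite_univ).trans ?_)
  rw [Set.ncard_univ, Nat.card_perm, Nat.card_fin]
  decide

open Cfsg.Agent.H220.EP (A7 Ys F7 norm_A7 dich card_Ys ncard_F7 ncard_mul_le exists_Ys card_A7 pretrans Y_le_A7)

/-- the point stabilisers of order `7` or `21` -/
def D1 : Set (Subgroup (Perm (Fin 7))) :=
  Ys 7 ⊤ ∪ (fun Y : Subgroup (Perm (Fin 7)) => normalizer (Y : Set (Perm (Fin 7))) ⊓ A7) '' Ys 7 ⊤

theorem ncard_D1 : D1.ncard ≤ 240 := by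
  refine (Set.ncard_union_le _ _).trans ?_
  have h1 := Set.ncard_image_le (f := fun Y : Subgroup (Perm (Fin 7)) => normalizer (Y : Set (Perm (Fin 7))) ⊓ A7)
    (Set.toFinite (Ys 7 (⊤ : Subgroup (Perm (Fin 7)))))
  rw [card_Ys] at h1 ⊢
  omega

/-- the two transitive groups with point stabiliser of order `7` or `21` -/
def M1 : Set (Subgroup (Perm (Fin 8))) := (fun p : Subgroup (Perm (Fin 7)) × Perm (Fin 8) => gen p.1 p.2) '' (D1 ×ˢ S15)

theorem ncard_M1 : M1.ncard ≤ 3600 := by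
  refine (Set.ncard_image_le (Set.toFinite _)).trans ?_
  rw [Set.ncard_prod]
  exact (Nat.mul_le_mul ncard_D1 ncard_S15).trans (by norm_num)

/-- the transitive groups with point stabiliser of order `168` -/
def M2 : Set (Subgroup (Perm (Fin 8))) := {M | IsPretransitive M (Fin 8) ∧ M.comap iota ∈ F7}

theorem ncard_M2 : M2.ncard ≤ 1350 := by
  have h := ncard_mul_le M2 (F7 ×ˢ T01) (fun M p => p.1 = M.comap iota ∧ p.2 ∈ M) (m := 24) (n := 1) (by
    rintro M ⟨hM, hF⟩
    have h7 : 7 ∣ Nat.card (M.comap iota) := by rw [hF.2]; norm_num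
    obtain ⟨t, ht, h0, h1⟩ := exists_swap hM h7
    have htr := pretrans h7
    have h2 := index_stabilizer_of_transitive (M.comap iota) (0 : Fin 7)
    have h3 := (stabilizer (M.comap iota) (0 : Fin 7)).index_mul_card
    rw [h2, Nat.card_fin, hF.2] at h3
    have h4 : Nat.card (stabilizer (M.comap iota) (0 : Fin 7)) = 24 := by omega
    rw [← h4, ← Nat.card_coe_set_eq]
    refine Nat.card_le_card_of_injective
      (fun d : stabilizer (M.comap iota) (0 : Fin 7) => (⟨(M.comap iota, t * iota ((d : M.comap iota) : Perm (Fin 7))), ?_⟩ :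
        {b | b ∈ F7 ×ˢ T01 ∧ b.1 = M.comap iota ∧ b.2 ∈ M})) ?_
    · refine ⟨⟨hF, ?_, ?_⟩, rfl, M.mul_mem ht (d : M.comap iota).2⟩
      · show (t * iota ((d : M.comap iota) : Perm (Fin 7))) 0 = 1
        rw [Perm.mul_apply, iota_zero, h0]
      · show (t * iota ((d : M.comap iota) : Perm (Fin 7))) 1 = 0
        have h5 : ((d : M.comap iota) : Perm (Fin 7)) 0 = 0 := d.2
        rw [Perm.mul_apply, show (1 : Fin 8) = Fin.succ 0 from rfl, iota_succ, h5]
        exact h1
    · intro a b hab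
      have h5 : t * iota ((a : M.comap iota) : Perm (Fin 7)) = t * iota ((b : M.comap iota) : Perm (Fin 7)) :=
        congrArg (fun x : {b | b ∈ F7 ×ˢ T01 ∧ b.1 = M.comap iota ∧ b.2 ∈ M} => x.1.2) hab
      exact Subtype.ext (Subtype.ext (iota_inj (mul_left_cancel h5)))) (by
    rintro ⟨D, t⟩ ⟨hD, ht⟩
    rw [Set.ncard_le_one (Set.toFinite _)]
    have key : ∀ M : Subgroup (Perm (Fin 8)), M ∈ M2 → D = M.comap iota → t ∈ M → M = gen D t := by
      rintro M ⟨hM, hF⟩ rfl htM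
      refine eq_gen hM (by rw [hF.2]; norm_num) htM ?_
      rw [ht.1]
      decide
    rintro M ⟨hM, h1, h2⟩ M' ⟨hM', h1', h2'⟩
    rw [key M hM h1 h2, key M' hM' h1' h2'])
  rw [Set.ncard_prod] at h
  have h1 := Nat.mul_le_mul ncard_F7 ncard_T01
  omega

/-- **primitive groups** -/
theorem case_prim {G L : Subgroup (Perm (Fin 8))} (hG : alternatingGroup (Fin 8) ≤ G) (hL : MaxNot G L)
    (hP : IsPreprimitive L (Fin 8)) : ∃ X, (X ∈ EE ∨ X ∈ M1 ∨ X ∈ M2) ∧ L = G ⊓ normalizer (X : Set (Perm (Fin 8))) := by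
  have hcard := card_dvd hP hL.nalt
  by_cases h7 : 7 ∣ Nat.card L
  · -- order divisible by 7
    obtain ⟨y, hy⟩ := exists_prime_orderOf_dvd_card' 7 h7
    have hyA : (y : Perm (Fin 8)) ∈ alternatingGroup (Fin 8) := by
      rw [mem_alternatingGroup]
      have h1 : (y : Perm (Fin 8)) ^ 7 = 1 := by
        rw [← hy, ← Subgroup.orderOf_coe]
        exact pow_orderOf_eq_one _
      have h4 : sign (y : Perm (Fin 8)) ^ 7 = 1 := by rw [← map_pow, h1, map_one]
      rcases Int.units_eq_one_or (sign (y : Perm (Fin 8))) with h5 | h5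
      · exact h5
      · rw [h5] at h4
        exact absurd h4 (by decide)
    have hnA : (alternatingGroup (Fin 8)).Normal := inferInstance
    have hconj : ∀ g ∈ L, ∀ x ∈ L ⊓ alternatingGroup (Fin 8), g * x * g⁻¹ ∈ L ⊓ alternatingGroup (Fin 8) := by
      rintro g hg x ⟨hx, hxA⟩
      exact ⟨L.mul_mem (L.mul_mem hg hx) (L.inv_mem hg), hnA.conj_mem x hxA g⟩
    have hy1 : (y : Perm (Fin 8)) ≠ 1 := by
      intro h
      have h1 : y = 1 := Subtype.ext h
      rw [h1, orderOf_one] at hy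
      norm_num at hy
    have hne : (alternatingGroup (Fin 8)).subgroupOf L ≠ ⊥ := by
      intro h
      have h1 : y ∈ (alternatingGroup (Fin 8)).subgroupOf L := mem_subgroupOf.2 hyA
      rw [h, mem_bot] at h1
      exact hy1 (congrArg Subtype.val h1)
    have htr0 := trans_of_normal hP ((alternatingGroup (Fin 8)).subgroupOf L) inferInstance hne
    have htr : IsPretransitive (L ⊓ alternatingGroup (Fin 8) : Subgroup (Perm (Fin 8))) (Fin 8) := by
      refine ⟨fun i j => ?_⟩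
      obtain ⟨x, hx⟩ := htr0.exists_smul_eq i j
      exact ⟨⟨((x : L) : Perm (Fin 8)), (x : L).2, mem_subgroupOf.1 x.2⟩, hx⟩
    have hM7 : 7 ∣ Nat.card (L ⊓ alternatingGroup (Fin 8) : Subgroup (Perm (Fin 8))) := by
      have h1 := _root_.orderOf_dvd_natCard (⟨y, y.2, hyA⟩ : (L ⊓ alternatingGroup (Fin 8) : Subgroup (Perm (Fin 8))))
      rw [← Subgroup.orderOf_coe] at h1
      change orderOf (y : Perm (Fin 8)) ∣ _ at h1
      rw [Subgroup.orderOf_coe, hy] at h1
      exact h1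
    have hM := card_trans htr
    have hMd : Nat.card (L ⊓ alternatingGroup (Fin 8) : Subgroup (Perm (Fin 8))) ∣ 1344 :=
      (card_dvd_of_le inf_le_left).trans hcard
    set M := L ⊓ alternatingGroup (Fin 8) with hMdef
    have hD7 : 7 ∣ Nat.card (M.comap iota) := by
      rw [hM] at hM7
      exact Nat.Coprime.dvd_of_dvd_mul_left (by norm_num) hM7
    have hD168 : Nat.card (M.comap iota) ∣ 168 := by
      rw [hM, show 1344 = 8 * 168 by norm_num] at hMd
      exact Nat.dvd_of_mul_dvd_mul_left (by norm_num) hMd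
    have hDA : M.comap iota ≤ A7 := by
      intro d hd
      exact iota_mem_alt.1 (show iota d ∈ alternatingGroup (Fin 8) from (mem_comap.1 hd).2)
    have hDn : ¬ A7 ≤ M.comap iota := by
      intro h
      have h1 := (card_dvd_of_le h).trans hD168
      rw [card_A7] at h1
      norm_num at h1
    have hMne : M ≠ ⊥ := by
      intro h
      rw [h, card_bot] at hM7
      norm_num at hM7
    refine ⟨M, Or.inr ?_, eq_inf_norm hG hL inf_le_left hMne hconj⟩
    obtain ⟨Y, hY⟩ := exists_Ys hD7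
    rcases dich hDA hDn hY with h | h
    · left
      obtain ⟨h21, -⟩ := norm_A7 hY.2
      have hle : M.comap iota ≤ normalizer (Y : Set (Perm (Fin 7))) ⊓ A7 := le_inf h hDA
      have hd := card_dvd_of_le hle
      rw [h21] at hd
      have hodd : Odd (Nat.card (M.comap iota)) := Odd.of_dvd_nat (by decide) hd
      obtain ⟨s, hsM, hs⟩ := exists_S15 htr hD7 hodd
      refine ⟨(M.comap iota, s), ⟨?_, hs⟩, ?_⟩
      · obtain ⟨c, hc⟩ := hD7
        rw [hc, show 21 = 7 * 3 by norm_num] at hd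
        have hd' := Nat.dvd_of_mul_dvd_mul_left (by norm_num) hd
        rcases (Nat.dvd_prime Nat.prime_three).1 hd' with h1 | h1
        · left
          have : Y = M.comap iota := Subgroup.eq_of_le_of_card_ge hY.1 (by rw [hc, hY.2, h1])
          show M.comap iota ∈ Ys 7 ⊤
          rw [← this]
          exact ⟨le_top, hY.2⟩
        · right
          refine ⟨Y, ⟨le_top, hY.2⟩, ?_⟩
          symm
          exact Subgroup.eq_of_le_of_card_ge hle (by rw [hc, h21, h1])
      · symm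
        exact eq_gen htr hD7 hsM (by rw [hs.2.2]; decide)
    · right
      exact ⟨htr, hDA, h.1⟩
  · -- a solvable group
    have h1 : Nat.card L ∣ 2 ^ 6 * 3 ^ 1 := by
      rw [show 1344 = 7 * (2 ^ 6 * 3 ^ 1) by norm_num] at hcard
      exact ((Nat.Prime.coprime_iff_not_dvd (by norm_num)).2 h7).symm.dvd_of_dvd_mul_left hcard
    obtain ⟨y, z, hy, hz, hyz⟩ := Nat.dvd_mul.1 h1
    obtain ⟨a, -, rfl⟩ := (Nat.dvd_prime_pow (by norm_num)).1 hy
    obtain ⟨b, -, rfl⟩ := (Nat.dvd_prime_pow (by norm_num)).1 hz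
    have hs : Group.IsSolvable L := Cfsg.Agent.S0144.result 2 3 a b (by norm_num) (by norm_num) hyz.symm
    obtain ⟨X, hX, hXL, hXn⟩ := exists_EE hP hs
    exact ⟨X, Or.inl hX, eq_inf_norm hG hL hXL (EE.ne_bot hX) hXn⟩

open scoped Pointwise in
theorem ncard_maxNot {G : Subgroup (Perm (Fin 8))} (hG : alternatingGroup (Fin 8) ≤ G) :
    {L : Subgroup (Perm (Fin 8)) | MaxNot G L}.ncard ≤ 10607 := by
  classical
  have hcov : {L : Subgroup (Perm (Fin 8)) | MaxNot G L} ⊆
      ((fun Δ : Set (Fin 8) => G ⊓ stabilizer (Perm (Fin 8)) Δ) '' Set.univ ∪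
      (fun B : Set (Fin 8) => G ⊓ stabilizer (Perm (Fin 8)) ({B, Bᶜ} : Set (Set (Fin 8)))) '' Set.univ ∪
      (fun τ : Perm (Fin 8) => G ⊓ centralizer ({τ} : Set (Perm (Fin 8)))) '' {τ | τ.cycleType = Multiset.replicate 4 2} ∪
      (fun X : Subgroup (Perm (Fin 8)) => G ⊓ normalizer (X : Set (Perm (Fin 8)))) '' (EE ∪ M1 ∪ M2)) := by
    intro L hL
    by_cases ht : IsPretransitive L (Fin 8)
    · by_cases hP : IsPreprimitive L (Fin 8)
      · obtain ⟨X, h1, h2⟩ := case_prim hG hL hP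
        refine Or.inr ⟨X, ?_, h2.symm⟩
        rcases h1 with h1 | h1 | h1
        · exact Or.inl (Or.inl h1)
        · exact Or.inl (Or.inr h1)
        · exact Or.inr h1
      · obtain ⟨B, hB, hBt⟩ : ∃ B : Set (Fin 8), IsBlock L B ∧ ¬ IsTrivialBlock B := by
          by_contra hcon
          push Not at hcon
          exact hP { ht with isTrivialBlock_of_isBlock := fun {B} hB => hcon B hB }
        have hBne : B.Nonempty := by
          by_contra h0
          rw [Set.not_nonempty_iff_eq_empty] at h0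
          exact hBt (Or.inl (by rw [h0]; exact Set.subsingleton_empty))
        have h1 := hB.ncard_block_mul_ncard_orbit_eq hBne
        rw [Nat.card_fin] at h1
        have h2 : B.ncard ≠ 1 := fun h3 => hBt (Or.inl (Set.ncard_le_one_iff_subsingleton.1 h3.le))
        have h3 : B.ncard ≠ 8 := fun h3 => hBt (Or.inr (Set.eq_of_subset_of_ncard_le (Set.subset_univ B) (by
          rw [Set.ncard_univ, Nat.card_fin, h3])))
        have h4 : B.ncard ∣ 8 := Dvd.intro _ h1
        have h5 : B.ncard ≤ 8 := Nat.le_of_dvd (by norm_num) h4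
        have h6 : B.ncard = 2 ∨ B.ncard = 4 := by
          interval_cases h : B.ncard <;> (clear * - h1 h2 h3; omega)
        rcases h6 with h6 | h6
        · obtain ⟨τ, h7, h8⟩ := case_two hG hL ht hB h6
          exact Or.inl (Or.inr ⟨τ, h7, h8.symm⟩)
        · exact Or.inl (Or.inl (Or.inr ⟨B, Set.mem_univ _, (case_four hG hL hB h6).symm⟩))
    · obtain ⟨Δ, h1⟩ := case_orbit hG hL ht
      exact Or.inl (Or.inl (Or.inl ⟨Δ, Set.mem_univ _, h1.symm⟩))
  refine (Set.ncard_le_ncard hcov (Set.toFinite _)).trans ?_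
  have hset : (Set.univ : Set (Set (Fin 8))).ncard = 256 := by
    rw [Set.ncard_univ, Nat.card_eq_fintype_card, Fintype.card_set, Fintype.card_fin]
    norm_num
  have e1 : ((fun Δ : Set (Fin 8) => G ⊓ stabilizer (Perm (Fin 8)) Δ) '' Set.univ).ncard ≤ 256 := by
    rw [← hset]; exact Set.ncard_image_le Set.finite_univ
  have e2 : ((fun B : Set (Fin 8) => G ⊓ stabilizer (Perm (Fin 8)) ({B, Bᶜ} : Set (Set (Fin 8)))) ''
      Set.univ).ncard ≤ 256 := by
    rw [← hset]; exact Set.ncard_image_le Set.finite_univ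
  have e3 : ((fun τ : Perm (Fin 8) => G ⊓ centralizer ({τ} : Set (Perm (Fin 8)))) ''
      {τ | τ.cycleType = Multiset.replicate 4 2}).ncard ≤ 105 := by
    refine (Set.ncard_image_le (Set.toFinite _)).trans ?_
    have h1 := Equiv.Perm.card_of_cycleType (Fin 8) (Multiset.replicate 4 2)
    rw [if_pos ⟨by simp, fun a ha => (Multiset.eq_of_mem_replicate ha).ge⟩] at h1
    have h2 : ({τ : Perm (Fin 8) | τ.cycleType = Multiset.replicate 4 2} : Set (Perm (Fin 8))).ncard =
        Finset.card {τ : Perm (Fin 8) | τ.cycleType = Multiset.replicate 4 2} := by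
      rw [← Set.ncard_coe_finset, Finset.coe_filter_univ]
    rw [h2, h1, Fintype.card_fin, Multiset.sum_replicate, Multiset.prod_replicate, Multiset.toFinset_replicate,
      if_neg (by norm_num), Finset.prod_singleton, Multiset.count_replicate_self]
    norm_num [Nat.factorial]
  have e4 : ((fun X : Subgroup (Perm (Fin 8)) => G ⊓ normalizer (X : Set (Perm (Fin 8)))) '' (EE ∪ M1 ∪ M2)).ncard ≤ 9990 := by
    refine (Set.ncard_image_le (Set.toFinite _)).trans ?_
    have h1 := Set.ncard_union_le (EE ∪ M1) M2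
    have h2 := Set.ncard_union_le EE M1
    have h3 := ncard_EE
    have h4 := ncard_M1
    have h5 := ncard_M2
    omega
  refine (Set.ncard_union_le _ _).trans ?_
  refine (Nat.add_le_add ((Set.ncard_union_le _ _).trans (Nat.add_le_add ((Set.ncard_union_le _ _).trans
    (Nat.add_le_add e1 e2)) e3)) e4).trans ?_
  norm_num

end A8

open Cfsg.Agent.H284

/-- **`soc(A) = A₈`** -/
theorem index_le_eight_soc {Q : Type*} [Group Q] [Finite Q] {A N : Subgroup Q} {Γ : Subgroup (MulAut Q)}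
    (h : EPT A Γ) (hS : Soc A N) (e : N ≃* alternatingGroup (Fin 8)) : A.index ≤ 122000000 := by
  obtain ⟨G, hG, h1⟩ := index_le_maxNot hS h (by norm_num) e
  refine h1.trans ((Nat.pow_le_pow_left (A8.ncard_maxNot hG) 2).trans ?_)
  norm_num

/-- **`soc(A) = A₈`** -/
theorem index_le_eight {Q : Type*} [Group Q] [Finite Q] {A : Subgroup Q} {Γ : Subgroup (MulAut Q)}
    (h : EPT A Γ) (hS : Cfsg.Agent.H419.EP.HasSoc A (alternatingGroup (Fin 8))) : A.index ≤ 122000000 := by
  obtain ⟨N, h1, h2, h3, ⟨e⟩⟩ := hS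
  exact index_le_eight_soc h ⟨h1, h2, h3⟩ e

end Cfsg.Agent.H417.EP
end

private theorem dce_17a0e947c621 : _root_.True := by
  try have : _root_.True := by simp only [_root_.Cfsg.Agent.H417.EP.A8.gen.eq_1]
  exact _root_.True.intro
end

-- part: H273/EPU/PType
section
set_option linter.all false
open scoped Cfsg.Agent.FastGrp

/-!
# S3499, the members of `LocK L` with `O_p ≠ 1` for `L` of Lie type in characteristic `p` (helper273)

`ncard_p_le` : `HasFilt p L`: there are at most `|L| ^ 2` subgroups `K ∈ LocK L` with `O_p(K) ≠ 1` (they are parabolic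
subgroups); `ncard_p_le_pow` : at most `2 ^ l * |L|`, `l` = rank.
-/

set_option autoImplicit false
set_option linter.unusedSectionVars false

namespace Cfsg.Agent.H273.EPU

open CoxeterSystem Subgroup Cfsg Cfsg.Agent.ChevalleyStructure.CoxeterGeom Cfsg.Agent.Tits.Roots
open Cfsg.Agent.Tits.Core Cfsg.Agent.Tits.Exchange Cfsg.Agent.Nodes.Reps Cfsg.Agent.Nodes.BNOf
open Cfsg.Agent.Nodes.StabComb Cfsg.Agent.Nodes.Bruhat Cfsg.Agent.Nodes.LeviDec

/-- a `p`-subgroup `V ≥ Q` with `V ∩ N(Q) ≤ Q` is `Q` -/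
theorem eq_of_inf_normalizer_le {Y : Type*} [Group Y] [Finite Y] {p : ℕ} [Fact p.Prime] {Q V : Subgroup Y}
    (hQV : Q ≤ V) (hV : IsPGroup p V) (h1 : V ⊓ normalizer (Q : Set Y) ≤ Q) : V = Q := by
  by_contra hne
  have hnil : Group.IsNilpotent V := hV.isNilpotent
  have h2 : Q.subgroupOf V < ⊤ := by
    rw [lt_top_iff_ne_top]
    intro h3
    exact hne (le_antisymm (subgroupOf_eq_top.1 h3) hQV)
  have h3 := Group.normalizerCondition_of_isNilpotent (G := V) _ h2
  rw [← subgroupOf_normalizer_eq hQV] at h3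
  obtain ⟨⟨x, hxV⟩, hx1, hx2⟩ := SetLike.exists_of_lt h3
  rw [mem_subgroupOf] at hx1 hx2
  exact hx2 (h1 ⟨hxV, hx1⟩)

/-- the members of `LocK` are the normalisers of their cores -/
theorem normalizer_core {Y : Type*} [Group Y] {p : ℕ} {K : Subgroup Y} (hK : K ∈ LocK Y) (hp : pCore p K ≠ ⊥) :
    normalizer (((pCore p K).map K.subtype : Subgroup Y) : Set Y) = K := by
  apply le_antisymm
  · exact hK.2 _ (Cfsg.Agent.Lib.Cores.pCore_characteristic p) hp
  · intro k hk
    have hn := Cfsg.Agent.Lib.Cores.pCore_normal (G := K) p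
    have key : ∀ m ∈ K, ∀ y ∈ (pCore p K).map K.subtype, m * y * m⁻¹ ∈ (pCore p K).map K.subtype := by
      rintro m hm _ ⟨y, hy, rfl⟩
      exact ⟨_, hn.conj_mem y hy ⟨m, hm⟩, rfl⟩
    rw [mem_normalizer_iff]
    intro y
    refine ⟨key k hk y, fun h => ?_⟩
    have h1 := key k⁻¹ (K.inv_mem hk) _ h
    have e : k⁻¹ * (k * y * k⁻¹) * k⁻¹⁻¹ = y := by group
    rwa [e] at h1

section RGD

variable {I W Y : Type*} [Fintype I] [DecidableEq I] [Group W] [Group Y] {M : CoxeterMatrix I}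
  {cs : CoxeterSystem M W} {A : I → I → ℤ} {h : IsCartan M A} {p : ℕ} {T : Subgroup Y} {n : I → Y}
  {X : (I → ℤ) → Subgroup Y}

/-- the members of `LocK` with `O_p ≠ 1` are parabolic subgroups -/
theorem exists_PJ [Finite W] [Finite Y] [Fact p.Prime] {R : RGD cs h p T n X}
    {F : (I → ℤ) → ℝ → Subgroup Y} (hF : KFacts.RgdBorelTits.Filt R F) (hG : Nodes.RGDLib.G1 cs h X = ⊤)
    {K : Subgroup Y} (hK : K ∈ LocK Y) (hp : pCore p K ≠ ⊥) : ∃ (g : Y) (J : Set I), K = cj g (PJ cs h T X J) := by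
  set Q : Subgroup Y := (pCore p K).map K.subtype with hQd
  have hQK : Q ≤ K := by
    rintro _ ⟨y, _, rfl⟩
    exact y.2
  have hQ : IsPGroup p Q := (Cfsg.Agent.Lib.Cores.pCore_isPGroup p).map _
  have hQ1 : Q ≠ ⊥ := by
    intro e
    rw [hQd, Subgroup.map_eq_bot_iff_of_injective _ K.subtype_injective] at e
    exact hp e
  have hN : normalizer (Q : Set Y) = K := normalizer_core hK hp
  obtain ⟨g, J, hJ, h1, h2⟩ := KFacts.RgdFilt.borel_tits_of_filt hF hG hQ hQ1
  have hV : IsPGroup p (cj g (VJ cs h X J)) := by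
    unfold cj
    exact (KFacts.RgdCharP.isPGroup_VJ R J).map _
  have h3 : cj g (PJ cs h T X J) ≤ normalizer ((cj g (VJ cs h X J) : Subgroup Y) : Set Y) := by
    rw [Nodes.NormX.normalizer_cj]
    exact Subgroup.map_mono (PJ_le_normalizer_VJ R J)
  have h4 : cj g (VJ cs h X J) = Q := by
    refine eq_of_inf_normalizer_le h1 hV ?_
    rw [show normalizer (Q : Set Y) = K from hN]
    -- `V ⊓ K` is a normal `p`-subgroup of `K`
    have hn : ((cj g (VJ cs h X J)).subgroupOf K).Normal := by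
      constructor
      intro y hy k
      rw [mem_subgroupOf] at hy ⊢
      have hkN : (k : Y) ∈ normalizer (Q : Set Y) := by
        rw [hN]
        exact k.2
      have hk : (k : Y) ∈ normalizer ((cj g (VJ cs h X J) : Subgroup Y) : Set Y) := h3 (h2 hkN)
      exact (mem_normalizer_iff.1 hk _).1 hy
    have hpg : IsPGroup p ((cj g (VJ cs h X J)).subgroupOf K) := by
      intro y
      obtain ⟨m, hm⟩ := hV ⟨y.1.1, y.2⟩
      refine ⟨m, Subtype.ext (Subtype.ext ?_)⟩
      have := congrArg Subtype.val hm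
      simpa using this
    intro y hy
    have h5 : (⟨y, hy.2⟩ : K) ∈ pCore p K := by
      rw [Cfsg.Agent.Lib.Cores.pCore_def]
      exact (le_sSup (show (cj g (VJ cs h X J)).subgroupOf K ∈ {N : Subgroup K | N.Normal ∧ IsPGroup p N} from
        ⟨hn, hpg⟩)) hy.1
    exact ⟨_, h5, rfl⟩
  refine ⟨g, J, le_antisymm ?_ ?_⟩
  · rw [← hN]
    exact h2
  · rw [h4, hN] at h3
    exact h3

theorem ncard_p_le_pow [Finite W] [Finite Y] [Fact p.Prime] {R : RGD cs h p T n X}
    {F : (I → ℤ) → ℝ → Subgroup Y} (hF : KFacts.RgdBorelTits.Filt R F) (hG : Nodes.RGDLib.G1 cs h X = ⊤) :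
    {K ∈ LocK Y | pCore p K ≠ ⊥}.ncard ≤ Nat.card Y * 2 ^ Fintype.card I := by
  classical
  have h1 : {K ∈ LocK Y | pCore p K ≠ ⊥} ⊆ Set.range fun z : Y × Set I => cj z.1 (PJ cs h T X z.2) := by
    rintro K ⟨hK, hKp⟩
    obtain ⟨g, J, e⟩ := exists_PJ hF hG hK hKp
    exact ⟨(g, J), e.symm⟩
  refine (Set.ncard_le_ncard h1 (Set.toFinite _)).trans ?_
  rw [← Set.image_univ]
  refine (Set.ncard_image_le (Set.toFinite _)).trans ?_
  rw [Set.ncard_univ, Nat.card_prod, Nat.card_eq_fintype_card (α := Set I), Fintype.card_set]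

theorem n_mem_PJ_iff [Finite W] (R : RGD cs h p T n X) {J : Set I} {i : I} : n i ∈ PJ cs h T X J ↔ i ∈ J := by
  rw [cell_mem_PJ_iff R (cell_of_rp (rp_simple cs R.nsys i))]
  exact ⟨Cfsg.Agent.Tits.Ext.mem_of_simple_mem_WJ fun i j hij => by
    by_contra hne
    exact RGD.simple_ne (h := h) hne hij, fun hi => Cfsg.Agent.Tits.Exchange.simple_mem_WJ cs hi⟩

end RGD

/-- the rank is at most `log |Y|` -/
theorem two_pow_le {l : ℕ} {W Y : Type*} [Group W] [Group Y] {M : CoxeterMatrix (Fin l)}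
    {cs : CoxeterSystem M W} {A : Fin l → Fin l → ℤ} {h : IsCartan M A} {p : ℕ} {T : Subgroup Y} {n : Fin l → Y}
    {X : (Fin l → ℤ) → Subgroup Y} [Finite W] [Finite Y] (R : RGD cs h p T n X) : 2 ^ l ≤ Nat.card Y := by
  have key : ∀ k ≤ l, 2 ^ k ≤ Nat.card (PJ cs h T X {i : Fin l | (i : ℕ) < k}) := by
    intro k
    induction k with
    | zero => exact fun _ => Nat.card_pos
    | succ k ih =>
      intro hk
      have h1 := ih (by omega)
      have hle : PJ cs h T X {i : Fin l | (i : ℕ) < k} ≤ PJ cs h T X {i : Fin l | (i : ℕ) < k + 1} := by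
        intro g hg
        rw [mem_PJ_iff_cell R] at hg ⊢
        obtain ⟨w, hw, hc⟩ := hg
        refine ⟨w, Cfsg.Agent.Tits.Exchange.WJ_mono cs ?_ hw, hc⟩
        intro i hi
        exact Nat.lt_succ_of_lt hi
      have hne : PJ cs h T X {i : Fin l | (i : ℕ) < k} ≠ PJ cs h T X {i : Fin l | (i : ℕ) < k + 1} := by
        intro e
        have h2 : n ⟨k, by omega⟩ ∈ PJ cs h T X {i : Fin l | (i : ℕ) < k + 1} :=
          (n_mem_PJ_iff R).2 (Nat.lt_succ_self k)
        rw [← e, n_mem_PJ_iff R] at h2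
        exact lt_irrefl k h2
      obtain ⟨c, hc⟩ := Subgroup.card_dvd_of_le hle
      have hc2 : 2 ≤ c := by
        by_contra hlt
        have h5 : c = 0 ∨ c = 1 := by omega
        rcases h5 with rfl | rfl
        · rw [mul_zero] at hc
          exact Nat.card_pos.ne' hc
        · rw [mul_one] at hc
          exact hne (Subgroup.eq_of_le_of_card_ge hle hc.le)
      rw [hc, pow_succ]
      exact Nat.mul_le_mul h1 hc2
  exact (key l le_rfl).trans (Nat.card_le_card_of_injective _ (Subgroup.subtype_injective _))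

/-- **the members of `LocK L` with `O_p ≠ 1`**, `L` of Lie type in characteristic `p` -/
theorem ncard_p_le {Y : Type*} [Group Y] [Finite Y] {p : ℕ} [Fact p.Prime] (hY : KFacts.RgdFilt.HasFilt p Y) :
    {K ∈ LocK Y | pCore p K ≠ ⊥}.ncard ≤ Nat.card Y ^ 2 := by
  obtain ⟨l, M, A, h, T, n, X, R, F, hW, hG, hF⟩ := hY
  refine (ncard_p_le_pow hF hG).trans ?_
  rw [Fintype.card_fin, pow_two]
  exact Nat.mul_le_mul_left _ (two_pow_le R)

end Cfsg.Agent.H273.EPU
end

-- part: H84/EP/SpA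
section
set_option linter.all false
open scoped Cfsg.Agent.FastGrp

/-!
# S3499, `Sp₆(2)` : the group `D = O₂(P₃)` and three elements of `L₃(2)` (helper84)

`W = {enc c | c < 8}` maximal isotropic, `pt i = enc (i + 1)` its nonzero vectors, `tr (pt i)` generate `D = 2⁶`.
-/

set_option autoImplicit false

namespace Cfsg.Agent.H84.EP

open Cfsg Matrix Cfsg.Agent.SporRec.TwoSp6.Sp
open Cfsg.Agent.H876 (spToGL)

/-- the nonzero vectors of `W` -/
def pt (i : Fin 7) : V := enc (i.val + 1)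

theorem om_pt (i j : Fin 7) : om (pt i) (pt j) = 0 := by
  unfold pt
  rw [om_enc]
  have : ∀ i j : Fin 7, fN (i.val + 1) (j.val + 1) = false := by decide
  rw [this i j]
  rfl

private noncomputable def _root_.Cfsg.Agent.KO5629010.k0 : type_of% @Decidable.decide := @(fun x0 x1 => @Decidable.rec.{1} _ @(fun x2 => @Bool) @(fun x2 => @Bool.false) @(fun x2 => @Bool.true) @x1)
private theorem _root_.Cfsg.Agent.KO5629010.e0 : @Decidable.decide = @_root_.Cfsg.Agent.KO5629010.k0 := by delta _root_.Cfsg.Agent.KO5629010.k0; rfl'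
private noncomputable def _root_.Cfsg.Agent.KO5629010.k1l (n : Nat) (P : ∀ k, k < n → Prop) (H : ∀ k h, Decidable (P k h)) (m : Nat) : m ≤ n → Bool := @Nat.rec (fun m => m ≤ n → Bool) (fun _ => true) (fun k ih h => @Decidable.rec (P k h) (fun _ => Bool) (fun _ => false) (fun _ => ih (Nat.le_of_succ_le h)) (H k h)) m
private theorem _root_.Cfsg.Agent.KO5629010.k1ls (n : Nat) (P : ∀ k, k < n → Prop) (H : ∀ k h, Decidable (P k h)) (m : Nat) : ∀ h : m ≤ n, _root_.Cfsg.Agent.KO5629010.k1l n P H m h = true ↔ ∀ k (g : k < m), P k (Nat.lt_of_lt_of_le g h) := by induction m with | zero => exact fun _ => ⟨fun _ _ g => absurd g (Nat.not_lt_zero _), fun _ => rfl⟩ | succ m ih => intro h; show @Decidable.rec (P m h) (fun _ => Bool) (fun _ => false) (fun _ => _root_.Cfsg.Agent.KO5629010.k1l n P H m (Nat.le_of_succ_le h)) (H m h) = true ↔ _; cases H m h with | isFalse q => exact ⟨fun g => absurd g Bool.false_ne_true, fun g => absurd (g m (Nat.lt_succ_self m))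 q⟩ | isTrue q => exact ⟨fun g k hk => (Nat.lt_succ_iff_lt_or_eq.1 hk).elim ((ih _).1 g k) fun e => by subst e; exact q, fun g => (ih _).2 fun k hk => g k (Nat.lt_succ_of_lt hk)⟩
private noncomputable def _root_.Cfsg.Agent.KO5629010.k1 (n : Nat) (P : ∀ k, k < n → Prop) (H : ∀ k h, Decidable (P k h)) : Decidable (∀ k h, P k h) := @Bool.rec (fun b => _root_.Cfsg.Agent.KO5629010.k1l n P H n (Nat.le_refl n) = b → Decidable (∀ k h, P k h)) (fun g => isFalse fun q => Bool.false_ne_true (g.symm.trans ((_root_.Cfsg.Agent.KO5629010.k1ls n P H n _).2 fun k h => q k h))) (fun g => isTrue fun k h => (_root_.Cfsg.Agent.KO5629010.k1ls n P H n _).1 g k h) (_root_.Cfsg.Agent.KO5629010.k1l n P H n (Nat.le_refl n)) rfl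
private theorem _root_.Cfsg.Agent.KO5629010.e1 : @Nat.decidableBallLT = @_root_.Cfsg.Agent.KO5629010.k1 := funext fun _ => funext fun _ => funext fun _ => Subsingleton.elim _ _
private noncomputable def _root_.Cfsg.Agent.KO5629010.k2 : type_of% @forall_prop_decidable := @(fun x0 x1 x2 x3 => @Decidable.rec.{1} _ @(fun x4 => @Decidable ((x5 : @x0) → @x1 @x5)) @(fun x4 => @Decidable.isTrue _ (@forall_prop_decidable._proof_2 _ @x1 @x4)) @(fun x4 => @Decidable.rec.{1} _ @(fun x5 => @Decidable ((x6 : @x0) → @x1 @x6)) @(fun x5 => @Decidable.isFalse _ (@decidable_of_decidable_of_iff._proof_1 _ _ (@forall_prop_decidable._proof_1 _ @x1 @x4) @x5)) @(fun x5 => @Decidable.isTrue _ (@Iff.mp _ _ (@forall_prop_decidable._proof_1 _ @x1 @x4) @x5)) (@x3 @x4)) @x2)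
private theorem _root_.Cfsg.Agent.KO5629010.e2 : @forall_prop_decidable = @_root_.Cfsg.Agent.KO5629010.k2 := by delta _root_.Cfsg.Agent.KO5629010.k2; rfl'
private noncomputable def _root_.Cfsg.Agent.KO5629010.k3.{ku0, ku1} : type_of% @Quot.rec.{ku0, ku1} := @(fun x0 x1 x2 x3 x4 x5 => @Eq.rec.{ku1, ku0} (@Quot.{ku0} _ @x1) (@PSigma.fst.{ku0, ku1} _ _ (@Quot.lift.{ku0, (max (max 1 ku1) ku0)} _ _ _ (@Quot.indep.{ku0, ku1} _ _ _ @x3) (@Quot.indepCoherent.{ku0, ku1} _ _ _ @x3 @x4) @x5)) @(fun x6 x7 => @x2 @x6) (@PSigma.snd.{ku0, ku1} _ _ (@Quot.lift.{ku0, (max (max 1 ku1) ku0)} _ _ _ (@Quot.indep.{ku0, ku1} _ _ _ @x3) (@Quot.indepCoherent.{ku0, ku1} _ _ _ @x3 @x4) @x5)) @x5 (@Quot.liftIndepPr1.{ku0, ku1} _ _ _ @x3 @x4 @x5))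
private theorem _root_.Cfsg.Agent.KO5629010.e3.{ku0, ku1} : @Quot.rec.{ku0, ku1} = @_root_.Cfsg.Agent.KO5629010.k3.{ku0, ku1} := by delta _root_.Cfsg.Agent.KO5629010.k3; rfl'
private noncomputable def _root_.Cfsg.Agent.KO5629010.k4.{ku0, ku1} : type_of% @Quot.recOnSubsingleton.{ku0, ku1} := @(fun x0 x1 x2 x3 x4 x5 => @Cfsg.Agent.KO5629010.k3.{ku0, ku1} _ _ @(fun x6 => @x2 @x6) @(fun x6 => @x5 @x6) (@Quot.recOnSubsingleton._proof_1.{ku1, ku0} _ _ _ _ @x5) @x4)
private theorem _root_.Cfsg.Agent.KO5629010.e4.{ku0, ku1} : @Quot.recOnSubsingleton.{ku0, ku1} = @_root_.Cfsg.Agent.KO5629010.k4.{ku0, ku1} := by delta _root_.Cfsg.Agent.KO5629010.k4; rewrite [← Cfsg.Agent.KO5629010.e3.{ku0, ku1}]; rfl'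
private theorem _root_.Cfsg.Agent.KO5629010.e5.{ku, kv} {α : Type kv} {M : List α → Sort ku} (φ : ∀ l, M l) {z : M List.nil} {s : ∀ a l, M l → M (List.cons a l)} (h0 : φ List.nil = z) (hs : ∀ a l, φ (List.cons a l) = s a l (φ l)) (l : List α) : φ l = @List.rec α M z s l := List.rec h0 (fun a l ih => (hs a l).trans (congrArg (s a l) ih)) l
private noncomputable def _root_.Cfsg.Agent.KO5629010.k6.{ku0} : type_of% @List.decidableBAll.{ku0} := @(fun x0 x1 x2 x3 => @List.rec.{1, ku0} @x0 @(fun x4 => @Decidable ((x5 : @x0) → (@Membership.mem.{ku0, ku0} _ _ _ @x4 @x5) → @x1 @x5)) (@Decidable.isTrue _ (@List.decidableBAll._proof_1.{ku0} _ @x1)) @(fun x4 x5 x6 => @Decidable.rec.{1} _ @(fun x7 => @Decidable ((x8 : @x0) → (@Membership.mem.{ku0, ku0} _ _ _ (@x4 :: @x5) @x8) → @x1 @x8)) @(fun x7 => @Decidable.isFalse _ (@List.decidableBAll._proof_4.{ku0} _ @x1 @x4 @x5 @x7)) @(fun x7 => @Decidable.rec.{1} _ @(fun x8 => @Decidable ((x9 : @x0) → (@Membership.mem.{ku0,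 ku0} _ _ _ (@x4 :: @x5) @x9) → @x1 @x9)) @(fun x8 => @Decidable.isFalse _ (@List.decidableBAll._proof_3.{ku0} _ @x1 @x4 @x5 @x8)) @(fun x8 => @Decidable.isTrue _ (@List.decidableBAll._proof_2.{ku0} _ @x1 @x4 @x5 @x7 @x8)) @x6) (@x2 @x4)) @x3)
private theorem _root_.Cfsg.Agent.KO5629010.e6.{ku0} : @List.decidableBAll.{ku0} = @_root_.Cfsg.Agent.KO5629010.k6.{ku0} := by delta _root_.Cfsg.Agent.KO5629010.k6; funext a0 a1 a2 a3; refine (_root_.Cfsg.Agent.KO5629010.e5 (fun a3 => @List.decidableBAll.{ku0} a0 a1 a2 a3) ?_ (fun c0 c1 => ?_) a3 :) <;> (rfl')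
private noncomputable def _root_.Cfsg.Agent.KO5629010.k7.{ku0} : type_of% @Multiset.decidableForallMultiset.{ku0} := @(fun (x0 : Sort (ku0+1)) (x1 : @Multiset.{ku0} @x0) (x2 : (x0 → Prop)) (x3 : ((x3 : x0) → @Decidable (@x2 @x3))) => @Cfsg.Agent.KO5629010.k4.{(ku0+1), 1} (@List.{ku0} @x0) (@Setoid.r.{(ku0+1)} (@List.{ku0} @x0) (@List.isSetoid.{ku0} @x0)) @(fun (x4 : @Quotient.{(ku0+1)} (@List.{ku0} @x0) (@List.isSetoid.{ku0} @x0)) => @Decidable ((x5 : x0) → ((@Membership.mem.{ku0, ku0} @x0 (@Multiset.{ku0} @x0) (@Multiset.instMembership.{ku0} @x0) @x4 @x5) → @x2 @x5))) (@Multiset.decidableForallMultiset._proof_2.{ku0} @x0 @x2) @x1 @(fun (x4 : @List.{ku0} @x0) => @Decidable.rec.{1} ((x5 : x0) → ((@Membership.mem.{ku0, ku0} @x0 (@List.{ku0} @x0) (@List.instMembership.{ku0} @x0) @x4 @x5) → @x2 @x5)) @(fun (x5 : @Decidable ((x5 : x0) → ((@Membership.mem.{ku0, ku0} @x0 (@List.{ku0} @x0) (@List.instMembership.{ku0} @x0) @x4 @x5) → @x2 @x5))) => @Decidable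 ((x6 : x0) → ((@Membership.mem.{ku0, ku0} @x0 (@Multiset.{ku0} @x0) (@Multiset.instMembership.{ku0} @x0) (@Quotient.mk.{(ku0+1)} (@List.{ku0} @x0) (@List.isSetoid.{ku0} @x0) @x4) @x6) → @x2 @x6))) @(fun (x5 : @Not ((x5 : x0) → ((@Membership.mem.{ku0, ku0} @x0 (@List.{ku0} @x0) (@List.instMembership.{ku0} @x0) @x4 @x5) → @x2 @x5))) => @Decidable.isFalse ((x6 : x0) → ((@Membership.mem.{ku0, ku0} @x0 (@Multiset.{ku0} @x0) (@Multiset.instMembership.{ku0} @x0) (@Quotient.mk.{(ku0+1)} (@List.{ku0} @x0) (@List.isSetoid.{ku0} @x0) @x4) @x6) → @x2 @x6)) (@decidable_of_decidable_of_iff._proof_1 ((x6 : x0) → ((@Membership.mem.{ku0, ku0} @x0 (@List.{ku0} @x0) (@List.instMembership.{ku0} @x0) @x4 @x6) → @x2 @x6)) ((x6 : x0) → ((@Membership.mem.{ku0, ku0} @x0 (@Multiset.{ku0} @x0) (@Multiset.instMembership.{ku0} @x0) (@Quotient.mk.{(ku0+1)} (@List.{ku0} @x0) (@List.isSetoid.{ku0} @x0) @x4) @x6) → @x2 @x6)) (@Multiset.decidableForallMultiset._proof_1.{ku0}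 @x0 @x2 @x4) @x5)) @(fun (x5 : ((x5 : x0) → ((@Membership.mem.{ku0, ku0} @x0 (@List.{ku0} @x0) (@List.instMembership.{ku0} @x0) @x4 @x5) → @x2 @x5))) => @Decidable.isTrue ((x6 : x0) → ((@Membership.mem.{ku0, ku0} @x0 (@Multiset.{ku0} @x0) (@Multiset.instMembership.{ku0} @x0) (@Quotient.mk.{(ku0+1)} (@List.{ku0} @x0) (@List.isSetoid.{ku0} @x0) @x4) @x6) → @x2 @x6)) (@Iff.mp ((x6 : x0) → ((@Membership.mem.{ku0, ku0} @x0 (@List.{ku0} @x0) (@List.instMembership.{ku0} @x0) @x4 @x6) → @x2 @x6)) ((x6 : x0) → ((@Membership.mem.{ku0, ku0} @x0 (@Multiset.{ku0} @x0) (@Multiset.instMembership.{ku0} @x0) (@Quotient.mk.{(ku0+1)} (@List.{ku0} @x0) (@List.isSetoid.{ku0} @x0) @x4) @x6) → @x2 @x6)) (@Multiset.decidableForallMultiset._proof_1.{ku0} @x0 @x2 @x4) @x5)) (@Cfsg.Agent.KO5629010.k6.{ku0} @x0 @x2 @x3 @x4)))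
private theorem _root_.Cfsg.Agent.KO5629010.e7.{ku0} : @Multiset.decidableForallMultiset.{ku0} = @_root_.Cfsg.Agent.KO5629010.k7.{ku0} := by delta _root_.Cfsg.Agent.KO5629010.k7; rewrite [← Cfsg.Agent.KO5629010.e6.{ku0}, ← Cfsg.Agent.KO5629010.e4.{(ku0+1), 1}]; rfl'
private noncomputable def _root_.Cfsg.Agent.KO5629010.k11.{ku0} : type_of% @Multiset.decidableDforallMultiset.{ku0} := @(fun x0 x1 x2 x3 => @Decidable.rec.{1} _ @(fun x4 => @Decidable ((x5 : @x0) → (x6 : @Membership.mem.{ku0, ku0} _ _ _ @x1 @x5) → @x2 @x5 @x6)) @(fun x4 => @Decidable.isFalse _ (@decidable_of_decidable_of_iff._proof_1 _ _ (@Multiset.decidableDforallMultiset._proof_2.{ku0} _ _ _) @x4)) @(fun x4 => @Decidable.isTrue _ (@Iff.mp _ _ (@Multiset.decidableDforallMultiset._proof_2.{ku0} _ _ _) @x4)) (@Cfsg.Agent.KO5629010.k7.{ku0} _ _ @(fun x4 => @x2 (@Subtype.val.{(ku0+1)} _ @(fun x5 => @Membership.mem.{ku0, ku0} _ _ _ @x1 @x5) @x4) (@Multiset.decidableDforallMultiset._proof_1.{ku0}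 _ _ @x4)) @(fun x4 => @x3 (@Subtype.val.{(ku0+1)} _ @(fun x5 => @Membership.mem.{ku0, ku0} _ _ _ @x1 @x5) @x4) (@Multiset.decidableDforallMultiset._proof_1.{ku0} _ _ @x4))))
private theorem _root_.Cfsg.Agent.KO5629010.e11.{ku0} : @Multiset.decidableDforallMultiset.{ku0} = @_root_.Cfsg.Agent.KO5629010.k11.{ku0} := by delta _root_.Cfsg.Agent.KO5629010.k11; rewrite [← Cfsg.Agent.KO5629010.e7.{ku0}]; rfl'
private noncomputable def _root_.Cfsg.Agent.KO5629010.k12.{ku0} : type_of% @Finset.decidableDforallFinset.{ku0} := @(fun x0 x1 x2 x3 => @Cfsg.Agent.KO5629010.k11.{ku0} _ _ _ @x3)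
private theorem _root_.Cfsg.Agent.KO5629010.e12.{ku0} : @Finset.decidableDforallFinset.{ku0} = @_root_.Cfsg.Agent.KO5629010.k12.{ku0} := by delta _root_.Cfsg.Agent.KO5629010.k12; rewrite [← Cfsg.Agent.KO5629010.e11.{ku0}]; rfl'
private noncomputable def _root_.Cfsg.Agent.KO5629010.k13.{ku0, ku1} : type_of% @Fintype.decidablePiFintype.{ku0, ku1} := @(fun x0 x1 x2 x3 x4 x5 => @Decidable.rec.{1} _ @(fun x6 => @Decidable (@Eq.{(max (ku0+1) (ku1+1))} _ @x4 @x5)) @(fun x6 => @Decidable.isFalse _ (@decidable_of_decidable_of_iff._proof_1 _ _ (@Fintype.decidablePiFintype._proof_2.{ku1, ku0} _ _ _ @x4 @x5) @x6)) @(fun x6 => @Decidable.isTrue _ (@Iff.mp _ _ (@Fintype.decidablePiFintype._proof_2.{ku1, ku0} _ _ _ @x4 @x5) @x6)) (@Cfsg.Agent.KO5629010.k12.{ku1} _ _ @(fun x6 x7 => @Eq.{(ku0+1)} _ (@x4 @x6) (@x5 @x6)) @(fun x6 x7 => @x2 @x6 (@x4 @x6) (@x5 @x6))))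
private theorem _root_.Cfsg.Agent.KO5629010.e13.{ku0, ku1} : @Fintype.decidablePiFintype.{ku0, ku1} = @_root_.Cfsg.Agent.KO5629010.k13.{ku0, ku1} := by delta _root_.Cfsg.Agent.KO5629010.k13; rewrite [← Cfsg.Agent.KO5629010.e12.{ku1}]; rfl'
private noncomputable def _root_.Cfsg.Agent.KO5629010.k14 : type_of% @Nat.decEq := @(fun x0 x1 => @Bool.rec.{1} @(fun x2 => (@Eq.{1} _ (@Nat.beq @x0 @x1) @x2) → @Decidable (@Eq.{1} _ @x0 @x1)) @(fun x2 => @Decidable.isFalse _ (@Nat.ne_of_beq_eq_false _ _ @x2)) @(fun x2 => @Decidable.isTrue _ (@Nat.eq_of_beq_eq_true _ _ @x2)) (@Nat.beq @x0 @x1) (@Eq.refl.{1} _ (@Nat.beq @x0 @x1)))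
private theorem _root_.Cfsg.Agent.KO5629010.e14 : @Nat.decEq = @_root_.Cfsg.Agent.KO5629010.k14 := by delta _root_.Cfsg.Agent.KO5629010.k14; rfl'
private noncomputable def _root_.Cfsg.Agent.KO5629010.k15 : type_of% @Int.decEq := @(fun x0 x1 => @Int.rec.{1} @(fun x2 => @Decidable (@Eq.{1} _ @x2 @x1)) @(fun x2 => @Int.rec.{1} @(fun x3 => @Decidable (@Eq.{1} _ (@Int.ofNat @x2) @x3)) @(fun x3 => @Decidable.rec.{1} _ @(fun x4 => @Decidable (@Eq.{1} _ (@Int.ofNat @x2) (@Int.ofNat @x3))) @(fun x4 => @Decidable.isFalse _ (@Int.decEq._proof_2 @x2 @x3 @x4)) @(fun x4 => @Decidable.isTrue _ (@Int.decEq._proof_1 @x2 @x3 @x4)) (@Cfsg.Agent.KO5629010.k14 @x2 @x3)) @(fun x3 => @Decidable.isFalse _ (@Int.decEq._proof_3 @x2 @x3)) @x1) @(fun x2 => @Int.rec.{1} @(fun x3 => @Decidable (@Eq.{1} _ (@Int.negSucc @x2) @x3)) @(fun x3 => @Decidable.isFalse _ (@Int.decEq._proof_4 @x2 @x3)) @(fun x3 => @Decidable.rec.{1} _ @(fun x4 => @Decidable (@Eq.{1} _ (@Int.negSucc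 @x2) (@Int.negSucc @x3))) @(fun x4 => @Decidable.isFalse _ (@Int.decEq._proof_6 @x2 @x3 @x4)) @(fun x4 => @Decidable.isTrue _ (@Int.decEq._proof_5 @x2 @x3 @x4)) (@Cfsg.Agent.KO5629010.k14 @x2 @x3)) @x1) @x0)
private theorem _root_.Cfsg.Agent.KO5629010.e15 : @Int.decEq = @_root_.Cfsg.Agent.KO5629010.k15 := by delta _root_.Cfsg.Agent.KO5629010.k15; rewrite [← Cfsg.Agent.KO5629010.e14]; rfl'
private noncomputable def _root_.Cfsg.Agent.KO5629010.k16 : type_of% @instDecidableEqFin := @(fun x0 x1 x2 => @Decidable.rec.{1} _ @(fun x3 => @Decidable (@Eq.{1} _ @x1 @x2)) @(fun x3 => @Decidable.isFalse _ (@instDecidableEqFin._proof_1 @x0 @x1 @x2 @x3)) @(fun x3 => @Decidable.isTrue _ (@Fin.eq_of_val_eq _ _ _ @x3)) (@Cfsg.Agent.KO5629010.k14 (@Fin.val _ @x1) (@Fin.val _ @x2)))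
private theorem _root_.Cfsg.Agent.KO5629010.e16 : @instDecidableEqFin = @_root_.Cfsg.Agent.KO5629010.k16 := by delta _root_.Cfsg.Agent.KO5629010.k16; rewrite [← Cfsg.Agent.KO5629010.e14]; rfl'
private noncomputable def _root_.Cfsg.Agent.KO5629010.k17 : type_of% @ZMod.decidableEq := @(fun x0 => @Nat.rec.{1} @(fun x1 => @DecidableEq.{1} (@ZMod @x1)) @Cfsg.Agent.KO5629010.k15 @(fun x1 x2 => @Cfsg.Agent.KO5629010.k16 (@Nat.add @x1 (nat_lit 1))) @x0)
private theorem _root_.Cfsg.Agent.KO5629010.e17 : @ZMod.decidableEq = @_root_.Cfsg.Agent.KO5629010.k17 := by delta _root_.Cfsg.Agent.KO5629010.k17; rewrite [← Cfsg.Agent.KO5629010.e16, ← Cfsg.Agent.KO5629010.e15]; rfl'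
private noncomputable def _root_.Cfsg.Agent.KO5629010.k18.{ku0, ku1, ku2} : type_of% @Sum.elim.{ku0, ku1, ku2} := @(fun x0 x1 x2 x3 x4 x5 => @Sum.rec.{ku2, ku0, ku1} @x0 @x1 @(fun x6 => @x2) @(fun x6 => @x3 @x6) @(fun x6 => @x4 @x6) @x5)
private theorem _root_.Cfsg.Agent.KO5629010.e18.{ku0, ku1, ku2} : @Sum.elim.{ku0, ku1, ku2} = @_root_.Cfsg.Agent.KO5629010.k18.{ku0, ku1, ku2} := by delta _root_.Cfsg.Agent.KO5629010.k18; rfl'
private noncomputable def _root_.Cfsg.Agent.KO5629010.oB.{ku} (α : Sort ku) (c : Bool) (f t : α) : α := @Decidable.rec (c = true) (fun _ => α) (fun _ => f) (fun _ => t) (instDecidableEqBool c true)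
private noncomputable def _root_.Cfsg.Agent.KO5629010.k19.{ku} (α : Sort ku) (c : Bool) (f t : α) : α := @Bool.rec (fun _ => α) f t c
private theorem _root_.Cfsg.Agent.KO5629010.e19.{ku} : @_root_.Cfsg.Agent.KO5629010.oB.{ku} = @_root_.Cfsg.Agent.KO5629010.k19.{ku} := funext fun α => funext fun c => funext fun f => funext fun t => by cases c <;> rfl
private noncomputable def _root_.Cfsg.Agent.KO5629010.oEq.{ku} (α : Sort ku) (a b : Nat) (f t : α) : α := @Decidable.rec (a = b) (fun _ => α) (fun _ => f) (fun _ => t) (Nat.decEq a b)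
private noncomputable def _root_.Cfsg.Agent.KO5629010.k20.{ku} (α : Sort ku) (a b : Nat) (f t : α) : α := @Bool.rec (fun _ => α) f t (Nat.beq a b)
private theorem _root_.Cfsg.Agent.KO5629010.e20.{ku} : @_root_.Cfsg.Agent.KO5629010.oEq.{ku} = @_root_.Cfsg.Agent.KO5629010.k20.{ku} := funext fun α => funext fun a => funext fun b => funext fun f => funext fun t => by delta _root_.Cfsg.Agent.KO5629010.oEq _root_.Cfsg.Agent.KO5629010.k20; cases h : Nat.beq a b <;> cases Nat.decEq a b <;> rename_i g <;> first | rfl | exact absurd g (Nat.ne_of_beq_eq_false h) | exact absurd (Nat.eq_of_beq_eq_true h) g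
private noncomputable def _root_.Cfsg.Agent.KO5629010.k21 : (by first | exact type_of% @Cfsg.Agent.SporRec.TwoSp6.Sp.bitf | exact Unit : Sort _) := by first | (refine @Subtype.val _ (fun g => @Cfsg.Agent.SporRec.TwoSp6.Sp.bitf = @g) (@Subtype.mk _ _ (@(fun x0 x1 => @Cfsg.Agent.KO5629010.k19.{1} (@ZMod ((2 : ℕ))) (@Bool.rec.{1} @(fun x2 => @Bool) @Bool.true @Bool.false (@Cfsg.Agent.KO5629010.k20.{1} @Bool (@Nat.land (nat_lit 1) (@Nat.shiftRight @x0 @x1)) (nat_lit 0) @Bool.false @Bool.true)) (@Nat.rec.{1} @(fun x2 => @ZMod @x2) (@Int.ofNat (nat_lit 0)) @(fun x2 x3 => @Fin.mk _ (@Nat.mod (nat_lit 0) (@Nat.succ @x2)) (@Fin.ofNat._proof_1 (@Nat.succ @x2) _ (nat_lit 0))) (nat_lit 2)) (@Nat.rec.{1} @(fun x2 => @ZMod @x2) (@Int.ofNat (nat_lit 1)) @(fun x2 x3 => @Fin.mk _ (@Nat.mod (nat_lit 1) (@Nat.succ @x2)) (@Fin.ofNat._proof_1 (@Nat.succ @x2) _ (nat_lit 1))) (nat_lit 2)))) ?_); rewrite [← Cfsg.Agent.KO5629010.e20.{1}, ← Cfsg.Agent.KO5629010.e19.{1}];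 rfl') | exact @Cfsg.Agent.SporRec.TwoSp6.Sp.bitf | exact ()
private theorem _root_.Cfsg.Agent.KO5629010.e21 : (by first | exact @Cfsg.Agent.SporRec.TwoSp6.Sp.bitf = @_root_.Cfsg.Agent.KO5629010.k21 | exact True : Prop) := by first | (delta _root_.Cfsg.Agent.KO5629010.k21; exact @Subtype.property _ (fun g => @Cfsg.Agent.SporRec.TwoSp6.Sp.bitf = @g) _) | rfl | trivial
private noncomputable def _root_.Cfsg.Agent.KO5629010.k22 : (by first | exact type_of% @Cfsg.Agent.SporRec.TwoSp6.Sp.enc | exact Unit : Sort _) := by first | (refine @Subtype.val _ (fun g => @Cfsg.Agent.SporRec.TwoSp6.Sp.enc = @g) (@Subtype.mk _ _ (@(fun x0 => @Cfsg.Agent.KO5629010.k18.{0, 0, 1} _ _ _ @(fun x1 => @Cfsg.Agent.KO5629010.k21 @x0 (@Fin.val _ @x1)) @(fun x1 => @Cfsg.Agent.KO5629010.k21 @x0 (@Nat.add (nat_lit 3) (@Fin.val _ @x1))))) ?_); rewrite [← Cfsg.Agent.KO5629010.e21, ← Cfsg.Agent.KO5629010.e18.{0, 0, 1}]; (try delta Cfsg.Agent.SporRec.TwoSp6.Sp.enc); (try generalize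 @Cfsg.Agent.SporRec.TwoSp6.Sp.bitf = g0); rfl') | exact @Cfsg.Agent.SporRec.TwoSp6.Sp.enc | exact ()
private theorem _root_.Cfsg.Agent.KO5629010.e22 : (by first | exact @Cfsg.Agent.SporRec.TwoSp6.Sp.enc = @_root_.Cfsg.Agent.KO5629010.k22 | exact True : Prop) := by first | (delta _root_.Cfsg.Agent.KO5629010.k22; exact @Subtype.property _ (fun g => @Cfsg.Agent.SporRec.TwoSp6.Sp.enc = @g) _) | rfl | trivial
private noncomputable def _root_.Cfsg.Agent.KO5629010.k23 : type_of% @instDecidableEqNat := @Cfsg.Agent.KO5629010.k14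
private theorem _root_.Cfsg.Agent.KO5629010.e23 : @instDecidableEqNat = @_root_.Cfsg.Agent.KO5629010.k23 := by delta _root_.Cfsg.Agent.KO5629010.k23; rewrite [← Cfsg.Agent.KO5629010.e14]; rfl'

theorem enc_inj : ∀ c < 64, ∀ d < 64, enc c = enc d → c = d := by (first | (refine of_decide_eq_true ?_; rewrite [Cfsg.Agent.KO5629010.e0, Cfsg.Agent.KO5629010.e1, Cfsg.Agent.KO5629010.e2, Cfsg.Agent.KO5629010.e13.{0, 0}, Cfsg.Agent.KO5629010.e17, Cfsg.Agent.KO5629010.e22, Cfsg.Agent.KO5629010.e23]; decide +kernel) | decide +kernel)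

theorem pt_ne (i : Fin 7) : pt i ≠ 0 := by
  have : ∀ i : Fin 7, pt i ≠ 0 := by decide +kernel
  exact this i

theorem pt_inj {i j : Fin 7} (h : pt i = pt j) : i = j := by
  have := enc_inj _ (by omega) _ (by omega) h
  exact Fin.ext (by omega)

/-- addition of points -/
theorem pt_add {i j k : Fin 7} (h : (i.val + 1) ^^^ (j.val + 1) = k.val + 1) : pt i + pt j = pt k := by
  unfold pt
  rw [← enc_xor, h]

theorem add_pt {i j k : Fin 7} (h : pt i + pt j = pt k) : (i.val + 1) ^^^ (j.val + 1) = k.val + 1 := by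
  unfold pt at h
  rw [← enc_xor] at h
  refine enc_inj _ ?_ _ (by omega) h
  have : ∀ i j : Fin 7, (i.val + 1) ^^^ (j.val + 1) < 64 := by decide
  exact this i j

/-- the maps of points induced by linear maps -/
def Lin (τ : Fin 7 → Fin 7) : Prop :=
  ∀ i j k : Fin 7, (i.val + 1) ^^^ (j.val + 1) = k.val + 1 → ((τ i).val + 1) ^^^ ((τ j).val + 1) = (τ k).val + 1

instance (τ : Fin 7 → Fin 7) : Decidable (Lin τ) := by unfold Lin; infer_instance

/-- three involutions of `L₃(2)` -/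
def gp : Fin 3 → Fin 7 → Fin 7
  | 0 => ![5, 4, 2, 3, 1, 0, 6]
  | 1 => ![6, 1, 4, 3, 2, 5, 0]
  | 2 => ![0, 2, 1, 3, 4, 6, 5]

/-- an element of order 7 -/
def yp : Fin 7 → Fin 7 := ![1, 3, 5, 2, 0, 6, 4]

/-- a cycle of length 3 -/
def cyc : Fin 7 → Fin 7 := ![0, 1, 4, 3, 5, 2, 6]

/-- its inverse -/
def cyc' : Fin 7 → Fin 7 := ![0, 1, 5, 3, 2, 4, 6]

theorem cyc_inv : (∀ i, cyc (cyc' i) = i) ∧ ∀ i, cyc' (cyc i) = i := by decide

theorem gp_inv : ∀ k i, gp k (gp k i) = i := by decide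

theorem not_lin_cyc : ¬ Lin cyc := by decide +kernel

theorem not_lin_conj : ∀ k : Fin 3, ¬ Lin (fun i => cyc' (gp k (cyc i))) := by decide +kernel

private noncomputable def _root_.Cfsg.Agent.KO5629010.k24 : type_of% @Nat.decidableForallFin := @(fun x0 x1 x2 => @Decidable.rec.{1} _ @(fun x3 => @Decidable ((x4 : @Fin @x0) → @x1 @x4)) @(fun x3 => @Decidable.isFalse _ (@decidable_of_decidable_of_iff._proof_1 _ _ (@Nat.decidableForallFin._proof_1 _ @x1) @x3)) @(fun x3 => @Decidable.isTrue _ (@Iff.mp _ _ (@Nat.decidableForallFin._proof_1 _ @x1) @x3)) (@Cfsg.Agent.KO5629010.k1 @x0 @(fun x3 x4 => @x1 (@Fin.mk _ @x3 @x4)) @(fun x3 x4 => @x2 (@Fin.mk _ @x3 @x4))))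
private theorem _root_.Cfsg.Agent.KO5629010.e24 : @Nat.decidableForallFin = @_root_.Cfsg.Agent.KO5629010.k24 := by delta _root_.Cfsg.Agent.KO5629010.k24; rewrite [← Cfsg.Agent.KO5629010.e1]; rfl'
private noncomputable def _root_.Cfsg.Agent.KO5629010.k25.{ku0} : type_of% @Fintype.decidableForallFintype.{ku0} := @(fun x0 x1 x2 x3 => @Decidable.rec.{1} _ @(fun x4 => @Decidable ((x5 : @x0) → @x1 @x5)) @(fun x4 => @Decidable.isFalse _ (@decidable_of_decidable_of_iff._proof_1 _ _ (@Fintype.decidableForallFintype._proof_1.{ku0} _ _ _) @x4)) @(fun x4 => @Decidable.isTrue _ (@Iff.mp _ _ (@Fintype.decidableForallFintype._proof_1.{ku0} _ _ _) @x4)) (@Cfsg.Agent.KO5629010.k12.{ku0} _ _ @(fun x4 x5 => @x1 @x4) @(fun x4 x5 => @x2 @x4)))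
private theorem _root_.Cfsg.Agent.KO5629010.e25.{ku0} : @Fintype.decidableForallFintype.{ku0} = @_root_.Cfsg.Agent.KO5629010.k25.{ku0} := by delta _root_.Cfsg.Agent.KO5629010.k25; rewrite [← Cfsg.Agent.KO5629010.e12.{ku0}]; rfl'
private theorem _root_.Cfsg.Agent.KO5629010.e26.{ku} {M : Nat → Sort ku} (φ : ∀ n, M n) {z : M Nat.zero} {s : ∀ n, M n → M (Nat.succ n)} (h0 : φ Nat.zero = z) (hs : ∀ n, φ (Nat.succ n) = s n (φ n)) (n : Nat) : φ n = @Nat.rec M z s n := Nat.rec h0 (fun n ih => (hs n).trans (congrArg (s n) ih)) n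
private noncomputable def _root_.Cfsg.Agent.KO5629010.k27 : type_of% @instDecidableOr := @(fun x0 x1 x2 x3 => @Decidable.rec.{1} _ @(fun x4 => @Decidable (@Or @x0 @x1)) @(fun x4 => @Decidable.rec.{1} _ @(fun x5 => @Decidable (@Or @x0 @x1)) @(fun x5 => @Decidable.isFalse _ (@instDecidableOr._proof_1 _ _ @x4 @x5)) @(fun x5 => @Decidable.isTrue _ (@Or.inr _ _ @x5)) @x3) @(fun x4 => @Decidable.isTrue _ (@Or.inl _ _ @x4)) @x2)
private theorem _root_.Cfsg.Agent.KO5629010.e27 : @instDecidableOr = @_root_.Cfsg.Agent.KO5629010.k27 := by delta _root_.Cfsg.Agent.KO5629010.k27; rfl'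
private noncomputable def _root_.Cfsg.Agent.KO5629010.k28 : type_of% @Nat.decidableExistsLT := @(fun x0 x1 x2 => @Nat.rec.{1} @(fun x3 => @Decidable (@_root_.Exists.{1} _ @(fun x4 => @And (@LT.lt.{0} _ _ @x4 @x3) (@x0 @x4)))) (@Decidable.isFalse _ (@Nat.decidableExistsLT._proof_5 _)) @(fun x3 x4 => @Decidable.rec.{1} _ @(fun x5 => @Decidable (@_root_.Exists.{1} _ @(fun x6 => @And (@LT.lt.{0} _ _ @x6 (@HAdd.hAdd.{0, 0, 0} _ _ _ _ @x3 ((1 : ℕ)))) (@x0 @x6)))) @(fun x5 => @Decidable.isFalse _ (@decidable_of_decidable_of_iff._proof_1 _ _ (@Nat.decidableExistsLT._proof_10 _ @x3) @x5)) @(fun x5 => @Decidable.isTrue _ (@Iff.mp _ _ (@Nat.decidableExistsLT._proof_10 _ @x3) @x5)) (@Cfsg.Agent.KO5629010.k27 _ _ @x4 (@x1 @x3))) @x2)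
private theorem _root_.Cfsg.Agent.KO5629010.e28 : @Nat.decidableExistsLT = @_root_.Cfsg.Agent.KO5629010.k28 := by delta _root_.Cfsg.Agent.KO5629010.k28; rewrite [← Cfsg.Agent.KO5629010.e27]; funext a0 a1 a2; refine (_root_.Cfsg.Agent.KO5629010.e26 (fun a2 => @Nat.decidableExistsLT a0 a1 a2) ?_ (fun c0 => ?_) a2 :) <;> (rfl')
private noncomputable def _root_.Cfsg.Agent.KO5629010.k29 : type_of% @Bool.decEq := @(fun x0 x1 => @Bool.rec.{1} @(fun x2 => @Decidable (@Eq.{1} _ @x2 @x1)) (@Bool.rec.{1} @(fun x2 => @Decidable (@Eq.{1} _ @Bool.false @x2)) (@Decidable.isTrue _ (@rfl.{1} _ _)) (@Decidable.isFalse _ @(fun x2 => @Bool.noConfusion.{0} _ _ _ @x2)) @x1) (@Bool.rec.{1} @(fun x2 => @Decidable (@Eq.{1} _ @Bool.true @x2)) (@Decidable.isFalse _ @(fun x2 => @Bool.noConfusion.{0} _ _ _ @x2)) (@Decidable.isTrue _ (@rfl.{1} _ _)) @x1) @x0)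
private theorem _root_.Cfsg.Agent.KO5629010.e29 : @Bool.decEq = @_root_.Cfsg.Agent.KO5629010.k29 := by delta _root_.Cfsg.Agent.KO5629010.k29; rfl'
private noncomputable def _root_.Cfsg.Agent.KO5629010.k30 : type_of% @Nat.decLe := @(fun x0 x1 => @Decidable.rec.{1} _ @(fun x2 => @Decidable (@LE.le.{0} _ _ @x0 @x1)) @(fun x2 => @Decidable.isFalse _ (@Nat.not_le_of_not_ble_eq_true _ _ @x2)) @(fun x2 => @Decidable.isTrue _ (@Nat.le_of_ble_eq_true _ _ @x2)) (@Cfsg.Agent.KO5629010.k29 (@Nat.ble @x0 @x1) @Bool.true))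
private theorem _root_.Cfsg.Agent.KO5629010.e30 : @Nat.decLe = @_root_.Cfsg.Agent.KO5629010.k30 := by delta _root_.Cfsg.Agent.KO5629010.k30; rewrite [← Cfsg.Agent.KO5629010.e29]; rfl'
private noncomputable def _root_.Cfsg.Agent.KO5629010.k31 : type_of% @Nat.decidableExistsFin := @(fun x0 x1 x2 => @Decidable.rec.{1} _ @(fun x3 => @Decidable (@_root_.Exists.{1} _ @(fun x4 => @x1 @x4))) @(fun x3 => @Decidable.isFalse _ (@decidable_of_decidable_of_iff._proof_1 _ _ (@Nat.decidableExistsFin._proof_1 _ @x1) @x3)) @(fun x3 => @Decidable.isTrue _ (@Iff.mp _ _ (@Nat.decidableExistsFin._proof_1 _ @x1) @x3)) (@Cfsg.Agent.KO5629010.k28 @(fun x3 => (x4 : @LT.lt.{0} _ _ @x3 @x0) → @x1 (@Fin.mk _ @x3 @x4)) @(fun x3 => @Decidable.rec.{1} _ @(fun x4 => @Decidable ((x5 : @LT.lt.{0} _ _ @x3 @x0) → @x1 (@Fin.mk _ @x3 @x5))) @(fun x4 => @Decidable.isTrue _ (@forall_prop_decidable._proof_2 _ @(fun x5 => @x1 (@Fin.mk _ @x3 @x5)) @x4)) @(fun x4 => @Decidable.rec.{1}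 _ @(fun x5 => @Decidable ((x6 : @LT.lt.{0} _ _ @x3 @x0) → @x1 (@Fin.mk _ @x3 @x6))) @(fun x5 => @Decidable.isFalse _ (@decidable_of_decidable_of_iff._proof_1 _ _ (@forall_prop_decidable._proof_1 _ @(fun x6 => @x1 (@Fin.mk _ @x3 @x6)) @x4) @x5)) @(fun x5 => @Decidable.isTrue _ (@Iff.mp _ _ (@forall_prop_decidable._proof_1 _ @(fun x6 => @x1 (@Fin.mk _ @x3 @x6)) @x4) @x5)) (@x2 (@Fin.mk _ @x3 @x4))) (@Cfsg.Agent.KO5629010.k30 (@Nat.succ @x3) @x0)) @x0))
private theorem _root_.Cfsg.Agent.KO5629010.e31 : @Nat.decidableExistsFin = @_root_.Cfsg.Agent.KO5629010.k31 := by delta _root_.Cfsg.Agent.KO5629010.k31; rewrite [← Cfsg.Agent.KO5629010.e30, ← Cfsg.Agent.KO5629010.e28]; rfl'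
private noncomputable def _root_.Cfsg.Agent.KO5629010.k32 : type_of% @instDecidableEqBool := @Cfsg.Agent.KO5629010.k29
private theorem _root_.Cfsg.Agent.KO5629010.e32 : @instDecidableEqBool = @_root_.Cfsg.Agent.KO5629010.k32 := by delta _root_.Cfsg.Agent.KO5629010.k32; rewrite [← Cfsg.Agent.KO5629010.e29]; rfl'

/-- every nonzero subspace of `W` is invariant under one of the three involutions -/
theorem exists_gp : ∀ s : Fin 7 → Bool, (∃ i, s i = true) →
    (∀ i j k : Fin 7, (i.val + 1) ^^^ (j.val + 1) = k.val + 1 → s i = true → s j = true → s k = true) →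
    ∃ k : Fin 3, ∀ i, s i = true → s (gp k i) = true := by (first | (refine of_decide_eq_true ?_; rewrite [Cfsg.Agent.KO5629010.e0, Cfsg.Agent.KO5629010.e25.{0}, Cfsg.Agent.KO5629010.e2, Cfsg.Agent.KO5629010.e31, Cfsg.Agent.KO5629010.e32, Cfsg.Agent.KO5629010.e24, Cfsg.Agent.KO5629010.e23, Cfsg.Agent.KO5629010.e16]; decide +kernel) | decide +kernel)

/-- block diagonal elements -/
def LL (g h : Matrix (Fin 3) (Fin 3) (ZMod 2)) (hgh : g * hᵀ = 1) : S :=
  ⟨fromBlocks g 0 0 h, by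
    have h2 : h * gᵀ = 1 := by
      have := congrArg transpose hgh
      rwa [transpose_mul, transpose_transpose, transpose_one] at this
    rw [SymplecticGroup.mem_iff, Matrix.J, fromBlocks_transpose, fromBlocks_multiply, fromBlocks_multiply]
    congr 1
    · simp
    · simp [hgh]
    · simp [h2]
    · simp⟩

/-- the matrices of the three involutions -/
def gm : Fin 3 → Matrix (Fin 3) (Fin 3) (ZMod 2)
  | 0 => !![0, 1, 0; 1, 0, 0; 1, 1, 1]
  | 1 => !![1, 0, 0; 1, 1, 0; 1, 0, 1]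
  | 2 => !![1, 1, 0; 0, 1, 0; 0, 0, 1]

/-- the matrix of the element of order 7 -/
def ym : Matrix (Fin 3) (Fin 3) (ZMod 2) := !![0, 0, 1; 1, 0, 1; 0, 1, 0]

def ym' : Matrix (Fin 3) (Fin 3) (ZMod 2) := !![1, 0, 1; 1, 0, 0; 0, 1, 0]

theorem gm_sq : ∀ k, gm k * gm k = 1 := by decide +kernel

theorem ym_inv : ym * ym'ᵀ = 1 := by decide +kernel

/-- the three involutions in `Sp₆(2)` -/
def ga (k : Fin 3) : S := LL (gm k) (gm k)ᵀ (by rw [transpose_transpose]; exact gm_sq k)

/-- the element of order 7 in `Sp₆(2)` -/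
def ya : S := LL ym ym' ym_inv

theorem act_LL (g h : Matrix (Fin 3) (Fin 3) (ZMod 2)) (hgh : g * hᵀ = 1) (x : V) :
    act (LL g h hgh) x = Sum.elim (g *ᵥ (x ∘ Sum.inl)) (h *ᵥ (x ∘ Sum.inr)) := by
  show fromBlocks g 0 0 h *ᵥ x = _
  conv_lhs => rw [← Sum.elim_comp_inl_inr x]
  rw [fromBlocks_mulVec]
  simp

theorem act_ga (k : Fin 3) (i : Fin 7) : act (ga k) (pt i) = pt (gp k i) := by
  rw [ga, act_LL]
  revert k i
  decide +kernel

theorem act_ya (i : Fin 7) : act ya (pt i) = pt (yp i) := by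
  rw [ya, act_LL]
  revert i
  decide +kernel

theorem ga_sq (k : Fin 3) : ga k * ga k = 1 := by
  apply Subtype.ext
  show fromBlocks (gm k) 0 0 (gm k)ᵀ * fromBlocks (gm k) 0 0 (gm k)ᵀ = 1
  rw [fromBlocks_multiply, ← transpose_mul, gm_sq]
  simp

end Cfsg.Agent.H84.EP

private theorem dce_146061d7ca3f : _root_.True := by
  try have : _root_.True := by simp only [_root_.Cfsg.Agent.H84.EP.ga.eq_1]
  try have : _root_.True := by simp only [_root_.Cfsg.Agent.H84.EP.ya.eq_1]
  exact _root_.True.intro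
end

-- part: H84/EP/SpC
section
set_option linter.all false
open scoped Cfsg.Agent.FastGrp

/-!
# S3499, `Sp₆(2)` : combinatorics of the weights of `D` (helper84)
-/

set_option autoImplicit false

namespace Cfsg.Agent.H84.EP

open Cfsg Matrix Cfsg.Agent.SporRec.TwoSp6.Sp

/-- parity -/
def par (ε : Fin 7 → Bool) : Bool :=
  xor (ε 0) (xor (ε 1) (xor (ε 2) (xor (ε 3) (xor (ε 4) (xor (ε 5) (ε 6))))))

/-- the weights of the vectors `ya⁻ʲ v` are distinct -/
theorem comb1 : ∀ ε : Fin 7 → Bool, ε 0 = true → par ε = false → ∀ j j' : Fin 7,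
    (∀ i, ε (yp^[j.val] i) = ε (yp^[j'.val] i)) → j = j' := by decide +kernel

/-- the orbits of `L₃(2)` of length 7 -/
theorem comb2 : ∀ ε : Fin 7 → Bool, ε 0 = true → par ε = false →
    (∀ k : Fin 3, ∀ j : Fin 7, ∃ j' : Fin 7, ∀ i, ε (yp^[j.val] (gp k i)) = ε (yp^[j'.val] i)) →
    (∃ i0, ∀ i, ε i = !decide (i = i0)) ∨
      ∀ j : Fin 7, xor (ε (yp^[j.val] 0)) (xor (ε (yp^[j.val] 1)) (ε (yp^[j.val] 2))) = false := by
  decide +kernel

theorem comb3 : ∀ i0 i : Fin 7, ∃ n : Fin 7, yp^[n.val] i = i0 := by decide +kernel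

theorem yp_inj : Function.Injective yp := by decide +kernel

theorem yp_iter_inj (n : ℕ) : Function.Injective yp^[n] := yp_inj.iterate n

/-- square roots of the three involutions -/
def sp : Fin 3 → Fin 7 → Fin 7
  | 0 => ![1, 5, 3, 2, 0, 4, 6]
  | 1 => ![2, 3, 6, 1, 0, 5, 4]
  | 2 => ![0, 5, 6, 4, 3, 2, 1]

theorem sp_sp : ∀ k i, sp k (sp k i) = gp k i := by decide

def sm : Fin 3 → Matrix (Fin 3) (Fin 3) (ZMod 2)
  | 0 => !![0, 0, 1; 1, 1, 1; 0, 1, 0]
  | 1 => !![1, 0, 0; 1, 0, 1; 0, 1, 0]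
  | 2 => !![1, 0, 1; 0, 1, 0; 0, 1, 1]

theorem sm_four : ∀ k, sm k * (sm k * sm k * sm k) = 1 := by decide +kernel

theorem sm_sq : ∀ k, sm k * sm k = gm k := by decide +kernel

theorem sm_six : ∀ k, (sm k * sm k * sm k)ᵀ * (sm k * sm k * sm k)ᵀ = (gm k)ᵀ := by decide +kernel

/-- the square roots in `Sp₆(2)` -/
def sa (k : Fin 3) : S := LL (sm k) (sm k * sm k * sm k)ᵀ (by rw [transpose_transpose]; exact sm_four k)

theorem sa_sq (k : Fin 3) : sa k * sa k = ga k := by
  apply Subtype.ext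
  show fromBlocks (sm k) 0 0 (sm k * sm k * sm k)ᵀ * fromBlocks (sm k) 0 0 (sm k * sm k * sm k)ᵀ =
    fromBlocks (gm k) 0 0 (gm k)ᵀ
  rw [fromBlocks_multiply, sm_six, sm_sq]
  simp

theorem act_sa (k : Fin 3) (i : Fin 7) : act (sa k) (pt i) = pt (sp k i) := by
  rw [sa, act_LL]
  revert k i
  decide +kernel

/-- parity of `δ + δ ∘ s` -/
theorem comb4 : ∀ (k : Fin 3) (δ : Fin 7 → Bool), par (fun i => xor (δ i) (δ (sp k i))) = false := by decide +kernel

/-- the diagonal elements -/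
theorem comb5 : ∀ μ : Fin 7 → Bool, par μ = false → ∀ j : Fin 7,
    par (fun i => μ i && !decide (i = j)) = μ j := by decide +kernel

/-- the element of `D` with signs `μ` -/
def dd (μ : Fin 7 → Bool) : S := ((List.finRange 7).map fun i => if μ i then tr (pt i) else 1).prod

end Cfsg.Agent.H84.EP

private theorem dce_c9394d104602 : _root_.True := by
  try have : _root_.True := by simp only [_root_.Cfsg.Agent.H84.EP.sa.eq_1]
  exact _root_.True.intro
end

-- part: H111/EP/SpAsm_mg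
section
prune_inst 0x11106d4415e2100000188596e1001c62b2000092004b0c00848200400cc2dc482d828e21b13019135898084440350068125c04804040000004000400013c078910800400a0080008c20096000180000000000000000000000000000000051004200400000
set_option linter.all false
open scoped Cfsg.Agent.FastGrp

-- part: H111/EP/SpAsm
section
/-!
# S3499: assembly of the symplectic non-residual case

The rows `SpC1ts`, `SpC1nd`, `SpC2`, `SpC2ts`, `SpC3`, `SpC3U`, `SpC4`, `SpC5`, `SpC6`, `SpC7`, `SpC8` (one for each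
disjunct of `Geo.InSymplecticClass`; the subgroup `m.hat A` lies in the member of the class), and
`pspNonRes_of : rows → PspNonRes`.
-/

set_option autoImplicit false

namespace Cfsg.Agent.H111.EP

open Subgroup Cfsg.Agent.H284 Cfsg.Agent.H419.EP Cfsg.Geo
open scoped MatrixGroups

/-- C1, totally isotropic subspace -/
def SpC1ts : Prop := ∀ {Q : Type} [Group Q] [Finite Q], IsSimpleGroup Q → ∀ {A : Subgroup Q}
    {Γ : Subgroup (MulAut Q)}, EPT A Γ → ∀ {F : Type} [Field F] [Fintype F] {k : ℕ}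
    (m : Model Q (Cfsg.spGL k F)), 2 ≤ k → 3 ≤ Fintype.card F → ∀ W : Submodule F (Fin k ⊕ Fin k → F), W ≠ ⊥ →
    IsTotallySingularFor (Cfsg.sympForm k F) W → m.hat A ≤ subspaceStabilizer W → False

/-- C1, nondegenerate subspace -/
def SpC1nd : Prop := ∀ {Q : Type} [Group Q] [Finite Q], IsSimpleGroup Q → ∀ {A : Subgroup Q}
    {Γ : Subgroup (MulAut Q)}, EPT A Γ → ∀ {F : Type} [Field F] [Fintype F] {k : ℕ}
    (m : Model Q (Cfsg.spGL k F)), 2 ≤ k → 3 ≤ Fintype.card F → ∀ W : Submodule F (Fin k ⊕ Fin k → F), W ≠ ⊥ →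
    IsNondegenerateOn (Cfsg.sympForm k F) W → Module.finrank F W < k → m.hat A ≤ subspaceStabilizer W → False

/-- C2, nondegenerate decomposition -/
def SpC2 : Prop := ∀ {Q : Type} [Group Q] [Finite Q], IsSimpleGroup Q → ∀ {A : Subgroup Q}
    {Γ : Subgroup (MulAut Q)}, EPT A Γ → ∀ {F : Type} [Field F] [Fintype F] {k : ℕ}
    (m : Model Q (Cfsg.spGL k F)), 2 ≤ k → 3 ≤ Fintype.card F → ∀ (t d : ℕ)
    (D : Fin t → Submodule F (Fin k ⊕ Fin k → F)), IsNondegenerateMDecomposition (Cfsg.sympForm k F) d D →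
    m.hat A ≤ decompositionStabilizer D → False

/-- C2, two totally isotropic subspaces -/
def SpC2ts : Prop := ∀ {Q : Type} [Group Q] [Finite Q], IsSimpleGroup Q → ∀ {A : Subgroup Q}
    {Γ : Subgroup (MulAut Q)}, EPT A Γ → ∀ {F : Type} [Field F] [Fintype F] {k : ℕ}
    (m : Model Q (Cfsg.spGL k F)), 2 ≤ k → 3 ≤ Fintype.card F → Odd (Fintype.card F) →
    ∀ D : Fin 2 → Submodule F (Fin k ⊕ Fin k → F), IsMDecomposition k D →
    (∀ i, IsTotallySingularFor (Cfsg.sympForm k F) (D i)) → m.hat A ≤ decompositionStabilizer D → False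

/-- C3, symplectic over an extension field -/
def SpC3 : Prop := ∀ {Q : Type} [Group Q] [Finite Q], IsSimpleGroup Q → ∀ {A : Subgroup Q}
    {Γ : Subgroup (MulAut Q)}, EPT A Γ → ∀ {F : Type} [Field F] [Fintype F] {k : ℕ}
    (m : Model Q (Cfsg.spGL k F)), 2 ≤ k → 3 ≤ Fintype.card F → ∀ (r : ℕ)
    (K : Subalgebra F (Matrix (Fin k ⊕ Fin k) (Fin k ⊕ Fin k) F)), r.Prime → IsFieldSubalgebra r K →
    IsSelfAdjointFor (Cfsg.sympForm k F) K → (∀ a ∈ K, ∀ v, Cfsg.sympForm k F (a.mulVec v) v = 0) →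
    m.hat A ≤ subalgebraNormalizer K → False

/-- C3, unitary over the quadratic extension field -/
def SpC3U : Prop := ∀ {Q : Type} [Group Q] [Finite Q], IsSimpleGroup Q → ∀ {A : Subgroup Q}
    {Γ : Subgroup (MulAut Q)}, EPT A Γ → ∀ {F : Type} [Field F] [Fintype F] {k : ℕ}
    (m : Model Q (Cfsg.spGL k F)), 2 ≤ k → 3 ≤ Fintype.card F → Odd (Fintype.card F) →
    ∀ K : Subalgebra F (Matrix (Fin k ⊕ Fin k) (Fin k ⊕ Fin k) F), IsFieldSubalgebra 2 K →
    IsAdjointClosedFor (Cfsg.sympForm k F) K → ¬ IsSelfAdjointFor (Cfsg.sympForm k F) K →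
    m.hat A ≤ subalgebraNormalizer K → False

/-- C4 -/
def SpC4 : Prop := ∀ {Q : Type} [Group Q] [Finite Q], IsSimpleGroup Q → ∀ {A : Subgroup Q}
    {Γ : Subgroup (MulAut Q)}, EPT A Γ → ∀ {F : Type} [Field F] [Fintype F] {k : ℕ}
    (m : Model Q (Cfsg.spGL k F)), 2 ≤ k → 3 ≤ Fintype.card F → Odd (Fintype.card F) →
    ∀ (n₁ n₂ : ℕ) (e : (Fin k ⊕ Fin k) ≃ Fin n₁ × Fin n₂) (P : GL (Fin k ⊕ Fin k) F)
      (f₁ : (Fin n₁ → F) → (Fin n₁ → F) → F) (f₂ : (Fin n₂ → F) → (Fin n₂ → F) → F), 3 ≤ n₂ →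
      IsSymplecticForm f₁ → IsSymmetricForm f₂ → IsTensorFormStructure id (Cfsg.sympForm k F) f₁ f₂ e P →
      m.hat A ≤ tensorProductSubgroup n₁ n₂ e P → False

/-- C5 -/
def SpC5 : Prop := ∀ {Q : Type} [Group Q] [Finite Q], IsSimpleGroup Q → ∀ {A : Subgroup Q}
    {Γ : Subgroup (MulAut Q)}, EPT A Γ → ∀ {F : Type} [Field F] [Fintype F] {k : ℕ}
    (m : Model Q (Cfsg.spGL k F)), 2 ≤ k → 3 ≤ Fintype.card F → ∀ (F₀ : Subfield F) (r : ℕ)
    (P : GL (Fin k ⊕ Fin k) F) (ζ : F), r.Prime → Fintype.card F = Nat.card F₀ ^ r → ζ ≠ 0 →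
    IsFormRationalStructure (Cfsg.sympForm k F) F₀ ζ P → m.hat A ≤ subfieldSubgroup F₀ P → False

/-- C6 -/
def SpC6 : Prop := ∀ {Q : Type} [Group Q] [Finite Q], IsSimpleGroup Q → ∀ {A : Subgroup Q}
    {Γ : Subgroup (MulAut Q)}, EPT A Γ → ∀ {F : Type} [Field F] [Fintype F] {k : ℕ}
    (m : Model Q (Cfsg.spGL k F)), 2 ≤ k → 3 ≤ Fintype.card F → ∀ (R : Subgroup (GL (Fin k ⊕ Fin k) F)) (p d : ℕ),
    IsSymplecticTypeGroup 2 R → ActsAbsolutelyIrreducibly (matrixSet R) → R ≤ similarityGroup (Cfsg.sympForm k F) →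
    p.Prime → Odd p → Fintype.card F = p → Nat.card R = 2 ^ (1 + 2 * d) → Nat.card (Subgroup.center R) = 2 →
    IsOfMinusType d R → m.hat A ≤ subgroupNormalizer R → False

/-- C7 -/
def SpC7 : Prop := ∀ {Q : Type} [Group Q] [Finite Q], IsSimpleGroup Q → ∀ {A : Subgroup Q}
    {Γ : Subgroup (MulAut Q)}, EPT A Γ → ∀ {F : Type} [Field F] [Fintype F] {k : ℕ}
    (m : Model Q (Cfsg.spGL k F)), 2 ≤ k → 3 ≤ Fintype.card F → Odd (Fintype.card F) →
    ∀ (d t : ℕ) (e : (Fin k ⊕ Fin k) ≃ (Fin t → Fin d)) (P : GL (Fin k ⊕ Fin k) F)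
      (f₁ : (Fin d → F) → (Fin d → F) → F), Odd t → 3 ≤ t → ¬ (Fintype.card F = 3 ∧ d = 2) →
      IsSymplecticForm f₁ → IsTensorPowerFormStructure id (Cfsg.sympForm k F) f₁ e P →
      m.hat A ≤ tensorWreathSubgroup d t e P → False

/-- C8 -/
def SpC8 : Prop := ∀ {Q : Type} [Group Q] [Finite Q], IsSimpleGroup Q → ∀ {A : Subgroup Q}
    {Γ : Subgroup (MulAut Q)}, EPT A Γ → ∀ {F : Type} [Field F] [Fintype F] {k : ℕ}
    (m : Model Q (Cfsg.spGL k F)), 2 ≤ k → 3 ≤ Fintype.card F → ¬ Odd (Fintype.card F) →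
    ∀ Qf : (Fin k ⊕ Fin k → F) → F, IsNondegenerateQuadraticForm Qf →
    (∀ u v, QuadraticMap.polar Qf u v = Cfsg.sympForm k F u v) → m.hat A ≤ quadSimilarityGroup Qf → False

/-- **Assembly of the symplectic non-residual case.** -/
theorem pspNonRes_of (c1ts : SpC1ts) (c1nd : SpC1nd) (c2 : SpC2) (c2ts : SpC2ts) (c3 : SpC3) (c3u : SpC3U)
    (c4 : SpC4) (c5 : SpC5) (c6 : SpC6) (c7 : SpC7) (c8 : SpC8) : PspNonRes := by
  intro Q _ _ hs A Γ h F _ _ k m hk hq hres
  rcases Cfsg.Agent.S5662.result k hk (by rintro ⟨-, h2⟩; omega) (m.hat A) (m.hat_le A) (m.sup_ne h.max) with h1 | h1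
  swap
  · exact hres h1
  obtain ⟨M, hM, hAM⟩ := h1
  rcases hM with hM | ⟨r, K, hr, hK, hsa, hkv, rfl⟩ | ⟨K, hodd, hK, hac, hsa, rfl⟩ |
    ⟨n₁, n₂, e, P, f₁, f₂, hodd, hn, hf₁, hf₂, hst, rfl⟩ | ⟨d, t, e, P, f₁, hodd, ht, ht3, h3, hf₁, hst, rfl⟩
  · rcases hM with ⟨W, hW, hts, rfl⟩ | ⟨W, hW, hnd, hlt, rfl⟩ | ⟨t, d, D, hD, rfl⟩ | ⟨D, hodd, hD, hts, rfl⟩ |
      ⟨F₀, r, P, ζ, hr, hcard, hζ, hrat, rfl⟩ |
      ⟨R, p, d, hR, habs, hsim, hp, hpo, hcard, hcR, hcZ, hmin, rfl⟩ | ⟨Qf, hodd, hQf, hpol, rfl⟩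
    · exact c1ts hs h m hk hq W hW hts (hAM.trans inf_le_left)
    · exact c1nd hs h m hk hq W hW hnd hlt (hAM.trans inf_le_left)
    · exact c2 hs h m hk hq t d D hD (hAM.trans inf_le_left)
    · exact c2ts hs h m hk hq hodd D hD hts (hAM.trans inf_le_left)
    · exact c5 hs h m hk hq F₀ r P ζ hr hcard hζ hrat (hAM.trans inf_le_left)
    · exact c6 hs h m hk hq R p d hR habs hsim hp hpo hcard hcR hcZ hmin (hAM.trans inf_le_left)
    · exact c8 hs h m hk hq hodd Qf hQf hpol (hAM.trans inf_le_left)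
  · exact c3 hs h m hk hq r K hr hK hsa hkv (hAM.trans inf_le_left)
  · exact c3u hs h m hk hq hodd K hK hac hsa (hAM.trans inf_le_left)
  · exact c4 hs h m hk hq hodd n₁ n₂ e P f₁ f₂ hn hf₁ hf₂ hst (hAM.trans inf_le_left)
  · exact c7 hs h m hk hq hodd d t e P f₁ ht ht3 h3 hf₁ hst (hAM.trans inf_le_left)

end Cfsg.Agent.H111.EP
end

-- part: H663/EP/Kill
section
/-!
# S3499: the kill criterion for the `2`-torsion of the centre of `A ∩ A^x` (helper663)

`K = {z ∈ Z(M0) | z² = 1}` is invariant under the stabiliser of the point `x`; so `N_A(K) ≤ A^x` if `K ≠ 1`.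
-/

set_option autoImplicit false

namespace Cfsg.Agent.H663.EP

open Subgroup Cfsg.Agent.H284 Cfsg.Agent.H419.EP
open scoped MatrixGroups commutatorElement

/-- the `2`-torsion of the centre of `M` -/
def omegaZ {Q : Type*} [Group Q] (M : Subgroup Q) : Subgroup Q where
  carrier := {z | z ∈ M ∧ z * z = 1 ∧ ∀ y ∈ M, z * y = y * z}
  one_mem' := ⟨one_mem _, one_mul 1, fun y _ => by rw [one_mul, mul_one]⟩
  mul_mem' := by
    rintro a b ⟨ha, ha2, hac⟩ ⟨hb, hb2, hbc⟩
    refine ⟨mul_mem ha hb, ?_, fun y hy => by rw [mul_assoc, hbc y hy, ← mul_assoc, hac y hy, mul_assoc]⟩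
    calc a * b * (a * b) = a * (b * a) * b := by group
      _ = (a * a) * (b * b) := by rw [hbc a ha]; group
      _ = 1 := by rw [ha2, hb2, one_mul]
  inv_mem' := by
    rintro a ⟨ha, ha2, hac⟩
    have e : a⁻¹ = a := inv_eq_of_mul_eq_one_right ha2
    rw [e]
    exact ⟨ha, ha2, hac⟩

/-- `omegaZ` is invariant under the automorphisms preserving `M` -/
theorem omegaZ_inv {Q : Type*} [Group Q] [Finite Q] {M : Subgroup Q} {σ : MulAut Q} (hσ : ∀ y ∈ M, σ y ∈ M) :
    ∀ k ∈ omegaZ M, σ k ∈ omegaZ M := by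
  have hs : M.map σ.toMonoidHom = M := by
    apply Subgroup.eq_of_le_of_card_ge
    · rintro _ ⟨y, hy, rfl⟩
      exact hσ y hy
    · rw [Subgroup.card_map_of_injective σ.injective]
  rintro k ⟨hk, hk2, hkc⟩
  refine ⟨hσ k hk, by rw [← map_mul, hk2, map_one], fun y hy => ?_⟩
  rw [← hs] at hy
  obtain ⟨y', hy', rfl⟩ := hy
  change σ k * σ y' = σ y' * σ k
  rw [← map_mul, hkc y' hy', map_mul]

/-- **Kill criterion**: the `2`-torsion `K` of `Z(M0)`; `K ≠ 1` and `a ∈ A` centralises `K` give `a ∈ A^x`. -/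
theorem EPT_kill {Q : Type*} [Group Q] [Finite Q] {A : Subgroup Q} {Γ : Subgroup (MulAut Q)} (h : EPT A Γ)
    {x : Q} (hx : x ∉ A) (hK : omegaZ (A ⊓ cj x A) ≠ ⊥) {a : Q} (ha : a ∈ A)
    (hac : ∀ k ∈ omegaZ (A ⊓ cj x A), a * k = k * a) : a ∈ cj x A := by
  refine h.norm_aut hx (K := omegaZ (A ⊓ cj x A)) (fun k hk => hk.1) (fun σ hσ => omegaZ_inv hσ) hK ha ?_
  intro k hk
  rw [hac k hk, mul_inv_cancel_right]
  exact hk

variable {Q : Type*} [Group Q] [Finite Q] {A : Subgroup Q} {Γ : Subgroup (MulAut Q)}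
variable {ι : Type} [Fintype ι] [DecidableEq ι] {F : Type*} [Field F] {S : Subgroup (GL ι F)}

/-- **Kill criterion for models** -/
theorem kill_two (h : EPT A Γ) (m : Model Q S) {x : GL ι F} (hxS : x ∈ S) {z₀ a₀ : GL ι F}
    (hz₀ : z₀ ∈ m.hat A ⊓ cj x (m.hat A)) (hz₀n : z₀ ∉ Cfsg.Geo.scalars ι F)
    (hz₀s : z₀ * z₀ ∈ Cfsg.Geo.scalars ι F)
    (hz₀c : ∀ y ∈ m.hat A ⊓ cj x (m.hat A), z₀ * y = y * z₀)
    (ha₀ : a₀ ∈ m.hat A) (ha₀x : a₀ ∉ cj x (m.hat A))
    (hK : ∀ z ∈ m.hat A ⊓ cj x (m.hat A), z * z ∈ Cfsg.Geo.scalars ι F →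
      (∀ y ∈ m.hat A ⊓ cj x (m.hat A), ∃ s ∈ Cfsg.Geo.scalars ι F, z * y = y * z * s) → a₀ * z = z * a₀) :
    False := by
  have hx : x ∉ m.hat A := by
    intro hx
    apply ha₀x
    rw [cj_eq_self hx]
    exact ha₀
  have hx' : m.π ⟨x, hxS⟩ ∉ A := fun e => hx ((m.mem_hat_iff ⟨x, hxS⟩).2 e)
  have hmem : ∀ s : S, m.π s ∈ A ⊓ cj (m.π ⟨x, hxS⟩) A ↔ (s : GL ι F) ∈ m.hat A ⊓ cj x (m.hat A) := by
    intro s
    rw [← m.hat_cj A ⟨x, hxS⟩, ← m.hat_inf]
    exact (m.mem_hat_iff s).symm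
  obtain ⟨hz₀S, _⟩ := m.mem_hat.1 (mem_inf.1 hz₀).1
  obtain ⟨ha₀S, ha₀A⟩ := m.mem_hat.1 ha₀
  have h1 := EPT_kill h hx' (a := m.π ⟨a₀, ha₀S⟩) ?_ ha₀A ?_
  · apply ha₀x
    rw [← m.hat_cj A ⟨x, hxS⟩]
    exact m.mem_hat.2 ⟨ha₀S, h1⟩
  · rw [Subgroup.ne_bot_iff_exists_ne_one]
    refine ⟨⟨m.π ⟨z₀, hz₀S⟩, (hmem ⟨z₀, hz₀S⟩).2 hz₀, ?_, ?_⟩, ?_⟩
    · rw [← map_mul, m.ker]
      exact hz₀s
    · intro y hy
      obtain ⟨s, rfl⟩ := m.surj y
      rw [← map_mul, ← map_mul]
      congr 1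
      exact Subtype.ext (hz₀c s ((hmem s).1 hy))
    · intro e
      apply hz₀n
      exact (m.ker ⟨z₀, hz₀S⟩).1 (congrArg Subtype.val e)
  · rintro k ⟨hk1, hk2, hk3⟩
    obtain ⟨z, rfl⟩ := m.surj k
    rw [← map_mul, ← map_mul]
    congr 1
    apply Subtype.ext
    refine hK z ((hmem z).1 hk1) ?_ ?_
    · rw [← map_mul, m.ker] at hk2
      exact hk2
    · intro y hy
      obtain ⟨hyS, _⟩ := m.mem_hat.1 (mem_inf.1 hy).1
      have h2 := hk3 (m.π ⟨y, hyS⟩) ((hmem ⟨y, hyS⟩).2 hy)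
      rw [← map_mul, ← map_mul] at h2
      obtain ⟨s, hs, e⟩ := (m.π_eq_iff (z * ⟨y, hyS⟩) (⟨y, hyS⟩ * z)).1 h2
      exact ⟨s, hs, e⟩

/-- the preimage of `A` is `M ⊓ S` if it lies in `M` and `S ≰ M` -/
theorem hat_eq (h : EPT A Γ) (m : Model Q S) {M : Subgroup (GL ι F)} (hA : m.hat A ≤ M) (hSM : ¬ S ≤ M) :
    m.hat A = M ⊓ S := by
  rcases (m.isMaximalIn h.max).2 (M ⊓ S) (le_inf hA (m.hat_le A)) inf_le_right with h1 | h1
  · exact h1.symm
  · exact absurd (inf_eq_right.1 h1) hSM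

end Cfsg.Agent.H663.EP
end

-- part: H663/EP/Gram
section
/-!
# S3499: models by the isometry group of a Gram matrix (helper663)

`isoG G` : the group of the matrices `g` with `gᵀ G g = G`; `exists_model` : a model of `Q` by `spGL k F` gives one by
`isoG G`, if `sympForm` has the Gram matrix `c • G` in the coordinates given by `e`, `P`.
-/

set_option autoImplicit false

namespace Cfsg.Agent.H663.EP

open Subgroup Cfsg.Agent.H284 Cfsg.Agent.H419.EP Matrix
open scoped MatrixGroups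

section isoG

variable {κ : Type} [Fintype κ] [DecidableEq κ] {F : Type*} [Field F]

/-- the isometry group of the form with Gram matrix `G` -/
def isoG (G : Matrix κ κ F) : Subgroup (GL κ F) where
  carrier := {g | (g : Matrix κ κ F)ᵀ * G * (g : Matrix κ κ F) = G}
  one_mem' := by simp
  mul_mem' := by
    intro a b ha hb
    change ((a * b : GL κ F) : Matrix κ κ F)ᵀ * G * ((a * b : GL κ F) : Matrix κ κ F) = G
    rw [Units.val_mul, Matrix.transpose_mul]
    calc (b : Matrix κ κ F)ᵀ * (a : Matrix κ κ F)ᵀ * G * ((a : Matrix κ κ F) * b)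
        = (b : Matrix κ κ F)ᵀ * ((a : Matrix κ κ F)ᵀ * G * (a : Matrix κ κ F)) * b := by
          simp only [Matrix.mul_assoc]
      _ = G := by rw [ha, hb]
  inv_mem' := by
    intro a ha
    change ((a⁻¹ : GL κ F) : Matrix κ κ F)ᵀ * G * ((a⁻¹ : GL κ F) : Matrix κ κ F) = G
    have h1 : (a : Matrix κ κ F)ᵀ * G * (a : Matrix κ κ F) = G := ha
    have h2 : ((a⁻¹ : GL κ F) : Matrix κ κ F)ᵀ * (a : Matrix κ κ F)ᵀ = 1 := by
      rw [← Matrix.transpose_mul, ← Units.val_mul, mul_inv_cancel, Units.val_one, Matrix.transpose_one]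
    have h3 : (a : Matrix κ κ F) * ((a⁻¹ : GL κ F) : Matrix κ κ F) = 1 := by
      rw [← Units.val_mul, mul_inv_cancel, Units.val_one]
    calc ((a⁻¹ : GL κ F) : Matrix κ κ F)ᵀ * G * ((a⁻¹ : GL κ F) : Matrix κ κ F)
        = ((a⁻¹ : GL κ F) : Matrix κ κ F)ᵀ * ((a : Matrix κ κ F)ᵀ * G * (a : Matrix κ κ F)) *
          ((a⁻¹ : GL κ F) : Matrix κ κ F) := by rw [h1]
      _ = (((a⁻¹ : GL κ F) : Matrix κ κ F)ᵀ * (a : Matrix κ κ F)ᵀ) * G *
          ((a : Matrix κ κ F) * ((a⁻¹ : GL κ F) : Matrix κ κ F)) := by simp only [Matrix.mul_assoc]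
      _ = G := by rw [h2, h3, Matrix.one_mul, Matrix.mul_one]

theorem mem_isoG {G : Matrix κ κ F} {g : GL κ F} :
    g ∈ isoG G ↔ (g : Matrix κ κ F)ᵀ * G * (g : Matrix κ κ F) = G := Iff.rfl

theorem mem_isoG_iff {G : Matrix κ κ F} {g : GL κ F} :
    g ∈ isoG G ↔ ∀ x y : κ → F, ((g : Matrix κ κ F) *ᵥ x) ⬝ᵥ (G *ᵥ ((g : Matrix κ κ F) *ᵥ y)) = x ⬝ᵥ (G *ᵥ y) := by
  have key : ∀ x y : κ → F, ((g : Matrix κ κ F) *ᵥ x) ⬝ᵥ (G *ᵥ ((g : Matrix κ κ F) *ᵥ y)) =
      x ⬝ᵥ (((g : Matrix κ κ F)ᵀ * G * (g : Matrix κ κ F)) *ᵥ y) := by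
    intro x y
    rw [Matrix.mulVec_mulVec, ← Matrix.vecMul_transpose, ← Matrix.dotProduct_mulVec, Matrix.mulVec_mulVec,
      ← Matrix.mul_assoc]
  rw [mem_isoG]
  constructor
  · intro h x y
    rw [key, h]
  · intro h
    ext i j
    have h1 := h (Pi.single i 1) (Pi.single j 1)
    rw [key] at h1
    simpa only [_root_.Matrix.mulVec_single, _root_.MulOpposite.op_one, _root_.one_smul, _root_.single_dotProduct, _root_.Matrix.col_apply, _root_.one_mul] using h1

end isoG

section transport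

variable {Q : Type*} [Group Q] {ι κ : Type} [Fintype ι] [DecidableEq ι] [Fintype κ] [DecidableEq κ] {F : Type*}
  [Field F]

/-- the change of frame -/
def frame (e : ι ≃ κ) (P : GL ι F) : GL κ F ≃* GL ι F := (Cfsg.Geo.glReindex e.symm).trans (MulAut.conj P)

theorem frame_val (e : ι ≃ κ) (P : GL ι F) (g : GL κ F) :
    ((frame e P g : GL ι F) : Matrix ι ι F) =
      (P : Matrix ι ι F) * (Matrix.reindexAlgEquiv F F e.symm (g : Matrix κ κ F)) * ((P⁻¹ : GL ι F) : Matrix ι ι F) := by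
  simp only [frame, Cfsg.Geo.glReindex, _root_.MulEquiv.trans_apply, _root_.MulAut.conj_apply, _root_.Units.val_mul, _root_.Units.coe_mapEquiv, _root_.MulEquiv.coe_mk, _root_.AlgEquiv.toEquiv_eq_coe, _root_.Matrix.toEquiv_reindexAlgEquiv, _root_.Matrix.reindex_apply, _root_.Equiv.symm_symm, _root_.Matrix.coe_units_inv, _root_.Matrix.coe_reindexAlgEquiv]

theorem frame_mulVec (e : ι ≃ κ) (P : GL ι F) (g : GL κ F) (x : κ → F) :
    ((frame e P g : GL ι F) : Matrix ι ι F) *ᵥ ((P : Matrix ι ι F) *ᵥ (x ∘ e)) =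
      (P : Matrix ι ι F) *ᵥ (((g : Matrix κ κ F) *ᵥ x) ∘ e) := by
  rw [frame_val, Matrix.mulVec_mulVec, Matrix.mul_assoc, ← Units.val_mul, inv_mul_cancel, Units.val_one,
    Matrix.mul_one, ← Matrix.mulVec_mulVec]
  congr 1
  funext i
  simp only [Matrix.mulVec, dotProduct, Matrix.coe_reindexAlgEquiv, Matrix.reindex_apply, Matrix.submatrix_apply,
    Function.comp_apply, Equiv.symm_symm]
  exact Equiv.sum_comp e (fun j => (g : Matrix κ κ F) (e i) j * x j)

theorem frame_scalars (e : ι ≃ κ) (P : GL ι F) (g : GL κ F) :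
    frame e P g ∈ Cfsg.Geo.scalars ι F ↔ g ∈ Cfsg.Geo.scalars κ F := by
  rw [Cfsg.Geo.mem_scalars_iff, Cfsg.Geo.mem_scalars_iff]
  constructor
  · rintro ⟨c, hc⟩
    refine ⟨c, ?_⟩
    rw [frame_val] at hc
    have h1 : (Matrix.reindexAlgEquiv F F e.symm (g : Matrix κ κ F)) = (c : F) • (1 : Matrix ι ι F) := by
      have := congrArg (fun Z => ((P⁻¹ : GL ι F) : Matrix ι ι F) * Z * (P : Matrix ι ι F)) hc
      simpa only [mul_assoc, _root_.Matrix.coe_reindexAlgEquiv, _root_.Matrix.reindex_apply, _root_.Equiv.symm_symm, _root_.Matrix.coe_units_inv, _root_.Matrix.inv_mul_cancel_left_of_invertible, _root_.Matrix.inv_mul_of_invertible, _root_.mul_one, _root_.Algebra.mul_smul_comm, _root_.Algebra.smul_mul_assoc] using this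
    apply (Matrix.reindexAlgEquiv F F e.symm).injective
    rw [h1, map_smul, map_one]
  · rintro ⟨c, hc⟩
    refine ⟨c, ?_⟩
    rw [frame_val, hc, map_smul, map_one, Matrix.mul_smul, Matrix.mul_one, Matrix.smul_mul, ← Units.val_mul,
      mul_inv_cancel, Units.val_one]

/-- the transported model -/
theorem exists_model {k : ℕ} (m : Model Q (Cfsg.spGL k F)) (e : (Fin k ⊕ Fin k) ≃ κ) (P : GL (Fin k ⊕ Fin k) F)
    (G : Matrix κ κ F) {c : F} (hc : c ≠ 0)
    (hf : ∀ x y : κ → F, Cfsg.sympForm k F ((P : Matrix _ _ F) *ᵥ (x ∘ e)) ((P : Matrix _ _ F) *ᵥ (y ∘ e)) =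
      c * (x ⬝ᵥ (G *ᵥ y))) :
    ∃ m' : Model Q (isoG G), ∀ A : Subgroup Q, ∀ g : GL κ F, g ∈ m'.hat A ↔ frame e P g ∈ m.hat A := by
  have hS : ∀ g : GL κ F, g ∈ isoG G ↔ frame e P g ∈ Cfsg.spGL k F := by
    intro g
    rw [mem_isoG_iff]
    constructor
    · intro h u v
      obtain ⟨x, rfl⟩ : ∃ x : κ → F, u = (P : Matrix _ _ F) *ᵥ (x ∘ e) := by
        refine ⟨(((P⁻¹ : GL (Fin k ⊕ Fin k) F) : Matrix _ _ F) *ᵥ u) ∘ e.symm, ?_⟩
        have : ((((P⁻¹ : GL (Fin k ⊕ Fin k) F) : Matrix _ _ F) *ᵥ u) ∘ e.symm) ∘ e =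
            ((P⁻¹ : GL (Fin k ⊕ Fin k) F) : Matrix _ _ F) *ᵥ u := by
          funext i
          simp
        rw [this, Matrix.mulVec_mulVec, ← Units.val_mul, mul_inv_cancel, Units.val_one, Matrix.one_mulVec]
      obtain ⟨y, rfl⟩ : ∃ y : κ → F, v = (P : Matrix _ _ F) *ᵥ (y ∘ e) := by
        refine ⟨(((P⁻¹ : GL (Fin k ⊕ Fin k) F) : Matrix _ _ F) *ᵥ v) ∘ e.symm, ?_⟩
        have : ((((P⁻¹ : GL (Fin k ⊕ Fin k) F) : Matrix _ _ F) *ᵥ v) ∘ e.symm) ∘ e =
            ((P⁻¹ : GL (Fin k ⊕ Fin k) F) : Matrix _ _ F) *ᵥ v := by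
          funext i
          simp
        rw [this, Matrix.mulVec_mulVec, ← Units.val_mul, mul_inv_cancel, Units.val_one, Matrix.one_mulVec]
      change Cfsg.sympForm k F (((frame e P g : GL (Fin k ⊕ Fin k) F) : Matrix (Fin k ⊕ Fin k) (Fin k ⊕ Fin k) F) *ᵥ _)
        (((frame e P g : GL (Fin k ⊕ Fin k) F) : Matrix (Fin k ⊕ Fin k) (Fin k ⊕ Fin k) F) *ᵥ _) = _
      rw [frame_mulVec, frame_mulVec, hf, hf, h]
    · intro h x y
      have h1 := h ((P : Matrix _ _ F) *ᵥ (x ∘ e)) ((P : Matrix _ _ F) *ᵥ (y ∘ e))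
      change Cfsg.sympForm k F
        (((frame e P g : GL (Fin k ⊕ Fin k) F) : Matrix (Fin k ⊕ Fin k) (Fin k ⊕ Fin k) F) *ᵥ _)
        (((frame e P g : GL (Fin k ⊕ Fin k) F) : Matrix (Fin k ⊕ Fin k) (Fin k ⊕ Fin k) F) *ᵥ _) = _ at h1
      rw [frame_mulVec, frame_mulVec, hf, hf] at h1
      exact mul_left_cancel₀ hc h1
  let f : isoG G →* Cfsg.spGL k F :=
    ((frame e P).toMonoidHom.comp (isoG G).subtype).codRestrict _ fun s => (hS s).1 s.2
  have hfv : ∀ s : isoG G, ((f s : Cfsg.spGL k F) : GL _ F) = frame e P s := fun s => rfl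
  refine ⟨⟨m.π.comp f, ?_, ?_⟩, ?_⟩
  · intro q
    obtain ⟨s, rfl⟩ := m.surj q
    have h1 : (frame e P).symm (s : GL _ F) ∈ isoG G := by
      rw [hS, MulEquiv.apply_symm_apply]
      exact s.2
    refine ⟨⟨_, h1⟩, ?_⟩
    change m.π (f ⟨_, h1⟩) = m.π s
    congr 1
    apply Subtype.ext
    rw [hfv]
    exact MulEquiv.apply_symm_apply _ _
  · intro s
    change m.π (f s) = 1 ↔ _
    rw [m.ker, hfv, frame_scalars]
  · intro A g
    rw [Model.mem_hat, Model.mem_hat]
    constructor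
    · rintro ⟨hg, h1⟩
      exact ⟨(hS g).1 hg, h1⟩
    · rintro ⟨hg, h1⟩
      exact ⟨(hS g).2 hg, h1⟩

end transport

end Cfsg.Agent.H663.EP
end

-- part: H663/EP/SympVec
section
/-!
# Rank one operators of an alternating form (helper663)

`G` a skew-symmetric alternating nondegenerate Gram matrix on `κ → F`; `nu G u` : `z ↦ f(z, u) u`.
`scalar_of_comm` : an invertible `a` commuting with `nu G u` for all `u` orthogonal to `v` and with scalar square is
scalar.
-/

set_option autoImplicit false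
set_option linter.unusedSectionVars false

namespace Cfsg.Agent.H663.EP

open Matrix
open scoped MatrixGroups

section alt

variable {κ : Type} [Fintype κ] [DecidableEq κ] {F : Type*} [Field F]

/-- the form with Gram matrix `G` -/
def fo (G : Matrix κ κ F) (x y : κ → F) : F := x ⬝ᵥ (G *ᵥ y)

theorem fo_add_left (G : Matrix κ κ F) (x x' y : κ → F) : fo G (x + x') y = fo G x y + fo G x' y := by
  unfold fo; rw [add_dotProduct]

theorem fo_smul_left (G : Matrix κ κ F) (c : F) (x y : κ → F) : fo G (c • x) y = c * fo G x y := by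
  unfold fo; rw [smul_dotProduct, smul_eq_mul]

theorem fo_add_right (G : Matrix κ κ F) (x y y' : κ → F) : fo G x (y + y') = fo G x y + fo G x y' := by
  unfold fo; rw [Matrix.mulVec_add, dotProduct_add]

theorem fo_smul_right (G : Matrix κ κ F) (c : F) (x y : κ → F) : fo G x (c • y) = c * fo G x y := by
  unfold fo; rw [Matrix.mulVec_smul, dotProduct_smul, smul_eq_mul]

theorem fo_sub_left (G : Matrix κ κ F) (x x' y : κ → F) : fo G (x - x') y = fo G x y - fo G x' y := by
  unfold fo; rw [sub_dotProduct]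

theorem fo_sub_right (G : Matrix κ κ F) (x y y' : κ → F) : fo G x (y - y') = fo G x y - fo G x y' := by
  unfold fo; rw [Matrix.mulVec_sub, dotProduct_sub]

theorem fo_zero_left (G : Matrix κ κ F) (y : κ → F) : fo G 0 y = 0 := by unfold fo; rw [zero_dotProduct]

theorem fo_zero_right (G : Matrix κ κ F) (x : κ → F) : fo G x 0 = 0 := by
  unfold fo; rw [Matrix.mulVec_zero, dotProduct_zero]

/-- a nondegenerate alternating form -/
structure Alt (G : Matrix κ κ F) : Prop where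
  alt : ∀ x, fo G x x = 0
  nd : ∀ x, (∀ y, fo G x y = 0) → x = 0

theorem Alt.skew {G : Matrix κ κ F} (h : Alt G) (x y : κ → F) : fo G x y = -fo G y x := by
  have h1 := h.alt (x + y)
  rw [fo_add_left, fo_add_right, fo_add_right, h.alt, h.alt, zero_add, add_zero] at h1
  exact eq_neg_of_add_eq_zero_left h1

theorem Alt.transpose {G : Matrix κ κ F} (h : Alt G) : Gᵀ = -G := by
  ext i j
  have h1 := h.skew (Pi.single j 1) (Pi.single i 1)
  unfold fo at h1
  simpa only [_root_.Matrix.transpose_apply, _root_.Matrix.neg_apply, _root_.Matrix.mulVec_single, _root_.MulOpposite.op_one, _root_.one_smul, _root_.single_dotProduct, _root_.Matrix.col_apply, _root_.one_mul] using h1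

/-- `z ↦ f(z, u) u` -/
def nu (G : Matrix κ κ F) (u : κ → F) : Matrix κ κ F := Matrix.vecMulVec u (G *ᵥ u)

theorem nu_mulVec (G : Matrix κ κ F) (u z : κ → F) : nu G u *ᵥ z = fo G z u • u := by
  unfold nu fo
  rw [Matrix.vecMulVec_mulVec, dotProduct_comm, op_smul_eq_smul]

theorem mat_ext {A B : Matrix κ κ F} (h : ∀ z, A *ᵥ z = B *ᵥ z) : A = B := by
  ext i j
  have := congrFun (h (Pi.single j 1)) i
  simpa using this

theorem nu_mul_nu (G : Matrix κ κ F) {u v : κ → F} (h : fo G v u = 0) : nu G u * nu G v = 0 := by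
  apply mat_ext
  intro z
  rw [← Matrix.mulVec_mulVec, nu_mulVec, nu_mulVec, fo_smul_left, h, mul_zero, zero_smul, Matrix.zero_mulVec]

theorem Alt.nu_sq {G : Matrix κ κ F} (h : Alt G) (u : κ → F) : nu G u * nu G u = 0 := nu_mul_nu G (h.alt u)

theorem Alt.nu_ne {G : Matrix κ κ F} (h : Alt G) {u : κ → F} (hu : u ≠ 0) : nu G u ≠ 0 := by
  intro e
  apply hu
  apply h.nd
  intro y
  by_contra hne
  apply hu
  have h1 := nu_mulVec G u y
  rw [e, Matrix.zero_mulVec, h.skew y u] at h1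
  have h2 := h1.symm
  rw [smul_eq_zero] at h2
  rcases h2 with h2 | h2
  · exact absurd (neg_eq_zero.1 h2) hne
  · exact h2

/-- a nonzero square zero matrix is not scalar; the form used here: `a (1 + N) = c (1 + N) a` implies `a N = N a` -/
theorem comm_of_smul {N a : Matrix κ κ F} (ha : IsUnit a) (hN : N * N = 0) (hN0 : N ≠ 0) {c : F}
    (h : a * (1 + N) = c • ((1 + N) * a)) : a * N = N * a := by
  obtain ⟨a, rfl⟩ := ha
  set b : Matrix κ κ F := ((a⁻¹ : (Matrix κ κ F)ˣ) : Matrix κ κ F) with hb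
  have hab : (a : Matrix κ κ F) * b = 1 := by rw [hb, ← Units.val_mul, mul_inv_cancel, Units.val_one]
  have hba : b * (a : Matrix κ κ F) = 1 := by rw [hb, ← Units.val_mul, inv_mul_cancel, Units.val_one]
  -- `a N a⁻¹ = (c - 1) + c N`
  have h1 : (a : Matrix κ κ F) * N * b = (c - 1) • (1 : Matrix κ κ F) + c • N := by
    have h2 : (a : Matrix κ κ F) * (1 + N) * b = 1 + (a : Matrix κ κ F) * N * b := by
      rw [mul_add, mul_one, add_mul, hab]
    rw [h, Matrix.smul_mul, Matrix.mul_assoc, hab, Matrix.mul_one, smul_add] at h2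
    rw [sub_smul, one_smul, sub_add_eq_add_sub, h2, add_sub_cancel_left]
  have h2 : ((a : Matrix κ κ F) * N * b) * ((a : Matrix κ κ F) * N * b) = 0 := by
    calc ((a : Matrix κ κ F) * N * b) * ((a : Matrix κ κ F) * N * b)
        = (a : Matrix κ κ F) * N * (b * (a : Matrix κ κ F)) * N * b := by simp only [Matrix.mul_assoc]
      _ = (a : Matrix κ κ F) * (N * N) * b := by rw [hba, Matrix.mul_one, Matrix.mul_assoc (a : Matrix κ κ F)]
      _ = 0 := by rw [hN, Matrix.mul_zero, Matrix.zero_mul]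
  have h3 : (c - 1) ^ 2 • N = 0 := by
    have h4 : ((c - 1) • (1 : Matrix κ κ F) + c • N) * ((c - 1) • (1 : Matrix κ κ F) + c • N) * N = (c - 1) ^ 2 • N := by
      simp only [add_mul, mul_add, Matrix.smul_mul, Matrix.mul_smul, Matrix.one_mul, Matrix.mul_one, hN, smul_zero,
        add_zero, smul_smul]
      rw [pow_two]
    rw [← h4, ← h1, h2, Matrix.zero_mul]
  have h4 : c = 1 := by
    rcases smul_eq_zero.1 h3 with h5 | h5
    · exact sub_eq_zero.1 (pow_eq_zero_iff (two_ne_zero) |>.1 h5)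
    · exact absurd h5 hN0
  rw [h4, one_smul, mul_add, add_mul, mul_one, one_mul] at h
  exact add_left_cancel h

/-- **scalar criterion** -/
theorem Alt.scalar_of_comm {G : Matrix κ κ F} (h : Alt G) (h2 : (2 : F) ≠ 0) {v : κ → F} (hv : v ≠ 0)
    {a : Matrix κ κ F} (ha : IsUnit a) {s : F} (hs : a * a = s • (1 : Matrix κ κ F))
    (hc : ∀ u, fo G v u = 0 → a * nu G u = nu G u * a) : ∃ c : F, a = c • (1 : Matrix κ κ F) := by
  -- eigenvectors
  have hinj : ∀ x, a *ᵥ x = 0 → x = 0 := by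
    intro x hx
    obtain ⟨a', rfl⟩ := ha
    have h1 : ((a'⁻¹ : (Matrix κ κ F)ˣ) : Matrix κ κ F) *ᵥ ((a' : Matrix κ κ F) *ᵥ x) = x := by
      rw [Matrix.mulVec_mulVec, ← Units.val_mul, inv_mul_cancel, Units.val_one, Matrix.one_mulVec]
    rw [← h1, hx, Matrix.mulVec_zero]
  have key : ∀ u, fo G v u = 0 → u ≠ 0 → ∃ l : F, a *ᵥ u = l • u ∧ ∀ z, fo G (a *ᵥ z) u = l * fo G z u := by
    intro u hu hu0
    obtain ⟨y, hy⟩ : ∃ y, fo G y u ≠ 0 := by
      by_contra hcon
      push Not at hcon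
      apply hu0
      apply h.nd
      intro y
      rw [h.skew, hcon y, neg_zero]
    have h1 : ∀ z, fo G z u • (a *ᵥ u) = fo G (a *ᵥ z) u • u := by
      intro z
      have h3 := congrArg (fun Z : Matrix κ κ F => Z *ᵥ z) (hc u hu)
      simp only [← Matrix.mulVec_mulVec, nu_mulVec, Matrix.mulVec_smul] at h3
      exact h3
    refine ⟨(fo G y u)⁻¹ * fo G (a *ᵥ y) u, ?_, ?_⟩
    · rw [mul_smul, ← h1 y, smul_smul, inv_mul_cancel₀ hy, one_smul]
    · intro z
      have h3 : a *ᵥ u = ((fo G y u)⁻¹ * fo G (a *ᵥ y) u) • u := by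
        rw [mul_smul, ← h1 y, smul_smul, inv_mul_cancel₀ hy, one_smul]
      have h4 := h1 z
      rw [h3, smul_smul] at h4
      have h5 : (fo G z u * ((fo G y u)⁻¹ * fo G (a *ᵥ y) u) - fo G (a *ᵥ z) u) • u = 0 := by
        rw [sub_smul, h4, sub_self]
      rcases smul_eq_zero.1 h5 with h6 | h6
      · rw [sub_eq_zero] at h6
        rw [← h6, mul_comm]
      · exact absurd h6 hu0
  obtain ⟨l, hl, hl'⟩ := key v (h.alt v) hv
  -- the same eigenvalue on `v^⊥`
  have key2 : ∀ u, fo G v u = 0 → a *ᵥ u = l • u ∧ ∀ z, fo G (a *ᵥ z) u = l * fo G z u := by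
    intro u hu
    rcases eq_or_ne u 0 with rfl | hu0
    · refine ⟨by rw [Matrix.mulVec_zero, smul_zero], fun z => by rw [fo_zero_right, fo_zero_right, mul_zero]⟩
    obtain ⟨l', h3, h4⟩ := key u hu hu0
    have hll : l' = l := by
      by_cases hpar : ∃ c : F, u = c • v
      · obtain ⟨c, rfl⟩ := hpar
        rw [Matrix.mulVec_smul, hl, smul_comm c l v] at h3
        have h5 : (l - l') • (c • v) = 0 := by rw [sub_smul, h3, sub_self]
        rcases smul_eq_zero.1 h5 with h6 | h6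
        · exact (sub_eq_zero.1 h6).symm
        · exact absurd h6 hu0
      · have huv : u + v ≠ 0 := by
          intro e
          apply hpar
          exact ⟨-1, by rw [neg_smul, one_smul]; exact eq_neg_of_add_eq_zero_left e⟩
        obtain ⟨l'', h5, -⟩ := key (u + v) (by rw [fo_add_right, hu, h.alt, add_zero]) huv
        rw [Matrix.mulVec_add, h3, hl, smul_add] at h5
        have h6 : (l' - l'') • u = (l'' - l) • v := by
          rw [sub_smul, sub_smul, sub_eq_sub_iff_add_eq_add, h5, add_comm]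
        have h7 : l' = l'' := by
          by_contra hne
          apply hpar
          refine ⟨(l' - l'')⁻¹ * (l'' - l), ?_⟩
          rw [mul_smul, ← h6, smul_smul, inv_mul_cancel₀ (sub_ne_zero.2 hne), one_smul]
        rw [h7, sub_self, zero_smul] at h6
        rcases smul_eq_zero.1 h6.symm with h8 | h8
        · rw [h7]
          exact sub_eq_zero.1 h8
        · exact absurd h8 hv
    rw [hll] at h3 h4
    exact ⟨h3, h4⟩
  obtain ⟨y, hy⟩ : ∃ y, fo G y v ≠ 0 := by
    by_contra hcon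
    push Not at hcon
    apply hv
    apply h.nd
    intro y
    rw [h.skew, hcon y, neg_zero]
  -- `a y = l y + k v`
  have h5 : ∃ k : F, a *ᵥ y = l • y + k • v := by
    set p := a *ᵥ y - l • y with hp
    have h6 : ∀ u, fo G v u = 0 → fo G p u = 0 := by
      intro u hu
      rw [hp, fo_sub_left, fo_smul_left, (key2 u hu).2 y, sub_self]
    have h7 : p = ((fo G y v)⁻¹ * fo G y p) • v := by
      rw [← sub_eq_zero]
      apply h.nd
      intro z
      -- u = z - (f(z,v)/f(y,v)) y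
      have h8 := h6 (z - (fo G z v * (fo G y v)⁻¹) • y) (by
        rw [fo_sub_right, fo_smul_right, h.skew v z, h.skew v y]
        field_simp
        ring)
      rw [fo_sub_right, fo_smul_right, sub_eq_zero] at h8
      rw [fo_sub_left, fo_smul_left, h8, h.skew v z, h.skew p y]
      ring
    refine ⟨(fo G y v)⁻¹ * fo G y p, ?_⟩
    rw [← h7, hp]
    abel
  obtain ⟨k, hk⟩ := h5
  have hl0 : l ≠ 0 := by
    rintro rfl
    rw [zero_smul] at hl
    exact hv (hinj v hl)
  have h6 : k = 0 := by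
    have h7 : (a * a) *ᵥ y = (l * l) • y + (2 * l * k) • v := by
      rw [← Matrix.mulVec_mulVec, hk, Matrix.mulVec_add, Matrix.mulVec_smul, Matrix.mulVec_smul, hk, hl, smul_add,
        smul_smul, smul_smul, smul_smul, add_assoc, ← add_smul]
      congr 2
      ring
    rw [hs, Matrix.smul_mulVec, Matrix.one_mulVec] at h7
    have h8 := congrArg (fun z => fo G z y) h7
    simp only [fo_add_left, fo_smul_left, h.alt y, mul_zero, zero_add] at h8
    have h9 : fo G v y ≠ 0 := by rw [h.skew]; exact neg_ne_zero.2 hy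
    have h10 := (mul_eq_zero.1 h8.symm).resolve_right h9
    exact (mul_eq_zero.1 h10).resolve_left (mul_ne_zero h2 hl0)
  refine ⟨l, mat_ext fun z => ?_⟩
  rw [Matrix.smul_mulVec, Matrix.one_mulVec]
  have h7 := (key2 (z - (fo G z v * (fo G y v)⁻¹) • y) (by
    rw [fo_sub_right, fo_smul_right, h.skew v z, h.skew v y]
    field_simp
    ring)).1
  rw [Matrix.mulVec_sub, Matrix.mulVec_smul, hk, h6, zero_smul, add_zero, smul_sub, smul_comm l] at h7
  exact sub_left_injective h7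

end alt

end Cfsg.Agent.H663.EP
end

private theorem dce_f72d76c18790 : _root_.True := by
  try have : _root_.True := by simp only [_root_.Cfsg.Agent.H663.EP.frame.eq_1]
  exact _root_.True.intro
end

-- part: H663/EP/C7Main
section
prune_inst 0x11106d045522100000188086e1201c62b6000092004804002402004004c98c68adc2a860b12011155a08084508350068135c0480426000000e000000013c07891000040081080000820090000100000000000000000000000000000000010004200400000
set_option linter.all false
open scoped Cfsg.Agent.FastGrp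

-- part: H663/EP/C7Base
section
/-!
# S3499: tensor powers of a symplectic form (helper663)

`GG G₁ t` : the Gram matrix of the tensor power; `ev G₁ x ys = f(x, tp ys)`; the vector `DD` with
`f(DD, tp ys) = f₁(ys α, ys β) ∏_{j ≠ α, β} f₁(v, ys j)`; `not_tp` : `tp zs + c DD` is not a pure tensor.
-/

set_option autoImplicit false
set_option linter.unusedSectionVars false

namespace Cfsg.Agent.H663.EP

open Matrix Cfsg.Geo Cfsg.Agent.H889
open scoped MatrixGroups

/-! ### transvections -/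

section tv

variable {κ : Type} [Fintype κ] [DecidableEq κ] {F : Type*} [Field F] {G : Matrix κ κ F}

/-- the transvection `z ↦ z + f(z, u) u` -/
def tvG (hG : Alt G) (u : κ → F) : GL κ F where
  val := 1 + nu G u
  inv := 1 - nu G u
  val_inv := by
    rw [mul_sub, mul_one, add_mul, one_mul, hG.nu_sq, add_zero]
    abel
  inv_val := by
    rw [mul_add, mul_one, sub_mul, one_mul, hG.nu_sq, sub_zero]
    abel

theorem tvG_val (hG : Alt G) (u : κ → F) : (tvG hG u : Matrix κ κ F) = 1 + nu G u := rfl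

theorem tvG_inv_val (hG : Alt G) (u : κ → F) : (((tvG hG u)⁻¹ : GL κ F) : Matrix κ κ F) = 1 - nu G u := rfl

theorem tvG_mulVec (hG : Alt G) (u z : κ → F) : (tvG hG u : Matrix κ κ F) *ᵥ z = z + fo G z u • u := by
  rw [tvG_val, Matrix.add_mulVec, Matrix.one_mulVec, nu_mulVec]

theorem tvG_inv_mulVec (hG : Alt G) (u z : κ → F) :
    (((tvG hG u)⁻¹ : GL κ F) : Matrix κ κ F) *ᵥ z = z - fo G z u • u := by
  rw [tvG_inv_val, Matrix.sub_mulVec, Matrix.one_mulVec, nu_mulVec]

theorem fo_isoG {g : GL κ F} (hg : g ∈ isoG G) (x y : κ → F) :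
    fo G ((g : Matrix κ κ F) *ᵥ x) ((g : Matrix κ κ F) *ᵥ y) = fo G x y := mem_isoG_iff.1 hg x y

theorem fo_isoG_left {g : GL κ F} (hg : g ∈ isoG G) (x y : κ → F) :
    fo G ((g : Matrix κ κ F) *ᵥ x) y = fo G x (((g⁻¹ : GL κ F) : Matrix κ κ F) *ᵥ y) := by
  have h1 := fo_isoG hg x (((g⁻¹ : GL κ F) : Matrix κ κ F) *ᵥ y)
  rw [Matrix.mulVec_mulVec, ← Units.val_mul, mul_inv_cancel, Units.val_one, Matrix.one_mulVec] at h1
  exact h1

theorem tvG_mem (hG : Alt G) (u : κ → F) : tvG hG u ∈ isoG G := by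
  rw [mem_isoG_iff]
  intro x y
  change fo G _ _ = fo G x y
  rw [tvG_mulVec, tvG_mulVec, fo_add_left, fo_add_right, fo_add_right, fo_smul_left, fo_smul_left, fo_smul_right,
    fo_smul_right, hG.alt, hG.skew u y]
  ring

theorem gl_ext {g h : GL κ F} (e : ∀ z : κ → F, (g : Matrix κ κ F) *ᵥ z = (h : Matrix κ κ F) *ᵥ z) : g = h :=
  Units.ext (mat_ext e)

/-- `g T_u = T_{g u} g` -/
theorem mul_tvG (hG : Alt G) {g : GL κ F} (hg : g ∈ isoG G) (u : κ → F) :
    g * tvG hG u = tvG hG ((g : Matrix κ κ F) *ᵥ u) * g := by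
  apply gl_ext
  intro z
  rw [Units.val_mul, Units.val_mul, ← Matrix.mulVec_mulVec, ← Matrix.mulVec_mulVec, tvG_mulVec, tvG_mulVec,
    Matrix.mulVec_add, Matrix.mulVec_smul, fo_isoG hg]

theorem tvG_neg (hG : Alt G) (u : κ → F) : tvG hG (-u) = tvG hG u := by
  apply gl_ext
  intro z
  rw [tvG_mulVec, tvG_mulVec, show -u = (-1 : F) • u by rw [neg_smul, one_smul], fo_smul_right, smul_smul]
  congr 2
  ring

theorem Alt.exists_ne {G : Matrix κ κ F} (hG : Alt G) {v : κ → F} (hv : v ≠ 0) : ∃ y, fo G v y ≠ 0 := by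
  by_contra hcon
  push Not at hcon
  exact hv (hG.nd v hcon)

theorem Alt.ne_zero_left {G : Matrix κ κ F} {v y : κ → F} (h : fo G v y ≠ 0) : v ≠ 0 := by
  rintro rfl
  exact h (fo_zero_left G y)

theorem Alt.ne_zero_right {G : Matrix κ κ F} {v y : κ → F} (h : fo G v y ≠ 0) : y ≠ 0 := by
  rintro rfl
  exact h (fo_zero_right G v)

theorem gl_mulVec_ne_zero (g : GL κ F) {x : κ → F} (hx : x ≠ 0) : (g : Matrix κ κ F) *ᵥ x ≠ 0 := by
  intro h
  apply hx
  have h1 : ((g⁻¹ : GL κ F) : Matrix κ κ F) *ᵥ ((g : Matrix κ κ F) *ᵥ x) = x := by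
    rw [Matrix.mulVec_mulVec, ← Units.val_mul, inv_mul_cancel, Units.val_one, Matrix.one_mulVec]
  rw [← h1, h, Matrix.mulVec_zero]

end tv

section pow

variable {F : Type*} [Field F] {k t : ℕ}

theorem tp_dot (xs zs : Fin t → (Fin k → F)) : tp xs ⬝ᵥ tp zs = ∏ i, (xs i ⬝ᵥ zs i) := by
  simp only [dotProduct, tp_apply]
  rw [Finset.prod_univ_sum, Fintype.piFinset_univ]
  exact Finset.sum_congr rfl fun c _ => (Finset.prod_mul_distrib).symm

/-- the Gram matrix of the tensor power -/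
def GG (G₁ : Matrix (Fin k) (Fin k) F) (t : ℕ) : Matrix (Fin t → Fin k) (Fin t → Fin k) F := pm fun _ => G₁

theorem fo_tp (G₁ : Matrix (Fin k) (Fin k) F) (xs ys : Fin t → (Fin k → F)) :
    fo (GG G₁ t) (tp xs) (tp ys) = ∏ i, fo G₁ (xs i) (ys i) := by
  unfold fo GG
  rw [pm_mulVec, tp_dot]

/-- vectors are determined by the pairing with the pure tensors -/
theorem eq_of_tp {G : Matrix (Fin t → Fin k) (Fin t → Fin k) F} (hG : Alt G) {x x' : (Fin t → Fin k) → F}
    (h : ∀ ys, fo G x (tp ys) = fo G x' (tp ys)) : x = x' := by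
  rw [← sub_eq_zero]
  apply hG.nd
  have h1 : ∀ ys, fo G (x - x') (tp ys) = 0 := fun ys => by rw [fo_sub_left, h, sub_self]
  have h2 : (x - x') ᵥ* G = 0 := by
    funext a
    have h3 := h1 (fun i => Pi.single (a i) 1)
    rw [← single_eq_tp] at h3
    unfold fo at h3
    rw [Matrix.dotProduct_mulVec] at h3
    simpa only [_root_.Pi.zero_apply, _root_.dotProduct_single, _root_.mul_one] using h3
  intro y
  unfold fo
  rw [Matrix.dotProduct_mulVec, h2, zero_dotProduct]

/-- a matrix is determined by the pairings of pure tensors -/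
theorem gl_eq_of_tp {g h : GL (Fin t → Fin k) F}
    (e : ∀ xs, (g : Matrix (Fin t → Fin k) (Fin t → Fin k) F) *ᵥ tp xs =
      (h : Matrix (Fin t → Fin k) (Fin t → Fin k) F) *ᵥ tp xs) : g = h :=
  Units.ext (matrix_ext_tp e)

/-- isometries can be checked on pure tensors -/
theorem mem_isoG_of_tp {G : Matrix (Fin t → Fin k) (Fin t → Fin k) F} {g : GL (Fin t → Fin k) F}
    (h : ∀ xs ys, fo G ((g : Matrix (Fin t → Fin k) (Fin t → Fin k) F) *ᵥ tp xs)
      ((g : Matrix (Fin t → Fin k) (Fin t → Fin k) F) *ᵥ tp ys) = fo G (tp xs) (tp ys)) : g ∈ isoG G := by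
  rw [mem_isoG]
  ext a b
  have h1 := h (fun i => Pi.single (a i) 1) (fun i => Pi.single (b i) 1)
  rw [← single_eq_tp, ← single_eq_tp] at h1
  unfold fo at h1
  rw [Matrix.mulVec_mulVec, ← Matrix.vecMul_transpose, ← Matrix.dotProduct_mulVec, Matrix.mulVec_mulVec,
    ← Matrix.mul_assoc] at h1
  simpa only [_root_.Matrix.mulVec_single, _root_.MulOpposite.op_one, _root_.one_smul, _root_.single_dotProduct, _root_.Matrix.col_apply, _root_.one_mul] using h1

theorem alt_GG {G₁ : Matrix (Fin k) (Fin k) F} (h2 : (2 : F) ≠ 0) (hG₁ : Alt G₁) (ht : Odd t) : Alt (GG G₁ t) := by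
  have hT : G₁ᵀ = -G₁ := hG₁.transpose
  have hGT : (GG G₁ t)ᵀ = -(GG G₁ t) := by
    ext a b
    rw [Matrix.transpose_apply, Matrix.neg_apply]
    unfold GG
    rw [pm_apply, pm_apply]
    have h1 : ∀ i, G₁ (b i) (a i) = (-1) * G₁ (a i) (b i) := by
      intro i
      have := congrFun (congrFun hT (a i)) (b i)
      rw [Matrix.transpose_apply, Matrix.neg_apply] at this
      rw [this, neg_one_mul]
    rw [Finset.prod_congr rfl fun i _ => h1 i, Finset.prod_mul_distrib, Finset.prod_const, Finset.card_univ,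
      Fintype.card_fin, ht.neg_one_pow, neg_one_mul]
  have hdet : IsUnit G₁.det := by
    rw [isUnit_iff_ne_zero]
    intro h0
    obtain ⟨v, hv, h1⟩ := Matrix.exists_vecMul_eq_zero_iff.2 h0
    apply hv
    apply hG₁.nd
    intro y
    unfold fo
    rw [Matrix.dotProduct_mulVec, h1, zero_dotProduct]
  have hinv : GG G₁ t * pm (fun _ : Fin t => G₁⁻¹) = 1 := by
    unfold GG
    rw [pm_mul, Matrix.mul_nonsing_inv _ hdet, pm_one]
  refine ⟨fun x => ?_, fun x hx => ?_⟩
  · have h1 : fo (GG G₁ t) x x = -fo (GG G₁ t) x x := by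
      unfold fo
      conv_lhs => rw [Matrix.dotProduct_mulVec, ← Matrix.mulVec_transpose, hGT, Matrix.neg_mulVec, neg_dotProduct,
        dotProduct_comm]
    have h3 : 2 * fo (GG G₁ t) x x = 0 := by linear_combination h1
    exact (mul_eq_zero.1 h3).resolve_left h2
  · have h1 : x ᵥ* (GG G₁ t) = 0 := by
      funext a
      have h3 := hx (Pi.single a 1)
      unfold fo at h3
      rw [Matrix.dotProduct_mulVec] at h3
      simpa only [_root_.Pi.zero_apply, _root_.dotProduct_single, _root_.mul_one] using h3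
    calc x = x ᵥ* (GG G₁ t * pm (fun _ : Fin t => G₁⁻¹)) := by rw [hinv, Matrix.vecMul_one]
      _ = 0 := by rw [← Matrix.vecMul_vecMul, h1, Matrix.zero_vecMul]

/-- the vector `v ⊗ J ⊗ v ⊗ ⋯`, `J` in the slots `α`, `β` -/
noncomputable def DD (G₁ : Matrix (Fin k) (Fin k) F) (v : Fin k → F) (α β : Fin t) : (Fin t → Fin k) → F :=
  ∑ p : Fin k, tp (Function.update (Function.update (fun _ => v) α (Pi.single p 1)) β (G₁⁻¹ *ᵥ Pi.single p 1))

/-- the functional of `DD` -/
def lam (G₁ : Matrix (Fin k) (Fin k) F) (v : Fin k → F) (α β : Fin t) (ys : Fin t → (Fin k → F)) : F :=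
  fo G₁ (ys α) (ys β) * ∏ j ∈ (Finset.univ.erase α).erase β, fo G₁ v (ys j)

theorem prod_two {M : Type*} [CommMonoid M] {α β : Fin t} (hαβ : α ≠ β) (φ : Fin t → M) :
    ∏ i, φ i = φ α * φ β * ∏ j ∈ (Finset.univ.erase α).erase β, φ j := by
  rw [← Finset.mul_prod_erase Finset.univ φ (Finset.mem_univ α),
    ← Finset.mul_prod_erase (Finset.univ.erase α) φ (Finset.mem_erase.2 ⟨hαβ.symm, Finset.mem_univ β⟩), mul_assoc]

theorem fo_sum_left {κ ι : Type} [Fintype κ] [DecidableEq κ] (G : Matrix κ κ F) (s : Finset ι) (x : ι → κ → F)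
    (y : κ → F) : fo G (∑ i ∈ s, x i) y = ∑ i ∈ s, fo G (x i) y := by
  unfold fo
  rw [sum_dotProduct]

theorem fo_DD {G₁ : Matrix (Fin k) (Fin k) F} (hG₁ : Alt G₁) (v : Fin k → F) {α β : Fin t} (hαβ : α ≠ β)
    (ys : Fin t → (Fin k → F)) : fo (GG G₁ t) (DD G₁ v α β) (tp ys) = lam G₁ v α β ys := by
  have hdet : IsUnit G₁.det := by
    rw [isUnit_iff_ne_zero]
    intro h0
    obtain ⟨v, hv, h1⟩ := Matrix.exists_vecMul_eq_zero_iff.2 h0
    apply hv
    apply hG₁.nd
    intro y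
    unfold fo
    rw [Matrix.dotProduct_mulVec, h1, zero_dotProduct]
  unfold DD lam
  rw [fo_sum_left]
  have h1 : ∀ p : Fin k, fo (GG G₁ t)
      (tp (Function.update (Function.update (fun _ => v) α (Pi.single p 1)) β (G₁⁻¹ *ᵥ Pi.single p 1))) (tp ys) =
      fo G₁ (Pi.single p 1) (ys α) * fo G₁ (G₁⁻¹ *ᵥ Pi.single p 1) (ys β) *
        ∏ j ∈ (Finset.univ.erase α).erase β, fo G₁ v (ys j) := by
    intro p
    rw [fo_tp, prod_two hαβ]
    congr 1
    · rw [Function.update_of_ne hαβ, Function.update_self, Function.update_self]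
    · refine Finset.prod_congr rfl fun j hj => ?_
      rw [Finset.mem_erase, Finset.mem_erase] at hj
      rw [Function.update_of_ne hj.1, Function.update_of_ne hj.2.1]
  rw [Finset.sum_congr rfl fun p _ => h1 p, ← Finset.sum_mul]
  congr 1
  -- `∑ f(e_p, y) f(w_p, y') = f(y, y')`
  have h3 : ys α = ∑ p : Fin k, fo G₁ (Pi.single p 1) (ys α) • (G₁⁻¹ *ᵥ (Pi.single p (1 : F) : Fin k → F)) := by
    have h4 : ∀ p : Fin k, fo G₁ (Pi.single p 1) (ys α) = (G₁ *ᵥ ys α) p := by
      intro p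
      unfold fo
      simp only [_root_.single_dotProduct, _root_.one_mul]
    simp only [h4]
    have h5 : (G₁ *ᵥ ys α) = ∑ p : Fin k, (G₁ *ᵥ ys α) p • (Pi.single p (1 : F) : Fin k → F) := by
      funext j
      simp only [Finset.sum_apply, Pi.single_apply, _root_.Pi.smul_apply, _root_.smul_eq_mul, _root_.mul_ite, _root_.mul_one, _root_.MulZeroClass.mul_zero, _root_.Finset.sum_ite_eq, _root_.Finset.mem_univ, ↓ _root_.reduceIte]
    have h6 : G₁⁻¹ *ᵥ (G₁ *ᵥ ys α) = ys α := by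
      rw [Matrix.mulVec_mulVec, Matrix.nonsing_inv_mul _ hdet, Matrix.one_mulVec]
    conv_lhs => rw [← h6, h5]
    rw [Matrix.mulVec_sum]
    simp only [Matrix.mulVec_smul]
  conv_rhs => rw [h3]
  rw [fo_sum_left]
  simp only [fo_smul_left]

end pow

end Cfsg.Agent.H663.EP
end

-- part: H663/EP/C7Fix
section
/-!
# S3499: tensor powers; the elements of `M ∩ M^x` (helper663)

`x = T_D`, `D = DD`. `fix_of_cj` : an isometry `y ∈ M ∩ M^x` satisfies `y D = ± D`.
-/

set_option autoImplicit false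
set_option linter.unusedSectionVars false

namespace Cfsg.Agent.H663.EP

open Matrix Cfsg.Geo Cfsg.Agent.H889 Cfsg.Agent.H284
open scoped MatrixGroups

variable {F : Type*} [Field F] {k t : ℕ}

section multilinear

variable {W : Type*} [AddCommGroup W] [Module F W]

/-- **Two multilinear forms**: `Φ = 0` implies `Ψ = 0` gives proportionality -/
theorem multilinear_prop (h2 : (2 : F) ≠ 0) (Φ Ψ : (Fin t → W) → F)
    (hΦa : ∀ (xs : Fin t → W) (i : Fin t) (x y : W),
      Φ (Function.update xs i (x + y)) = Φ (Function.update xs i x) + Φ (Function.update xs i y))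
    (hΦs : ∀ (xs : Fin t → W) (i : Fin t) (c : F) (x : W),
      Φ (Function.update xs i (c • x)) = c * Φ (Function.update xs i x))
    (hΨa : ∀ (xs : Fin t → W) (i : Fin t) (x y : W),
      Ψ (Function.update xs i (x + y)) = Ψ (Function.update xs i x) + Ψ (Function.update xs i y))
    (hΨs : ∀ (xs : Fin t → W) (i : Fin t) (c : F) (x : W),
      Ψ (Function.update xs i (c • x)) = c * Ψ (Function.update xs i x))
    (H : ∀ xs, Φ xs = 0 → Ψ xs = 0) (xs ys : Fin t → W) : Ψ xs * Φ ys = Ψ ys * Φ xs := by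
  classical
  -- one slot
  have single : ∀ (xs : Fin t → W) (i : Fin t) (x y : W),
      Ψ (Function.update xs i x) * Φ (Function.update xs i y) =
        Ψ (Function.update xs i y) * Φ (Function.update xs i x) := by
    intro xs i x y
    set a := Φ (Function.update xs i x) with ha
    set b := Φ (Function.update xs i y) with hb
    have h1 : Φ (Function.update xs i (b • x + (-a) • y)) = 0 := by
      rw [hΦa, hΦs, hΦs, ← ha, ← hb]
      ring
    have h3 := H _ h1
    rw [hΨa, hΨs, hΨs] at h3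
    linear_combination h3
  have main : ∀ (s : Finset (Fin t)) (xs ys : Fin t → W), (∀ i, i ∉ s → xs i = ys i) → Φ xs ≠ 0 → Φ ys ≠ 0 →
      Ψ xs * Φ ys = Ψ ys * Φ xs := by
    intro s
    induction s using Finset.induction_on with
    | empty =>
      intro xs ys hxy _ _
      have : xs = ys := funext fun i => hxy i (Finset.notMem_empty i)
      rw [this]
    | insert i s his ih =>
      intro xs ys hxy hx hy
      set a := Φ xs with ha
      set b := Φ (Function.update xs i (ys i)) with hb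
      set a' := Φ (Function.update ys i (xs i)) with ha'
      set b' := Φ ys with hb'
      obtain ⟨l, hl1, hl2⟩ : ∃ l : F, a + l * b ≠ 0 ∧ a' + l * b' ≠ 0 := by
        by_cases h1 : a' = 0
        · by_cases h3 : a + b = 0
          · refine ⟨-1, ?_, ?_⟩
            · intro h4
              have h5 : 2 * a = 0 := by linear_combination h3 + h4
              exact hx ((mul_eq_zero.1 h5).resolve_left h2)
            · rw [h1]
              intro h4
              apply hy
              linear_combination -h4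
          · refine ⟨1, by rwa [one_mul], ?_⟩
            rw [h1, zero_add, one_mul]
            exact hy
        · exact ⟨0, by rwa [zero_mul, add_zero], by rwa [zero_mul, add_zero]⟩
      set u := xs i + l • ys i with hu
      have hX1 : Φ (Function.update xs i u) = a + l * b := by
        rw [hu, hΦa, hΦs, Function.update_eq_self]
      have hY1 : Φ (Function.update ys i u) = a' + l * b' := by
        rw [hu, hΦa, hΦs, Function.update_eq_self]
      have h3 := ih (Function.update xs i u) (Function.update ys i u) (by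
        intro j hj
        by_cases hji : j = i
        · subst hji
          rw [Function.update_self, Function.update_self]
        · rw [Function.update_of_ne hji, Function.update_of_ne hji]
          apply hxy
          rw [Finset.mem_insert]
          push Not
          exact ⟨hji, hj⟩) (by rw [hX1]; exact hl1) (by rw [hY1]; exact hl2)
      have h4 := single xs i (xs i) u
      have h5 := single ys i (ys i) u
      rw [Function.update_eq_self] at h4 h5
      have hX0 : Φ (Function.update xs i u) ≠ 0 := by rw [hX1]; exact hl1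
      have hY0 : Φ (Function.update ys i u) ≠ 0 := by rw [hY1]; exact hl2
      apply mul_right_cancel₀ (mul_ne_zero hX0 hY0)
      rw [← ha, ← hb'] at *
      linear_combination (b' * Φ (Function.update ys i u)) * h4 - (a * Φ (Function.update xs i u)) * h5 + (a * b') * h3
  by_cases hx : Φ xs = 0
  · rw [H xs hx, hx, zero_mul, mul_zero]
  by_cases hy : Φ ys = 0
  · rw [H ys hy, hy, zero_mul, mul_zero]
  exact main Finset.univ xs ys (fun i hi => absurd (Finset.mem_univ i) hi) hx hy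

end multilinear

variable {G₁ : Matrix (Fin k) (Fin k) F}

/-- the minor identity for the pairings of a pure tensor -/
theorem tp_minor (us ys ys' : Fin t → (Fin k → F)) (o : Fin t) :
    fo (GG G₁ t) (tp us) (tp ys) * fo (GG G₁ t) (tp us) (tp ys') =
      fo (GG G₁ t) (tp us) (tp (Function.update ys o (ys' o))) *
        fo (GG G₁ t) (tp us) (tp (Function.update ys' o (ys o))) := by
  have key : ∀ (zs : Fin t → (Fin k → F)) (z : Fin k → F),
      fo (GG G₁ t) (tp us) (tp (Function.update zs o z)) =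
        fo G₁ (us o) z * ∏ j ∈ Finset.univ.erase o, fo G₁ (us j) (zs j) := by
    intro zs z
    rw [fo_tp, ← Finset.mul_prod_erase Finset.univ _ (Finset.mem_univ o), Function.update_self]
    congr 1
    refine Finset.prod_congr rfl fun j hj => ?_
    rw [Function.update_of_ne (Finset.ne_of_mem_erase hj)]
  have h1 := key ys (ys o)
  have h2 := key ys' (ys' o)
  rw [Function.update_eq_self] at h1 h2
  rw [h1, h2, key, key]
  ring

theorem lam_zero_of {v : Fin k → F} {α β j : Fin t} (hjα : j ≠ α) (hjβ : j ≠ β) {ys : Fin t → (Fin k → F)}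
    (h : fo G₁ v (ys j) = 0) : lam G₁ v α β ys = 0 := by
  unfold lam
  rw [Finset.prod_eq_zero (Finset.mem_erase.2 ⟨hjβ, Finset.mem_erase.2 ⟨hjα, Finset.mem_univ j⟩⟩) h, mul_zero]

theorem lam_ne {v : Fin k → F} {α β : Fin t} {ys : Fin t → (Fin k → F)} (h : lam G₁ v α β ys ≠ 0) :
    fo G₁ (ys α) (ys β) ≠ 0 ∧ ∀ j, j ≠ α → j ≠ β → fo G₁ v (ys j) ≠ 0 := by
  refine ⟨?_, fun j h1 h2 h3 => h (lam_zero_of h1 h2 h3)⟩
  intro h1
  apply h
  unfold lam
  rw [h1, zero_mul]

/-- `tp zs + c D` is not a pure tensor, if `f(tp zs, D) ≠ 0`, `c ≠ 0` -/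
theorem not_tp (hG₁ : Alt G₁) (hG : Alt (GG G₁ t)) {v : Fin k → F} {α β o : Fin t} (hαβ : α ≠ β) (hoα : o ≠ α)
    (hoβ : o ≠ β) {zs us : Fin t → (Fin k → F)} {c : F} (hc : c ≠ 0)
    (hz : fo (GG G₁ t) (tp zs) (DD G₁ v α β) ≠ 0) (h : tp zs + c • DD G₁ v α β = tp us) : False := by
  have hl : lam G₁ v α β zs ≠ 0 := by
    rw [hG.skew, fo_DD hG₁ v hαβ] at hz
    intro h0
    rw [h0, neg_zero] at hz
    exact hz rfl
  obtain ⟨h1, h2⟩ := lam_ne hl
  have hz0 : ∀ i, zs i ≠ 0 := by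
    intro i
    by_cases hi : i = α
    · rw [hi]; exact Alt.ne_zero_left h1
    by_cases hi' : i = β
    · rw [hi']; exact Alt.ne_zero_right h1
    · exact Alt.ne_zero_right (h2 i hi hi')
  choose ω hω using fun i => hG₁.exists_ne (hz0 i)
  set ys : Fin t → (Fin k → F) := Function.update ω o v with hys
  have hev : ∀ zs' : Fin t → (Fin k → F), fo (GG G₁ t) (tp us) (tp zs') =
      (∏ i, fo G₁ (zs i) (zs' i)) + c * lam G₁ v α β zs' := by
    intro zs'
    rw [← h, fo_add_left, fo_smul_left, fo_DD hG₁ v hαβ, fo_tp]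
  have hm := tp_minor (G₁ := G₁) us ys zs o
  rw [hev, hev, hev, hev] at hm
  -- the four values
  have e1 : lam G₁ v α β ys = 0 := lam_zero_of hoα hoβ (by rw [hys, Function.update_self, hG₁.alt])
  have e2 : ∏ i, fo G₁ (zs i) (zs i) = 0 := Finset.prod_eq_zero (Finset.mem_univ α) (hG₁.alt _)
  have e3 : ∏ i, fo G₁ (zs i) ((Function.update zs o (ys o)) i) = 0 :=
    Finset.prod_eq_zero (Finset.mem_univ α) (by rw [Function.update_of_ne (Ne.symm hoα), hG₁.alt])
  have e4 : lam G₁ v α β (Function.update zs o (ys o)) = 0 := lam_zero_of hoα hoβ (by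
    rw [Function.update_self, hys, Function.update_self, hG₁.alt])
  have e5 : ∏ i, fo G₁ (zs i) (ys i) ≠ 0 := by
    rw [Finset.prod_ne_zero_iff]
    intro i _
    by_cases hi : i = o
    · rw [hi, hys, Function.update_self, hG₁.skew]
      exact neg_ne_zero.2 (h2 o hoα hoβ)
    · rw [hys, Function.update_of_ne hi]
      exact hω i
  rw [e1, e2, e3, e4, mul_zero, add_zero, zero_add, add_zero, mul_zero] at hm
  exact (mul_ne_zero e5 (mul_ne_zero hc hl)) hm

/-- a family with all factors of `lam` nonzero -/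
theorem exists_lam_ne (hG₁ : Alt G₁) {v : Fin k → F} (hv : v ≠ 0) {α β : Fin t} (hαβ : α ≠ β) {a b : Fin k → F}
    (hab : fo G₁ a b ≠ 0) : ∃ ys : Fin t → (Fin k → F), ys α = a ∧ ys β = b ∧ lam G₁ v α β ys ≠ 0 := by
  obtain ⟨r, hr⟩ := hG₁.exists_ne hv
  refine ⟨Function.update (Function.update (fun _ => r) α a) β b, ?_, ?_, ?_⟩
  · rw [Function.update_of_ne hαβ, Function.update_self]
  · rw [Function.update_self]
  · unfold lam
    rw [Function.update_of_ne hαβ, Function.update_self, Function.update_self]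
    refine mul_ne_zero hab (Finset.prod_ne_zero_iff.2 fun j hj => ?_)
    rw [Finset.mem_erase, Finset.mem_erase] at hj
    rw [Function.update_of_ne hj.1, Function.update_of_ne hj.2.1]
    exact hr

theorem DD_ne (hG₁ : Alt G₁) {v : Fin k → F} (hv : v ≠ 0) {α β : Fin t} (hαβ : α ≠ β) : DD G₁ v α β ≠ 0 := by
  intro h
  obtain ⟨r, hr⟩ := hG₁.exists_ne hv
  obtain ⟨ys, -, -, h3⟩ := exists_lam_ne hG₁ hv hαβ hr
  rw [← fo_DD hG₁ v hαβ, h, fo_zero_left] at h3
  exact h3 rfl

/-- **the elements of `M ∩ M^x`** -/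
theorem fix_of_cj (h2 : (2 : F) ≠ 0) (hG₁ : Alt G₁) (hG : Alt (GG G₁ t)) {v : Fin k → F} (hv : v ≠ 0)
    {α β o : Fin t} (hαβ : α ≠ β) (hoα : o ≠ α) (hoβ : o ≠ β) {y : GL (Fin t → Fin k) F} (hy : y ∈ isoG (GG G₁ t))
    (hyM : y ∈ tensorWreathStandard k t F)
    (hyx : y ∈ cj (tvG hG (DD G₁ v α β)) (tensorWreathStandard k t F)) :
    (y : Matrix (Fin t → Fin k) (Fin t → Fin k) F) *ᵥ DD G₁ v α β = DD G₁ v α β ∨
      (y : Matrix (Fin t → Fin k) (Fin t → Fin k) F) *ᵥ DD G₁ v α β = -DD G₁ v α β := by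
  set D := DD G₁ v α β with hD
  set D' := ((y⁻¹ : GL (Fin t → Fin k) F) : Matrix (Fin t → Fin k) (Fin t → Fin k) F) *ᵥ D with hD'
  have hyD : (y : Matrix (Fin t → Fin k) (Fin t → Fin k) F) *ᵥ D' = D := by
    rw [hD', Matrix.mulVec_mulVec, ← Units.val_mul, mul_inv_cancel, Units.val_one, Matrix.one_mulVec]
  have hD0 : D ≠ 0 := DD_ne hG₁ hv hαβ
  -- `g = T_{D'}⁻¹ T_D ∈ M`
  have hg : (tvG hG D')⁻¹ * tvG hG D ∈ tensorWreathStandard k t F := by
    have h1 := (tensorWreathStandard k t F).mul_mem ((tensorWreathStandard k t F).inv_mem hyM) (mem_cj.1 hyx)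
    have h3 : y⁻¹ * tvG hG D = tvG hG D' * y⁻¹ := mul_tvG hG ((isoG (GG G₁ t)).inv_mem hy) D
    have h4 : y⁻¹ * ((tvG hG D)⁻¹ * y * tvG hG D) = (tvG hG D')⁻¹ * tvG hG D := by
      have h5 : tvG hG D' = y⁻¹ * tvG hG D * y := by rw [h3]; group
      rw [h5]; group
    rwa [h4] at h1
  obtain ⟨gs, σ, hmon⟩ := exists_isMonomialOn hg
  have hgz : ∀ z : (Fin t → Fin k) → F,
      (((tvG hG D')⁻¹ * tvG hG D : GL (Fin t → Fin k) F) : Matrix (Fin t → Fin k) (Fin t → Fin k) F) *ᵥ z =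
        (z + fo (GG G₁ t) z D • D) - (fo (GG G₁ t) z D' + fo (GG G₁ t) z D * fo (GG G₁ t) D D') • D' := by
    intro z
    rw [Units.val_mul, ← Matrix.mulVec_mulVec, tvG_mulVec, tvG_inv_mulVec, fo_add_left, fo_smul_left]
  have hzs0 : ∃ zs : Fin t → (Fin k → F), fo (GG G₁ t) (tp zs) D ≠ 0 := by
    obtain ⟨r, hr⟩ := hG₁.exists_ne hv
    obtain ⟨ys, -, -, h3⟩ := exists_lam_ne hG₁ hv hαβ hr
    refine ⟨ys, ?_⟩
    rw [hG.skew, hD, fo_DD hG₁ v hαβ]
    exact neg_ne_zero.2 h3
  by_cases H : ∀ zs : Fin t → (Fin k → F),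
      fo (GG G₁ t) (tp zs) D' + fo (GG G₁ t) (tp zs) D * fo (GG G₁ t) D D' = 0 → fo (GG G₁ t) (tp zs) D = 0
  · have hprop := multilinear_prop h2
      (fun zs => fo (GG G₁ t) (tp zs) D' + fo (GG G₁ t) (tp zs) D * fo (GG G₁ t) D D')
      (fun zs => fo (GG G₁ t) (tp zs) D)
      (fun xs i x y => by simp only [tp_update_add, fo_add_left]; ring)
      (fun xs i c x => by simp only [tp_update_smul, fo_smul_left]; ring)
      (fun xs i x y => by simp only [tp_update_add, fo_add_left])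
      (fun xs i c x => by simp only [tp_update_smul, fo_smul_left]) H
    obtain ⟨zs, hzs⟩ := hzs0
    set b := fo (GG G₁ t) (tp zs) D with hb
    set a := fo (GG G₁ t) (tp zs) D' + b * fo (GG G₁ t) D D' with ha
    have ha0 : a ≠ 0 := fun e => hzs (H zs e)
    -- `a D = b (D' + β D)`
    have h3 : a • D = b • (D' + fo (GG G₁ t) D D' • D) := by
      apply eq_of_tp hG
      intro ys
      have h4 := hprop ys zs
      simp only [← hb, ← ha] at h4
      rw [hG.skew, hG.skew (b • _)]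
      congr 1
      rw [fo_smul_right, fo_smul_right, fo_add_right, fo_smul_right]
      linear_combination h4
    have h4 : fo (GG G₁ t) D D' = 0 := by
      have h5 := congrArg (fun z => fo (GG G₁ t) D z) h3
      simp only [fo_smul_right, fo_add_right, hG.alt, mul_zero, add_zero] at h5
      exact (mul_eq_zero.1 h5.symm).resolve_left hzs
    rw [h4, zero_smul, add_zero] at h3
    set l := b⁻¹ * a with hl
    have h5 : D' = l • D := by
      rw [hl, mul_smul, h3, smul_smul, inv_mul_cancel₀ hzs, one_smul]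
    have hl2 : l * l = 1 := by
      by_contra hne
      have h6 := hmon zs
      have h7 : (tp zs + ((1 - l * l) * b) • D : (Fin t → Fin k) → F) = tp (fun i => (gs i).val *ᵥ zs (σ i)) := by
        rw [← h6]
        have h8 := hgz (tp zs)
        rw [h8, h4, mul_zero, add_zero, h5, fo_smul_right, smul_smul, ← hb, sub_mul, sub_smul, one_mul]
        rw [show l * b * l = l * l * b by ring]
        abel
      exact not_tp hG₁ hG hαβ hoα hoβ (mul_ne_zero (sub_ne_zero.2 (Ne.symm hne)) hzs) hzs h7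
    have hl3 : l = 1 ∨ l = -1 := mul_self_eq_one_iff.1 hl2
    rcases hl3 with hl3 | hl3
    · left
      rw [hl3, one_smul] at h5
      rw [← h5] at hyD
      rw [h5] at hyD
      exact hyD
    · right
      rw [hl3, neg_smul, one_smul] at h5
      rw [h5, Matrix.mulVec_neg] at hyD
      rw [← hyD, neg_neg, hyD]
  · exfalso
    push Not at H
    obtain ⟨zs, hz1, hz2⟩ := H
    have h6 := hmon zs
    have h8 := hgz (tp zs)
    rw [hz1, zero_smul, sub_zero] at h8
    exact not_tp hG₁ hG hαβ hoα hoβ hz2 hz2 (h8.symm.trans h6)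

end Cfsg.Agent.H663.EP
end

-- part: H663/EP/C7Swap
section
/-!
# S3499: tensor powers; the swap of two factors (helper663)
-/

set_option autoImplicit false
set_option linter.unusedSectionVars false

namespace Cfsg.Agent.H663.EP

open Matrix Cfsg.Geo Cfsg.Agent.H889 Cfsg.Agent.H284 Cfsg.Agent.H919
open scoped MatrixGroups

variable {F : Type*} [Field F] {k t : ℕ}

theorem facPerm_tp (σ : Equiv.Perm (Fin t)) (xs : Fin t → (Fin k → F)) :
    (facPerm F k σ : Matrix (Fin t → Fin k) (Fin t → Fin k) F) *ᵥ tp xs = tp (fun i => xs (σ⁻¹ i)) := by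
  funext a
  have h1 : ((facPerm F k σ : Matrix (Fin t → Fin k) (Fin t → Fin k) F) *ᵥ tp xs) a = tp xs (a ∘ σ) := by
    rw [Matrix.mulVec, dotProduct, Finset.sum_eq_single (a ∘ σ)]
    · rw [facPerm_val, if_pos rfl, one_mul]
    · intro b _ hb
      rw [facPerm_val, if_neg hb, zero_mul]
    · intro h
      exact absurd (Finset.mem_univ _) h
  rw [h1]
  have h2 := tp_comp_perm (fun i => xs (σ⁻¹ i)) σ a
  simp only [perm_inv_apply_self] at h2
  exact h2

/-- the swap of the factors `α`, `β` -/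
def swp (F : Type*) [Field F] (k : ℕ) {t : ℕ} (α β : Fin t) : GL (Fin t → Fin k) F := facPerm F k (Equiv.swap α β)

theorem swp_tp (α β : Fin t) (xs : Fin t → (Fin k → F)) :
    (swp F k α β : Matrix (Fin t → Fin k) (Fin t → Fin k) F) *ᵥ tp xs = tp (fun i => xs (Equiv.swap α β i)) := by
  unfold swp
  rw [facPerm_tp, Equiv.swap_inv]

theorem swp_mem (α β : Fin t) : swp F k α β ∈ tensorWreathStandard k t F := facPerm_mem _

theorem swp_sq (α β : Fin t) : swp F k α β * swp F k α β = 1 := by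
  apply gl_eq_of_tp
  intro xs
  rw [Units.val_mul, ← Matrix.mulVec_mulVec, swp_tp, swp_tp, Units.val_one, Matrix.one_mulVec]
  simp only [Equiv.swap_apply_self]

variable {G₁ : Matrix (Fin k) (Fin k) F}

theorem swp_iso (α β : Fin t) : swp F k α β ∈ isoG (GG G₁ t) := by
  apply mem_isoG_of_tp
  intro xs ys
  rw [swp_tp, swp_tp, fo_tp, fo_tp]
  exact Equiv.prod_comp (Equiv.swap α β) (fun i => fo G₁ (xs i) (ys i))

theorem lam_swap (hG₁ : Alt G₁) {v : Fin k → F} {α β : Fin t} (ys : Fin t → (Fin k → F)) :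
    lam G₁ v α β (fun i => ys (Equiv.swap α β i)) = -lam G₁ v α β ys := by
  unfold lam
  simp only [Equiv.swap_apply_left, Equiv.swap_apply_right]
  rw [hG₁.skew (ys β), neg_mul]
  congr 2
  refine Finset.prod_congr rfl fun j hj => ?_
  rw [Finset.mem_erase, Finset.mem_erase] at hj
  rw [Equiv.swap_apply_of_ne_of_ne hj.2.1 hj.1]

theorem swp_inv (α β : Fin t) : (swp F k α β)⁻¹ = swp F k α β := inv_eq_of_mul_eq_one_right (swp_sq α β)

theorem swp_DD (hG₁ : Alt G₁) (hG : Alt (GG G₁ t)) {v : Fin k → F} {α β : Fin t} (hαβ : α ≠ β) :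
    (swp F k α β : Matrix (Fin t → Fin k) (Fin t → Fin k) F) *ᵥ DD G₁ v α β = -DD G₁ v α β := by
  apply eq_of_tp hG
  intro ys
  rw [fo_isoG_left (swp_iso α β), swp_inv, swp_tp, fo_DD hG₁ v hαβ, lam_swap hG₁, ← neg_one_smul F (DD G₁ v α β),
    fo_smul_left, fo_DD hG₁ v hαβ, neg_one_mul]

/-- the swap commutes with `T_D` -/
theorem swp_comm (hG₁ : Alt G₁) (hG : Alt (GG G₁ t)) {v : Fin k → F} {α β : Fin t} (hαβ : α ≠ β) :
    swp F k α β * tvG hG (DD G₁ v α β) = tvG hG (DD G₁ v α β) * swp F k α β := by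
  rw [mul_tvG hG (swp_iso α β), swp_DD hG₁ hG hαβ, tvG_neg]

theorem swp_not_scalar (hG₁ : Alt G₁) {v : Fin k → F} (hv : v ≠ 0) {α β : Fin t} (hαβ : α ≠ β) :
    swp F k α β ∉ scalars (Fin t → Fin k) F := by
  rw [mem_scalars_iff]
  rintro ⟨c, hc⟩
  obtain ⟨r, hr⟩ := hG₁.exists_ne hv
  -- `xs α = v`, `xs β = r`, `ys α = v`
  set xs : Fin t → (Fin k → F) := Function.update (fun _ => r) α v with hxs
  set ys : Fin t → (Fin k → F) := Function.update (Function.update (fun _ => v) β r) α v with hys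
  have h1 := congrArg (fun z => fo (GG G₁ t) z (tp ys)) (swp_tp (F := F) α β xs)
  simp only [hc, Matrix.smul_mulVec, Matrix.one_mulVec, fo_smul_left, fo_tp] at h1
  have h3 : ∏ i, fo G₁ (xs i) (ys i) = 0 := Finset.prod_eq_zero (Finset.mem_univ α) (by
    rw [hxs, hys, Function.update_self, Function.update_self, hG₁.alt])
  rw [h3, mul_zero] at h1
  refine (Finset.prod_ne_zero_iff.2 fun i _ => ?_) h1.symm
  by_cases hi : i = α
  · subst hi
    rw [Equiv.swap_apply_left, hxs, hys, Function.update_of_ne hαβ.symm, Function.update_self, hG₁.skew]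
    exact neg_ne_zero.2 hr
  by_cases hi' : i = β
  · subst hi'
    rw [Equiv.swap_apply_right, hxs, hys, Function.update_self, Function.update_of_ne hi, Function.update_self]
    exact hr
  · rw [Equiv.swap_apply_of_ne_of_ne hi hi', hxs, hys, Function.update_of_ne hi, Function.update_of_ne hi,
      Function.update_of_ne hi', hG₁.skew]
    exact neg_ne_zero.2 hr

/-- vectors are determined by the form -/
theorem Alt.eq_of_right {G : Matrix (Fin k) (Fin k) F} (hG : Alt G) {x y : Fin k → F}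
    (h : ∀ z, fo G x z = fo G y z) : x = y := by
  rw [← sub_eq_zero]
  apply hG.nd
  intro z
  rw [fo_sub_left, h, sub_self]

/-- **isometries in the wreath product fixing `D` up to sign commute with the swap** -/
theorem swp_comm_of_fix (hG₁ : Alt G₁) (hG : Alt (GG G₁ t)) {v : Fin k → F} (hv : v ≠ 0) {α β : Fin t}
    (hαβ : α ≠ β) {y : GL (Fin t → Fin k) F} (hy : y ∈ isoG (GG G₁ t)) (hyM : y ∈ tensorWreathStandard k t F)
    {ε : F} (hε : ε ≠ 0)
    (hyD : (y : Matrix (Fin t → Fin k) (Fin t → Fin k) F) *ᵥ DD G₁ v α β = ε • DD G₁ v α β) :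
    swp F k α β * y = y * swp F k α β := by
  classical
  obtain ⟨hs, τ, hmon⟩ := exists_isMonomialOn ((tensorWreathStandard k t F).inv_mem hyM)
  obtain ⟨r, hr⟩ := hG₁.exists_ne hv
  -- (**)
  have h0 : ∀ ys : Fin t → (Fin k → F), lam G₁ v α β (fun i => (hs i).val *ᵥ ys (τ i)) = ε * lam G₁ v α β ys := by
    intro ys
    rw [← fo_DD hG₁ v hαβ, ← hmon, ← fo_isoG_left hy, hyD, fo_smul_left, fo_DD hG₁ v hαβ]
  have hinv : ∀ (j : Fin t) (z : Fin k → F),
      (hs j).val *ᵥ (((hs j)⁻¹ : GL (Fin k) F) : Matrix (Fin k) (Fin k) F) *ᵥ z = z := by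
    intro j z
    rw [Matrix.mulVec_mulVec, ← Units.val_mul, mul_inv_cancel, Units.val_one, Matrix.one_mulVec]
  -- Claim A
  have hA : ∀ j, j ≠ α → j ≠ β → τ j ≠ α ∧ τ j ≠ β := by
    intro j hjα hjβ
    set a' := (((hs j)⁻¹ : GL (Fin k) F) : Matrix (Fin k) (Fin k) F) *ᵥ v with ha'
    have ha0 : a' ≠ 0 := gl_mulVec_ne_zero _ hv
    obtain ⟨b', hb'⟩ := hG₁.exists_ne ha0
    constructor
    · intro e
      obtain ⟨ys, h1, h2, h3⟩ := exists_lam_ne hG₁ hv hαβ hb'
      have h4 := h0 ys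
      rw [lam_zero_of hjα hjβ (by rw [e, h1, ha', hinv, hG₁.alt])] at h4
      exact (mul_ne_zero hε h3) h4.symm
    · intro e
      have hb'' : fo G₁ b' a' ≠ 0 := by rw [hG₁.skew]; exact neg_ne_zero.2 hb'
      obtain ⟨ys, h1, h2, h3⟩ := exists_lam_ne hG₁ hv hαβ hb''
      have h4 := h0 ys
      rw [lam_zero_of hjα hjβ (by rw [e, h2, ha', hinv, hG₁.alt])] at h4
      exact (mul_ne_zero hε h3) h4.symm
  -- Claim B
  have hB : ∀ γ, γ = α ∨ γ = β → τ γ = α ∨ τ γ = β := by
    intro γ hγ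
    by_contra hcon
    push Not at hcon
    set C : Finset (Fin t) := (Finset.univ.erase α).erase β with hC
    have hCmem : ∀ j, j ∈ C ↔ j ≠ β ∧ j ≠ α := by
      intro j
      rw [hC, Finset.mem_erase, Finset.mem_erase]
      simp only [_root_.ne_eq, _root_.Finset.mem_univ, _root_.and_true]
    have h1 : C.image τ = C := by
      apply Finset.eq_of_subset_of_card_le
      · intro x hx
        obtain ⟨j, hj, rfl⟩ := Finset.mem_image.1 hx
        obtain ⟨h1, h2⟩ := (hCmem j).1 hj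
        obtain ⟨h3, h4⟩ := hA j h2 h1
        exact (hCmem _).2 ⟨h4, h3⟩
      · rw [Finset.card_image_of_injective _ τ.injective]
    have h2 : τ γ ∈ C.image τ := by
      rw [h1, hCmem]
      exact ⟨hcon.2, hcon.1⟩
    obtain ⟨j, hj, h3⟩ := Finset.mem_image.1 h2
    have h4 := τ.injective h3
    obtain ⟨h5, h6⟩ := (hCmem j).1 hj
    rcases hγ with rfl | rfl
    · exact h6 h4
    · exact h5 h4
  -- Claim C
  obtain ⟨κ, hκ0, hκ⟩ : ∃ κ : F, κ ≠ 0 ∧ ∀ x z, fo G₁ ((hs α).val *ᵥ x) ((hs β).val *ᵥ z) = κ * fo G₁ x z := by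
    obtain ⟨ys₀, -, -, hys₀⟩ := exists_lam_ne hG₁ hv hαβ hr
    set R := ∏ j ∈ (Finset.univ.erase α).erase β, fo G₁ v (ys₀ j) with hR
    set R' := ∏ j ∈ (Finset.univ.erase α).erase β, fo G₁ v ((hs j).val *ᵥ ys₀ (τ j)) with hR'
    have hlam : lam G₁ v α β (fun i => (hs i).val *ᵥ ys₀ (τ i)) ≠ 0 := by
      rw [h0]
      exact mul_ne_zero hε hys₀
    have hR0 : R ≠ 0 := right_ne_zero_of_mul (show fo G₁ (ys₀ α) (ys₀ β) * R ≠ 0 from hys₀)
    have hR'0 : R' ≠ 0 := right_ne_zero_of_mul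
      (show fo G₁ ((hs α).val *ᵥ ys₀ (τ α)) ((hs β).val *ᵥ ys₀ (τ β)) * R' ≠ 0 from hlam)
    have key : ∀ x z : Fin k → F, fo G₁ ((hs α).val *ᵥ (Function.update (Function.update ys₀ α x) β z) (τ α))
        ((hs β).val *ᵥ (Function.update (Function.update ys₀ α x) β z) (τ β)) * R' = ε * (fo G₁ x z * R) := by
      intro x z
      have h1 := h0 (Function.update (Function.update ys₀ α x) β z)
      unfold lam at h1
      rw [Function.update_of_ne hαβ, Function.update_self, Function.update_self] at h1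
      have e1 : ∏ j ∈ (Finset.univ.erase α).erase β, fo G₁ v ((Function.update (Function.update ys₀ α x) β z) j) = R := by
        refine Finset.prod_congr rfl fun j hj => ?_
        rw [Finset.mem_erase, Finset.mem_erase] at hj
        rw [Function.update_of_ne hj.1, Function.update_of_ne hj.2.1]
      have e2 : ∏ j ∈ (Finset.univ.erase α).erase β,
          fo G₁ v ((hs j).val *ᵥ (Function.update (Function.update ys₀ α x) β z) (τ j)) = R' := by
        refine Finset.prod_congr rfl fun j hj => ?_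
        rw [Finset.mem_erase, Finset.mem_erase] at hj
        obtain ⟨h3, h4⟩ := hA j hj.2.1 hj.1
        rw [Function.update_of_ne h4, Function.update_of_ne h3]
      rw [e1, e2] at h1
      exact h1
    rcases hB α (Or.inl rfl) with h1 | h1
    · have h2 : τ β = β := by
        rcases hB β (Or.inr rfl) with h3 | h3
        · exact absurd (τ.injective (h3.trans h1.symm)) hαβ.symm
        · exact h3
      refine ⟨ε * R * R'⁻¹, mul_ne_zero (mul_ne_zero hε hR0) (inv_ne_zero hR'0), fun x z => ?_⟩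
      have h3 := key x z
      rw [h1, h2, Function.update_of_ne hαβ, Function.update_self, Function.update_self] at h3
      field_simp
      rw [h3]
      ring
    · have h2 : τ β = α := by
        rcases hB β (Or.inr rfl) with h3 | h3
        · exact h3
        · exact absurd (τ.injective (h3.trans h1.symm)) hαβ.symm
      refine ⟨-(ε * R * R'⁻¹), neg_ne_zero.2 (mul_ne_zero (mul_ne_zero hε hR0) (inv_ne_zero hR'0)), fun x z => ?_⟩
      have h3 := key z x
      rw [h1, h2, Function.update_of_ne hαβ, Function.update_self, Function.update_self, hG₁.skew z x] at h3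
      field_simp
      rw [h3]
      ring
  -- Claim D
  obtain ⟨μ, hμ0, hμ⟩ : ∃ μ : F, μ ≠ 0 ∧ ∀ x z, fo G₁ ((hs α).val *ᵥ x) ((hs α).val *ᵥ z) = μ * fo G₁ x z := by
    have hiso := (isoG (GG G₁ t)).inv_mem hy
    have key : ∀ x z : Fin k → F, fo G₁ ((hs α).val *ᵥ x) ((hs α).val *ᵥ z) *
        ∏ i ∈ Finset.univ.erase α, fo G₁ ((hs i).val *ᵥ v) ((hs i).val *ᵥ r) =
        fo G₁ x z * ∏ i ∈ Finset.univ.erase (τ α), fo G₁ v r := by
      intro x z
      have h1 := fo_isoG hiso (tp (Function.update (fun _ => v) (τ α) x)) (tp (Function.update (fun _ => r) (τ α) z))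
      rw [hmon, hmon, fo_tp, fo_tp, ← Finset.mul_prod_erase Finset.univ _ (Finset.mem_univ α),
        ← Finset.mul_prod_erase Finset.univ (fun i => fo G₁ (Function.update (fun _ => v) (τ α) x i)
          (Function.update (fun _ => r) (τ α) z i)) (Finset.mem_univ (τ α))] at h1
      simp only [Function.update_self] at h1
      have e1 : ∏ i ∈ Finset.univ.erase α, fo G₁ ((hs i).val *ᵥ Function.update (fun _ => v) (τ α) x (τ i))
          ((hs i).val *ᵥ Function.update (fun _ => r) (τ α) z (τ i)) =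
          ∏ i ∈ Finset.univ.erase α, fo G₁ ((hs i).val *ᵥ v) ((hs i).val *ᵥ r) := by
        refine Finset.prod_congr rfl fun i hi => ?_
        have h3 : τ i ≠ τ α := fun e => (Finset.ne_of_mem_erase hi) (τ.injective e)
        rw [Function.update_of_ne h3, Function.update_of_ne h3]
      have e2 : ∏ i ∈ Finset.univ.erase (τ α), fo G₁ (Function.update (fun _ => v) (τ α) x i)
          (Function.update (fun _ => r) (τ α) z i) = ∏ i ∈ Finset.univ.erase (τ α), fo G₁ v r := by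
        refine Finset.prod_congr rfl fun i hi => ?_
        rw [Function.update_of_ne (Finset.ne_of_mem_erase hi), Function.update_of_ne (Finset.ne_of_mem_erase hi)]
      rw [e1, e2] at h1
      exact h1
    set L := ∏ i ∈ Finset.univ.erase α, fo G₁ ((hs i).val *ᵥ v) ((hs i).val *ᵥ r) with hL
    set L' := ∏ i ∈ Finset.univ.erase (τ α), fo G₁ v r with hL'
    have hL'0 : L' ≠ 0 := Finset.prod_ne_zero_iff.2 fun _ _ => hr
    have hL0 : L ≠ 0 := by
      have h1 := key v r
      intro e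
      rw [e, mul_zero] at h1
      exact (mul_ne_zero hr hL'0) h1.symm
    refine ⟨L' * L⁻¹, mul_ne_zero hL'0 (inv_ne_zero hL0), fun x z => ?_⟩
    have h1 := key x z
    field_simp
    rw [h1]
    ring
  -- Claim E
  have hE : ∀ z, (hs β).val *ᵥ z = (κ * μ⁻¹) • ((hs α).val *ᵥ z) := by
    intro z
    apply hG₁.eq_of_right
    intro w
    have h1 : (hs α).val *ᵥ (((hs α)⁻¹ : GL (Fin k) F) : Matrix (Fin k) (Fin k) F) *ᵥ w = w := hinv α w
    rw [← h1, hG₁.skew, hκ, hG₁.skew (_ • _), fo_smul_right, hμ]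
    field_simp
  have hρ : κ * μ⁻¹ ≠ 0 := mul_ne_zero hκ0 (inv_ne_zero hμ0)
  -- Claim F
  have hτs : ∀ i, τ (Equiv.swap α β i) = Equiv.swap α β (τ i) := by
    intro i
    by_cases hi : i = α
    · subst hi
      rw [Equiv.swap_apply_left]
      rcases hB i (Or.inl rfl) with h1 | h1 <;> rcases hB β (Or.inr rfl) with h2 | h2
      · exact absurd (τ.injective (h2.trans h1.symm)) hαβ.symm
      · rw [h1, h2, Equiv.swap_apply_left]
      · rw [h1, h2, Equiv.swap_apply_right]
      · exact absurd (τ.injective (h2.trans h1.symm)) hαβ.symm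
    by_cases hi' : i = β
    · subst hi'
      rw [Equiv.swap_apply_right]
      rcases hB α (Or.inl rfl) with h1 | h1 <;> rcases hB i (Or.inr rfl) with h2 | h2
      · exact absurd (τ.injective (h2.trans h1.symm)) hαβ.symm
      · rw [h1, h2, Equiv.swap_apply_right]
      · rw [h1, h2, Equiv.swap_apply_left]
      · exact absurd (τ.injective (h2.trans h1.symm)) hαβ.symm
    · obtain ⟨h3, h4⟩ := hA i hi hi'
      rw [Equiv.swap_apply_of_ne_of_ne hi hi', Equiv.swap_apply_of_ne_of_ne h3 h4]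
  have hcomm : y⁻¹ * swp F k α β = swp F k α β * y⁻¹ := by
    apply gl_eq_of_tp
    intro xs
    rw [Units.val_mul, Units.val_mul, ← Matrix.mulVec_mulVec, ← Matrix.mulVec_mulVec, swp_tp, hmon, hmon, swp_tp]
    simp only [← hτs]
    funext a
    rw [tp_apply, tp_apply, prod_two hαβ, prod_two hαβ]
    simp only [Equiv.swap_apply_left, Equiv.swap_apply_right]
    rw [hE, hE]
    have e1 : ∏ j ∈ (Finset.univ.erase α).erase β, ((hs j).val *ᵥ xs (τ (Equiv.swap α β j))) (a j) =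
        ∏ j ∈ (Finset.univ.erase α).erase β,
          ((hs (Equiv.swap α β j)).val *ᵥ xs (τ (Equiv.swap α β j))) (a j) := by
      refine Finset.prod_congr rfl fun j hj => ?_
      rw [Finset.mem_erase, Finset.mem_erase] at hj
      rw [Equiv.swap_apply_of_ne_of_ne hj.2.1 hj.1]
    rw [e1, Pi.smul_apply, Pi.smul_apply, smul_eq_mul, smul_eq_mul]
    ring
  calc swp F k α β * y = y * (y⁻¹ * swp F k α β) * y := by group
    _ = y * swp F k α β := by rw [hcomm]; group

end Cfsg.Agent.H663.EP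
end

-- part: H663/EP/KronC4
section
/-!
# S3499: the tensor product subgroups of `Sp` (helper663)
-/

set_option autoImplicit false
set_option linter.unusedSectionVars false

namespace Cfsg.Agent.H663.EP

open Matrix Cfsg.Geo Subgroup Cfsg.Agent.H284 Cfsg.Agent.H419.EP
open scoped MatrixGroups Kronecker

section kron

variable {F : Type*} [Field F] {p q : ℕ}

/-- `a ⊗ b = a' ⊗ b'`, `b ≠ 0` -/
theorem kron_eq {A A' : Matrix (Fin p) (Fin p) F} {B B' : Matrix (Fin q) (Fin q) F} (h : A ⊗ₖ B = A' ⊗ₖ B')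
    (hB : B ≠ 0) : ∃ c : F, A = c • A' := by
  obtain ⟨j, l, hjl⟩ : ∃ j l, B j l ≠ 0 := by
    by_contra hcon
    push Not at hcon
    exact hB (by ext j l; exact hcon j l)
  refine ⟨(B j l)⁻¹ * B' j l, ?_⟩
  ext i k
  have h1 : A i k * B j l = A' i k * B' j l := by
    have := congrFun (congrFun h (i, j)) (k, l)
    simpa [Matrix.kroneckerMap_apply] using this
  rw [Matrix.smul_apply, smul_eq_mul]
  field_simp
  rw [h1]
  ring

theorem kron_cancel {A : Matrix (Fin p) (Fin p) F} {B B' : Matrix (Fin q) (Fin q) F} (h : A ⊗ₖ B = A ⊗ₖ B')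
    (hA : A ≠ 0) : B = B' := by
  obtain ⟨j, l, hjl⟩ : ∃ j l, A j l ≠ 0 := by
    by_contra hcon
    push Not at hcon
    exact hA (by ext j l; exact hcon j l)
  ext i k
  have := congrFun (congrFun h (j, i)) (l, k)
  simp only [Matrix.kroneckerMap_apply] at this
  exact mul_left_cancel₀ hjl this

/-- the Kronecker product of invertible matrices -/
def kr (a : GL (Fin p) F) (b : GL (Fin q) F) : GL (Fin p × Fin q) F where
  val := (a : Matrix _ _ F) ⊗ₖ (b : Matrix _ _ F)
  inv := ((a⁻¹ : GL (Fin p) F) : Matrix _ _ F) ⊗ₖ ((b⁻¹ : GL (Fin q) F) : Matrix _ _ F)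
  val_inv := by
    rw [← Matrix.mul_kronecker_mul, ← Units.val_mul, ← Units.val_mul, mul_inv_cancel, mul_inv_cancel,
      Units.val_one, Units.val_one, Matrix.one_kronecker_one]
  inv_val := by
    rw [← Matrix.mul_kronecker_mul, ← Units.val_mul, ← Units.val_mul, inv_mul_cancel, inv_mul_cancel,
      Units.val_one, Units.val_one, Matrix.one_kronecker_one]

theorem kr_val (a : GL (Fin p) F) (b : GL (Fin q) F) :
    (kr a b : Matrix (Fin p × Fin q) (Fin p × Fin q) F) = (a : Matrix _ _ F) ⊗ₖ (b : Matrix _ _ F) := rfl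

theorem kr_mem (a : GL (Fin p) F) (b : GL (Fin q) F) : kr a b ∈ kroneckerSubgroup p q F := ⟨a, b, rfl⟩

theorem exists_kr {g : GL (Fin p × Fin q) F} (hg : g ∈ kroneckerSubgroup p q F) :
    ∃ (a : GL (Fin p) F) (b : GL (Fin q) F), g = kr a b := by
  obtain ⟨a, b, h⟩ := hg
  exact ⟨a, b, Units.ext h⟩

theorem gl_ne_zero {n : ℕ} (hn : 0 < n) (a : GL (Fin n) F) : (a : Matrix (Fin n) (Fin n) F) ≠ 0 := by
  intro h
  have : Nonempty (Fin n) := ⟨⟨0, hn⟩⟩
  have h1 : (a : Matrix (Fin n) (Fin n) F) * ((a⁻¹ : GL (Fin n) F) : Matrix _ _ F) = 1 := by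
    rw [← Units.val_mul, mul_inv_cancel, Units.val_one]
  rw [h, Matrix.zero_mul] at h1
  exact zero_ne_one h1

/-- a nonzero vector killed by two functionals in dimension at least three -/
theorem exists_ortho_two {n : ℕ} (hn : 3 ≤ n) (φ ψ : Fin n → F) : ∃ z : Fin n → F, z ≠ 0 ∧ φ ⬝ᵥ z = 0 ∧ ψ ⬝ᵥ z = 0 := by
  let L : (Fin n → F) →ₗ[F] (Fin 2 → F) :=
    (Matrix.of ![φ, ψ] : Matrix (Fin 2) (Fin n) F).mulVecLin
  have h1 : LinearMap.ker L ≠ ⊥ := by
    apply LinearMap.ker_ne_bot_of_finrank_lt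
    rw [Module.finrank_fintype_fun_eq_card, Module.finrank_fintype_fun_eq_card, Fintype.card_fin, Fintype.card_fin]
    omega
  obtain ⟨z, hz, hz0⟩ := (Submodule.ne_bot_iff _).1 h1
  have h2 : (Matrix.of ![φ, ψ] : Matrix (Fin 2) (Fin n) F) *ᵥ z = 0 := hz
  refine ⟨z, hz0, ?_, ?_⟩
  · have := congrFun h2 0
    simpa only [Matrix.mulVec, _root_.Fin.isValue, _root_.Matrix.of_apply, _root_.Matrix.cons_val', _root_.Matrix.cons_val_fin_one, _root_.Matrix.cons_val_zero, _root_.Pi.zero_apply] using this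
  · have := congrFun h2 1
    simpa only [Matrix.mulVec, _root_.Fin.isValue, _root_.Matrix.of_apply, _root_.Matrix.cons_val', _root_.Matrix.cons_val_fin_one, _root_.Matrix.cons_val_one, _root_.Pi.zero_apply] using this

end kron

section core

variable {F : Type*} [Field F] {p q : ℕ}

/-- the data of the transvection `1 + N ⊗ E` -/
structure Dat (G₁ : Matrix (Fin p) (Fin p) F) (G₂ : Matrix (Fin q) (Fin q) F) (N : Matrix (Fin p) (Fin p) F)
    (E : Matrix (Fin q) (Fin q) F) : Prop where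
  p0 : 0 < p
  q0 : 0 < q
  N2 : N * N = 0
  N0 : N ≠ 0
  NG : Nᵀ * G₁ = -(G₁ * N)
  E2 : E * E = E
  E0 : E ≠ 0
  EG : Eᵀ * G₂ = G₂ * E
  big : ∀ b : GL (Fin q) F, (1 - E) * (b : Matrix (Fin q) (Fin q) F) * (1 - E) ≠ 0

variable {G₁ : Matrix (Fin p) (Fin p) F} {G₂ : Matrix (Fin q) (Fin q) F} {N : Matrix (Fin p) (Fin p) F}
  {E : Matrix (Fin q) (Fin q) F} (D : Dat G₁ G₂ N E)

include D

theorem Dat.ne_smul {c : F} : 1 + N ≠ c • (1 : Matrix (Fin p) (Fin p) F) := by
  intro h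
  have h1 : N = (c - 1) • (1 : Matrix (Fin p) (Fin p) F) := by
    rw [sub_smul, ← h, one_smul, add_sub_cancel_left]
  have h2 := D.N2
  rw [h1, Matrix.smul_mul, Matrix.one_mul, smul_smul] at h2
  have : Nonempty (Fin p) := ⟨⟨0, D.p0⟩⟩
  rcases smul_eq_zero.1 h2 with h3 | h3
  · apply D.N0
    rw [h1]
    have h4 : c - 1 = 0 := by simpa using h3
    rw [h4, zero_smul]
  · exact one_ne_zero h3

omit D in
theorem unit_cancel {n : ℕ} (a : GL (Fin n) F) {X Y : Matrix (Fin n) (Fin n) F}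
    (h : (a : Matrix (Fin n) (Fin n) F) * X = (a : Matrix (Fin n) (Fin n) F) * Y) : X = Y := by
  have h1 := congrArg (fun Z => ((a⁻¹ : GL (Fin n) F) : Matrix _ _ F) * Z) h
  simpa only [← Matrix.mul_assoc, ← Units.val_mul, _root_.Matrix.coe_units_inv, _root_.Matrix.inv_mul_of_invertible, _root_.one_mul] using h1

omit D in
theorem unit_cancel_right {n : ℕ} (a : GL (Fin n) F) {X Y : Matrix (Fin n) (Fin n) F}
    (h : X * (a : Matrix (Fin n) (Fin n) F) = Y * (a : Matrix (Fin n) (Fin n) F)) : X = Y := by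
  have h1 := congrArg (fun Z => Z * ((a⁻¹ : GL (Fin n) F) : Matrix _ _ F)) h
  simpa only [Matrix.mul_assoc, ← Units.val_mul, _root_.Matrix.coe_units_inv, _root_.Matrix.mul_inv_of_invertible, _root_.mul_one] using h1

omit D in
/-- the transvection -/
def Dat.x (D : Dat G₁ G₂ N E) : GL (Fin p × Fin q) F where
  val := 1 + N ⊗ₖ E
  inv := 1 - N ⊗ₖ E
  val_inv := by
    rw [mul_sub, mul_one, add_mul, one_mul, ← Matrix.mul_kronecker_mul, D.N2, Matrix.zero_kronecker, add_zero]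
    abel
  inv_val := by
    rw [mul_add, mul_one, sub_mul, one_mul, ← Matrix.mul_kronecker_mul, D.N2, Matrix.zero_kronecker, sub_zero]
    abel

theorem Dat.x_val : (D.x : Matrix (Fin p × Fin q) (Fin p × Fin q) F) = 1 + N ⊗ₖ E := rfl

/-- **the elements of `M ∩ M^x`** -/
theorem Dat.comm {a : GL (Fin p) F} {b : GL (Fin q) F} (h : kr a b ∈ cj D.x (kroneckerSubgroup p q F)) :
    (a : Matrix (Fin p) (Fin p) F) * N = N * (a : Matrix (Fin p) (Fin p) F) ∧ (b : Matrix (Fin q) (Fin q) F) * E = E * (b : Matrix (Fin q) (Fin q) F) := by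
  obtain ⟨a', b', hab⟩ := exists_kr (mem_cj.1 h)
  have h0 : kr a b * D.x = D.x * kr a' b' := by rw [← hab]; group
  have h1 : ((a : Matrix (Fin p) (Fin p) F) ⊗ₖ (b : Matrix (Fin q) (Fin q) F)) * (1 + N ⊗ₖ E) =
      (1 + N ⊗ₖ E) * ((a' : Matrix (Fin p) (Fin p) F) ⊗ₖ (b' : Matrix (Fin q) (Fin q) F)) := by
    have := congrArg Units.val h0
    rwa [Units.val_mul, Units.val_mul, D.x_val, kr_val, kr_val] at this
  rw [mul_add, add_mul, mul_one, one_mul, ← Matrix.mul_kronecker_mul, ← Matrix.mul_kronecker_mul] at h1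
  have hXY : ∀ X Y : Matrix (Fin q) (Fin q) F,
      (a : Matrix (Fin p) (Fin p) F) ⊗ₖ (X * (b : Matrix (Fin q) (Fin q) F) * Y) + ((a : Matrix (Fin p) (Fin p) F) * N) ⊗ₖ (X * ((b : Matrix (Fin q) (Fin q) F) * E) * Y) =
      (a' : Matrix (Fin p) (Fin p) F) ⊗ₖ (X * (b' : Matrix (Fin q) (Fin q) F) * Y) +
        (N * (a' : Matrix (Fin p) (Fin p) F)) ⊗ₖ (X * (E * (b' : Matrix (Fin q) (Fin q) F)) * Y) := by
    intro X Y
    have h2 := congrArg (fun Z => ((1 : Matrix (Fin p) (Fin p) F) ⊗ₖ X) * Z * ((1 : Matrix (Fin p) (Fin p) F) ⊗ₖ Y)) h1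
    simp only [mul_add, add_mul, ← Matrix.mul_kronecker_mul, one_mul, mul_one] at h2
    exact h2
  have hP : E * (1 - E) = 0 := by rw [mul_sub, mul_one, D.E2, sub_self]
  have hP' : (1 - E) * E = 0 := by rw [sub_mul, one_mul, D.E2, sub_self]
  have ha := gl_ne_zero D.p0 a
  have ha' := gl_ne_zero D.p0 a'
  -- (1)
  obtain ⟨c, hc⟩ : ∃ c : F, (a : Matrix (Fin p) (Fin p) F) = c • (a' : Matrix (Fin p) (Fin p) F) := by
    have h3 := hXY (1 - E) (1 - E)
    have e1 : (1 - E) * ((b : Matrix (Fin q) (Fin q) F) * E) * (1 - E) = 0 := by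
      rw [Matrix.mul_assoc, Matrix.mul_assoc, hP, Matrix.mul_zero, Matrix.mul_zero]
    have e2 : (1 - E) * (E * (b' : Matrix (Fin q) (Fin q) F)) * (1 - E) = 0 := by
      rw [← Matrix.mul_assoc, hP', Matrix.zero_mul, Matrix.zero_mul]
    rw [e1, e2, Matrix.kronecker_zero, Matrix.kronecker_zero, add_zero, add_zero] at h3
    exact kron_eq h3 (D.big b)
  have hc0 : c ≠ 0 := by
    rintro rfl
    rw [zero_smul] at hc
    exact ha hc
  have hc' : (a' : Matrix (Fin p) (Fin p) F) = c⁻¹ • (a : Matrix (Fin p) (Fin p) F) := by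
    rw [hc, smul_smul, inv_mul_cancel₀ hc0, one_smul]
  -- (2)
  have h2 : (1 - E) * (b : Matrix (Fin q) (Fin q) F) * E = 0 := by
    by_contra hne
    have h3 := hXY (1 - E) E
    have e1 : (1 - E) * ((b : Matrix (Fin q) (Fin q) F) * E) * E = (1 - E) * (b : Matrix (Fin q) (Fin q) F) * E := by
      rw [Matrix.mul_assoc, Matrix.mul_assoc, D.E2, Matrix.mul_assoc]
    have e2 : (1 - E) * (E * (b' : Matrix (Fin q) (Fin q) F)) * E = 0 := by
      rw [← Matrix.mul_assoc, hP', Matrix.zero_mul, Matrix.zero_mul]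
    rw [e1, e2, Matrix.kronecker_zero, add_zero, ← Matrix.add_kronecker] at h3
    obtain ⟨d, hd⟩ := kron_eq h3 hne
    rw [hc', smul_smul] at hd
    apply D.ne_smul (c := d * c⁻¹)
    apply unit_cancel a
    rw [mul_add, Matrix.mul_one, hd, Matrix.mul_smul, Matrix.mul_one]
  -- (3)
  have h3 : E * (b : Matrix (Fin q) (Fin q) F) * (1 - E) = 0 := by
    by_contra hne
    have h3 := hXY E (1 - E)
    have e1 : E * ((b : Matrix (Fin q) (Fin q) F) * E) * (1 - E) = 0 := by
      rw [Matrix.mul_assoc, Matrix.mul_assoc, hP, Matrix.mul_zero, Matrix.mul_zero]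
    have e2 : E * (E * (b' : Matrix (Fin q) (Fin q) F)) * (1 - E) = E * (b' : Matrix (Fin q) (Fin q) F) * (1 - E) := by
      rw [← Matrix.mul_assoc, D.E2]
    rw [e1, e2, Matrix.kronecker_zero, add_zero, ← Matrix.add_kronecker] at h3
    obtain ⟨d, hd⟩ := kron_eq h3 hne
    have h4 : (a : Matrix (Fin p) (Fin p) F) = (d * c⁻¹) • ((1 + N) * (a : Matrix (Fin p) (Fin p) F)) := by
      rw [hc', Matrix.mul_smul, ← smul_add, smul_smul] at hd
      rw [add_mul, one_mul]
      exact hd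
    have hd0 : d * c⁻¹ ≠ 0 := by
      intro h5
      rw [h5, zero_smul] at h4
      exact ha h4
    apply D.ne_smul (c := (d * c⁻¹)⁻¹)
    apply unit_cancel_right a
    rw [Matrix.smul_mul, Matrix.one_mul]
    conv_rhs => rw [h4]
    rw [smul_smul, inv_mul_cancel₀ hd0, one_smul]
  have h4 : (b : Matrix (Fin q) (Fin q) F) * E = E * (b : Matrix (Fin q) (Fin q) F) * E := by
    rw [sub_mul, sub_mul, one_mul, sub_eq_zero] at h2
    exact h2
  have h5 : E * (b : Matrix (Fin q) (Fin q) F) = E * (b : Matrix (Fin q) (Fin q) F) * E := by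
    rw [mul_sub, mul_one, sub_eq_zero] at h3
    exact h3
  refine ⟨?_, h4.trans h5.symm⟩
  -- (4)
  have h6 := hXY E E
  have e1 : E * ((b : Matrix (Fin q) (Fin q) F) * E) * E = E * (b : Matrix (Fin q) (Fin q) F) * E := by
    rw [Matrix.mul_assoc, Matrix.mul_assoc, D.E2, Matrix.mul_assoc]
  have e2 : E * (E * (b' : Matrix (Fin q) (Fin q) F)) * E = E * (b' : Matrix (Fin q) (Fin q) F) * E := by
    rw [← Matrix.mul_assoc, D.E2]
  rw [e1, e2, ← Matrix.add_kronecker, ← Matrix.add_kronecker] at h6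
  obtain ⟨d, hd⟩ := kron_eq h6 (by
    rw [← h4]
    intro h7
    apply D.E0
    apply unit_cancel b
    rw [h7, Matrix.mul_zero])
  rw [hc', Matrix.mul_smul, ← smul_add, smul_smul] at hd
  refine comm_of_smul (c := d * c⁻¹) a.isUnit D.N2 D.N0 ?_
  rw [mul_add, Matrix.mul_one, add_mul, Matrix.one_mul]
  exact hd

end core

end Cfsg.Agent.H663.EP
end

-- part: H663/EP/SpC4
section
/-!
# S3499: the tensor product subgroups of `Sp` (helper663), row `SpC4`
-/

set_option autoImplicit false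
set_option linter.unusedSectionVars false

namespace Cfsg.Agent.H663.EP

open Matrix Cfsg.Geo Subgroup Cfsg.Agent.H284 Cfsg.Agent.H419.EP
open scoped MatrixGroups Kronecker

section alt

variable {F : Type*} [Field F] {p q : ℕ}

theorem nu_mul (G : Matrix (Fin p) (Fin p) F) (u v : Fin p → F) (z : Fin p → F) :
    (nu G u * nu G v) *ᵥ z = (fo G z v * fo G v u) • u := by
  rw [← Matrix.mulVec_mulVec, nu_mulVec, nu_mulVec, fo_smul_left]

theorem nu_transpose {G : Matrix (Fin p) (Fin p) F} {s : F} (hG : Gᵀ = s • G) (u : Fin p → F) :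
    (nu G u)ᵀ * G = s • (G * nu G u) := by
  unfold nu
  rw [Matrix.transpose_vecMulVec, Matrix.vecMulVec_mul, Matrix.mul_vecMulVec, ← Matrix.mulVec_transpose, hG,
    Matrix.smul_mulVec, Matrix.vecMulVec_smul]

/-- the transvection `z ↦ z + f(z, u) u` -/
def tv {G : Matrix (Fin p) (Fin p) F} (hG : Alt G) (u : Fin p → F) : GL (Fin p) F where
  val := 1 + nu G u
  inv := 1 - nu G u
  val_inv := by
    rw [mul_sub, mul_one, add_mul, one_mul, hG.nu_sq, add_zero]
    abel
  inv_val := by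
    rw [mul_add, mul_one, sub_mul, one_mul, hG.nu_sq, sub_zero]
    abel

theorem tv_val {G : Matrix (Fin p) (Fin p) F} (hG : Alt G) (u : Fin p → F) :
    (tv hG u : Matrix (Fin p) (Fin p) F) = 1 + nu G u := rfl

theorem tv_mem {G : Matrix (Fin p) (Fin p) F} (hG : Alt G) (u : Fin p → F) : tv hG u ∈ isoG G := by
  rw [mem_isoG, tv_val, Matrix.transpose_add, Matrix.transpose_one]
  have h1 : (nu G u)ᵀ * G = -(G * nu G u) := by
    have h2 := nu_transpose (G := G) (s := -1) (by rw [hG.transpose, neg_smul, one_smul]) u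
    rw [neg_smul, one_smul] at h2
    exact h2
  rw [add_mul, one_mul, h1, add_mul, mul_add, mul_one, neg_mul, mul_add, mul_one, Matrix.mul_assoc, hG.nu_sq,
    Matrix.mul_zero]
  abel

theorem kr_mem_isoG {G₁ : Matrix (Fin p) (Fin p) F} {G₂ : Matrix (Fin q) (Fin q) F} {a : GL (Fin p) F}
    {b : GL (Fin q) F} (ha : a ∈ isoG G₁) (hb : b ∈ isoG G₂) : kr a b ∈ isoG (G₁ ⊗ₖ G₂) := by
  rw [mem_isoG, kr_val, ← Matrix.kroneckerMap_transpose]
  rw [mem_isoG] at ha hb
  rw [← Matrix.mul_kronecker_mul, ← Matrix.mul_kronecker_mul, ha, hb]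

end alt

section main

variable {F : Type*} [Field F] {p q : ℕ} {G₁ : Matrix (Fin p) (Fin p) F} {G₂ : Matrix (Fin q) (Fin q) F}
  {N : Matrix (Fin p) (Fin p) F} {E : Matrix (Fin q) (Fin q) F} (D : Dat G₁ G₂ N E)

include D

theorem Dat.x_mem : D.x ∈ isoG (G₁ ⊗ₖ G₂) := by
  rw [mem_isoG, D.x_val, Matrix.transpose_add, Matrix.transpose_one, ← Matrix.kroneckerMap_transpose, add_mul, one_mul,
    ← Matrix.mul_kronecker_mul, D.NG, D.EG, mul_add, mul_one, add_mul, ← Matrix.mul_kronecker_mul,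
    ← Matrix.mul_kronecker_mul, neg_mul, Matrix.mul_assoc, D.N2, Matrix.mul_zero, neg_zero, Matrix.zero_kronecker,
    add_zero]
  have h1 : (-(G₁ * N)) ⊗ₖ (G₂ * E) = -((G₁ * N) ⊗ₖ (G₂ * E)) := by
    ext i j
    simp [Matrix.kroneckerMap_apply]
  rw [h1]
  abel

/-- the reflection -/
def Dat.r (D : Dat G₁ G₂ N E) : GL (Fin q) F where
  val := 1 - (2 : F) • E
  inv := 1 - (2 : F) • E
  val_inv := by
    rw [mul_sub, mul_one, sub_mul, one_mul, Matrix.mul_smul, Matrix.smul_mul, D.E2, smul_smul]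
    have : (2 * 2 : F) • E = (2 : F) • E + (2 : F) • E := by rw [← add_smul]; congr 1; norm_num
    rw [this]
    abel
  inv_val := by
    rw [mul_sub, mul_one, sub_mul, one_mul, Matrix.mul_smul, Matrix.smul_mul, D.E2, smul_smul]
    have : (2 * 2 : F) • E = (2 : F) • E + (2 : F) • E := by rw [← add_smul]; congr 1; norm_num
    rw [this]
    abel

omit D in
theorem Dat.r_val (D : Dat G₁ G₂ N E) : (D.r : Matrix (Fin q) (Fin q) F) = 1 - (2 : F) • E := rfl

theorem Dat.r_mem : D.r ∈ isoG G₂ := by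
  rw [mem_isoG, D.r_val, Matrix.transpose_sub, Matrix.transpose_one, Matrix.transpose_smul, sub_mul, one_mul,
    Matrix.smul_mul, D.EG, mul_sub, mul_one, sub_mul, Matrix.smul_mul, Matrix.mul_smul, Matrix.mul_smul,
    Matrix.mul_assoc, D.E2, smul_smul]
  have : (2 * 2 : F) • (G₂ * E) = (2 : F) • (G₂ * E) + (2 : F) • (G₂ * E) := by rw [← add_smul]; congr 1; norm_num
  rw [this]
  abel

theorem Dat.E_ne (h2 : (2 : F) ≠ 0) {c : F} : 1 - (2 : F) • E ≠ c • (1 : Matrix (Fin q) (Fin q) F) := by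
  intro h
  have : Nonempty (Fin q) := ⟨⟨0, D.q0⟩⟩
  have h1 : E = ((2 : F)⁻¹ * (1 - c)) • (1 : Matrix (Fin q) (Fin q) F) := by
    rw [mul_smul, sub_smul, ← h, one_smul, sub_sub_cancel, smul_smul, inv_mul_cancel₀ h2, one_smul]
  set d := (2 : F)⁻¹ * (1 - c) with hd
  have h3 := D.E2
  rw [h1, Matrix.smul_mul, Matrix.one_mul, smul_smul, ← sub_eq_zero, ← sub_smul] at h3
  rcases smul_eq_zero.1 h3 with h4 | h4
  · have h5 : d * (d - 1) = 0 := by rw [mul_sub, mul_one]; exact h4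
    rcases mul_eq_zero.1 h5 with h6 | h6
    · apply D.E0
      rw [h1, h6, zero_smul]
    · have h7 : E = 1 := by rw [h1, sub_eq_zero.1 h6, one_smul]
      apply D.big 1
      rw [h7, sub_self, Matrix.zero_mul, Matrix.zero_mul]
  · exact one_ne_zero h4

/-- elements of the tensor product group commuting with `x` -/
theorem Dat.commute_x {a : GL (Fin p) F} {b : GL (Fin q) F}
    (ha : (a : Matrix (Fin p) (Fin p) F) * N = N * (a : Matrix (Fin p) (Fin p) F))
    (hb : (b : Matrix (Fin q) (Fin q) F) * E = E * (b : Matrix (Fin q) (Fin q) F)) : kr a b * D.x = D.x * kr a b := by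
  apply Units.ext
  rw [Units.val_mul, Units.val_mul, D.x_val, kr_val, mul_add, add_mul, mul_one, one_mul, ← Matrix.mul_kronecker_mul,
    ← Matrix.mul_kronecker_mul, ha, hb]

/-- **the kill** -/
theorem Dat.false {Q : Type*} [Group Q] [Finite Q] {A : Subgroup Q} {Γ : Subgroup (MulAut Q)} (h : EPT A Γ)
    (m : Model Q (isoG (G₁ ⊗ₖ G₂))) (hA : m.hat A ≤ kroneckerSubgroup p q F) (h2 : (2 : F) ≠ 0) (hG : Alt G₁)
    {v : Fin p → F} (hv : v ≠ 0) (hN : N = nu G₁ v) : False := by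
  obtain ⟨y, hy⟩ : ∃ y, fo G₁ y v ≠ 0 := by
    by_contra hcon
    push Not at hcon
    apply hv
    apply hG.nd
    intro y
    rw [hG.skew, hcon y, neg_zero]
  have hone : (1 : GL (Fin q) F) ∈ isoG G₂ := one_mem _
  have hone' : (1 : GL (Fin p) F) ∈ isoG G₁ := one_mem _
  -- `a₀`
  have ha₀x : kr (tv hG y) 1 ∉ cj D.x (kroneckerSubgroup p q F) := by
    intro hcon
    have h1 := (D.comm hcon).1
    rw [tv_val, hN, mul_add, add_mul, mul_one, one_mul] at h1
    have h3 := congrArg (fun Z => Z *ᵥ v) (add_left_cancel h1)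
    simp only [nu_mul] at h3
    rw [hG.alt, zero_mul, zero_smul] at h3
    have h4 : fo G₁ v y * fo G₁ y v ≠ 0 := by
      rw [hG.skew v y]
      exact mul_ne_zero (neg_ne_zero.2 hy) hy
    exact (smul_ne_zero h4 hv) h3.symm
  have hnle : ¬ isoG (G₁ ⊗ₖ G₂) ≤ kroneckerSubgroup p q F := by
    intro hle
    apply ha₀x
    rw [cj_eq_self (hle D.x_mem)]
    exact kr_mem _ _
  have hhat := hat_eq h m hA hnle
  have hmem : ∀ {a : GL (Fin p) F} {b : GL (Fin q) F}, a ∈ isoG G₁ → b ∈ isoG G₂ → kr a b ∈ m.hat A := by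
    intro a b ha hb
    rw [hhat]
    exact ⟨kr_mem _ _, kr_mem_isoG ha hb⟩
  have hmem2 : ∀ {a : GL (Fin p) F} {b : GL (Fin q) F}, a ∈ isoG G₁ → b ∈ isoG G₂ →
      (a : Matrix (Fin p) (Fin p) F) * N = N * (a : Matrix (Fin p) (Fin p) F) →
      (b : Matrix (Fin q) (Fin q) F) * E = E * (b : Matrix (Fin q) (Fin q) F) →
      kr a b ∈ m.hat A ⊓ cj D.x (m.hat A) := by
    intro a b ha hb ha' hb'
    refine ⟨hmem ha hb, mem_cj.2 ?_⟩
    rw [mul_assoc, D.commute_x ha' hb', inv_mul_cancel_left]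
    exact hmem ha hb
  have hdec : ∀ z ∈ m.hat A ⊓ cj D.x (m.hat A), ∃ (a : GL (Fin p) F) (b : GL (Fin q) F), z = kr a b ∧
      (a : Matrix (Fin p) (Fin p) F) * N = N * (a : Matrix (Fin p) (Fin p) F) ∧
      (b : Matrix (Fin q) (Fin q) F) * E = E * (b : Matrix (Fin q) (Fin q) F) := by
    intro z hz
    obtain ⟨a, b, rfl⟩ := exists_kr (hA (mem_inf.1 hz).1)
    exact ⟨a, b, rfl, D.comm (cj_mono hA (mem_inf.1 hz).2)⟩
  refine kill_two h m D.x_mem (z₀ := kr 1 D.r) (a₀ := kr (tv hG y) 1) ?_ ?_ ?_ ?_ (hmem (tv_mem hG y) hone)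
    (fun hcon => ha₀x (cj_mono hA hcon)) ?_
  · refine hmem2 hone' D.r_mem (by rw [Units.val_one, one_mul, mul_one]) ?_
    rw [D.r_val, mul_sub, sub_mul, mul_one, one_mul, Matrix.mul_smul, Matrix.smul_mul]
  · rw [mem_scalars_iff]
    rintro ⟨c, hc⟩
    rw [kr_val, D.r_val, Units.val_one, ← Matrix.one_kronecker_one, ← Matrix.kronecker_smul] at hc
    have : Nonempty (Fin p) := ⟨⟨0, D.p0⟩⟩
    exact D.E_ne h2 (kron_cancel hc one_ne_zero)
  · rw [mem_scalars_iff]
    refine ⟨1, ?_⟩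
    rw [Units.val_mul, kr_val, ← Matrix.mul_kronecker_mul, ← Units.val_mul, ← Units.val_mul]
    have h1 : D.r * D.r = 1 := Units.ext D.r.val_inv
    rw [h1, one_mul, Units.val_one, Units.val_one, Matrix.one_kronecker_one, Units.val_one, one_smul]
  · intro z hz
    obtain ⟨a, b, rfl, -, hb⟩ := hdec z hz
    apply Units.ext
    rw [Units.val_mul, Units.val_mul, kr_val, kr_val, ← Matrix.mul_kronecker_mul, ← Matrix.mul_kronecker_mul,
      Units.val_one, one_mul, mul_one, D.r_val, sub_mul, mul_sub, one_mul, mul_one, Matrix.smul_mul, Matrix.mul_smul,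
      hb]
  · intro z hz hzz hzc
    obtain ⟨a, b, rfl, ha, hb⟩ := hdec z hz
    have hbne := gl_ne_zero D.q0 b
    obtain ⟨s, hs⟩ : ∃ s : F, (a : Matrix (Fin p) (Fin p) F) * (a : Matrix (Fin p) (Fin p) F) =
        s • (1 : Matrix (Fin p) (Fin p) F) := by
      obtain ⟨c, hc⟩ := (mem_scalars_iff _).1 hzz
      rw [Units.val_mul, kr_val, ← Matrix.mul_kronecker_mul, ← Matrix.one_kronecker_one, ← Matrix.kronecker_smul] at hc
      refine kron_eq hc ?_
      rw [← Units.val_mul]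
      exact gl_ne_zero D.q0 _
    obtain ⟨c, hc⟩ := hG.scalar_of_comm h2 hv a.isUnit hs (by
      intro u hu
      rcases eq_or_ne u 0 with rfl | hu0
      · have : nu G₁ 0 = 0 := by
          unfold nu
          rw [Matrix.zero_vecMulVec]
        rw [this, Matrix.mul_zero, Matrix.zero_mul]
      have hu' : fo G₁ u v = 0 := by rw [hG.skew, hu, neg_zero]
      obtain ⟨t, ht, e⟩ := hzc (kr (tv hG u) 1) (hmem2 (tv_mem hG u) hone (by
        rw [tv_val, hN, mul_add, add_mul, one_mul, mul_one, nu_mul_nu G₁ hu, nu_mul_nu G₁ hu']) (by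
        rw [Units.val_one, one_mul, mul_one]))
      obtain ⟨d, hd⟩ := (mem_scalars_iff _).1 ht
      have h3 := congrArg Units.val e
      rw [Units.val_mul, Units.val_mul, Units.val_mul, hd, kr_val, kr_val, ← Matrix.mul_kronecker_mul,
        ← Matrix.mul_kronecker_mul, Units.val_one, mul_one, one_mul, Matrix.mul_smul, Matrix.mul_one,
        ← Matrix.smul_kronecker] at h3
      obtain ⟨d', hd'⟩ := kron_eq h3 hbne
      rw [smul_smul, tv_val] at hd'
      exact comm_of_smul a.isUnit (hG.nu_sq u) (hG.nu_ne hu0) hd')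
    apply Units.ext
    rw [Units.val_mul, Units.val_mul, kr_val, kr_val, ← Matrix.mul_kronecker_mul, ← Matrix.mul_kronecker_mul,
      Units.val_one, one_mul, mul_one, hc, Matrix.mul_smul, Matrix.smul_mul, Matrix.mul_one, Matrix.one_mul]

end main

section final

variable {F : Type*} [Field F]

/-- a bilinear form is given by its Gram matrix -/
theorem fo_gram {n : ℕ} {f : (Fin n → F) → (Fin n → F) → F} (hf : IsBilinearForm f) (x y : Fin n → F) :
    fo (gramMatrix f) x y = f x y := by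
  have hsumL : ∀ (s : Finset (Fin n)) (c : Fin n → F) (e : Fin n → (Fin n → F)) (v : Fin n → F),
      f (∑ i ∈ s, c i • e i) v = ∑ i ∈ s, c i * f (e i) v := by
    intro s c e v
    induction s using Finset.induction_on with
    | empty =>
      rw [Finset.sum_empty, Finset.sum_empty]
      have := hf.smul_left 0 0 v
      simpa using this
    | insert a s ha ih => rw [Finset.sum_insert ha, Finset.sum_insert ha, hf.add_left, hf.smul_left, ih]
  have hsumR : ∀ (s : Finset (Fin n)) (c : Fin n → F) (e : Fin n → (Fin n → F)) (v : Fin n → F),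
      f v (∑ i ∈ s, c i • e i) = ∑ i ∈ s, c i * f v (e i) := by
    intro s c e v
    induction s using Finset.induction_on with
    | empty =>
      rw [Finset.sum_empty, Finset.sum_empty]
      have := hf.smul_right 0 v 0
      simpa using this
    | insert a s ha ih => rw [Finset.sum_insert ha, Finset.sum_insert ha, hf.add_right, hf.smul_right, ih]
  have hx : ∀ x : Fin n → F, x = ∑ i, x i • (Pi.single i (1 : F) : Fin n → F) := by
    intro x
    funext j
    simp only [Finset.sum_apply, Pi.single_apply, _root_.Pi.smul_apply, _root_.smul_eq_mul, _root_.mul_ite, _root_.mul_one, _root_.MulZeroClass.mul_zero, _root_.Finset.sum_ite_eq, _root_.Finset.mem_univ, ↓ _root_.reduceIte]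
  conv_rhs => rw [hx x, hx y]
  rw [hsumL]
  unfold fo gramMatrix dotProduct Matrix.mulVec dotProduct
  refine Finset.sum_congr rfl fun i _ => ?_
  rw [hsumR]
  congr 1
  refine Finset.sum_congr rfl fun j _ => ?_
  rw [mul_comm]

theorem alt_gram {n : ℕ} {f : (Fin n → F) → (Fin n → F) → F} (hf : IsSymplecticForm f) : Alt (gramMatrix f) := by
  refine ⟨fun x => by rw [fo_gram hf.bilinear, hf.alternating], fun x hx => ?_⟩
  by_contra hne
  obtain ⟨y, hy⟩ := (hf.nondegenerate x hne).2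
  exact hy (by rw [← fo_gram hf.bilinear]; exact hx y)

theorem two_ne_zero_of_odd [Fintype F] (h : Odd (Fintype.card F)) : (2 : F) ≠ 0 := by
  intro h2
  have h3 : CharP F 2 := CharTwo.of_one_ne_zero_of_two_eq_zero one_ne_zero h2
  obtain ⟨k, -, hk⟩ := FiniteField.card F 2
  rw [hk] at h
  exact absurd h (by
    rw [Nat.not_odd_iff_even]
    exact (even_two).pow_of_ne_zero k.ne_zero)

/-- the data for `f₁` symplectic, `f₂` symmetric -/
theorem exists_dat {n₁ n₂ : ℕ} (h2 : (2 : F) ≠ 0) {f₁ : (Fin n₁ → F) → (Fin n₁ → F) → F}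
    {f₂ : (Fin n₂ → F) → (Fin n₂ → F) → F} (hn₁ : 0 < n₁) (hn₂ : 3 ≤ n₂) (hf₁ : IsSymplecticForm f₁)
    (hf₂ : IsSymmetricForm f₂) : ∃ (v : Fin n₁ → F) (E : Matrix (Fin n₂) (Fin n₂) F), v ≠ 0 ∧
      Dat (gramMatrix f₁) (gramMatrix f₂) (nu (gramMatrix f₁) v) E := by
  have hA := alt_gram hf₁
  set G₁ := gramMatrix f₁
  set G₂ := gramMatrix f₂ with hG₂
  have hG₂s : G₂ᵀ = (1 : F) • G₂ := by
    rw [one_smul]
    ext i j
    rw [Matrix.transpose_apply, hG₂]
    exact hf₂.symm _ _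
  have hfo : ∀ x y, fo G₂ x y = f₂ x y := fun x y => fo_gram hf₂.bilinear x y
  -- a nonsingular vector
  obtain ⟨w, hw⟩ : ∃ w, fo G₂ w w ≠ 0 := by
    by_contra hcon
    push Not at hcon
    have : Nonempty (Fin n₂) := ⟨⟨0, by omega⟩⟩
    have h1 : ∀ x y, f₂ x y = 0 := by
      intro x y
      have h3 := hcon (x + y)
      rw [fo_add_left, fo_add_right, fo_add_right, hcon x, hcon y, hfo, hfo, hf₂.symm y x] at h3
      have h4 : 2 * f₂ x y = 0 := by rw [← h3]; ring
      exact (mul_eq_zero.1 h4).resolve_left h2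
    have hne : (fun _ : Fin n₂ => (1 : F)) ≠ 0 := by
      intro e
      exact one_ne_zero (congrFun e ⟨0, by omega⟩)
    obtain ⟨x, hx⟩ := (hf₂.nondegenerate _ hne).1
    exact hx (h1 _ _)
  have hw0 : w ≠ 0 := by
    rintro rfl
    exact hw (fo_zero_left G₂ 0)
  obtain ⟨v, hv⟩ : ∃ v : Fin n₁ → F, v ≠ 0 := ⟨fun _ => 1, fun e => one_ne_zero (congrFun e ⟨0, hn₁⟩)⟩
  refine ⟨v, (fo G₂ w w)⁻¹ • nu G₂ w, hv, ⟨hn₁, by omega, hA.nu_sq v, hA.nu_ne hv, ?_, ?_, ?_, ?_, ?_⟩⟩
  · have h3 := nu_transpose (G := G₁) (s := -1) (by rw [hA.transpose, neg_smul, one_smul]) v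
    rw [neg_smul, one_smul] at h3
    exact h3
  · rw [Matrix.smul_mul, Matrix.mul_smul, smul_smul]
    apply mat_ext
    intro z
    rw [Matrix.smul_mulVec, Matrix.smul_mulVec, nu_mul, nu_mulVec, smul_smul, smul_smul]
    congr 1
    field_simp
  · intro e
    have h3 := congrArg (fun Z => Z *ᵥ w) e
    simp only [Matrix.smul_mulVec, nu_mulVec, Matrix.zero_mulVec, smul_smul] at h3
    rw [inv_mul_cancel₀ hw, one_smul] at h3
    exact hw0 h3
  · rw [Matrix.transpose_smul, Matrix.smul_mul, nu_transpose hG₂s, one_smul, Matrix.mul_smul]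
  · intro b hb
    set Em := (fo G₂ w w)⁻¹ • nu G₂ w with hEm
    obtain ⟨z, hz0, hz1, hz2⟩ := exists_ortho_two hn₂ (G₂ *ᵥ w) ((b : Matrix (Fin n₂) (Fin n₂) F)ᵀ *ᵥ (G₂ *ᵥ w))
    have hE : ∀ y, fo G₂ y w = 0 → (1 - Em) *ᵥ y = y := by
      intro y hy
      rw [Matrix.sub_mulVec, Matrix.one_mulVec, hEm, Matrix.smul_mulVec, nu_mulVec, hy, zero_smul, smul_zero, sub_zero]
    have h3 : fo G₂ z w = 0 := by
      unfold fo
      rw [dotProduct_comm]
      exact hz1
    have h4 : fo G₂ ((b : Matrix (Fin n₂) (Fin n₂) F) *ᵥ z) w = 0 := by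
      unfold fo
      rw [dotProduct_comm, Matrix.dotProduct_mulVec, ← Matrix.mulVec_transpose]
      exact hz2
    have h5 := congrArg (fun Z => Z *ᵥ z) hb
    simp only [← Matrix.mulVec_mulVec, Matrix.zero_mulVec] at h5
    rw [hE z h3, hE _ h4] at h5
    apply hz0
    have h6 := congrArg (fun y => ((b⁻¹ : GL (Fin n₂) F) : Matrix (Fin n₂) (Fin n₂) F) *ᵥ y) h5
    simp only [Matrix.mulVec_mulVec, Matrix.mulVec_zero] at h6
    rw [← Units.val_mul, inv_mul_cancel, Units.val_one, Matrix.one_mulVec] at h6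
    exact h6

/-- **Row `Sp`, class C4.** -/
theorem spC4 : Cfsg.Agent.H111.EP.SpC4 := by
  intro Q _ _ hs A Γ h F _ _ k m hk hq hodd n₁ n₂ e P f₁ f₂ hn₂ hf₁ hf₂ hst hA
  have h2 := two_ne_zero_of_odd hodd
  have hn₁ : 0 < n₁ := by
    rcases Nat.eq_zero_or_pos n₁ with rfl | h1
    · exfalso
      have h3 := Fintype.card_congr e
      simp only [_root_.Fintype.card_sum, _root_.Fintype.card_fin, _root_.Fintype.card_eq_zero, _root_.Nat.add_eq_zero_iff, _root_.and_self] at h3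
      omega
    · exact h1
  obtain ⟨c, hc, hf⟩ := hst
  obtain ⟨m', hm'⟩ := exists_model m e P (gramMatrix f₁ ⊗ₖ gramMatrix f₂) hc (by
    intro x y
    rw [hf x y]
    congr 1
    unfold formOfGram dotProduct Matrix.mulVec dotProduct
    refine Finset.sum_congr rfl fun i _ => ?_
    rw [Finset.mul_sum]
    refine Finset.sum_congr rfl fun j _ => ?_
    rw [id, mul_assoc])
  obtain ⟨v, E, hv, D⟩ := exists_dat h2 hn₁ hn₂ hf₁ hf₂
  refine D.false h m' ?_ h2 (alt_gram hf₁) hv rfl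
  intro g hg
  have h3 := hA ((hm' A g).1 hg)
  obtain ⟨_, ⟨g', hg', rfl⟩, h4⟩ := h3
  have h5 : frame e P g' = frame e P g := h4
  rwa [← (frame e P).injective h5]

end final

end Cfsg.Agent.H663.EP
end

-- part: H663/EP/C7Main
section
/-!
# S3499: the tensor power subgroups of `Sp` (helper663), row `SpC7`
-/

set_option autoImplicit false
set_option linter.unusedSectionVars false

namespace Cfsg.Agent.H663.EP

open Matrix Cfsg.Geo Cfsg.Agent.H889 Cfsg.Agent.H284 Cfsg.Agent.H419.EP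
open scoped MatrixGroups

variable {F : Type*} [Field F] {k t : ℕ} {G₁ : Matrix (Fin k) (Fin k) F}

/-- the element `a` in the slot `o` -/
def sl (o : Fin t) (a : GL (Fin k) F) : GL (Fin t → Fin k) F := pmGL (Function.update (fun _ => 1) o a)

theorem sl_tp (o : Fin t) (a : GL (Fin k) F) (xs : Fin t → (Fin k → F)) :
    (sl o a : Matrix (Fin t → Fin k) (Fin t → Fin k) F) *ᵥ tp xs =
      tp (Function.update xs o ((a : Matrix (Fin k) (Fin k) F) *ᵥ xs o)) := by
  unfold sl
  change pm (fun i => (Function.update (fun _ => (1 : GL (Fin k) F)) o a i).val) *ᵥ tp xs = _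
  rw [pm_mulVec]
  congr 1
  funext j
  by_cases h : j = o
  · subst h
    rw [Function.update_self, Function.update_self]
  · rw [Function.update_of_ne h, Function.update_of_ne h, Units.val_one, Matrix.one_mulVec]

theorem sl_mem (o : Fin t) (a : GL (Fin k) F) : sl o a ∈ tensorWreathStandard k t F := pmGL_mem _

theorem sl_iso {a : GL (Fin k) F} (ha : a ∈ isoG G₁) (o : Fin t) : sl o a ∈ isoG (GG G₁ t) := by
  apply mem_isoG_of_tp
  intro xs ys
  rw [sl_tp, sl_tp, fo_tp, fo_tp]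
  refine Finset.prod_congr rfl fun i _ => ?_
  by_cases hi : i = o
  · subst hi
    rw [Function.update_self, Function.update_self, fo_isoG ha]
  · rw [Function.update_of_ne hi, Function.update_of_ne hi]

theorem sl_inv (o : Fin t) (a : GL (Fin k) F) : (sl o a)⁻¹ = sl o a⁻¹ := by
  apply inv_eq_of_mul_eq_one_right
  apply gl_eq_of_tp
  intro xs
  rw [Units.val_mul, ← Matrix.mulVec_mulVec, sl_tp, sl_tp, Function.update_self, Function.update_idem,
    Matrix.mulVec_mulVec, ← Units.val_mul, mul_inv_cancel, Units.val_one, Matrix.one_mulVec,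
    Function.update_eq_self, Units.val_one, Matrix.one_mulVec]

theorem lam_congr {v : Fin k → F} {α β : Fin t} {ys ys' : Fin t → (Fin k → F)} (h1 : ys α = ys' α)
    (h2 : ys β = ys' β) (h3 : ∀ j, j ≠ α → j ≠ β → fo G₁ v (ys j) = fo G₁ v (ys' j)) :
    lam G₁ v α β ys = lam G₁ v α β ys' := by
  unfold lam
  rw [h1, h2]
  congr 1
  refine Finset.prod_congr rfl fun j hj => ?_
  rw [Finset.mem_erase, Finset.mem_erase] at hj
  exact h3 j hj.2.1 hj.1

theorem lam_ne_zero {v : Fin k → F} {α β : Fin t} {ys : Fin t → (Fin k → F)} (h1 : fo G₁ (ys α) (ys β) ≠ 0)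
    (h3 : ∀ j, j ≠ α → j ≠ β → fo G₁ v (ys j) ≠ 0) : lam G₁ v α β ys ≠ 0 := by
  unfold lam
  refine mul_ne_zero h1 (Finset.prod_ne_zero_iff.2 fun j hj => ?_)
  rw [Finset.mem_erase, Finset.mem_erase] at hj
  exact h3 j hj.2.1 hj.1

theorem fo_sl_DD (hG₁ : Alt G₁) {a : GL (Fin k) F} (ha : a ∈ isoG G₁) (v : Fin k → F)
    {α β o : Fin t} (hαβ : α ≠ β) (ys : Fin t → (Fin k → F)) :
    fo (GG G₁ t) ((sl o a : Matrix (Fin t → Fin k) (Fin t → Fin k) F) *ᵥ DD G₁ v α β) (tp ys) =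
      lam G₁ v α β (Function.update ys o (((a⁻¹ : GL (Fin k) F) : Matrix (Fin k) (Fin k) F) *ᵥ ys o)) := by
  rw [fo_isoG_left (sl_iso ha o), sl_inv, sl_tp, fo_DD hG₁ v hαβ]

theorem sl_DD (hG₁ : Alt G₁) (hG : Alt (GG G₁ t)) {a : GL (Fin k) F} (ha : a ∈ isoG G₁) {v : Fin k → F}
    (hav : (a : Matrix (Fin k) (Fin k) F) *ᵥ v = v) {α β o : Fin t} (hαβ : α ≠ β) (hoα : o ≠ α) (hoβ : o ≠ β) :
    (sl o a : Matrix (Fin t → Fin k) (Fin t → Fin k) F) *ᵥ DD G₁ v α β = DD G₁ v α β := by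
  apply eq_of_tp hG
  intro ys
  rw [fo_sl_DD hG₁ ha v hαβ, fo_DD hG₁ v hαβ]
  apply lam_congr
  · rw [Function.update_of_ne (Ne.symm hoα)]
  · rw [Function.update_of_ne (Ne.symm hoβ)]
  · intro j _ _
    by_cases hj : j = o
    · subst hj
      rw [Function.update_self, ← fo_isoG_left ha, hav]
    · rw [Function.update_of_ne hj]

theorem sl_comm (hG₁ : Alt G₁) (hG : Alt (GG G₁ t)) {a : GL (Fin k) F} (ha : a ∈ isoG G₁) {v : Fin k → F}
    (hav : (a : Matrix (Fin k) (Fin k) F) *ᵥ v = v) {α β o : Fin t} (hαβ : α ≠ β) (hoα : o ≠ α) (hoβ : o ≠ β) :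
    sl o a * tvG hG (DD G₁ v α β) = tvG hG (DD G₁ v α β) * sl o a := by
  rw [mul_tvG hG (sl_iso ha o), sl_DD hG₁ hG ha hav hαβ hoα hoβ]

/-- cancelling the other slots -/
theorem tp_cancel {A B : Fin t → (Fin k → F)} (hA : ∀ i, A i ≠ 0) (o : Fin t) (c : F) :
    ∃ s : F, ∀ x y : Fin k → F, tp (Function.update A o x) = c • tp (Function.update B o y) → x = s • y := by
  have h1 : ∀ i, ∃ j, A i j ≠ 0 := fun i => Function.ne_iff.1 (hA i)
  choose a ha using h1
  have key : ∀ (C : Fin t → (Fin k → F)) (x : Fin k → F) (j : Fin k),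
      tp (Function.update C o x) (Function.update a o j) = x j * ∏ i ∈ Finset.univ.erase o, C i (a i) := by
    intro C x j
    rw [tp_apply, ← Finset.mul_prod_erase Finset.univ _ (Finset.mem_univ o), Function.update_self,
      Function.update_self]
    congr 1
    refine Finset.prod_congr rfl fun i hi => ?_
    rw [Function.update_of_ne (Finset.ne_of_mem_erase hi), Function.update_of_ne (Finset.ne_of_mem_erase hi)]
  have h3 : ∏ i ∈ Finset.univ.erase o, A i (a i) ≠ 0 := Finset.prod_ne_zero_iff.2 fun i _ => ha i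
  refine ⟨c * (∏ i ∈ Finset.univ.erase o, B i (a i)) * (∏ i ∈ Finset.univ.erase o, A i (a i))⁻¹, fun x y h => ?_⟩
  funext j
  have h4 := congrFun h (Function.update a o j)
  rw [Pi.smul_apply, key, key, smul_eq_mul] at h4
  rw [Pi.smul_apply, smul_eq_mul]
  field_simp
  rw [h4]
  ring

/-- **elements centralising the stabiliser of `v` in the slot `o`** -/
theorem slot_scalar (h2 : (2 : F) ≠ 0) (hG₁ : Alt G₁) {v : Fin k → F} (hv : v ≠ 0) {o : Fin t}
    {z : GL (Fin t → Fin k) F} (hzM : z ∈ tensorWreathStandard k t F) (hzz : z * z ∈ scalars (Fin t → Fin k) F)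
    (hc : ∀ u, fo G₁ v u = 0 → ∃ s ∈ scalars (Fin t → Fin k) F,
      z * sl o (tvG hG₁ u) = sl o (tvG hG₁ u) * z * s) (a : GL (Fin k) F) : sl o a * z = z * sl o a := by
  obtain ⟨gs, σ, hmon⟩ := exists_isMonomialOn hzM
  obtain ⟨r, hr⟩ := hG₁.exists_ne hv
  have hrr : fo G₁ r v ≠ 0 := by rw [hG₁.skew]; exact neg_ne_zero.2 hr
  -- the relation on pure tensors
  have hrel : ∀ u, fo G₁ v u = 0 → ∃ c : F, c ≠ 0 ∧ ∀ xs : Fin t → (Fin k → F),
      tp (fun i => (gs i).val *ᵥ Function.update xs o ((tvG hG₁ u : Matrix (Fin k) (Fin k) F) *ᵥ xs o) (σ i)) =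
        c • tp (Function.update (fun i => (gs i).val *ᵥ xs (σ i)) o
          ((tvG hG₁ u : Matrix (Fin k) (Fin k) F) *ᵥ ((gs o).val *ᵥ xs (σ o)))) := by
    intro u hu
    obtain ⟨s, hs, e⟩ := hc u hu
    obtain ⟨c, hsc⟩ := (mem_scalars_iff _).1 hs
    refine ⟨c, c.ne_zero, fun xs => ?_⟩
    have h1 := congrArg (fun g : GL (Fin t → Fin k) F =>
      (g : Matrix (Fin t → Fin k) (Fin t → Fin k) F) *ᵥ tp xs) e
    simp only [Units.val_mul, ← Matrix.mulVec_mulVec] at h1
    rw [hsc, Matrix.smul_mulVec, Matrix.one_mulVec, Matrix.mulVec_smul, Matrix.mulVec_smul, sl_tp, hmon, hmon,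
      sl_tp] at h1
    exact h1
  -- Claim 1
  have hσ : σ o = o := by
    by_contra hne
    obtain ⟨c, hc0, h1⟩ := hrel v (hG₁.alt v)
    set xs : Fin t → (Fin k → F) := Function.update (fun _ => v) (σ o)
      ((((gs o)⁻¹ : GL (Fin k) F) : Matrix (Fin k) (Fin k) F) *ᵥ r) with hxs
    have hr0 : r ≠ 0 := Alt.ne_zero_right hr
    have hxs0 : ∀ i, xs i ≠ 0 := by
      intro i
      by_cases hi : i = σ o
      · rw [hi, hxs, Function.update_self]
        exact gl_mulVec_ne_zero _ hr0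
      · rw [hxs, Function.update_of_ne hi]
        exact hv
    have hgo : (gs o).val *ᵥ xs (σ o) = r := by
      rw [hxs, Function.update_self, Matrix.mulVec_mulVec, ← Units.val_mul, mul_inv_cancel, Units.val_one,
        Matrix.one_mulVec]
    choose ω hω using fun i => hG₁.exists_ne (gl_mulVec_ne_zero (gs i) (hxs0 (σ i)))
    have h3 := congrArg (fun z => fo (GG G₁ t) z (tp (Function.update ω o r))) (h1 xs)
    simp only [fo_smul_left, fo_tp] at h3
    have e1 : ∏ i, fo G₁ ((gs i).val *ᵥ Function.update xs o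
        ((tvG hG₁ v : Matrix (Fin k) (Fin k) F) *ᵥ xs o) (σ i)) (Function.update ω o r i) = 0 := by
      refine Finset.prod_eq_zero (Finset.mem_univ o) ?_
      rw [Function.update_of_ne hne, hgo, Function.update_self, hG₁.alt]
    rw [e1] at h3
    refine mul_ne_zero hc0 (Finset.prod_ne_zero_iff.2 fun i _ => ?_) h3.symm
    by_cases hi : i = o
    · rw [hi, Function.update_self, Function.update_self, hgo, tvG_mulVec, fo_add_left, hG₁.alt, zero_add,
        fo_smul_left]
      exact mul_ne_zero hrr hr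
    · rw [Function.update_of_ne hi, Function.update_of_ne hi]
      exact hω i
  have hσne : ∀ i, i ≠ o → σ i ≠ o := fun i hi e => hi (σ.injective (e.trans hσ.symm))
  -- the other slots
  have hfam : ∀ (x : Fin k → F), (fun i => (gs i).val *ᵥ Function.update (fun _ : Fin t => v) o x (σ i)) =
      Function.update (fun i => (gs i).val *ᵥ v) o ((gs o).val *ᵥ x) := by
    intro x
    funext i
    by_cases hi : i = o
    · subst hi
      rw [hσ, Function.update_self, Function.update_self]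
    · rw [Function.update_of_ne hi, Function.update_of_ne (hσne i hi)]
  have hA0 : ∀ i, (gs i).val *ᵥ v ≠ 0 := fun i => gl_mulVec_ne_zero (gs i) hv
  -- Claim 2
  have hcomm : ∀ u, fo G₁ v u = 0 → (gs o).val * nu G₁ u = nu G₁ u * (gs o).val := by
    intro u hu
    rcases eq_or_ne u 0 with rfl | hu0
    · have : nu G₁ 0 = 0 := by
        unfold nu
        rw [Matrix.zero_vecMulVec]
      rw [this, Matrix.mul_zero, Matrix.zero_mul]
    obtain ⟨c, hc0, h1⟩ := hrel u hu
    obtain ⟨s, hs⟩ := tp_cancel (B := fun i => (gs i).val *ᵥ v) hA0 o c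
    refine comm_of_smul (c := s) (gs o).isUnit (hG₁.nu_sq u) (hG₁.nu_ne hu0) ?_
    apply mat_ext
    intro x
    have h3 := h1 (Function.update (fun _ => v) o x)
    rw [Function.update_idem, Function.update_self, hfam, hfam, hσ, Function.update_self, Function.update_idem] at h3
    have h4 := hs _ _ h3
    rw [Matrix.smul_mulVec, ← Matrix.mulVec_mulVec, ← Matrix.mulVec_mulVec]
    rw [tvG_val] at h4
    exact h4
  -- Claim 3
  obtain ⟨s, hs⟩ : ∃ s : F, (gs o).val * (gs o).val = s • (1 : Matrix (Fin k) (Fin k) F) := by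
    obtain ⟨c, hsc⟩ := (mem_scalars_iff _).1 hzz
    obtain ⟨s, hs⟩ := tp_cancel (A := fun i => (gs i).val *ᵥ ((gs (σ i)).val *ᵥ v)) (B := fun _ => v)
      (fun i => gl_mulVec_ne_zero (gs i) (hA0 (σ i))) o (c : F)
    refine ⟨s, mat_ext fun x => ?_⟩
    rw [Matrix.smul_mulVec, Matrix.one_mulVec, ← Matrix.mulVec_mulVec]
    apply hs
    have h1 := congrArg (fun Z : Matrix (Fin t → Fin k) (Fin t → Fin k) F =>
      Z *ᵥ tp (Function.update (fun _ => v) o x)) hsc
    simp only [Units.val_mul, ← Matrix.mulVec_mulVec] at h1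
    rw [Matrix.smul_mulVec, Matrix.one_mulVec, hmon, hfam, hmon] at h1
    rw [← h1]
    congr 1
    funext i
    by_cases hi : i = o
    · subst hi
      rw [hσ, Function.update_self, Function.update_self]
    · rw [Function.update_of_ne hi, Function.update_of_ne (hσne i hi)]
  obtain ⟨c', hc'⟩ := hG₁.scalar_of_comm h2 hv (gs o).isUnit hs hcomm
  apply gl_eq_of_tp
  intro xs
  rw [Units.val_mul, Units.val_mul, ← Matrix.mulVec_mulVec, ← Matrix.mulVec_mulVec, sl_tp, hmon, hmon, sl_tp]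
  congr 1
  funext i
  by_cases hi : i = o
  · subst hi
    rw [Function.update_self, hσ, Function.update_self, hc', Matrix.smul_mulVec, Matrix.smul_mulVec,
      Matrix.one_mulVec, Matrix.one_mulVec, Matrix.mulVec_smul]
  · rw [Function.update_of_ne hi, Function.update_of_ne (hσne i hi)]

/-- **the kill** -/
theorem c7_false {Q : Type*} [Group Q] [Finite Q] {A : Subgroup Q} {Γ : Subgroup (MulAut Q)} (h : EPT A Γ)
    (m : Model Q (isoG (GG G₁ t))) (hA : m.hat A ≤ tensorWreathStandard k t F) (h2 : (2 : F) ≠ 0) (hG₁ : Alt G₁)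
    (hG : Alt (GG G₁ t)) {v : Fin k → F} (hv : v ≠ 0) {o α β : Fin t} (hαβ : α ≠ β) (hoα : o ≠ α) (hoβ : o ≠ β) :
    False := by
  obtain ⟨y₀, hy₀⟩ := hG₁.exists_ne hv
  have ha₀x : sl o (tvG hG₁ y₀) ∉ cj (tvG hG (DD G₁ v α β)) (tensorWreathStandard k t F) := by
    intro hcon
    have h1 := fix_of_cj h2 hG₁ hG hv hαβ hoα hoβ (sl_iso (tvG_mem hG₁ y₀) o) (sl_mem _ _) hcon
    obtain ⟨ys, -, -, hys⟩ := exists_lam_ne hG₁ hv hαβ hy₀
    obtain ⟨h3, h4⟩ := lam_ne hys
    have h5 := fo_sl_DD hG₁ (tvG_mem hG₁ y₀) v (o := o) hαβ (Function.update ys o v)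
    rw [Function.update_self, Function.update_idem] at h5
    have h6 : lam G₁ v α β (Function.update ys o v) = 0 := lam_zero_of hoα hoβ (by
      rw [Function.update_self, hG₁.alt])
    have h7 : lam G₁ v α β (Function.update ys o
        ((((tvG hG₁ y₀)⁻¹ : GL (Fin k) F) : Matrix (Fin k) (Fin k) F) *ᵥ v)) ≠ 0 := by
      apply lam_ne_zero
      · rw [Function.update_of_ne (Ne.symm hoα), Function.update_of_ne (Ne.symm hoβ)]
        exact h3
      · intro j hj1 hj2
        by_cases hj : j = o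
        · subst hj
          rw [Function.update_self, tvG_inv_mulVec, fo_sub_right, hG₁.alt, zero_sub, fo_smul_right]
          exact neg_ne_zero.2 (mul_ne_zero hy₀ hy₀)
        · rw [Function.update_of_ne hj]
          exact h4 j hj1 hj2
    apply h7
    rw [← h5]
    rcases h1 with h1 | h1
    · rw [h1, fo_DD hG₁ v hαβ, h6]
    · rw [h1, ← neg_one_smul F (DD G₁ v α β), fo_smul_left, fo_DD hG₁ v hαβ, h6, mul_zero]
  have hnle : ¬ isoG (GG G₁ t) ≤ tensorWreathStandard k t F := by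
    intro hle
    apply ha₀x
    rw [cj_eq_self (hle (tvG_mem hG _))]
    exact sl_mem _ _
  have hhat := hat_eq h m hA hnle
  have hmem : ∀ {y : GL (Fin t → Fin k) F}, y ∈ isoG (GG G₁ t) → y ∈ tensorWreathStandard k t F →
      y ∈ m.hat A := by
    intro y h1 h3
    rw [hhat]
    exact ⟨h3, h1⟩
  have hmem2 : ∀ {y : GL (Fin t → Fin k) F}, y ∈ isoG (GG G₁ t) → y ∈ tensorWreathStandard k t F →
      y * tvG hG (DD G₁ v α β) = tvG hG (DD G₁ v α β) * y →
      y ∈ m.hat A ⊓ cj (tvG hG (DD G₁ v α β)) (m.hat A) := by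
    intro y h1 h3 h4
    refine ⟨hmem h1 h3, mem_cj.2 ?_⟩
    rw [mul_assoc, h4, inv_mul_cancel_left]
    exact hmem h1 h3
  have hfix : ∀ y ∈ m.hat A ⊓ cj (tvG hG (DD G₁ v α β)) (m.hat A),
      (y : Matrix (Fin t → Fin k) (Fin t → Fin k) F) *ᵥ DD G₁ v α β = DD G₁ v α β ∨
        (y : Matrix (Fin t → Fin k) (Fin t → Fin k) F) *ᵥ DD G₁ v α β = -DD G₁ v α β := fun y hy =>
    fix_of_cj h2 hG₁ hG hv hαβ hoα hoβ (m.hat_le A (Subgroup.mem_inf.1 hy).1) (hA (Subgroup.mem_inf.1 hy).1)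
      (cj_mono hA (Subgroup.mem_inf.1 hy).2)
  refine kill_two h m (tvG_mem hG _) (z₀ := swp F k α β) (a₀ := sl o (tvG hG₁ y₀))
    (hmem2 (swp_iso _ _) (swp_mem _ _) (swp_comm hG₁ hG hαβ)) (swp_not_scalar hG₁ hv hαβ) ?_ ?_
    (hmem (sl_iso (tvG_mem hG₁ _) _) (sl_mem _ _)) (fun hcon => ha₀x (cj_mono hA hcon)) ?_
  · rw [swp_sq]
    exact one_mem _
  · intro y hy
    rcases hfix y hy with h1 | h1
    · exact swp_comm_of_fix hG₁ hG hv hαβ (m.hat_le A (Subgroup.mem_inf.1 hy).1) (hA (Subgroup.mem_inf.1 hy).1)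
        (one_ne_zero (α := F)) (by rw [one_smul]; exact h1)
    · exact swp_comm_of_fix hG₁ hG hv hαβ (m.hat_le A (Subgroup.mem_inf.1 hy).1) (hA (Subgroup.mem_inf.1 hy).1)
        (neg_ne_zero.2 (one_ne_zero (α := F))) (by rw [neg_smul, one_smul]; exact h1)
  · intro z hz hzz hzc
    refine slot_scalar h2 hG₁ hv (hA (Subgroup.mem_inf.1 hz).1) hzz (fun u hu => ?_) _
    refine hzc _ (hmem2 (sl_iso (tvG_mem hG₁ _) _) (sl_mem _ _) (sl_comm hG₁ hG (tvG_mem hG₁ _) ?_ hαβ hoα hoβ))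
    rw [tvG_mulVec, hu, zero_smul, add_zero]

/-- **Row `Sp`, class C7.** -/
theorem spC7 : Cfsg.Agent.H111.EP.SpC7 := by
  intro Q _ _ hs A Γ h F _ _ k m hk hq hodd d t e P f₁ ht ht3 hne hf₁ hst hA
  have h2 := two_ne_zero_of_odd hodd
  have hd : 0 < d := by
    rcases Nat.eq_zero_or_pos d with rfl | h1
    · exfalso
      have h3 := Fintype.card_congr e
      simp only [Fintype.card_sum, Fintype.card_fin, Fintype.card_fun] at h3
      rw [Nat.zero_pow (by omega)] at h3
      omega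
    · exact h1
  have hG₁ := alt_gram hf₁
  obtain ⟨c, hc, hf⟩ := hst
  obtain ⟨m', hm'⟩ := exists_model m e P (GG (gramMatrix f₁) t) hc (by
    intro x y
    rw [hf x y]
    congr 1
    unfold dotProduct Matrix.mulVec dotProduct
    refine Finset.sum_congr rfl fun i _ => ?_
    rw [Finset.mul_sum]
    refine Finset.sum_congr rfl fun j _ => ?_
    rw [id, mul_assoc]
    rfl)
  refine c7_false h m' ?_ h2 hG₁ (alt_GG h2 hG₁ ht) (v := fun _ => 1)
    (fun e => one_ne_zero (congrFun e ⟨0, hd⟩)) (o := ⟨0, by omega⟩) (α := ⟨1, by omega⟩) (β := ⟨2, by omega⟩)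
    (by simp) (by simp) (by simp)
  intro g hg
  have h3 := hA ((hm' A g).1 hg)
  obtain ⟨_, ⟨g', hg', rfl⟩, h4⟩ := h3
  have h5 : frame e P g' = frame e P g := h4
  rwa [← (frame e P).injective h5]

end Cfsg.Agent.H663.EP
end

private theorem dce_4ff52b833be5 : _root_.True := by
  try have : _root_.True := by simp only [_root_.Cfsg.Agent.H663.EP.Dat.x.congr_simp]
  try have : _root_.True := by simp only [_root_.Cfsg.Agent.H663.EP.tvG.congr_simp]
  exact _root_.True.intro
end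

-- part: H588/EPU/Asm
section
set_option linter.all false

/-!
# S3499, unitary socles: the assembly of `PsuNonRes` from the geometric classes (helper588, S3499-III-ASM-PSU)

* `Kills C` : the row for the class `C` of subgroups `M` (`m.hat A ≤ M` is impossible);
* `C1a` (totally singular subspaces), `C1b` (nondegenerate subspaces), `C2a`, `C2b` (decompositions), `C5a`, `C5b`, `C5c`
  (subfields), `C6` (symplectic type), `C3` (extension fields), `C4` (tensor products), `C7` (tensor powers): the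
  disjuncts of `Geo.InUnitaryClass`;
* `psuNonRes` : all rows give `PsuNonRes`.
-/

set_option autoImplicit false

namespace Cfsg.Agent.H588.EPU

open Subgroup Cfsg Cfsg.Geo Cfsg.Agent.H284 Cfsg.Agent.H419.EP
open scoped MatrixGroups

/-- a class of subgroups of `GL_n(F)` -/
abbrev Cls := ∀ (F : Type) [Field F] [Fintype F] (n _q : ℕ), Subgroup (GL (Fin n) F) → Prop

/-- **the row of a class** -/
def Kills (C : Cls) : Prop := ∀ {Q : Type} [Group Q] [Finite Q], IsSimpleGroup Q → ∀ {A : Subgroup Q}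
    {Γ : Subgroup (MulAut Q)}, EPT A Γ → ∀ {F : Type} [Field F] [Fintype F] {n q : ℕ}
    (m : Model Q (Cfsg.GU n F q ⊓ Cfsg.Geo.specialLinear (Fin n) F)), Fintype.card F = q ^ 2 → 3 ≤ n →
    ¬ (n = 3 ∧ q = 2) → ¬ (n = 4 ∧ q = 3) → ∀ M : Subgroup (GL (Fin n) F), C F n q M → m.hat A ≤ M → False

/-- totally singular subspaces -/
def C1a : Cls := fun F _ _ n q M => ∃ W : Submodule F (Fin n → F), W ≠ ⊥ ∧
  IsTotallySingularFor (hermForm n F q) W ∧ M = subspaceStabilizer W ⊓ GU n F q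

/-- nondegenerate subspaces -/
def C1b : Cls := fun F _ _ n q M => ∃ W : Submodule F (Fin n → F), W ≠ ⊥ ∧
  IsNondegenerateOn (hermForm n F q) W ∧ 2 * Module.finrank F W < n ∧ M = subspaceStabilizer W ⊓ GU n F q

/-- nondegenerate decompositions -/
def C2a : Cls := fun F _ _ n q M => ∃ (t k : ℕ) (D : Fin t → Submodule F (Fin n → F)),
  IsNondegenerateMDecomposition (hermForm n F q) k D ∧ M = decompositionStabilizer D ⊓ GU n F q

/-- pairs of totally singular subspaces -/
def C2b : Cls := fun F _ _ n q M => ∃ (k : ℕ) (D : Fin 2 → Submodule F (Fin n → F)), 2 * k = n ∧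
  IsMDecomposition k D ∧ (∀ i, IsTotallySingularFor (hermForm n F q) (D i)) ∧
  M = decompositionStabilizer D ⊓ GU n F q

/-- subfields, `GU_n(q₀)` -/
def C5a : Cls := fun F _ _ n q M => ∃ (F₀ : Subfield F) (r : ℕ) (P : GL (Fin n) F), r.Prime ∧ Odd r ∧
  Fintype.card F = Nat.card F₀ ^ r ∧ IsFormRationalStructure (hermForm n F q) F₀ 1 P ∧
  M = subfieldSubgroup F₀ P ⊓ GU n F q

/-- subfields, `O_n(q)` -/
def C5b : Cls := fun F _ _ n q M => ∃ (F₀ : Subfield F) (P : GL (Fin n) F), Odd q ∧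
  Fintype.card F = Nat.card F₀ ^ 2 ∧ IsFormRationalStructure (hermForm n F q) F₀ 1 P ∧
  M = subfieldSubgroup F₀ P ⊓ GU n F q

/-- subfields, `Sp_n(q)` -/
def C5c : Cls := fun F _ _ n q M => ∃ (F₀ : Subfield F) (P : GL (Fin n) F) (ζ : F), Even n ∧
  Fintype.card F = Nat.card F₀ ^ 2 ∧ ζ ≠ 0 ∧ ζ + ζ ^ q = 0 ∧ IsFormRationalStructure (hermForm n F q) F₀ ζ P ∧
  (∀ u : Fin n → F, (∀ i, u i ∈ F₀) →
    hermForm n F q ((P : Matrix (Fin n) (Fin n) F).mulVec u) ((P : Matrix (Fin n) (Fin n) F).mulVec u) = 0) ∧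
  M = subfieldSubgroup F₀ P ⊓ GU n F q

/-- normalisers of groups of symplectic type -/
def C6 : Cls := fun F _ _ n q M => ∃ (r : ℕ) (R : Subgroup (GL (Fin n) F)) (p e k : ℕ), IsSymplecticTypeGroup r R ∧
  ActsAbsolutelyIrreducibly (matrixSet R) ∧ R ≤ similarityGroup (hermForm n F q) ∧ r ≠ p ∧
  IsMinimalFieldFor (Nat.card (Subgroup.center R)) p e F ∧
  ((Odd r ∧ Nat.card (Subgroup.center R) = r ∧ 1 ≤ k ∧ Nat.card R = r ^ (1 + 2 * k)) ∨
    (r = 2 ∧ e = 2 ∧ Nat.card (Subgroup.center R) = 4 ∧ Nat.card R = 2 ^ (2 + 2 * k))) ∧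
  M = subgroupNormalizer R ⊓ GU n F q

/-- extension fields -/
def C3 : Cls := fun F _ _ n q M => ∃ (r : ℕ) (K : Subalgebra F (Matrix (Fin n) (Fin n) F)), r.Prime ∧ Odd r ∧
  IsFieldSubalgebra r K ∧ IsAdjointClosedFor (hermForm n F q) K ∧ M = subalgebraNormalizer K ⊓ GU n F q

/-- tensor products -/
def C4 : Cls := fun F _ _ n q M => ∃ (n₁ n₂ : ℕ) (e : Fin n ≃ Fin n₁ × Fin n₂) (P : GL (Fin n) F)
  (f₁ : (Fin n₁ → F) → (Fin n₁ → F) → F) (f₂ : (Fin n₂ → F) → (Fin n₂ → F) → F),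
  2 ≤ n₁ ∧ n₁ < n₂ ∧ IsUnitaryFormPow q f₁ ∧ IsUnitaryFormPow q f₂ ∧
  IsTensorFormStructure (fun x : F => x ^ q) (hermForm n F q) f₁ f₂ e P ∧
  M = tensorProductSubgroup n₁ n₂ e P ⊓ GU n F q

/-- tensor powers -/
def C7 : Cls := fun F _ _ n q M => ∃ (k t : ℕ) (e : Fin n ≃ (Fin t → Fin k)) (P : GL (Fin n) F)
  (f₁ : (Fin k → F) → (Fin k → F) → F), 3 ≤ k ∧ 2 ≤ t ∧ ¬ (q = 2 ∧ k = 3) ∧ IsUnitaryFormPow q f₁ ∧
  IsTensorPowerFormStructure (fun x : F => x ^ q) (hermForm n F q) f₁ e P ∧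
  M = tensorWreathSubgroup k t e P ⊓ GU n F q

/-- the whole union -/
theorem psuNonRes_of (h : Kills fun F _ _ n q M => InUnitaryClass n F q M) : PsuNonRes := by
  intro Q _ _ hs A Γ he F _ _ n q m hF hn h1 h2 hr
  rcases Cfsg.Agent.S5663.result n q hF hn h1 (m.hat A) (m.hat_le A) (m.sup_ne he.max) with ⟨M, hM, hle⟩ | h3
  · exact h hs he m hF hn h1 h2 M hM hle
  · exact hr h3

/-- **the assembly** -/
theorem psuNonRes (h1a : Kills C1a) (h1b : Kills C1b) (h2a : Kills C2a) (h2b : Kills C2b) (h5a : Kills C5a)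
    (h5b : Kills C5b) (h5c : Kills C5c) (h6 : Kills C6) (h3 : Kills C3) (h4 : Kills C4) (h7 : Kills C7) :
    PsuNonRes := by
  apply psuNonRes_of
  intro Q _ _ hs A Γ he F _ _ n q m hF hn e1 e2 M hM hle
  rcases hM with (hM | hM | hM | hM | hM | hM | hM | hM) | hM | hM | hM
  · exact h1a hs he m hF hn e1 e2 M hM hle
  · exact h1b hs he m hF hn e1 e2 M hM hle
  · exact h2a hs he m hF hn e1 e2 M hM hle
  · exact h2b hs he m hF hn e1 e2 M hM hle
  · exact h5a hs he m hF hn e1 e2 M hM hle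
  · exact h5b hs he m hF hn e1 e2 M hM hle
  · exact h5c hs he m hF hn e1 e2 M hM hle
  · exact h6 hs he m hF hn e1 e2 M hM hle
  · exact h3 hs he m hF hn e1 e2 M hM hle
  · exact h4 hs he m hF hn e1 e2 M hM hle
  · exact h7 hs he m hF hn e1 e2 M hM hle

end Cfsg.Agent.H588.EPU
end

-- part: H380/EPU/Tools
section
set_option linter.all false
open scoped Cfsg.Agent.FastGrp

/-!
# S3499, unitary socles: tools for decomposition stabilisers (helper380)

* `exists_fit` : the Fitting subgroup of `A` in the `T`-form: an abelian normal subgroup `N ≠ 1` of `A` lies in an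
  elementary abelian normal subgroup `K` of `A` with `C_A(K) = K` and `K ∩ A^x = 1` for all `x ∉ A`;
* `PJ Q n F q` : a surjection `SU n F q → Q` with kernel the scalars; `PJ.ofModel`, `mem_iff`, `comap_eq`.
-/

set_option autoImplicit false
set_option linter.unusedSectionVars false

namespace Cfsg.Agent.H380.EPU

open Subgroup Matrix Cfsg Cfsg.Geo Cfsg.Agent.H284 Cfsg.Agent.H419.EP Cfsg.Agent.LieClassical.HermBasic
  Cfsg.Agent.LieClassical.HermSiegel Cfsg.Agent.ClassicalGeometry.PSUAutBasic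
open scoped MatrixGroups

section fit

variable {Q : Type*} [Group Q] {A : Subgroup Q} {Γ : Subgroup (MulAut Q)} (h : EPT A Γ)

/-- the restriction of `σ ∈ Γ` to `A` -/
def resA (h : EPT A Γ) {σ : MulAut Q} (hσ : σ ∈ Γ) : A ≃* A where
  toFun a := ⟨σ a, (h.inv σ hσ a).2 a.2⟩
  invFun a := ⟨σ⁻¹ a, (h.inv σ⁻¹ (inv_mem hσ) a).2 a.2⟩
  left_inv a := Subtype.ext (MulAut.inv_apply_self _ _ _)
  right_inv a := Subtype.ext (MulAut.apply_inv_self _ _ _)
  map_mul' a b := Subtype.ext (map_mul σ _ _)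

theorem char_inv (h : EPT A Γ) {L : Subgroup A} (hL : L.Characteristic) :
    ∀ σ ∈ Γ, ∀ k ∈ L.map A.subtype, σ k ∈ L.map A.subtype := by
  rintro σ hσ _ ⟨k, hk, rfl⟩
  have h1 := Subgroup.characteristic_iff_map_eq.1 hL (resA h hσ)
  refine ⟨resA h hσ k, ?_, rfl⟩
  show resA h hσ k ∈ L
  rw [← h1]
  exact ⟨k, hk, rfl⟩

/-- **(F5) for the Fitting subgroup of `A`** -/
theorem exists_fit [Finite Q] (h : EPT A Γ) {N : Subgroup Q} (hNA : N ≤ A) (hNn : ∀ a ∈ A, ∀ k ∈ N, a * k * a⁻¹ ∈ N)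
    (hNab : ∀ a ∈ N, ∀ b ∈ N, a * b = b * a) (hne : N ≠ ⊥) :
    ∃ (K : Subgroup Q) (r : ℕ), K ≤ A ∧ N ≤ K ∧ r.Prime ∧ (∀ a ∈ K, ∀ b ∈ K, a * b = b * a) ∧ (∀ a ∈ K, a ^ r = 1) ∧
      (∀ a ∈ A, ∀ k ∈ K, a * k * a⁻¹ ∈ K) ∧ (∀ a ∈ A, (∀ k ∈ K, a * k = k * a) → a ∈ K) ∧
      ∀ x, x ∉ A → K ⊓ cj x A = ⊥ := by
  have hNn' : (N.subgroupOf A).Normal := by
    refine ⟨fun k hk a => ?_⟩
    rw [Subgroup.mem_subgroupOf] at hk ⊢
    exact hNn a a.2 _ hk
  have hNnil : Group.IsNilpotent (N.subgroupOf A) := by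
    let _ : CommGroup (N.subgroupOf A) :=
      { (inferInstance : Group (N.subgroupOf A)) with
        mul_comm := fun a b => Subtype.ext (Subtype.ext (hNab _ a.2 _ b.2)) }
    infer_instance
  have hle : N ≤ (Cfsg.fittingSubgroup A).map A.subtype := by
    have h1 := Lib.Cores.le_fittingSubgroup hNn' hNnil
    have h2 := Subgroup.map_mono (f := A.subtype) h1
    rwa [Subgroup.subgroupOf_map_subtype, inf_eq_left.2 hNA] at h2
  have hchar : (Cfsg.fittingSubgroup A).Characteristic := Lib.Cores.fittingSubgroup_characteristic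
  have hinv := char_inv h hchar
  have hKA : (Cfsg.fittingSubgroup A).map A.subtype ≤ A := Subgroup.map_subtype_le _
  have hnil : Group.IsNilpotent ((Cfsg.fittingSubgroup A).map A.subtype) := by
    have h1 : Group.IsNilpotent (Cfsg.fittingSubgroup A) := Lib.Cores.fittingSubgroup_isNilpotent
    have e2 := (Cfsg.fittingSubgroup A).equivMapOfInjective _ A.subtype_injective
    exact Group.nilpotent_of_surjective e2.toMonoidHom e2.surjective
  have hKne : (Cfsg.fittingSubgroup A).map A.subtype ≠ ⊥ := fun e => hne (le_bot_iff.1 (e ▸ hle))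
  obtain ⟨h1, ⟨r, hr, h2⟩, h3, h4, -⟩ := h.nilp _ hKA hinv hnil hKne
  obtain ⟨x₀, hx₀⟩ := h.exists_notMem
  have hcj : ∀ a ∈ A, MulAut.conj a = 1 → a = 1 := by
    intro a ha e
    have h5 : a ∈ (Cfsg.fittingSubgroup A).map A.subtype ⊓ cj x₀ A := by
      have hc : ∀ y : Q, a * y * a⁻¹ = y := fun y => by
        have := congrArg (fun τ : MulAut Q => τ y) e
        exact this
      have hc' : ∀ y : Q, a * y = y * a := fun y => by
        have := hc y
        rw [mul_inv_eq_iff_eq_mul] at this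
        exact this
      constructor
      · have hz : (Subgroup.closure {(⟨a, ha⟩ : A)}).Normal := by
          refine ⟨fun k hk b => ?_⟩
          have hcc : ∀ k ∈ Subgroup.closure {(⟨a, ha⟩ : A)}, b * k * b⁻¹ = k := by
            intro k hk
            rw [mul_inv_eq_iff_eq_mul]
            refine Subgroup.closure_induction (p := fun k _ => b * k = k * b) ?_ ?_ ?_ ?_ hk
            · intro k hk
              rw [Set.mem_singleton_iff] at hk
              subst hk
              exact Subtype.ext (hc' b).symm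
            · rw [mul_one, one_mul]
            · intro k l _ _ h6 h7
              rw [← mul_assoc, h6, mul_assoc, h7, mul_assoc]
            · intro k _ h6
              rw [eq_inv_mul_iff_mul_eq, ← mul_assoc, ← h6, mul_assoc, mul_inv_cancel, mul_one]
          rw [hcc k hk]
          exact hk
        have hn2 : Group.IsNilpotent (Subgroup.closure {(⟨a, ha⟩ : A)}) := by
          have hcm : IsMulCommutative (Subgroup.closure {(⟨a, ha⟩ : A)}) := Subgroup.isMulCommutative_closure (by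
            intro x hx y hy
            rw [Set.mem_singleton_iff] at hx hy
            rw [hx, hy])
          let _ : CommGroup (Subgroup.closure {(⟨a, ha⟩ : A)}) :=
            { (inferInstance : Group (Subgroup.closure {(⟨a, ha⟩ : A)})) with
              mul_comm := fun a b => hcm.is_comm.comm a b }
          infer_instance
        exact ⟨⟨a, ha⟩, Lib.Cores.le_fittingSubgroup hz hn2 (Subgroup.subset_closure rfl), rfl⟩
      · refine mem_cj.2 ?_
        have e6 : x₀⁻¹ * a * x₀ = a := by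
          rw [mul_assoc, hc' x₀, inv_mul_cancel_left]
        rw [e6]
        exact ha
    rw [(h4 x₀ hx₀).1, mem_bot] at h5
    exact h5
  refine ⟨_, r, hKA, hle, hr, h1, h2, ?_, ?_, fun x hx => (h4 x hx).1⟩
  · intro a ha k hk
    exact hinv _ ((h.conj a).2 ha) k hk
  · intro a ha hc
    obtain ⟨b, hb, e⟩ := h3 _ ((h.conj a).2 ha) (by
      intro k hk
      rw [MulAut.conj_apply, mul_inv_eq_iff_eq_mul]
      exact hc k hk)
    have h6 : b⁻¹ * a = 1 := by
      apply hcj _ (A.mul_mem (A.inv_mem (hKA hb)) ha)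
      rw [map_mul, map_inv, e, inv_mul_cancel]
    rw [inv_mul_eq_one] at h6
    rw [← h6]
    exact hb

end fit

section proj

variable {Q : Type*} [Group Q] {F : Type*} [Field F] {n q : ℕ}

/-- a surjection `SU n F q → Q` with kernel the scalars -/
structure PJ (Q : Type*) [Group Q] (n : ℕ) (F : Type*) [Field F] (q : ℕ) where
  φ : SU n F q →* Q
  surj : Function.Surjective φ
  ker : ∀ s, φ s = 1 ↔ ∃ c : F, ∀ v, act s v = c • v

/-- `SU n F q` as a subgroup of `GL` -/
def toGL (n : ℕ) (F : Type*) [Field F] (q : ℕ) : SU n F q →* GL (Fin n) F :=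
  Matrix.SpecialLinearGroup.toGL.comp (SU n F q).subtype

theorem toGL_val (s : SU n F q) : (toGL n F q s : Matrix (Fin n) (Fin n) F) = mat s := rfl

theorem toGL_mem (s : SU n F q) : toGL n F q s ∈ Cfsg.GU n F q ⊓ Cfsg.Geo.specialLinear (Fin n) F := by
  refine Subgroup.mem_inf.2 ⟨(mem_GU_iff _).2 fun u v => herm_act s u v, ?_⟩
  rw [Cfsg.Geo.specialLinear, MonoidHom.mem_ker]
  apply Units.ext
  exact det_mat s

/-- `SU n F q → GU ⊓ specialLinear` -/
def toS (n : ℕ) (F : Type*) [Field F] (q : ℕ) :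
    SU n F q →* (Cfsg.GU n F q ⊓ Cfsg.Geo.specialLinear (Fin n) F : Subgroup (GL (Fin n) F)) :=
  (toGL n F q).codRestrict _ toGL_mem

theorem toS_surj (n : ℕ) (F : Type*) [Field F] (q : ℕ) : Function.Surjective (toS n F q) := by
  rintro ⟨g, hgd⟩
  obtain ⟨hg, hd⟩ := Subgroup.mem_inf.1 hgd
  have hd' : (g : Matrix (Fin n) (Fin n) F).det = 1 := by
    rw [Cfsg.Geo.specialLinear, MonoidHom.mem_ker] at hd
    exact congrArg Units.val hd
  refine ⟨mkSU (g : Matrix (Fin n) (Fin n) F) hd' ((mem_GU_iff _).1 hg), ?_⟩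
  apply Subtype.ext
  apply Units.ext
  rfl

theorem mem_scalars (s : SU n F q) (hn : 0 < n) :
    toGL n F q s ∈ Cfsg.Geo.scalars (Fin n) F ↔ ∃ c : F, ∀ v, act s v = c • v := by
  rw [Cfsg.Geo.mem_scalars_iff]
  constructor
  · rintro ⟨c, hc⟩
    refine ⟨c, fun v => ?_⟩
    rw [act_def, ← toGL_val, hc, smul_mulVec, one_mulVec]
  · rintro ⟨c, hc⟩
    have hc0 : c ≠ 0 := by
      rintro rfl
      have h1 := hc (Pi.single ⟨0, hn⟩ 1)
      rw [zero_smul, act_eq_zero] at h1
      have h2 := congrFun h1 ⟨0, hn⟩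
      rw [Pi.single_eq_same, Pi.zero_apply] at h2
      exact one_ne_zero h2
    refine ⟨Units.mk0 c hc0, ?_⟩
    apply Matrix.ext_of_mulVec_single
    intro i
    rw [toGL_val, ← act_def, hc, smul_mulVec, one_mulVec, Units.val_mk0]

/-- the surjection given by a model -/
def PJ.ofModel (m : Model Q (Cfsg.GU n F q ⊓ Cfsg.Geo.specialLinear (Fin n) F)) (hn : 0 < n) : PJ Q n F q where
  φ := m.π.comp (toS n F q)
  surj := m.surj.comp (toS_surj n F q)
  ker s := by
    rw [← mem_scalars s hn]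
    exact m.ker (toS n F q s)

theorem mem_iff (m : Model Q (Cfsg.GU n F q ⊓ Cfsg.Geo.specialLinear (Fin n) F)) (hn : 0 < n) {A : Subgroup Q}
    (s : SU n F q) : (PJ.ofModel m hn).φ s ∈ A ↔ toGL n F q s ∈ m.hat A :=
  (m.mem_hat_iff (toS n F q s)).symm

/-- maximality -/
theorem PJ.comap_eq (P : PJ Q n F q) {A : Subgroup Q} (hA : IsCoatom A) {M : Subgroup (SU n F q)}
    (hAM : A.comap P.φ ≤ M) (hM : M ≠ ⊤) : A.comap P.φ = M := by
  have hker : P.φ.ker ≤ M := le_trans (by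
    intro s hs
    rw [MonoidHom.mem_ker] at hs
    show P.φ s ∈ A
    rw [hs]
    exact A.one_mem) hAM
  have h1 : (M.map P.φ).comap P.φ = M := by
    rw [Subgroup.comap_map_eq, sup_eq_left.2 hker]
  have h2 : A ≤ M.map P.φ := by
    rw [← Subgroup.map_comap_eq_self_of_surjective P.surj A]
    exact Subgroup.map_mono hAM
  by_cases h3 : A = M.map P.φ
  · rw [h3, h1]
  · exfalso
    have h4 := hA.2 _ (lt_of_le_of_ne h2 h3)
    apply hM
    rw [← h1, h4, Subgroup.comap_top]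

end proj

end Cfsg.Agent.H380.EPU
end

-- part: H558/EPU/Main
section
prune_inst 0x3140490021c010000000058491201c228200000000080800800000000480844800028820b21000015200000440340068135c04804040000004000400013807891080040010000000800000000000000000000000000000000000000000000000200400000
set_option linter.all false
open scoped Cfsg.Agent.FastGrp

-- part: H558/EPU/Choice
section
/-!
# S3499, row SU-C3: the choice of the isotropic vector (helper558)

`L/F` of prime degree `r ≥ 3`, `σ` an involution of `L` inducing `x ↦ x ^ q` on `F`, `φ` a functional with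
`φ (σ x) = φ (x) ^ q`: a `κ ≠ 0` with `φ (κ σ κ) = 0` such that no nontrivial automorphism `τ` of `L/F` satisfies
`φ (κ σ κ τ k) = φ (κ σ κ k)` for all `k`.
-/

set_option autoImplicit false
set_option linter.unusedSectionVars false

namespace Cfsg.Agent.H558.EPU

open Module Cfsg.Agent.LieClassical.HermBasic

section choice

variable {F L : Type*} [Field F] [Fintype F] [Field L] [Finite L] [Algebra F L] [FiniteDimensional F L] {q r : ℕ}
  (hF : Fintype.card F = q ^ 2) (hr : r.Prime) (hr3 : 3 ≤ r) (hfr : finrank F L = r)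
  (σ : L ≃+* L) (hσ2 : ∀ a, σ (σ a) = a) (hσF : ∀ a : F, σ (algebraMap F L a) = algebraMap F L (a ^ q))
  (φ : L →ₗ[F] F) (hφ1 : φ 1 ≠ 0) (hφ : ∀ x, φ (σ x) = (φ x) ^ q)

/-- the invariant elements -/
def invS (φ : L →ₗ[F] F) : Submodule F L where
  carrier := {c | ∀ τ : L ≃ₐ[F] L, ∀ k, φ (c * τ k) = φ (c * k)}
  add_mem' {a b} ha hb τ k := by rw [add_mul, add_mul, map_add, map_add, ha, hb]
  zero_mem' τ k := by rw [zero_mul, zero_mul]
  smul_mem' c a ha τ k := by rw [smul_mul_assoc, smul_mul_assoc, map_smul, map_smul, ha]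

include hφ1 in
omit [Fintype F] [Finite L] [FiniteDimensional F L] in
theorem eq_zero_of_forall {a : L} (h : ∀ l, φ (a * l) = 0) : a = 0 := by
  by_contra h0
  apply hφ1
  rw [← mul_inv_cancel₀ h0]
  exact h _

include hφ1 in
theorem finrank_invS : finrank F (invS φ) ≤ 1 := by
  by_cases h0 : invS φ = ⊥
  · rw [h0, finrank_bot]
    exact zero_le_one
  obtain ⟨c, hc, hc0⟩ := Submodule.exists_mem_ne_zero_of_ne_bot h0
  refine finrank_le_one (⟨c, hc⟩ : invS φ) ?_
  rintro ⟨d, hd⟩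
  have hgal : IsGalois F L := inferInstance
  have h1 : d * c⁻¹ ∈ Set.range (algebraMap F L) := by
    rw [IsGalois.mem_range_algebraMap_iff_fixed]
    intro τ
    have h2 : c * (d * c⁻¹ - τ (d * c⁻¹)) = 0 := by
      apply eq_zero_of_forall φ hφ1
      intro l
      obtain ⟨k, rfl⟩ := τ.surjective l
      have h3 := hd τ k
      have h4 := hc τ ((d * c⁻¹) * k)
      have e1 : c * ((d * c⁻¹) * k) = d * k := by field_simp
      rw [e1, map_mul τ, ← h3] at h4
      have e2 : c * (d * c⁻¹ - τ (d * c⁻¹)) * τ k = d * τ k - c * (τ (d * c⁻¹) * τ k) := by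
        field_simp
      rw [e2, map_sub, h4, sub_self]
    rcases mul_eq_zero.1 h2 with h3 | h3
    · exact absurd h3 hc0
    · exact (sub_eq_zero.1 h3).symm
  obtain ⟨a, ha⟩ := h1
  refine ⟨a, Subtype.ext ?_⟩
  show a • c = d
  rw [Algebra.smul_def, ha, inv_mul_cancel_right₀ hc0]

include hr hfr in
theorem mem_invS_of {c : L} {τ : L ≃ₐ[F] L} (hτ : τ ≠ 1) (h : ∀ k, φ (c * τ k) = φ (c * k)) : c ∈ invS φ := by
  have hgal : IsGalois F L := inferInstance
  have hcard : Nat.card (L ≃ₐ[F] L) = r := by rw [IsGalois.card_aut_eq_finrank, hfr]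
  have : Fact r.Prime := ⟨hr⟩
  intro τ' k
  have h1 : τ' ∈ Subgroup.zpowers τ := mem_zpowers_of_prime_card hcard hτ
  have hf : Finite (L ≃ₐ[F] L) := Nat.finite_of_card_ne_zero (by rw [hcard]; exact hr.ne_zero)
  rw [← mem_powers_iff_mem_zpowers] at h1
  obtain ⟨j, rfl⟩ := h1
  show φ (c * (τ ^ j) k) = φ (c * k)
  induction j generalizing k with
  | zero => rw [pow_zero, AlgEquiv.one_apply]
  | succ j ih => rw [pow_succ, AlgEquiv.mul_apply, ih, h]

include hF hr hr3 hfr hσ2 hσF hφ1 hφ in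
/-- **the choice** -/
theorem exists_choice : ∃ κ : L, κ ≠ 0 ∧ φ (κ * σ κ) = 0 ∧
    ∀ τ : L ≃ₐ[F] L, (∀ k, φ (κ * σ κ * τ k) = φ (κ * σ κ * k)) → τ = 1 := by
  have hσ1 : σ ≠ RingEquiv.refl L := by
    intro h
    obtain ⟨c, hc⟩ := exists_not_fixed hF
    apply hc
    apply (algebraMap F L).injective
    rw [← hσF, h]
    rfl
  obtain ⟨c, hcσ, hc0, hcI⟩ : ∃ c : L, σ c = c ∧ φ c = 0 ∧ c ∉ invS φ := by
    by_contra hcon
    push Not at hcon
    obtain ⟨ζ, hζ⟩ := exists_not_fixed hF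
    have hζ' : ζ - ζ ^ q ≠ 0 := fun e => hζ (sub_eq_zero.1 e).symm
    have hle : LinearMap.ker φ ≤ invS φ := by
      intro c hc
      rw [LinearMap.mem_ker] at hc
      obtain ⟨b, hb⟩ : ∃ b, b = (ζ - ζ ^ q)⁻¹ • (c - σ c) := ⟨_, rfl⟩
      have hζζ : (ζ - ζ ^ q) ^ q = -(ζ - ζ ^ q) := by
        rw [sub_pow_q hF, pow_q_pow_q hF]
        ring
      have hσb : σ b = b := by
        rw [hb, Algebra.smul_def, map_mul, hσF, map_sub, hσ2, inv_pow, hζζ, inv_neg, map_neg]
        ring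
      have hσa : σ (c - ζ • b) = c - ζ • b := by
        have e1 : c - σ c = (ζ - ζ ^ q) • b := by
          rw [hb, smul_smul, mul_inv_cancel₀ hζ', one_smul]
        rw [map_sub, Algebra.smul_def, map_mul, hσF, hσb, ← Algebra.smul_def, ← Algebra.smul_def]
        rw [sub_smul] at e1
        linear_combination (exp := 1) -e1
      have hφb0 : (φ b) ^ q = φ b := by rw [← hφ, hσb]
      have hφa0 : (φ (c - ζ • b)) ^ q = φ (c - ζ • b) := by rw [← hφ, hσa]
      have e2 : φ (c - ζ • b) = -(ζ * φ b) := by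
        rw [map_sub, hc, map_smul, smul_eq_mul, zero_sub]
      have hφb : φ b = 0 := by
        rw [e2, neg_pow_q hF, mul_pow, hφb0, neg_inj] at hφa0
        have : (ζ - ζ ^ q) * φ b = 0 := by linear_combination -hφa0
        exact (mul_eq_zero.1 this).resolve_left hζ'
      have hφa : φ (c - ζ • b) = 0 := by rw [e2, hφb, mul_zero, neg_zero]
      have e3 : c = (c - ζ • b) + ζ • b := (sub_add_cancel _ _).symm
      rw [e3]
      exact (invS φ).add_mem (hcon _ hσa hφa) ((invS φ).smul_mem ζ (hcon _ hσb hφb))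
    have h1 := Submodule.finrank_mono hle
    have h2 := finrank_invS φ hφ1
    have h3 := LinearMap.finrank_range_add_finrank_ker φ
    have h4 : finrank F (LinearMap.range φ) ≤ 1 := by
      have := Submodule.finrank_le (LinearMap.range φ)
      rwa [finrank_self] at this
    omega
  obtain ⟨κ, hκ⟩ := Cfsg.Agent.H914.exists_mul_sigma_eq hσ1 hσ2 hcσ
  refine ⟨κ, ?_, by rw [hκ]; exact hc0, ?_⟩
  · rintro rfl
    rw [zero_mul] at hκ
    rw [← hκ] at hcI
    exact hcI (invS φ).zero_mem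
  · intro τ hτ
    by_contra h1
    rw [hκ] at hτ
    exact hcI (mem_invS_of hr hfr φ h1 hτ)

end choice

end Cfsg.Agent.H558.EPU
end

-- part: H558/EPU/Norm1
section
/-!
# S3499, row SU-C3: elements of the normaliser of a field subalgebra close to `1` (helper558)

`eq_one_of_rank`: `h` normalising `K`, `rank (h - 1) ≤ d`, `2 d < n`, `d < r`: `h = 1`.
-/

set_option autoImplicit false
set_option linter.unusedSectionVars false

namespace Cfsg.Agent.H558.EPU

open Cfsg Cfsg.Geo Matrix Module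
open scoped MatrixGroups

section rank

theorem rank_sub_le2 {ι : Type*} [Fintype ι] [DecidableEq ι] {F : Type*} [Field F] (A B : Matrix ι ι F) :
    (A - B).rank ≤ A.rank + B.rank := by
  have h1 : LinearMap.range (A - B).mulVecLin ≤ LinearMap.range A.mulVecLin ⊔ LinearMap.range B.mulVecLin := by
    rintro _ ⟨v, rfl⟩
    rw [Matrix.mulVecLin_apply, Matrix.sub_mulVec, sub_eq_add_neg]
    exact Submodule.add_mem_sup ⟨v, rfl⟩ (Submodule.neg_mem _ ⟨v, rfl⟩)
  exact (Submodule.finrank_mono h1).trans (Submodule.finrank_add_le_finrank_add_finrank _ _)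

theorem rank_one_le {ι : Type*} [Fintype ι] [DecidableEq ι] {F : Type*} [Field F] (v w : ι → F) :
    (Matrix.vecMulVec v w).rank ≤ 1 := Matrix.rank_vecMulVec_le v w

/-- the rank of a commutator minus `1` -/
theorem rank_comm_sub_one {ι : Type} [Fintype ι] [DecidableEq ι] {F : Type*} [Field F] (x g : GL ι F) :
    (((g⁻¹ * (x⁻¹ * g * x) : GL ι F) : Matrix ι ι F) - 1).rank ≤ 2 * ((x : Matrix ι ι F) - 1).rank := by
  obtain ⟨X, hX⟩ : ∃ X, X = (x : Matrix ι ι F) - 1 := ⟨_, rfl⟩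
  obtain ⟨g', hg'⟩ : ∃ g' : Matrix ι ι F, g' = ((g⁻¹ : GL ι F) : Matrix ι ι F) := ⟨_, rfl⟩
  obtain ⟨x', hx'⟩ : ∃ x' : Matrix ι ι F, x' = ((x⁻¹ : GL ι F) : Matrix ι ι F) := ⟨_, rfl⟩
  have hgg : g' * (g : Matrix ι ι F) = 1 := by rw [hg', ← Units.val_mul, inv_mul_cancel, Units.val_one]
  have hxx : x' * (x : Matrix ι ι F) = 1 := by rw [hx', ← Units.val_mul, inv_mul_cancel, Units.val_one]
  have e : ((g⁻¹ * (x⁻¹ * g * x) : GL ι F) : Matrix ι ι F) - 1 = (g' * x') * (g * X) - (g' * x') * (X * g) := by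
    rw [← mul_sub, Units.val_mul, Units.val_mul, Units.val_mul, ← hg', ← hx', hX]
    have e1 : (g : Matrix ι ι F) * ((x : Matrix ι ι F) - 1) - ((x : Matrix ι ι F) - 1) * g =
        (g : Matrix ι ι F) * x - x * g := by noncomm_ring
    rw [e1, mul_sub]
    have e2 : g' * x' * ((x : Matrix ι ι F) * (g : Matrix ι ι F)) = 1 := by
      rw [mul_assoc, ← mul_assoc x', hxx, one_mul, hgg]
    rw [e2]
    simp only [mul_assoc]
  rw [e, ← hX]
  refine (rank_sub_le2 _ _).trans ?_
  have h1 := (Matrix.rank_mul_le_right (g' * x') ((g : Matrix ι ι F) * X)).trans (Matrix.rank_mul_le_right _ _)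
  have h2 := (Matrix.rank_mul_le_right (g' * x') (X * (g : Matrix ι ι F))).trans (Matrix.rank_mul_le_left _ _)
  omega

variable {F : Type*} [Field F] {n r : ℕ} {K : Subalgebra F (Matrix (Fin n) (Fin n) F)} (hK : IsFieldSubalgebra r K)
include hK

theorem isUnit_of_mem {k : Matrix (Fin n) (Fin n) F} (hk : k ∈ K) (h0 : k ≠ 0) : IsUnit k := by
  obtain ⟨y, hy, hy1⟩ := hK.inv k hk h0
  exact ⟨⟨k, y, hy1, by rw [hK.comm _ hy _ hk]; exact hy1⟩, rfl⟩

theorem commute_of_rank {h : GL (Fin n) F} (hN : h ∈ subalgebraNormalizer K) {d : ℕ}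
    (hd : ((h : Matrix (Fin n) (Fin n) F) - 1).rank ≤ d) (h2 : 2 * d < n) :
    ∀ k ∈ K, (h : Matrix (Fin n) (Fin n) F) * k = k * h := by
  intro k hk
  obtain ⟨k', hk'⟩ : ∃ k', k' = (h : Matrix (Fin n) (Fin n) F) * k * ((h⁻¹ : GL (Fin n) F) : Matrix _ _ F) := ⟨_, rfl⟩
  have hk'K : k' ∈ K := by rw [hk']; exact (hN k).1 hk
  have e1 : (h : Matrix (Fin n) (Fin n) F) * k = k' * h := by
    rw [hk', mul_assoc _ _ (h : Matrix (Fin n) (Fin n) F), ← Units.val_mul, inv_mul_cancel, Units.val_one, mul_one]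
  by_cases e0 : k' = k
  · rw [e1, e0]
  · exfalso
    have h3 := isUnit_of_mem hK (K.sub_mem hk'K hk) (sub_ne_zero.2 e0)
    have h4 := Matrix.rank_of_isUnit _ (h3.mul h.isUnit)
    rw [Fintype.card_fin] at h4
    have e2 : (k' - k) * (h : Matrix (Fin n) (Fin n) F) =
        ((h : Matrix (Fin n) (Fin n) F) - 1) * k - k * ((h : Matrix (Fin n) (Fin n) F) - 1) := by
      rw [sub_mul, ← e1]
      noncomm_ring
    rw [e2] at h4
    have h5 := rank_sub_le2 (((h : Matrix (Fin n) (Fin n) F) - 1) * k) (k * ((h : Matrix (Fin n) (Fin n) F) - 1))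
    have h6 := Matrix.rank_mul_le_left ((h : Matrix (Fin n) (Fin n) F) - 1) k
    have h7 := Matrix.rank_mul_le_right k ((h : Matrix (Fin n) (Fin n) F) - 1)
    omega

theorem eq_one_of_rank {h : GL (Fin n) F} (hN : h ∈ subalgebraNormalizer K) {d : ℕ}
    (hd : ((h : Matrix (Fin n) (Fin n) F) - 1).rank ≤ d) (h2 : 2 * d < n) (h3 : d < r) : h = 1 := by
  have hc := commute_of_rank hK hN hd h2
  by_contra hne
  obtain ⟨v, hv⟩ : ∃ v, ((h : Matrix (Fin n) (Fin n) F) - 1) *ᵥ v ≠ 0 := by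
    by_contra hcon
    push Not at hcon
    apply hne
    apply Units.ext
    rw [Units.val_one, ← sub_eq_zero]
    apply Matrix.mulVec_injective
    funext v
    rw [hcon, Matrix.zero_mulVec]
  have h4 := Cfsg.Agent.H907.finrank_orb K (fun x hx h0 => isUnit_of_mem hK hx h0) hv
  have h5 : Cfsg.Agent.H907.orb K (((h : Matrix (Fin n) (Fin n) F) - 1) *ᵥ v) ≤
      LinearMap.range ((h : Matrix (Fin n) (Fin n) F) - 1).mulVecLin := by
    intro w hw
    obtain ⟨k, hk, rfl⟩ := (Cfsg.Agent.H907.mem_orb K).1 hw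
    refine ⟨k *ᵥ v, ?_⟩
    rw [Matrix.mulVecLin_apply, Matrix.mulVec_mulVec, Matrix.mulVec_mulVec, sub_mul, mul_sub, hc k hk, one_mul, mul_one]
  have h6 := Submodule.finrank_mono h5
  rw [h4, hK.finrank_eq] at h6
  have h7 : finrank F (LinearMap.range ((h : Matrix (Fin n) (Fin n) F) - 1).mulVecLin) ≤ d := hd
  omega

end rank

end Cfsg.Agent.H558.EPU
end

-- part: H558/EPU/Comm
section
/-!
# S3499, row SU-C3: centralisers of transvections in the normaliser of a field subalgebra (helper558)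

* `comm_tv_iff`: `y ∈ GU` commutes with `tv u a` iff `y u = λ u`, `λ λ^q = 1`;
* `exists_u`: an isotropic `u` such that `y ∈ GU` normalising `K` with `y u = λ u`, `λ λ^q = 1`, commutes with `K`.
-/

set_option autoImplicit false
set_option linter.unusedSectionVars false

namespace Cfsg.Agent.H558.EPU

open Cfsg Cfsg.Geo Matrix Module Cfsg.Agent.LieClassical.HermBasic Cfsg.Agent.H907 Cfsg.Agent.H918
open scoped MatrixGroups

theorem ext_mv {F : Type*} [Field F] {n : ℕ} {A B : Matrix (Fin n) (Fin n) F} (h : ∀ x, A *ᵥ x = B *ᵥ x) : A = B :=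
  Matrix.mulVec_injective (funext h)

section comm

variable {F : Type*} [Field F] [Fintype F] {n q : ℕ} (hF : Fintype.card F = q ^ 2)

include hF

theorem comm_tv_iff {y : GL (Fin n) F} (hy : y ∈ Cfsg.GU n F q) {u : Fin n → F} (hu0 : u ≠ 0) {a : F}
    (hu : hermForm n F q u u = 0) (ha : a + a ^ q = 0) (ha0 : a ≠ 0) :
    y * tv hF u a hu ha = tv hF u a hu ha * y ↔
      ∃ lam : F, lam * lam ^ q = 1 ∧ (y : Matrix (Fin n) (Fin n) F) *ᵥ u = lam • u := by
  obtain ⟨v, hv⟩ := exists_herm_ne_zero hF hu0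
  have hv' : hermForm n F q v u ≠ 0 := fun e => hv (herm_eq_zero_swap hF e)
  constructor
  · intro h
    have h1 := congrArg (fun z : GL (Fin n) F => (z : Matrix (Fin n) (Fin n) F) *ᵥ v) h
    simp only [Units.val_mul] at h1
    rw [← Matrix.mulVec_mulVec, ← Matrix.mulVec_mulVec, tv_mulVec, tv_mulVec, Matrix.mulVec_add, Matrix.mulVec_smul]
      at h1
    have h2 := add_left_cancel h1
    have h3 : (y : Matrix (Fin n) (Fin n) F) *ᵥ u =
        (hermForm n F q ((y : Matrix (Fin n) (Fin n) F) *ᵥ v) u / hermForm n F q v u) • u := by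
      have h4 := congrArg (fun z => (a * hermForm n F q v u)⁻¹ • z) h2
      simp only [smul_smul] at h4
      rw [inv_mul_cancel₀ (mul_ne_zero ha0 hv'), one_smul] at h4
      rw [h4]
      congr 1
      field_simp
    refine ⟨_, ?_, h3⟩
    obtain ⟨lam, hlam⟩ : ∃ lam, lam = hermForm n F q ((y : Matrix (Fin n) (Fin n) F) *ᵥ v) u / hermForm n F q v u :=
      ⟨_, rfl⟩
    rw [← hlam] at h3 ⊢
    have h5 : hermForm n F q ((y : Matrix (Fin n) (Fin n) F) *ᵥ v) u = lam * hermForm n F q v u := by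
      rw [hlam, div_mul_cancel₀ _ hv']
    have h6 := H918.mem_GU.1 hy v u
    rw [h3, herm_smul_right, h5] at h6
    have h7 : (lam * lam ^ q - 1) * hermForm n F q v u = 0 := by linear_combination h6
    exact sub_eq_zero.1 ((mul_eq_zero.1 h7).resolve_right hv')
  · rintro ⟨lam, hlam, h⟩
    apply Units.ext
    apply ext_mv
    intro x
    rw [Units.val_mul, Units.val_mul, ← Matrix.mulVec_mulVec, ← Matrix.mulVec_mulVec, tv_mulVec, tv_mulVec,
      Matrix.mulVec_add, Matrix.mulVec_smul, h, smul_smul]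
    congr 2
    have h6 := H918.mem_GU.1 hy x u
    rw [h, herm_smul_right] at h6
    rw [← h6]
    linear_combination a * hermForm n F q ((y : Matrix (Fin n) (Fin n) F) *ᵥ x) u * hlam

end comm

section adj

variable {F : Type*} [Field F] [Fintype F] {n q r : ℕ} (hF : Fintype.card F = q ^ 2)
  {K : Subalgebra F (Matrix (Fin n) (Fin n) F)} (hK : IsFieldSubalgebra r K)
  (hadj : IsAdjointClosedFor (hermForm n F q) K)

/-- the adjoint on `K` -/
def ctK (hF : Fintype.card F = q ^ 2) (hK : IsFieldSubalgebra r K) (hadj : IsAdjointClosedFor (hermForm n F q) K) :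
    K ≃+* K where
  toFun := fun x => ⟨ct q (x : Matrix (Fin n) (Fin n) F), ct_mem hF hadj x.2⟩
  invFun := fun x => ⟨ct q (x : Matrix (Fin n) (Fin n) F), ct_mem hF hadj x.2⟩
  left_inv := fun x => Subtype.ext (ct_ct hF _)
  right_inv := fun x => Subtype.ext (ct_ct hF _)
  map_mul' := fun x y => Subtype.ext (by
    show ct q ((x : Matrix (Fin n) (Fin n) F) * (y : Matrix (Fin n) (Fin n) F)) =
      ct q (x : Matrix (Fin n) (Fin n) F) * ct q (y : Matrix (Fin n) (Fin n) F)
    rw [hK.comm _ x.2 _ y.2, ct_mul hF])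
  map_add' := fun x y => Subtype.ext (ct_add hF _ _)

theorem ctK_coe (x : K) : ((ctK hF hK hadj x : K) : Matrix (Fin n) (Fin n) F) = ct q (x : Matrix (Fin n) (Fin n) F) :=
  rfl

/-- the functional `k ↦ f(k w, w)` -/
def phiK (q : ℕ) (K : Subalgebra F (Matrix (Fin n) (Fin n) F)) (w : Fin n → F) : K →ₗ[F] F where
  toFun := fun k => hermForm n F q ((k : Matrix (Fin n) (Fin n) F) *ᵥ w) w
  map_add' := fun a b => by
    rw [Subalgebra.coe_add, Matrix.add_mulVec, herm_add_left]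
  map_smul' := fun c a => by
    rw [Subalgebra.coe_smul, Matrix.smul_mulVec, herm_smul_left, RingHom.id_apply, smul_eq_mul]

theorem phiK_apply (w : Fin n → F) (k : K) :
    phiK q K w k = hermForm n F q ((k : Matrix (Fin n) (Fin n) F) *ᵥ w) w := rfl

include hF in
theorem phiK_ct (w : Fin n → F) (k : K) : phiK q K w (ctK hF hK hadj k) = (phiK q K w k) ^ q := by
  rw [phiK_apply, phiK_apply, ctK_coe, ← herm_swap hF, herm_ct hF, ct_ct hF]

include hF hK hadj in
/-- **the vector `u`** -/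
theorem exists_u (hn : 0 < n) (hr : r.Prime) (hr3 : 3 ≤ r) :
    ∃ u : Fin n → F, u ≠ 0 ∧ hermForm n F q u u = 0 ∧
      (∃ k ∈ K, hermForm n F q (k *ᵥ u) u ≠ 0) ∧
      ∀ y ∈ subalgebraNormalizer K, y ∈ Cfsg.GU n F q → ∀ lam : F, lam * lam ^ q = 1 →
        (y : Matrix (Fin n) (Fin n) F) *ᵥ u = lam • u → ∀ k ∈ K, (y : Matrix (Fin n) (Fin n) F) * k = k * y := by
  have : Nonempty (Fin n) := ⟨⟨0, hn⟩⟩
  let _ : Field K := (isField_of hK).toField
  have hfin : Finite K := Module.finite_of_finite F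
  obtain ⟨e0, he0⟩ : ∃ e0 : Fin n → F, e0 = Pi.single ⟨0, hn⟩ 1 := ⟨_, rfl⟩
  have hφ1 : phiK q K e0 1 ≠ 0 := by
    rw [phiK_apply, Subalgebra.coe_one, Matrix.one_mulVec, he0, herm_single_left, Pi.single_eq_same, one_pow,
      one_mul]
    exact one_ne_zero
  obtain ⟨κ, hκ0, hκ1, hκ2⟩ := exists_choice hF hr hr3 hK.finrank_eq (ctK hF hK hadj)
    (fun a => Subtype.ext (ct_ct hF _)) (fun a => Subtype.ext (by
      rw [ctK_coe]
      show ct q (algebraMap F (Matrix (Fin n) (Fin n) F) a) = algebraMap F (Matrix (Fin n) (Fin n) F) (a ^ q)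
      rw [Algebra.algebraMap_eq_smul_one, Algebra.algebraMap_eq_smul_one, ct_smul_one hF])) (phiK q K e0) hφ1
      (phiK_ct hF hK hadj e0)
  have key : ∀ k : K, hermForm n F q ((k : Matrix (Fin n) (Fin n) F) *ᵥ ((κ : Matrix (Fin n) (Fin n) F) *ᵥ e0))
      ((κ : Matrix (Fin n) (Fin n) F) *ᵥ e0) = phiK q K e0 (κ * ctK hF hK hadj κ * k) := by
    intro k
    have e1 : hermForm n F q ((k : Matrix (Fin n) (Fin n) F) *ᵥ ((κ : Matrix (Fin n) (Fin n) F) *ᵥ e0))
      ((κ : Matrix (Fin n) (Fin n) F) *ᵥ e0) =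
      hermForm n F q (ct q (κ : Matrix (Fin n) (Fin n) F) *ᵥ ((k : Matrix (Fin n) (Fin n) F) *ᵥ
        ((κ : Matrix (Fin n) (Fin n) F) *ᵥ e0))) e0 := by
      conv_rhs => rw [herm_ct hF, ct_ct hF]
    rw [e1, Matrix.mulVec_mulVec, Matrix.mulVec_mulVec, phiK_apply]
    have e2 : κ * ctK hF hK hadj κ * k = ctK hF hK hadj κ * k * κ := by ring
    rw [e2]
    rfl
  refine ⟨(κ : Matrix (Fin n) (Fin n) F) *ᵥ e0, ?_, ?_, ?_, ?_⟩
  · intro h0
    apply hφ1
    have e1 : (κ⁻¹ * κ : K) = 1 := inv_mul_cancel₀ hκ0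
    have e2 : ((κ⁻¹ : K) : Matrix (Fin n) (Fin n) F) * (κ : Matrix (Fin n) (Fin n) F) = 1 := congrArg Subtype.val e1
    have e3 : e0 = 0 := by
      rw [← Matrix.one_mulVec e0, ← e2, ← Matrix.mulVec_mulVec, h0, Matrix.mulVec_zero]
    rw [phiK_apply, e3, Matrix.mulVec_zero, herm_zero_left]
  · have h1 := key 1
    rw [Subalgebra.coe_one, Matrix.one_mulVec, mul_one, hκ1] at h1
    exact h1
  · by_contra hcon
    push Not at hcon
    apply hκ0
    have h1 : κ * ctK hF hK hadj κ = 0 := by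
      apply eq_zero_of_forall _ hφ1
      intro l
      rw [← key]
      exact hcon l l.2
    rcases mul_eq_zero.1 h1 with h2 | h2
    · exact h2
    · exact (map_eq_zero_iff _ (ctK hF hK hadj).injective).1 h2
  · intro y hyN hyG lam hlam hyu
    have hN : H912.NormAlg (subalgebraNormalizer K) K := fun _ hh a ha => (hh a).mp ha
    have h1 := hκ2 (H912.conjSub hN ⟨y, hyN⟩) (by
      intro k
      rw [← key, ← key, H912.conjSub_coe]
      have hlam0 : lam ≠ 0 := by
        rintro rfl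
        rw [zero_mul] at hlam
        exact zero_ne_one hlam
      obtain ⟨y', hy'⟩ : ∃ y', y' = ((y⁻¹ : GL (Fin n) F) : Matrix (Fin n) (Fin n) F) := ⟨_, rfl⟩
      have hyy : y' * (y : Matrix (Fin n) (Fin n) F) = 1 := by rw [hy', ← Units.val_mul, inv_mul_cancel, Units.val_one]
      have hyy2 : (y : Matrix (Fin n) (Fin n) F) * y' = 1 := by rw [hy', ← Units.val_mul, mul_inv_cancel, Units.val_one]
      have hy'u : y' *ᵥ ((κ : Matrix (Fin n) (Fin n) F) *ᵥ e0) = lam⁻¹ • ((κ : Matrix (Fin n) (Fin n) F) *ᵥ e0) := by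
        have e1 : (κ : Matrix (Fin n) (Fin n) F) *ᵥ e0 = lam⁻¹ • ((y : Matrix (Fin n) (Fin n) F) *ᵥ
            ((κ : Matrix (Fin n) (Fin n) F) *ᵥ e0)) := by
          rw [hyu, smul_smul, inv_mul_cancel₀ hlam0, one_smul]
        conv_lhs => rw [e1]
        rw [Matrix.mulVec_smul, Matrix.mulVec_mulVec, hyy, Matrix.one_mulVec]
      show hermForm n F q (((y : Matrix (Fin n) (Fin n) F) * (k : Matrix (Fin n) (Fin n) F) *
        ((y⁻¹ : GL (Fin n) F) : Matrix (Fin n) (Fin n) F)) *ᵥ ((κ : Matrix (Fin n) (Fin n) F) *ᵥ e0)) _ = _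
      rw [← hy', ← Matrix.mulVec_mulVec, ← Matrix.mulVec_mulVec, hy'u, Matrix.mulVec_smul, Matrix.mulVec_smul,
        herm_smul_left]
      have e2 : hermForm n F q ((y : Matrix (Fin n) (Fin n) F) *ᵥ ((k : Matrix (Fin n) (Fin n) F) *ᵥ
          ((κ : Matrix (Fin n) (Fin n) F) *ᵥ e0))) ((κ : Matrix (Fin n) (Fin n) F) *ᵥ e0) =
          lam * hermForm n F q ((k : Matrix (Fin n) (Fin n) F) *ᵥ
          ((κ : Matrix (Fin n) (Fin n) F) *ᵥ e0)) ((κ : Matrix (Fin n) (Fin n) F) *ᵥ e0) := by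
        have e3 := H918.mem_GU.1 hyG ((k : Matrix (Fin n) (Fin n) F) *ᵥ ((κ : Matrix (Fin n) (Fin n) F) *ᵥ e0))
          ((κ : Matrix (Fin n) (Fin n) F) *ᵥ e0)
        rw [← e3, hyu, herm_smul_right]
        linear_combination (-hermForm n F q ((y : Matrix (Fin n) (Fin n) F) *ᵥ ((k : Matrix (Fin n) (Fin n) F) *ᵥ
          ((κ : Matrix (Fin n) (Fin n) F) *ᵥ e0))) ((κ : Matrix (Fin n) (Fin n) F) *ᵥ e0)) * hlam
      rw [e2, ← mul_assoc, inv_mul_cancel₀ hlam0, one_mul])
    intro k hk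
    have h2 := H912.conjSub_coe hN ⟨y, hyN⟩ ⟨k, hk⟩
    rw [h1] at h2
    have h3 : k = (y : Matrix (Fin n) (Fin n) F) * k * ((y⁻¹ : GL (Fin n) F) : Matrix (Fin n) (Fin n) F) := h2
    conv_rhs => rw [h3]
    rw [mul_assoc, ← Units.val_mul, inv_mul_cancel, Units.val_one, mul_one]

end adj

end Cfsg.Agent.H558.EPU
end

-- part: H558/EPU/Elem
section
/-!
# S3499, row SU-C3: `K`-linear isometries of determinant one (helper558)

`exists_elem`: for `n > r` and `w` with `f(k w, w) ≠ 0` for some `k ∈ K`, there is `g ∈ GU` of determinant one commuting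
with `K` and `k ∈ K` with `g w = k w` and `k w` not a multiple of `w`.
-/

set_option autoImplicit false
set_option linter.unusedSectionVars false

namespace Cfsg.Agent.H558.EPU

open Cfsg Cfsg.Geo Matrix Module Cfsg.Agent.LieClassical.HermBasic Cfsg.Agent.H907 Cfsg.Agent.H918
open scoped MatrixGroups

section normone

variable {F L : Type*} [Field F] [Fintype F] [Field L] [Algebra F L] [FiniteDimensional F L] {q r : ℕ}
  (hF : Fintype.card F = q ^ 2) (hfr : 2 ≤ finrank F L)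
  (σ : L ≃+* L) (hσ2 : ∀ a, σ (σ a) = a) (hσF : ∀ a : F, σ (algebraMap F L a) = algebraMap F L (a ^ q))

include hF hfr hσ2 hσF in
theorem exists_norm_one : ∃ k : L, σ k * k = 1 ∧ k ∉ Set.range (algebraMap F L) := by
  obtain ⟨s0, hs0⟩ : ∃ s0 : L, s0 ∉ Set.range (algebraMap F L) := by
    by_contra hcon
    push Not at hcon
    have h1 : finrank F L ≤ 1 := finrank_le_one (1 : L) (by
      intro w
      obtain ⟨c, hc⟩ := hcon w
      exact ⟨c, by rw [← hc, Algebra.smul_def, mul_one]⟩)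
    omega
  obtain ⟨ζ, hζ⟩ := exists_not_fixed hF
  have hζ' : ζ - ζ ^ q ≠ 0 := fun e => hζ (sub_eq_zero.1 e).symm
  obtain ⟨a, haσ, haF⟩ : ∃ a : L, σ a = a ∧ a ∉ Set.range (algebraMap F L) := by
    by_contra hcon
    push Not at hcon
    apply hs0
    obtain ⟨b, hb⟩ : ∃ b, b = (ζ - ζ ^ q)⁻¹ • (s0 - σ s0) := ⟨_, rfl⟩
    have hζζ : (ζ - ζ ^ q) ^ q = -(ζ - ζ ^ q) := by
      rw [sub_pow_q hF, pow_q_pow_q hF]
      ring
    have hσb : σ b = b := by
      rw [hb, Algebra.smul_def, map_mul, hσF, map_sub, hσ2, inv_pow, hζζ, inv_neg, map_neg]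
      ring
    have hσa : σ (s0 - ζ • b) = s0 - ζ • b := by
      have e1 : s0 - σ s0 = (ζ - ζ ^ q) • b := by
        rw [hb, smul_smul, mul_inv_cancel₀ hζ', one_smul]
      rw [map_sub, Algebra.smul_def, map_mul, hσF, hσb, ← Algebra.smul_def, ← Algebra.smul_def]
      rw [sub_smul] at e1
      linear_combination (exp := 1) -e1
    obtain ⟨β, hβ⟩ := hcon b hσb
    obtain ⟨α, hα⟩ := hcon _ hσa
    refine ⟨α + ζ * β, ?_⟩
    rw [map_add, map_mul, hα, hβ, Algebra.smul_def]
    ring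
  have hs : a + algebraMap F L ζ ≠ 0 := by
    intro h
    apply haF
    exact ⟨-ζ, by rw [map_neg]; exact (eq_neg_of_add_eq_zero_left h).symm⟩
  have hσs : σ (a + algebraMap F L ζ) = a + algebraMap F L (ζ ^ q) := by
    rw [map_add, haσ, hσF]
  have hσs0 : σ (a + algebraMap F L ζ) ≠ 0 := fun e => hs ((map_eq_zero_iff _ σ.injective).1 e)
  refine ⟨(a + algebraMap F L ζ) * (σ (a + algebraMap F L ζ))⁻¹, ?_, ?_⟩
  · rw [map_mul, map_inv₀, hσ2]
    field_simp
  · rintro ⟨c, hc⟩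
    have h1 : a + algebraMap F L ζ = algebraMap F L c * (a + algebraMap F L (ζ ^ q)) := by
      rw [hc, ← hσs, inv_mul_cancel_right₀ hσs0]
    have h2 : algebraMap F L (1 - c) * a = algebraMap F L (c * ζ ^ q - ζ) := by
      rw [map_sub, map_sub, map_mul, map_one]
      linear_combination h1
    by_cases hc1 : c = 1
    · rw [hc1, sub_self, map_zero, zero_mul, one_mul, eq_comm, map_eq_zero_iff _ (algebraMap F L).injective] at h2
      exact hζ (sub_eq_zero.1 h2)
    · apply haF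
      refine ⟨(c * ζ ^ q - ζ) / (1 - c), ?_⟩
      have h3 : algebraMap F L (1 - c) ≠ 0 := by
        rw [Ne, map_eq_zero_iff _ (algebraMap F L).injective, sub_eq_zero]
        exact fun e => hc1 e.symm
      rw [map_div₀, ← h2, mul_div_cancel_left₀ _ h3]

end normone

section H

variable {F : Type*} [Field F] [Fintype F] {n q r : ℕ} (hF : Fintype.card F = q ^ 2)
  {K : Subalgebra F (Matrix (Fin n) (Fin n) F)} (hK : IsFieldSubalgebra r K)
  (hadj : IsAdjointClosedFor (hermForm n F q) K)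

include hK in
/-- coordinates on `K w` -/
theorem exists_H (hn : 0 < n) {w : Fin n → F} (hw : ∃ k ∈ K, hermForm n F q (k *ᵥ w) w ≠ 0) :
    ∃ H : (Fin n → F) →ₗ[F] K,
      (∀ (v : Fin n → F) (l : K), hermForm n F q ((l : Matrix (Fin n) (Fin n) F) *ᵥ v) w = phiK q K w (l * H v)) ∧
      (∀ (l : K) (v : Fin n → F), H ((l : Matrix (Fin n) (Fin n) F) *ᵥ v) = l * H v) ∧ H w = 1 ∧
      ∀ v, (∀ l : K, hermForm n F q ((l : Matrix (Fin n) (Fin n) F) *ᵥ v) w = 0) → H v = 0 := by
  have : Nonempty (Fin n) := ⟨⟨0, hn⟩⟩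
  let _ : Field K := (isField_of hK).toField
  let B : K →ₗ[F] (K →ₗ[F] F) :=
    { toFun := fun h => (phiK q K w).comp (LinearMap.mulRight F h)
      map_add' := fun a b => by
        ext l
        simp only [LinearMap.comp_apply, LinearMap.mulRight_apply, LinearMap.add_apply, mul_add, map_add]
      map_smul' := fun c a => by
        ext l
        simp only [LinearMap.comp_apply, LinearMap.mulRight_apply, LinearMap.smul_apply, mul_smul_comm, map_smul,
          RingHom.id_apply] }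
  have hB : ∀ h l, B h l = phiK q K w (l * h) := fun _ _ => rfl
  have hinj : Function.Injective B := by
    rw [injective_iff_map_eq_zero]
    intro h hh
    by_contra h0
    obtain ⟨k, hk, hk0⟩ := hw
    apply hk0
    have h1 : B h (⟨k, hk⟩ * h⁻¹) = 0 := by rw [hh]; rfl
    rw [hB, inv_mul_cancel_right₀ h0] at h1
    exact h1
  have hsurj : Function.Surjective B := by
    refine (LinearMap.injective_iff_surjective_of_finrank_eq_finrank ?_).1 hinj
    exact Subspace.dual_finrank_eq.symm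
  let e : K ≃ₗ[F] (K →ₗ[F] F) := LinearEquiv.ofBijective B ⟨hinj, hsurj⟩
  let β : (Fin n → F) →ₗ[F] (K →ₗ[F] F) :=
    { toFun := fun v =>
        { toFun := fun l => hermForm n F q ((l : Matrix (Fin n) (Fin n) F) *ᵥ v) w
          map_add' := fun a b => by rw [Subalgebra.coe_add, Matrix.add_mulVec, herm_add_left]
          map_smul' := fun c a => by
            rw [Subalgebra.coe_smul, Matrix.smul_mulVec, herm_smul_left, RingHom.id_apply, smul_eq_mul] }
      map_add' := fun a b => by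
        ext l
        show hermForm n F q ((l : Matrix (Fin n) (Fin n) F) *ᵥ (a + b)) w = _ + _
        rw [Matrix.mulVec_add, herm_add_left]
        rfl
      map_smul' := fun c a => by
        ext l
        show hermForm n F q ((l : Matrix (Fin n) (Fin n) F) *ᵥ (c • a)) w = c * _
        rw [Matrix.mulVec_smul, herm_smul_left]
        rfl }
  have hβ : ∀ v l, β v l = hermForm n F q ((l : Matrix (Fin n) (Fin n) F) *ᵥ v) w := fun _ _ => rfl
  let H : (Fin n → F) →ₗ[F] K := e.symm.toLinearMap.comp β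
  have h1 : ∀ v, B (H v) = β v := fun v => e.apply_symm_apply (β v)
  have h2 : ∀ (v : Fin n → F) (l : K),
      hermForm n F q ((l : Matrix (Fin n) (Fin n) F) *ᵥ v) w = phiK q K w (l * H v) := by
    intro v l
    rw [← hB, h1, hβ]
  have h3 : ∀ (v : Fin n → F) (h : K), (∀ l : K, hermForm n F q ((l : Matrix (Fin n) (Fin n) F) *ᵥ v) w =
      phiK q K w (l * h)) → H v = h := by
    intro v h hh
    apply hinj
    rw [h1]
    ext l
    rw [hβ, hh, hB]
  refine ⟨H, h2, ?_, ?_, ?_⟩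
  · intro l v
    apply h3
    intro l'
    have e1 := h2 v (l' * l)
    rw [← mul_assoc, ← e1, Matrix.mulVec_mulVec]
    rfl
  · apply h3
    intro l
    rw [mul_one, phiK_apply]
  · intro v hv
    apply h3
    intro l
    rw [hv, mul_zero, map_zero]

include hF hK hadj in
/-- a second vector, perpendicular to `K w` -/
theorem exists_second (hn : r < n) {w : Fin n → F} (hw : ∃ k ∈ K, hermForm n F q (k *ᵥ w) w ≠ 0) :
    ∃ w2 : Fin n → F, (∃ k ∈ K, hermForm n F q (k *ᵥ w2) w2 ≠ 0) ∧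
      ∀ l ∈ K, hermForm n F q (l *ᵥ w2) w = 0 := by
  obtain ⟨H, h1, h2, h3, h4⟩ := exists_H hK (by omega) hw
  by_contra hcon
  push Not at hcon
  -- the kernel of `H` is perpendicular to `K w`
  have hperp : ∀ v, H v = 0 → ∀ l ∈ K, hermForm n F q (l *ᵥ v) w = 0 := by
    intro v hv l hl
    have := h1 v ⟨l, hl⟩
    rw [hv, mul_zero, map_zero] at this
    exact this
  have hself : ∀ v, H v = 0 → hermForm n F q v v = 0 := by
    intro v hv
    by_contra h5
    obtain ⟨l, hl, hl'⟩ := hcon v ⟨1, K.one_mem, by rwa [Matrix.one_mulVec]⟩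
    exact hl' (hperp v hv l hl)
  have hpol : ∀ v v', H v = 0 → H v' = 0 → hermForm n F q v v' = 0 := by
    intro v v' hv hv'
    apply eq_zero_of_forall_trace hF
    intro c
    have h5 := hself (c • v + v') (by rw [map_add, map_smul, hv, hv', smul_zero, add_zero])
    rw [herm_add_left, herm_add_right hF, herm_add_right hF, herm_smul_left, herm_smul_left, herm_smul_right,
      herm_smul_right, hself v hv, hself v' hv', herm_swap hF v v'] at h5
    rw [mul_pow]
    linear_combination h5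
  have hinj : Function.Injective H := by
    rw [injective_iff_map_eq_zero]
    intro v hv
    apply herm_nondeg hF
    intro x
    have e1 : x = ((H x : K) : Matrix (Fin n) (Fin n) F) *ᵥ w + (x - ((H x : K) : Matrix (Fin n) (Fin n) F) *ᵥ w) := by
      abel
    rw [e1, herm_add_right hF]
    have e2 : H (x - ((H x : K) : Matrix (Fin n) (Fin n) F) *ᵥ w) = 0 := by
      rw [map_sub, h2, h3, mul_one, sub_self]
    rw [hpol _ _ hv e2, add_zero]
    have e3 := herm_ct hF (ct q ((H x : K) : Matrix (Fin n) (Fin n) F)) v w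
    rw [ct_ct hF] at e3
    rw [← e3]
    exact hperp v hv _ (ct_mem hF hadj (H x).2)
  have h5 := LinearMap.finrank_le_finrank_of_injective hinj
  rw [hK.finrank_eq, finrank_fintype_fun_eq_card, Fintype.card_fin] at h5
  omega

/-- the matrix of `v ↦ H(v) w'` -/
noncomputable def mt (H : (Fin n → F) →ₗ[F] K) (w' : Fin n → F) : Matrix (Fin n) (Fin n) F :=
  LinearMap.toMatrix' ({ toFun := fun v => ((H v : K) : Matrix (Fin n) (Fin n) F) *ᵥ w'
                         map_add' := fun a b => by rw [map_add, Subalgebra.coe_add, Matrix.add_mulVec]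
                         map_smul' := fun c a => by
                          rw [map_smul, Subalgebra.coe_smul, Matrix.smul_mulVec, RingHom.id_apply] } :
                         (Fin n → F) →ₗ[F] (Fin n → F))

theorem mt_mulVec (H : (Fin n → F) →ₗ[F] K) (w' v : Fin n → F) :
    mt H w' *ᵥ v = ((H v : K) : Matrix (Fin n) (Fin n) F) *ᵥ w' := by
  rw [mt, LinearMap.toMatrix'_mulVec]
  rfl

theorem mt_comm {H : (Fin n → F) →ₗ[F] K}
    (hl : ∀ (l : K) (v : Fin n → F), H ((l : Matrix (Fin n) (Fin n) F) *ᵥ v) = l * H v) (w' : Fin n → F) :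
    ∀ k ∈ K, mt H w' * k = k * mt H w' := by
  intro k hk
  apply ext_mv
  intro v
  rw [← Matrix.mulVec_mulVec, ← Matrix.mulVec_mulVec, mt_mulVec, mt_mulVec, Matrix.mulVec_mulVec]
  have := hl ⟨k, hk⟩ v
  rw [this]
  rfl

theorem mt_mul {H H' : (Fin n → F) →ₗ[F] K}
    (hl : ∀ (l : K) (v : Fin n → F), H ((l : Matrix (Fin n) (Fin n) F) *ᵥ v) = l * H v) {w w'' : Fin n → F}
    (h1 : H w'' = 1) : mt H w * mt H' w'' = mt H' w := by
  apply ext_mv
  intro v
  rw [← Matrix.mulVec_mulVec, mt_mulVec, mt_mulVec, mt_mulVec, hl, h1, mul_one]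

theorem mt_mul_zero {H H' : (Fin n → F) →ₗ[F] K}
    (hl : ∀ (l : K) (v : Fin n → F), H ((l : Matrix (Fin n) (Fin n) F) *ᵥ v) = l * H v) {w w'' : Fin n → F}
    (h1 : H w'' = 0) : mt H w * mt H' w'' = 0 := by
  apply ext_mv
  intro v
  rw [← Matrix.mulVec_mulVec, mt_mulVec, mt_mulVec, hl, h1, mul_zero, Matrix.zero_mulVec, ZeroMemClass.coe_zero,
    Matrix.zero_mulVec]

include hF hK hadj in
theorem mt_ct {H : (Fin n → F) →ₗ[F] K} {w : Fin n → F}
    (h : ∀ (v : Fin n → F) (l : K), hermForm n F q ((l : Matrix (Fin n) (Fin n) F) *ᵥ v) w = phiK q K w (l * H v)) :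
    ct q (mt H w) = mt H w := by
  have key : ∀ u v, hermForm n F q u (((H v : K) : Matrix (Fin n) (Fin n) F) *ᵥ w) =
      phiK q K w (ctK hF hK hadj (H v) * H u) := by
    intro u v
    rw [← h, ctK_coe]
    have e3 := herm_ct hF (ct q ((H v : K) : Matrix (Fin n) (Fin n) F)) u w
    rw [ct_ct hF] at e3
    exact e3.symm
  apply ext_of_herm hF
  intro u v
  rw [← herm_ct hF, mt_mulVec, mt_mulVec, key, herm_swap hF, key, ← phiK_ct hF hK hadj, map_mul]
  have e1 : ctK hF hK hadj (ctK hF hK hadj (H u)) = H u := Subtype.ext (ct_ct hF _)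
  rw [e1]
  congr 1
  exact Subtype.ext (hK.comm _ (H u).2 _ (ctK hF hK hadj (H v)).2)

/-- two orthogonal `K`-lines -/
structure TwoLines (q : ℕ) (K : Subalgebra F (Matrix (Fin n) (Fin n) F)) (w : Fin n → F)
    (P₁ P₂ E E' : Matrix (Fin n) (Fin n) F) : Prop where
  c1 : ∀ k ∈ K, P₁ * k = k * P₁
  c2 : ∀ k ∈ K, P₂ * k = k * P₂
  c3 : ∀ k ∈ K, E' * k = k * E'
  p11 : P₁ * P₁ = P₁
  p22 : P₂ * P₂ = P₂
  p12 : P₁ * P₂ = 0
  p21 : P₂ * P₁ = 0
  e1 : E * E' = P₂
  e2 : E' * E = P₁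
  s1 : ct q P₁ = P₁
  s2 : ct q P₂ = P₂
  w1 : P₁ *ᵥ w = w
  w2 : P₂ *ᵥ w = 0

include hF hK hadj in
theorem exists_twoLines (hn : r < n) {w : Fin n → F} (hw : ∃ k ∈ K, hermForm n F q (k *ᵥ w) w ≠ 0) :
    ∃ P₁ P₂ E E' : Matrix (Fin n) (Fin n) F, TwoLines q K w P₁ P₂ E E' := by
  obtain ⟨w2, hw2, hp⟩ := exists_second hF hK hadj hn hw
  have hp' : ∀ l ∈ K, hermForm n F q (l *ᵥ w) w2 = 0 := by
    intro l hl
    rw [herm_ct hF]
    exact herm_eq_zero_swap hF (hp _ (ct_mem hF hadj hl))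
  obtain ⟨H₁, a1, a2, a3, a4⟩ := exists_H hK (by omega) hw
  obtain ⟨H₂, b1, b2, b3, b4⟩ := exists_H hK (by omega) hw2
  have h12 : H₁ w2 = 0 := a4 _ (fun l => hp l l.2)
  have h21 : H₂ w = 0 := b4 _ (fun l => hp' l l.2)
  exact ⟨mt H₁ w, mt H₂ w2, mt H₁ w2, mt H₂ w,
    { c1 := mt_comm a2 w
      c2 := mt_comm b2 w2
      c3 := mt_comm b2 w
      p11 := mt_mul a2 a3
      p22 := mt_mul b2 b3
      p12 := mt_mul_zero a2 h12
      p21 := mt_mul_zero b2 h21
      e1 := mt_mul a2 a3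
      e2 := mt_mul b2 b3
      s1 := mt_ct hF hK hadj a1
      s2 := mt_ct hF hK hadj b1
      w1 := by rw [mt_mulVec, a3, Subalgebra.coe_one, Matrix.one_mulVec]
      w2 := by rw [mt_mulVec, h21, ZeroMemClass.coe_zero, Matrix.zero_mulVec] }⟩

end H

section G

variable {F : Type*} [Field F] [Fintype F] {n q r : ℕ} {K : Subalgebra F (Matrix (Fin n) (Fin n) F)}
  {w : Fin n → F} {P₁ P₂ E E' : Matrix (Fin n) (Fin n) F}

/-- `a` on the first line, `b` on the second line, `1` on the complement -/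
def Gm (P₁ P₂ a b : Matrix (Fin n) (Fin n) F) : Matrix (Fin n) (Fin n) F := 1 + (a - 1) * P₁ + (b - 1) * P₂

theorem Gm_one : Gm P₁ P₂ (1 : Matrix (Fin n) (Fin n) F) 1 = 1 := by
  rw [Gm, sub_self, zero_mul, zero_mul, add_zero, add_zero]

namespace TwoLines

variable (h : TwoLines q K w P₁ P₂ E E')

include h

theorem Gm_mul {a b c d : Matrix (Fin n) (Fin n) F} (hc : c ∈ K) (hd : d ∈ K) :
    Gm P₁ P₂ a b * Gm P₁ P₂ c d = Gm P₁ P₂ (a * c) (b * d) := by
  have hc1 : P₁ * (c - 1) = (c - 1) * P₁ := h.c1 _ (K.sub_mem hc K.one_mem)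
  have hc2 : P₂ * (c - 1) = (c - 1) * P₂ := h.c2 _ (K.sub_mem hc K.one_mem)
  have hd1 : P₁ * (d - 1) = (d - 1) * P₁ := h.c1 _ (K.sub_mem hd K.one_mem)
  have hd2 : P₂ * (d - 1) = (d - 1) * P₂ := h.c2 _ (K.sub_mem hd K.one_mem)
  have e11 : (a - 1) * P₁ * ((c - 1) * P₁) = (a - 1) * (c - 1) * P₁ := by
    rw [mul_assoc, ← mul_assoc P₁, hc1, mul_assoc (c - 1), h.p11, ← mul_assoc]
  have e12 : (a - 1) * P₁ * ((d - 1) * P₂) = 0 := by
    rw [mul_assoc, ← mul_assoc P₁, hd1, mul_assoc (d - 1), h.p12, mul_zero, mul_zero]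
  have e21 : (b - 1) * P₂ * ((c - 1) * P₁) = 0 := by
    rw [mul_assoc, ← mul_assoc P₂, hc2, mul_assoc (c - 1), h.p21, mul_zero, mul_zero]
  have e22 : (b - 1) * P₂ * ((d - 1) * P₂) = (b - 1) * (d - 1) * P₂ := by
    rw [mul_assoc, ← mul_assoc P₂, hd2, mul_assoc (d - 1), h.p22, ← mul_assoc]
  have e0 : Gm P₁ P₂ a b * Gm P₁ P₂ c d = 1 + (c - 1) * P₁ + (d - 1) * P₂ + (a - 1) * P₁ + (b - 1) * P₂ +
      (a - 1) * P₁ * ((c - 1) * P₁) + (a - 1) * P₁ * ((d - 1) * P₂) + (b - 1) * P₂ * ((c - 1) * P₁) +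
      (b - 1) * P₂ * ((d - 1) * P₂) := by
    unfold Gm
    noncomm_ring
  rw [e0, e11, e12, e21, e22]
  unfold Gm
  noncomm_ring

theorem Gm_comm {a b : Matrix (Fin n) (Fin n) F} (ha : ∀ k ∈ K, a * k = k * a) (hb : ∀ k ∈ K, b * k = k * b)
    {k : Matrix (Fin n) (Fin n) F} (hk : k ∈ K) : Gm P₁ P₂ a b * k = k * Gm P₁ P₂ a b := by
  have e1 : (a - 1) * P₁ * k = k * ((a - 1) * P₁) := by
    rw [mul_assoc, h.c1 k hk, ← mul_assoc, ← mul_assoc]
    congr 1
    rw [sub_mul, mul_sub, ha k hk, one_mul, mul_one]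
  have e2 : (b - 1) * P₂ * k = k * ((b - 1) * P₂) := by
    rw [mul_assoc, h.c2 k hk, ← mul_assoc, ← mul_assoc]
    congr 1
    rw [sub_mul, mul_sub, hb k hk, one_mul, mul_one]
  unfold Gm
  rw [add_mul, add_mul, mul_add, mul_add, one_mul, mul_one, e1, e2]

theorem ct_Gm (hF : Fintype.card F = q ^ 2) {a b : Matrix (Fin n) (Fin n) F} (ha : ct q a ∈ K) (hb : ct q b ∈ K) :
    ct q (Gm P₁ P₂ a b) = Gm P₁ P₂ (ct q a) (ct q b) := by
  have e1 : ct q (a - 1) = ct q a - 1 := by
    have h2 := ct_add hF (a - 1) 1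
    rw [sub_add_cancel, ct_one hF] at h2
    rw [h2, add_sub_cancel_right]
  have e2 : ct q (b - 1) = ct q b - 1 := by
    have h2 := ct_add hF (b - 1) 1
    rw [sub_add_cancel, ct_one hF] at h2
    rw [h2, add_sub_cancel_right]
  unfold Gm
  rw [ct_add hF, ct_add hF, ct_one hF, ct_mul hF, ct_mul hF, h.s1, h.s2, e1, e2, h.c1 _ (K.sub_mem ha K.one_mem),
    h.c2 _ (K.sub_mem hb K.one_mem)]

theorem det_swap {b : Matrix (Fin n) (Fin n) F} (hb : b ∈ K) : (Gm P₁ P₂ 1 b).det = (Gm P₁ P₂ b 1).det := by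
  have e1 : Gm P₁ P₂ 1 b = 1 + ((b - 1) * E) * E' := by
    rw [Gm, sub_self, zero_mul, add_zero, mul_assoc, h.e1]
  have e2 : Gm P₁ P₂ b 1 = 1 + E' * ((b - 1) * E) := by
    rw [Gm, sub_self, zero_mul, add_zero, ← mul_assoc, h.c3 _ (K.sub_mem hb K.one_mem), mul_assoc, h.e2]
  rw [e1, e2, Matrix.det_one_add_mul_comm]

theorem det_Gm {a b : Matrix (Fin n) (Fin n) F} (hb : b ∈ K) (hab : a * b = 1) :
    (Gm P₁ P₂ a b).det = 1 := by
  have e1 : Gm P₁ P₂ a b = Gm P₁ P₂ a 1 * Gm P₁ P₂ 1 b := by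
    rw [h.Gm_mul K.one_mem hb, mul_one, one_mul]
  rw [e1, Matrix.det_mul, h.det_swap hb, ← Matrix.det_mul, h.Gm_mul hb K.one_mem, hab, mul_one, Gm_one,
    Matrix.det_one]

end TwoLines

end G

section elem

variable {F : Type*} [Field F] [Fintype F] {n q r : ℕ} (hF : Fintype.card F = q ^ 2)
  {K : Subalgebra F (Matrix (Fin n) (Fin n) F)} (hK : IsFieldSubalgebra r K)
  (hadj : IsAdjointClosedFor (hermForm n F q) K)

include hF hK hadj in
/-- elements of norm one outside `F` -/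
theorem exists_unit (hn : 0 < n) (hr : 2 ≤ r) : ∃ k ∈ K, ct q k * k = 1 ∧ ∀ c : F, k ≠ c • 1 := by
  have : Nonempty (Fin n) := ⟨⟨0, hn⟩⟩
  let _ : Field K := (isField_of hK).toField
  obtain ⟨k, hk1, hk2⟩ := exists_norm_one hF (by rw [hK.finrank_eq]; exact hr) (ctK hF hK hadj)
    (fun a => Subtype.ext (ct_ct hF _)) (fun a => Subtype.ext (by
      rw [ctK_coe]
      show ct q (algebraMap F (Matrix (Fin n) (Fin n) F) a) = algebraMap F (Matrix (Fin n) (Fin n) F) (a ^ q)
      rw [Algebra.algebraMap_eq_smul_one, Algebra.algebraMap_eq_smul_one, ct_smul_one hF]))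
  refine ⟨k, k.2, congrArg Subtype.val hk1, ?_⟩
  intro c hc
  apply hk2
  refine ⟨c, Subtype.ext ?_⟩
  rw [hc, ← Algebra.algebraMap_eq_smul_one]
  rfl

include hF hK hadj in
/-- **the element `g0`** -/
theorem exists_elem (hn : r < n) (hr : 2 ≤ r) {w : Fin n → F} (hw0 : w ≠ 0)
    (hw : ∃ k ∈ K, hermForm n F q (k *ᵥ w) w ≠ 0) :
    ∃ g : GL (Fin n) F, g ∈ SUg n F q ∧ (∀ k ∈ K, (g : Matrix (Fin n) (Fin n) F) * k = k * g) ∧
      ∃ k ∈ K, (g : Matrix (Fin n) (Fin n) F) *ᵥ w = k *ᵥ w ∧ ∀ c : F, k *ᵥ w ≠ c • w := by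
  obtain ⟨P₁, P₂, E, E', h⟩ := exists_twoLines hF hK hadj hn hw
  obtain ⟨k, hk, hk1, hkF⟩ := exists_unit hF hK hadj (by omega) hr
  have hk' := ct_mem hF hadj hk
  have hk2 : k * ct q k = 1 := by rw [hK.comm _ hk _ hk']; exact hk1
  have e1 : Gm P₁ P₂ k (ct q k) * Gm P₁ P₂ (ct q k) k = 1 := by
    rw [h.Gm_mul hk' hk, hk2, hk1, Gm_one]
  have e2 : Gm P₁ P₂ (ct q k) k * Gm P₁ P₂ k (ct q k) = 1 := by
    rw [h.Gm_mul hk hk', hk2, hk1, Gm_one]
  have hgw : Gm P₁ P₂ k (ct q k) *ᵥ w = k *ᵥ w := by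
    unfold Gm
    rw [Matrix.add_mulVec, Matrix.add_mulVec, Matrix.one_mulVec, ← Matrix.mulVec_mulVec, ← Matrix.mulVec_mulVec, h.w1,
      h.w2, Matrix.mulVec_zero, add_zero, Matrix.sub_mulVec, Matrix.one_mulVec]
    abel
  refine ⟨⟨Gm P₁ P₂ k (ct q k), Gm P₁ P₂ (ct q k) k, e1, e2⟩, ?_, ?_, k, hk, hgw, ?_⟩
  · refine Subgroup.mem_inf.2 ⟨?_, ?_⟩
    · rw [mem_GU_iff_ct hF]
      show ct q (Gm P₁ P₂ k (ct q k)) * Gm P₁ P₂ k (ct q k) = 1
      rw [h.ct_Gm hF hk' (by rw [ct_ct hF]; exact hk), ct_ct hF]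
      exact e2
    · rw [mem_specialLinear]
      exact h.det_Gm hk' hk2
  · intro l hl
    exact h.Gm_comm (fun k' hk'' => hK.comm _ hk _ hk'') (fun k' hk'' => hK.comm _ hk' _ hk'') hl
  · intro c hc
    obtain ⟨y, hy, hy1⟩ := hK.inv (k - c • 1) (K.sub_mem hk (K.smul_mem K.one_mem c)) (sub_ne_zero.2 (hkF c))
    have hy2 : y * (k - c • 1) = 1 := by rw [hK.comm _ hy _ (K.sub_mem hk (K.smul_mem K.one_mem c))]; exact hy1
    apply hw0
    rw [← Matrix.one_mulVec w, ← hy2, ← Matrix.mulVec_mulVec, Matrix.sub_mulVec, Matrix.smul_mulVec,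
      Matrix.one_mulVec, hc, sub_self, Matrix.mulVec_zero]

end elem

end Cfsg.Agent.H558.EPU
end

-- part: H950/EPU/PKill
section
/-!
# S3499: the kill criterion with the `p`-elements commuting with all `p`-elements of `M0` (helper950)

`pker p M` : the `p`-elements of `M` commuting with all `p`-elements of `M`, a characteristic subgroup of `M`.
`pkill_hat` : for `x ∈ S`, `x ∉ Â`, if `pker p (Â ∩ Â^x) ≠ 1`, then every `g ∈ Â` centralising `pker p (Â ∩ Â^x)` lies in
`Â^x`.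
-/

set_option autoImplicit false
set_option linter.unusedSectionVars false

namespace Cfsg.Agent.H950.EPU

open Subgroup Cfsg.Agent.H284 Cfsg.Agent.H419.EP

section abs

variable {G : Type*} [Group G]

variable [Finite G] {A : Subgroup G} {Γ : Subgroup (MulAut G)} (h : EPT A Γ)

end abs

section scal

variable {ι : Type} [Fintype ι] [DecidableEq ι] {F : Type*} [Field F] {p : ℕ} [Fact p.Prime] [CharP F p]

end scal

section hat

variable {Q : Type*} [Group Q] [Finite Q] {A : Subgroup Q} {Γ : Subgroup (MulAut Q)} (h : EPT A Γ)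
variable {ι : Type} [Fintype ι] [DecidableEq ι] {F : Type*} [Field F] [Finite F] {S : Subgroup (GL ι F)} (m : Model Q S)
variable {p : ℕ} [hp : Fact p.Prime] [CharP F p]

/-- the criterion with `K = M0` : `M̂0 = C_Â(x)` is normalised by `g` -/
theorem false_of_norm {x : GL ι F} (h : EPT A Γ) (hxS : x ∈ S) (hx : x ∉ m.hat A)
    (hcx : ∀ g ∈ m.hat A, x⁻¹ * g * x ∈ m.hat A → g * x = x * g)
    {g : GL ι F} (hg : g ∈ m.hat A) (hgx : g * x ≠ x * g)
    (hgz : ∀ y ∈ m.hat A, y * x = x * y → (g * y * g⁻¹) * x = x * (g * y * g⁻¹)) : False := by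
  have hmem : ∀ y, y ∈ m.hat A ⊓ cj x (m.hat A) ↔ y ∈ m.hat A ∧ y * x = x * y := by
    intro y
    rw [mem_inf, mem_cj]
    constructor
    · rintro ⟨h1, h2⟩
      exact ⟨h1, hcx y h1 h2⟩
    · rintro ⟨h1, h2⟩
      refine ⟨h1, ?_⟩
      rw [mul_assoc, h2, inv_mul_cancel_left]
      exact h1
  have hx' : m.π ⟨x, hxS⟩ ∉ A := fun e => hx ((m.mem_hat_iff ⟨x, hxS⟩).2 e)
  obtain ⟨hgS, hgA⟩ := m.mem_hat.1 hg
  have hM : m.hat (A ⊓ cj (m.π ⟨x, hxS⟩) A) = m.hat A ⊓ cj x (m.hat A) := by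
    rw [m.hat_inf, m.hat_cj]
  have h1 := h.norm_aut hx' (K := A ⊓ cj (m.π ⟨x, hxS⟩) A) le_rfl (fun σ hσ => hσ) (h.M0 _ hx')
    (a := m.π ⟨g, hgS⟩) hgA (by
    intro z hz
    obtain ⟨s, rfl⟩ := m.surj z
    have h2 := (hmem s).1 (by rw [← hM]; exact (m.mem_hat_iff s).2 hz)
    have h3 : (g * s * g⁻¹ : GL ι F) ∈ m.hat A ⊓ cj x (m.hat A) :=
      (hmem _).2 ⟨(m.hat A).mul_mem ((m.hat A).mul_mem hg h2.1) ((m.hat A).inv_mem hg), hgz _ h2.1 h2.2⟩
    rw [← hM] at h3
    have h5 : ((⟨g, hgS⟩ * s * ⟨g, hgS⟩⁻¹ : S) : GL ι F) = g * s * g⁻¹ := by push_cast; rfl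
    rw [← h5] at h3
    have h6 := (m.mem_hat_iff _).1 h3
    rw [map_mul, map_mul, map_inv] at h6
    exact h6)
  have h4 : g ∈ cj x (m.hat A) := by
    rw [← m.hat_cj A ⟨x, hxS⟩]
    exact m.mem_hat.2 ⟨hgS, h1⟩
  exact hgx ((hmem g).1 ⟨hg, h4⟩).2

end hat

end Cfsg.Agent.H950.EPU
end

-- part: H558/EPU/Big
section
/-!
# S3499, row SU-C3: the case `n ≥ 5` (helper558)
-/

set_option autoImplicit false
set_option linter.unusedSectionVars false

namespace Cfsg.Agent.H558.EPU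

open Cfsg Cfsg.Geo Matrix Module Cfsg.Agent.LieClassical.HermBasic Cfsg.Agent.H907 Cfsg.Agent.H918
open Cfsg.Agent.H284 Cfsg.Agent.H419.EP Cfsg.Agent.H950.EPU
open scoped MatrixGroups

section aux

variable {F : Type*} [Field F] {n r : ℕ} {K : Subalgebra F (Matrix (Fin n) (Fin n) F)}

theorem mem_norm_of_commute {g : GL (Fin n) F} (hg : ∀ k ∈ K, (g : Matrix (Fin n) (Fin n) F) * k = k * g) :
    g ∈ subalgebraNormalizer K := by
  have hgg : (g : Matrix (Fin n) (Fin n) F) * ((g⁻¹ : GL (Fin n) F) : Matrix (Fin n) (Fin n) F) = 1 := by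
    rw [← Units.val_mul, mul_inv_cancel, Units.val_one]
  have hgg' : ((g⁻¹ : GL (Fin n) F) : Matrix (Fin n) (Fin n) F) * (g : Matrix (Fin n) (Fin n) F) = 1 := by
    rw [← Units.val_mul, inv_mul_cancel, Units.val_one]
  intro x
  constructor
  · intro hx
    rw [hg x hx, mul_assoc, hgg, mul_one]
    exact hx
  · intro hx
    have h1 := hg _ hx
    have h2 : ((g⁻¹ : GL (Fin n) F) : Matrix (Fin n) (Fin n) F) * ((g : Matrix (Fin n) (Fin n) F) *
        ((g : Matrix (Fin n) (Fin n) F) * x * ((g⁻¹ : GL (Fin n) F) : Matrix (Fin n) (Fin n) F))) =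
        (g : Matrix (Fin n) (Fin n) F) * x * ((g⁻¹ : GL (Fin n) F) : Matrix (Fin n) (Fin n) F) := by
      rw [← mul_assoc, hgg', one_mul]
    rw [h1, mul_assoc _ _ (g : Matrix (Fin n) (Fin n) F), hgg', mul_one, ← mul_assoc, hgg', one_mul] at h2
    rw [h2]
    exact hx

variable [Fintype F] {q : ℕ} (hF : Fintype.card F = q ^ 2)

include hF in
theorem rank_tv_sub_one {u : Fin n → F} {a : F} (hu : hermForm n F q u u = 0) (ha : a + a ^ q = 0) :
    ((tv hF u a hu ha : Matrix (Fin n) (Fin n) F) - 1).rank ≤ 1 := by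
  rw [coe_tv, add_sub_cancel_left, ← Matrix.smul_vecMulVec]
  exact rank_one_le _ _

include hF in
theorem tv_ne_one {u : Fin n → F} (hu0 : u ≠ 0) {a : F} (hu : hermForm n F q u u = 0) (ha : a + a ^ q = 0)
    (ha0 : a ≠ 0) : tv hF u a hu ha ≠ 1 := by
  intro h
  obtain ⟨v, hv⟩ := exists_herm_ne_zero hF hu0
  have hv' : hermForm n F q v u ≠ 0 := fun e => hv (herm_eq_zero_swap hF e)
  have h1 := tv_mulVec hF hu ha v
  rw [h, Units.val_one, Matrix.one_mulVec, left_eq_add] at h1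
  rcases smul_eq_zero.1 h1 with h2 | h2
  · exact mul_ne_zero ha0 hv' h2
  · exact hu0 h2

end aux

section big

variable {Q : Type*} [Group Q] [Finite Q] {A : Subgroup Q} {Γ : Subgroup (MulAut Q)}
  {F : Type*} [Field F] [Fintype F] {n q r : ℕ}
  {K : Subalgebra F (Matrix (Fin n) (Fin n) F)}

/-- `Â = N_S(K)` -/
theorem mem_hat_iff_norm (m : Model Q (Cfsg.GU n F q ⊓ Cfsg.Geo.specialLinear (Fin n) F)) (h : EPT A Γ)
    (hF : Fintype.card F = q ^ 2) (hn : 3 ≤ n) (h32 : ¬ (n = 3 ∧ q = 2)) (hr : 2 ≤ r) (hK : IsFieldSubalgebra r K)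
    (hle : m.hat A ≤ subalgebraNormalizer K ⊓ Cfsg.GU n F q) (g : GL (Fin n) F) :
    g ∈ m.hat A ↔ g ∈ subalgebraNormalizer K ∧ g ∈ SUg n F q := by
  have h1 := (m.isMaximalIn h.max).2 (subalgebraNormalizer K ⊓ SUg n F q)
    (le_inf (hle.trans inf_le_left) (m.hat_le A)) inf_le_right
  rcases h1 with h1 | h1
  · rw [← h1, Subgroup.mem_inf]
  · exfalso
    exact SUg_not_le_subalgebraNormalizer hF hn h32 hr hK (h1.ge.trans inf_le_left)

theorem big_false (m : Model Q (Cfsg.GU n F q ⊓ Cfsg.Geo.specialLinear (Fin n) F)) (h : EPT A Γ)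
    (hF : Fintype.card F = q ^ 2) (hn : 5 ≤ n) (hr : r.Prime) (hr2 : Odd r) (hK : IsFieldSubalgebra r K)
    (hadj : IsAdjointClosedFor (hermForm n F q) K)
    (hle : m.hat A ≤ subalgebraNormalizer K ⊓ Cfsg.GU n F q) : False := by
  have : Nonempty (Fin n) := ⟨⟨0, by omega⟩⟩
  have hr3 : 3 ≤ r := by
    have := hr.two_le
    rcases hr2 with ⟨j, hj⟩
    omega
  have hmem := mem_hat_iff_norm m h hF (by omega) (by omega) hr.two_le hK hle
  obtain ⟨u, hu0, hu, hugood, huy⟩ := exists_u hF hK hadj (by omega) hr hr3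
  obtain ⟨a, ha0, ha⟩ := exists_trace_zero_ne hF
  have hxS : tv hF u a hu ha ∈ Cfsg.GU n F q ⊓ Cfsg.Geo.specialLinear (Fin n) F := tv_mem hF hu ha
  have hx1 := rank_tv_sub_one hF hu ha
  have hxA : tv hF u a hu ha ∉ m.hat A := by
    intro hx
    exact tv_ne_one hF hu0 hu ha ha0 (eq_one_of_rank hK ((hmem _).1 hx).1 hx1 (by omega) (by omega))
  have hcx : ∀ g ∈ m.hat A, (tv hF u a hu ha)⁻¹ * g * tv hF u a hu ha ∈ m.hat A →
      g * tv hF u a hu ha = tv hF u a hu ha * g := by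
    intro g hg hg'
    have h1 := eq_one_of_rank hK (h := g⁻¹ * ((tv hF u a hu ha)⁻¹ * g * tv hF u a hu ha))
      ((subalgebraNormalizer K).mul_mem ((subalgebraNormalizer K).inv_mem ((hmem g).1 hg).1) ((hmem _).1 hg').1)
      (d := 2) ((rank_comm_sub_one _ _).trans (by omega)) (by omega) (by omega)
    have h2 : (tv hF u a hu ha)⁻¹ * g * tv hF u a hu ha = g := (inv_mul_eq_one.1 h1).symm
    rw [mul_assoc, inv_mul_eq_iff_eq_mul] at h2
    exact h2
  have hcent : ∀ y ∈ m.hat A, y * tv hF u a hu ha = tv hF u a hu ha * y →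
      ∃ lam : F, (y : Matrix (Fin n) (Fin n) F) *ᵥ u = lam • u ∧
        ∀ k ∈ K, (y : Matrix (Fin n) (Fin n) F) * k = k * y := by
    intro y hy hyx
    have hyG : y ∈ Cfsg.GU n F q := (Subgroup.mem_inf.1 ((hmem y).1 hy).2).1
    obtain ⟨lam, h1, h2⟩ := (comm_tv_iff hF hyG hu0 hu ha ha0).1 hyx
    exact ⟨lam, h2, huy y ((hmem y).1 hy).1 hyG lam h1 h2⟩
  have hdvd := Cfsg.Agent.H912.finrank_dvd_of_fieldSub hK
  rw [Fintype.card_fin] at hdvd
  rcases (Nat.le_of_dvd (by omega) hdvd).eq_or_lt with hrn | hrn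
  · -- `n = r`
    obtain ⟨s, hs, hs'⟩ := exists_nonscalar h m hxS hxA
    obtain ⟨hsA, hsx⟩ := Subgroup.mem_inf.1 hs
    obtain ⟨lam, h1, h2⟩ := hcent s hsA (hcx s hsA (mem_cj.1 hsx))
    apply hs'
    have hlam0 : lam ≠ 0 := by
      rintro rfl
      rw [zero_smul] at h1
      apply hu0
      have h3 : ((s⁻¹ : GL (Fin n) F) : Matrix (Fin n) (Fin n) F) *ᵥ ((s : Matrix (Fin n) (Fin n) F) *ᵥ u) = u := by
        rw [Matrix.mulVec_mulVec, ← Units.val_mul, inv_mul_cancel, Units.val_one, Matrix.one_mulVec]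
      rw [← h3, h1, Matrix.mulVec_zero]
    rw [mem_scalars_iff]
    refine ⟨Units.mk0 lam hlam0, ?_⟩
    have htop : orb K u = ⊤ := by
      apply Submodule.eq_top_of_finrank_eq
      rw [finrank_orb K (fun x hx h0 => isUnit_of_mem hK hx h0) hu0, hK.finrank_eq, finrank_fintype_fun_eq_card,
        Fintype.card_fin, hrn]
    apply ext_mv
    intro v
    have hv : v ∈ orb K u := by rw [htop]; trivial
    obtain ⟨k, hk, rfl⟩ := (mem_orb K).1 hv
    rw [Matrix.mulVec_mulVec, h2 k hk, ← Matrix.mulVec_mulVec, h1, Matrix.smul_mulVec, Matrix.one_mulVec,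
      Matrix.mulVec_smul, Units.val_mk0]
  · -- `n > r`
    obtain ⟨g, hgS, hgK, k, hk, hgu, hku⟩ := exists_elem hF hK hadj hrn hr.two_le hu0 hugood
    have hgG : g ∈ Cfsg.GU n F q := (Subgroup.mem_inf.1 hgS).1
    have hgA : g ∈ m.hat A := (hmem g).2 ⟨mem_norm_of_commute hgK, hgS⟩
    refine false_of_norm m h hxS hxA hcx hgA ?_ ?_
    · intro h1
      obtain ⟨lam, h2, h3⟩ := (comm_tv_iff hF hgG hu0 hu ha ha0).1 h1
      rw [hgu] at h3
      exact hku lam h3
    · intro y hy hyx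
      have hyG : y ∈ Cfsg.GU n F q := (Subgroup.mem_inf.1 ((hmem y).1 hy).2).1
      obtain ⟨lam, hlam, hyu⟩ := (comm_tv_iff hF hyG hu0 hu ha ha0).1 hyx
      have hyK := huy y ((hmem y).1 hy).1 hyG lam hlam hyu
      refine (comm_tv_iff hF ((Cfsg.GU n F q).mul_mem ((Cfsg.GU n F q).mul_mem hgG hyG)
        ((Cfsg.GU n F q).inv_mem hgG)) hu0 hu ha ha0).2 ⟨lam, hlam, ?_⟩
      have hk0 : k ≠ 0 := by
        rintro rfl
        apply hku 0
        rw [Matrix.zero_mulVec, zero_smul]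
      obtain ⟨l, hl, hkl⟩ := hK.inv k hk hk0
      have hlk : l * k = 1 := by rw [hK.comm _ hl _ hk]; exact hkl
      have h4 : ((g⁻¹ : GL (Fin n) F) : Matrix (Fin n) (Fin n) F) *ᵥ u = l *ᵥ u := by
        have h5 : (g : Matrix (Fin n) (Fin n) F) *ᵥ (l *ᵥ u) = u := by
          rw [Matrix.mulVec_mulVec, hgK l hl, ← Matrix.mulVec_mulVec, hgu, Matrix.mulVec_mulVec, hlk,
            Matrix.one_mulVec]
        conv_lhs => rw [← h5]
        rw [Matrix.mulVec_mulVec, ← Units.val_mul, inv_mul_cancel, Units.val_one, Matrix.one_mulVec]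
      rw [Units.val_mul, Units.val_mul, ← Matrix.mulVec_mulVec, h4, ← Matrix.mulVec_mulVec, Matrix.mulVec_mulVec u,
        hyK l hl, ← Matrix.mulVec_mulVec, hyu, Matrix.mulVec_smul, Matrix.mulVec_smul, Matrix.mulVec_mulVec, hgK l hl,
        ← Matrix.mulVec_mulVec, hgu, Matrix.mulVec_mulVec, hlk, Matrix.one_mulVec]

end big

end Cfsg.Agent.H558.EPU
end

-- part: H558/EPU/Count
section
/-!
# S3499: extremely primitive groups whose point stabiliser in the socle is metacyclic (helper558)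

`count_le`: `T ≤ A` abelian without elements of order three, `a ^ 3 ∈ T` for `a ∈ A`, `|A| ≤ 3 |T|`: `4 |Q| ≤ |A| ^ 3`.
-/

set_option autoImplicit false
set_option linter.unusedSectionVars false

namespace Cfsg.Agent.H558.EPU

open Subgroup Cfsg.Agent.H284

variable {Q : Type*} [Group Q] [Finite Q] {A : Subgroup Q} {Γ : Subgroup (MulAut Q)} (h : EPT A Γ)

include h in
theorem count_le {T : Subgroup Q} (hTA : T ≤ A) (hab : ∀ a ∈ T, ∀ b ∈ T, a * b = b * a)
    (h3 : ∀ t ∈ T, t ^ 3 = 1 → t = 1) (hcube : ∀ a ∈ A, a ^ 3 ∈ T) (hcard : Nat.card A ≤ 3 * Nat.card T) :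
    4 * Nat.card Q ≤ Nat.card A ^ 3 := by
  classical
  have hcop : ∀ t ∈ T, Nat.Coprime 3 (orderOf t) := by
    intro t ht
    rw [Nat.Prime.coprime_iff_not_dvd Nat.prime_three]
    rintro ⟨k, hk⟩
    have hpos := orderOf_pos t
    have h1 : (t ^ k) ^ 3 = 1 := by rw [← pow_mul, mul_comm, ← hk, pow_orderOf_eq_one]
    have h2 := h3 _ (T.pow_mem ht k) h1
    have h4 := orderOf_dvd_of_pow_eq_one h2
    have h5 := Nat.le_of_dvd (by
      rcases Nat.eq_zero_or_pos k with h6 | h6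
      · rw [h6] at hk; omega
      · exact h6) h4
    rw [hk] at h5
    have : 0 < k := by
      rcases Nat.eq_zero_or_pos k with h6 | h6
      · rw [h6] at hk; omega
      · exact h6
    omega
  have hmemT : ∀ a ∈ A, Nat.Coprime 3 (orderOf a) → a ∈ T := by
    intro a ha hc
    obtain ⟨m, hm⟩ := exists_pow_eq_self_of_coprime (x := a) (n := 3) hc
    rw [← hm]
    exact T.pow_mem (hcube a ha) m
  have hinv : ∀ σ ∈ Γ, ∀ k ∈ T, σ k ∈ T := by
    intro σ hσ k hk
    apply hmemT _ ((h.inv σ hσ k).2 (hTA hk))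
    have h1 : orderOf (σ k) = orderOf k := orderOf_injective σ.toMonoidHom σ.injective k
    rw [h1]
    exact hcop k hk
  obtain ⟨x0, hx0⟩ : ∃ x, x ∉ A := by
    by_contra hcon
    push Not at hcon
    exact h.max.1 ((Subgroup.eq_top_iff' A).2 hcon)
  by_cases hT : T = ⊥
  · exfalso
    have hp : IsPGroup 3 A := by
      intro a
      refine ⟨1, Subtype.ext ?_⟩
      have := hcube a a.2
      rw [hT, mem_bot] at this
      rw [pow_one]
      exact this
    have : Fact (Nat.Prime 3) := ⟨Nat.prime_three⟩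
    have hnil : Group.IsNilpotent A := hp.isNilpotent
    have h1 := h.nilp A le_rfl (fun σ hσ k hk => (h.inv σ hσ k).2 hk) hnil h.ne
    exact h.M0 x0 hx0 (h1.2.2.2.1 x0 hx0).1
  have hnilT : Group.IsNilpotent T := by
    let _ : CommGroup T := { (inferInstance : Group T) with mul_comm := fun a b => Subtype.ext (hab a a.2 b b.2) }
    infer_instance
  have h1 := (h.nilp T hTA hinv hnilT hT).2.2.2.1
  have hM : ∀ x, x ∉ A → ∀ g ∈ A ⊓ cj x A, g ≠ 1 → g ^ 3 = 1 ∧ A ⊓ cj x A = zpowers g := by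
    intro x hx g hg hg1
    obtain ⟨h4, h5⟩ := h1 x hx
    have hg3 : g ^ 3 = 1 := by
      have : g ^ 3 ∈ T ⊓ cj x A := ⟨hcube g (mem_inf.1 hg).1, (cj x A).pow_mem (mem_inf.1 hg).2 3⟩
      rwa [h4, mem_bot] at this
    refine ⟨hg3, ?_⟩
    have : Fact (Nat.Prime 3) := ⟨Nat.prime_three⟩
    have ho : orderOf g = 3 := orderOf_eq_prime hg3 hg1
    have hTpos : 0 < Nat.card T := Nat.card_pos
    have hM3 : Nat.card (A ⊓ cj x A : Subgroup Q) ≤ 3 := by
      rw [← h5, mul_comm 3] at hcard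
      exact Nat.le_of_mul_le_mul_left hcard hTpos
    symm
    apply Subgroup.eq_of_le_of_card_ge
    · rw [zpowers_le]
      exact hg
    · rw [Nat.card_zpowers, ho]
      exact hM3
  -- the count
  let 𝓜 : Set (Subgroup Q) := {M : Subgroup Q | ∃ x, x ∉ A ∧ M = A ⊓ cj x A}
  have hgen : ∀ M : 𝓜, ∃ g : A, (g : Q) ≠ 1 ∧ (g : Q) ^ 3 = 1 ∧ (M : Subgroup Q) = zpowers (g : Q) := by
    rintro ⟨_, x, hx, rfl⟩
    obtain ⟨g, hg⟩ := Subgroup.ne_bot_iff_exists_ne_one.1 (h.M0 x hx)
    have hg1 : (g : Q) ≠ 1 := fun e => hg (Subtype.ext e)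
    exact ⟨⟨g, (mem_inf.1 g.2).1⟩, hg1, hM x hx g g.2 hg1⟩
  choose gen hgen1 hgen3 hgenM using hgen
  have hinj : Function.Injective (fun p : 𝓜 × Bool => if p.2 then gen p.1 else (gen p.1)⁻¹) := by
    rintro ⟨M, b⟩ ⟨M', b'⟩ e
    have hz : ∀ (M : 𝓜) (b : Bool), zpowers (((if b then gen M else (gen M)⁻¹ : A)) : Q) = (M : Subgroup Q) := by
      intro M b
      cases b
      · rw [if_neg (by simp), hgenM M]
        show zpowers ((gen M : Q)⁻¹) = _
        rw [zpowers_inv]
      · rw [if_pos rfl, hgenM M]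
    have e' : (if b then gen M else (gen M)⁻¹) = (if b' then gen M' else (gen M')⁻¹) := e
    have hMM : M = M' := by
      apply Subtype.ext
      rw [← hz M b, ← hz M' b', e']
    subst hMM
    have hne : gen M ≠ (gen M)⁻¹ := by
      intro e2
      have e3 : (gen M : Q) = (gen M : Q)⁻¹ := congrArg Subtype.val e2
      have e4 : (gen M : Q) ^ 2 = 1 := by
        rw [pow_two]
        nth_rewrite 1 [e3]
        rw [inv_mul_cancel]
      apply hgen1 M
      have e5 := hgen3 M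
      rw [pow_succ, e4, one_mul] at e5
      exact e5
    cases b <;> cases b'
    · rfl
    · exfalso
      simp only [if_true, Bool.false_eq_true, if_false] at e'
      exact hne e'.symm
    · exfalso
      simp only [if_true, Bool.false_eq_true, if_false] at e'
      exact hne e'
    · rfl
  have hfin : Finite 𝓜 := Subtype.finite
  have h2N : 2 * 𝓜.ncard ≤ Nat.card A := by
    have h6 := Nat.card_le_card_of_injective _ hinj
    rw [Nat.card_prod, Nat.card_eq_fintype_card (α := Bool), Fintype.card_bool, mul_comm, Nat.card_coe_set_eq] at h6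
    exact h6
  have h7 : A.index ≤ 𝓜.ncard ^ 2 := h.index_le
  calc 4 * Nat.card Q = 4 * (Nat.card A * A.index) := by rw [Subgroup.card_mul_index]
    _ ≤ 4 * (Nat.card A * 𝓜.ncard ^ 2) := Nat.mul_le_mul_left _ (Nat.mul_le_mul_left _ h7)
    _ = Nat.card A * (2 * 𝓜.ncard) ^ 2 := by ring
    _ ≤ Nat.card A * (Nat.card A) ^ 2 := Nat.mul_le_mul_left _ (Nat.pow_le_pow_left h2N 2)
    _ = Nat.card A ^ 3 := by ring

end Cfsg.Agent.H558.EPU
end

-- part: H558/EPU/Three
section
/-!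
# S3499, row SU-C3: the case `n = r = 3` (helper558)
-/

set_option autoImplicit false
set_option linter.unusedSectionVars false

namespace Cfsg.Agent.H558.EPU

open Cfsg Cfsg.Geo Matrix Module Cfsg.Agent.LieClassical.HermBasic Cfsg.Agent.H907 Cfsg.Agent.H918
open Cfsg.Agent.H284 Cfsg.Agent.H419.EP Cfsg.Agent.H950.EPU
open scoped MatrixGroups

section num

theorem num_ineq {q : ℕ} (hq : 3 ≤ q) : 27 * (q ^ 2 - q + 1) ^ 3 < 4 * (q ^ 3 * (q ^ 2 - 1) * (q ^ 3 + 1)) := by
  obtain ⟨k, rfl⟩ : ∃ k, q = k + 3 := ⟨q - 3, by omega⟩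
  have e1 : (k + 3) ^ 2 - (k + 3) + 1 = k ^ 2 + 5 * k + 7 := by
    have : (k + 3) ^ 2 = k ^ 2 + 5 * k + 6 + (k + 3) := by ring
    omega
  have e2 : (k + 3) ^ 2 - 1 = k ^ 2 + 6 * k + 8 := by
    have : (k + 3) ^ 2 = k ^ 2 + 6 * k + 8 + 1 := by ring
    omega
  rw [e1, e2]
  have e3 : 4 * ((k + 3) ^ 3 * (k ^ 2 + 6 * k + 8) * ((k + 3) ^ 3 + 1)) =
      27 * (k ^ 2 + 5 * k + 7) ^ 3 + (14931 + 45819 * k + 59688 * k ^ 2 + 43583 * k ^ 3 + 19608 * k ^ 4 +
        5575 * k ^ 5 + 977 * k ^ 6 + 96 * k ^ 7 + 4 * k ^ 8) := by ring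
  rw [e3]
  exact Nat.lt_add_of_pos_right (by (clear * -; positivity))

theorem not_nine_dvd {q : ℕ} (h : 9 ∣ q ^ 2 - q + 1) : False := by
  have hq : q ≤ q ^ 2 := Nat.le_self_pow two_ne_zero q
  have h1 : 9 ∣ q ^ 2 + 1 + 8 * q := by
    have : q ^ 2 + 1 + 8 * q = (q ^ 2 - q + 1) + 9 * q := by omega
    rw [this]
    exact dvd_add h ⟨q, rfl⟩
  have h2 : (q ^ 2 + 1 + 8 * q) % 9 = 0 := Nat.mod_eq_zero_of_dvd h1
  have h3 : q % 9 < 9 := Nat.mod_lt _ (by norm_num)
  have h4 : (q ^ 2 + 1 + 8 * q) % 9 = ((q % 9) ^ 2 + 1 + 8 * (q % 9)) % 9 := by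
    simp only [Nat.add_mod, Nat.mul_mod, Nat.pow_mod, _root_.dvd_refl, _root_.Nat.mod_mod_of_dvd, _root_.Nat.one_mod, _root_.Nat.mod_succ]
  rw [h4] at h2
  interval_cases (q % 9) <;> omega

theorem three_dvd_of {q : ℕ} (h : 3 ∣ q ^ 2 - q + 1) : 3 ∣ q ^ 2 - 1 := by
  have hq : q ≤ q ^ 2 := Nat.le_self_pow two_ne_zero q
  have h1 : 3 ∣ q ^ 2 + 1 + 2 * q := by
    have : q ^ 2 + 1 + 2 * q = (q ^ 2 - q + 1) + 3 * q := by omega
    rw [this]
    exact dvd_add h ⟨q, rfl⟩
  have h2 : (q ^ 2 + 1 + 2 * q) % 3 = 0 := Nat.mod_eq_zero_of_dvd h1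
  have h3 : q % 3 < 3 := Nat.mod_lt _ (by norm_num)
  have h4 : (q ^ 2 + 1 + 2 * q) % 3 = ((q % 3) ^ 2 + 1 + 2 * (q % 3)) % 3 := by
    simp only [Nat.add_mod, Nat.mul_mod, Nat.pow_mod, _root_.dvd_refl, _root_.Nat.mod_mod_of_dvd, _root_.Nat.one_mod, _root_.Nat.mod_succ]
  have h5 : (q ^ 2) % 3 = (q % 3) ^ 2 % 3 := by rw [Nat.pow_mod]
  rw [h4] at h2
  have h6 : q % 3 = 2 := by
    interval_cases (q % 3) <;> omega
  rw [h6] at h5
  have h7 : 1 ≤ q ^ 2 := Nat.one_le_pow _ _ (by omega)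
  (clear * - h5; omega)

end num

theorem relIndex_mul_card' {G : Type*} [Group G] {H K : Subgroup G} (h : H ≤ K) :
    H.relIndex K * Nat.card H = Nat.card K := by
  have h1 := Subgroup.relIndex_mul_relIndex ⊥ H K bot_le h
  rw [Subgroup.relIndex_bot_left, Subgroup.relIndex_bot_left, mul_comm] at h1
  exact h1

section theta

variable {F : Type*} [Field F] {n : ℕ} {K : Subalgebra F (Matrix (Fin n) (Fin n) F)}

theorem normAlg (K : Subalgebra F (Matrix (Fin n) (Fin n) F)) : H912.NormAlg (subalgebraNormalizer K) K :=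
  fun _ hh a ha => (hh a).mp ha

/-- the action of the normaliser on the field -/
noncomputable def theta (K : Subalgebra F (Matrix (Fin n) (Fin n) F)) : subalgebraNormalizer K →* (K ≃ₐ[F] K) where
  toFun := fun h => H912.conjSub (normAlg K) h
  map_one' := by
    apply AlgEquiv.ext
    intro x
    apply Subtype.ext
    rw [H912.conjSub_coe]
    simp only [_root_.OneMemClass.coe_one, _root_.Units.val_one, _root_.one_mul, _root_.inv_one, _root_.mul_one, _root_.AlgEquiv.one_apply]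
  map_mul' := fun a b => by
    apply AlgEquiv.ext
    intro x
    apply Subtype.ext
    rw [AlgEquiv.mul_apply, H912.conjSub_coe, H912.conjSub_coe, H912.conjSub_coe, Subgroup.coe_mul,
      _root_.mul_inv_rev, Units.val_mul, Units.val_mul]
    simp only [Matrix.mul_assoc]

theorem theta_eq_one {g : subalgebraNormalizer K} (hg : theta K g = 1) :
    ∀ k ∈ K, ((g : GL (Fin n) F) : Matrix (Fin n) (Fin n) F) * k = k * ((g : GL (Fin n) F) : Matrix (Fin n) (Fin n) F) := by
  intro k hk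
  have h2 := H912.conjSub_coe (normAlg K) g ⟨k, hk⟩
  have h3 : H912.conjSub (normAlg K) g = 1 := hg
  rw [h3] at h2
  have h4 : k = ((g : GL (Fin n) F) : Matrix (Fin n) (Fin n) F) * k *
    (((g : GL (Fin n) F)⁻¹ : GL (Fin n) F) : Matrix (Fin n) (Fin n) F) := h2
  conv_rhs => rw [h4]
  rw [mul_assoc, ← Units.val_mul, inv_mul_cancel, Units.val_one, mul_one]

end theta

section three

variable {Q : Type*} [Group Q] [Finite Q] {A : Subgroup Q} {Γ : Subgroup (MulAut Q)}
  {F : Type*} [Field F] [Fintype F] {q : ℕ}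
  {K : Subalgebra F (Matrix (Fin 3) (Fin 3) F)}

theorem three_false (m : Model Q (Cfsg.GU 3 F q ⊓ Cfsg.Geo.specialLinear (Fin 3) F)) (h : EPT A Γ)
    (hF : Fintype.card F = q ^ 2) (hq : 3 ≤ q) (hK : IsFieldSubalgebra 3 K)
    (hadj : IsAdjointClosedFor (hermForm 3 F q) K)
    (hle : m.hat A ≤ subalgebraNormalizer K ⊓ Cfsg.GU 3 F q) : False := by
  classical
  have hne : Nonempty (Fin 3) := ⟨0⟩
  have hfinGL : Finite (GL (Fin 3) F) := inferInstance
  have hmem := mem_hat_iff_norm m h hF le_rfl (by omega) (by norm_num) hK hle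
  let _ : Field K := (isField_of hK).toField
  have hfd : Module.Finite F K := inferInstance
  have hKfin : Finite K := Module.finite_of_finite F
  have hgal : IsGalois F K := inferInstance
  have hcardG : Nat.card (K ≃ₐ[F] K) = 3 := by rw [IsGalois.card_aut_eq_finrank, hK.finrank_eq]
  have hfinG : Finite (K ≃ₐ[F] K) := Nat.finite_of_card_ne_zero (by rw [hcardG]; norm_num)
  obtain ⟨Th, hTh⟩ : ∃ Th : Subgroup (GL (Fin 3) F), Th = KU hK ⊓ SUg 3 F q := ⟨_, rfl⟩
  have hThmem : ∀ g, g ∈ Th ↔ (g : Matrix (Fin 3) (Fin 3) F) ∈ K ∧ g ∈ SUg 3 F q := by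
    intro g
    rw [hTh, Subgroup.mem_inf, mem_KU]
  have hThS : Th ≤ Cfsg.GU 3 F q ⊓ Cfsg.Geo.specialLinear (Fin 3) F := by
    intro g hg
    exact ((hThmem g).1 hg).2
  have hThA : Th ≤ m.hat A := by
    intro g hg
    obtain ⟨h1, h2⟩ := (hThmem g).1 hg
    exact (hmem g).2 ⟨mem_norm_of_commute (fun k hk => hK.comm _ h1 _ hk), h2⟩
  have hz : Cfsg.Geo.scalars (Fin 3) F ⊓ (Cfsg.GU 3 F q ⊓ Cfsg.Geo.specialLinear (Fin 3) F) ≤ Th := by
    rintro g ⟨hg1, hg2⟩
    rw [hThmem]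
    refine ⟨?_, hg2⟩
    obtain ⟨c, hc⟩ := (mem_scalars_iff g).1 hg1
    rw [hc]
    exact K.smul_mem K.one_mem _
  have hhat : m.hat (Hat.im m Th) = Th := m.hat_map Th hThS hz
  have hTA : Hat.im m Th ≤ A := (Hat.im_le m hThS).2 hThA
  have hKmem : ∀ g : subalgebraNormalizer K, theta K g = 1 → ((g : GL (Fin 3) F) : Matrix (Fin 3) (Fin 3) F) ∈ K := by
    intro g hg
    exact H922.mem_of_commute (by rwa [Fintype.card_fin]) (by rw [Fintype.card_fin]; norm_num) (theta_eq_one hg)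
  -- cubes
  have hcube : ∀ a ∈ A, a ^ 3 ∈ Hat.im m Th := by
    intro a ha
    obtain ⟨s, rfl⟩ := m.surj a
    have hs : (s : GL (Fin 3) F) ∈ m.hat A := (m.mem_hat_iff s).2 ha
    have hsN := ((hmem _).1 hs).1
    refine ⟨s ^ 3, ?_, map_pow _ _ _⟩
    show ((s ^ 3 : (Cfsg.GU 3 F q ⊓ Cfsg.Geo.specialLinear (Fin 3) F : Subgroup (GL (Fin 3) F))) : GL (Fin 3) F) ∈ Th
    rw [hThmem]
    refine ⟨?_, (s ^ 3).2⟩
    have h1 : theta K (⟨s, hsN⟩ ^ 3) = 1 := by
      have h2 := pow_card_eq_one' (x := theta K ⟨s, hsN⟩)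
      rw [hcardG] at h2
      rw [map_pow]
      exact h2
    exact hKmem _ h1
  -- no element of order three
  have h3 : ∀ t ∈ Hat.im m Th, t ^ 3 = 1 → t = 1 := by
    rintro _ ⟨s, hs, rfl⟩ ht
    have hs' : (s : GL (Fin 3) F) ∈ Th := hs
    obtain ⟨hsK, hsS⟩ := (hThmem _).1 hs'
    rw [m.ker]
    rw [← map_pow, m.ker, Subgroup.coe_pow] at ht
    obtain ⟨c, hc⟩ := (mem_scalars_iff _).1 ht
    have hdet : ((s : GL (Fin 3) F) : Matrix (Fin 3) (Fin 3) F).det = 1 := (mem_SUg.1 hsS).2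
    have hc3 : (c : F) ^ 3 = 1 := by
      have h1 := congrArg Matrix.det hc
      rw [Units.val_pow_eq_pow_val, Matrix.det_pow, hdet, one_pow, Matrix.det_smul, Fintype.card_fin, Matrix.det_one,
        mul_one] at h1
      exact h1.symm
    have h9 : (s : GL (Fin 3) F) ^ 9 = 1 := by
      apply Units.ext
      have e : (s : GL (Fin 3) F) ^ 9 = ((s : GL (Fin 3) F) ^ 3) ^ 3 := by rw [← pow_mul]
      rw [e, Units.val_pow_eq_pow_val, hc, smul_pow, hc3, one_pow, one_smul, Units.val_one]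
    have hq1 := pow_eq_one_of_mem_SU hF hK hadj hsK hsS
    have ho1 := orderOf_dvd_of_pow_eq_one h9
    have ho2 := orderOf_dvd_of_pow_eq_one hq1
    have h9' : (9 : ℕ) = 3 ^ 2 := by norm_num
    rw [h9', Nat.dvd_prime_pow Nat.prime_three] at ho1
    obtain ⟨j, hj, ho⟩ := ho1
    have hj1 : j ≤ 1 := by
      by_contra hj1
      have : j = 2 := by omega
      rw [ho, this] at ho2
      exact not_nine_dvd ho2
    have hs3 : (s : GL (Fin 3) F) ^ 3 = 1 := by
      rw [← orderOf_dvd_iff_pow_eq_one, ho]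
      exact (pow_dvd_pow 3 hj1).trans (by norm_num)
    by_cases hj0 : j = 0
    · rw [hj0, pow_zero, orderOf_eq_one_iff] at ho
      rw [ho]
      exact Subgroup.one_mem _
    · have hj2 : j = 1 := by omega
      rw [ho, hj2, pow_one] at ho2
      have h3F := three_dvd_of ho2
      rw [← hF, ← Nat.card_eq_fintype_card, ← Nat.card_units] at h3F
      have : Fact (Nat.Prime 3) := ⟨Nat.prime_three⟩
      obtain ⟨ω, hω⟩ := exists_prime_orderOf_dvd_card' 3 h3F
      have hω3 : (ω : F) ^ 3 = 1 := by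
        rw [← Units.val_pow_eq_pow_val, ← hω, pow_orderOf_eq_one, Units.val_one]
      have hω1 : (ω : F) ≠ 1 := by
        intro e
        have : ω = 1 := Units.ext e
        rw [this, orderOf_one] at hω
        norm_num at hω
      have hω2 : 1 + (ω : F) + (ω : F) ^ 2 = 0 := by
        have e : ((ω : F) - 1) * (1 + (ω : F) + (ω : F) ^ 2) = 0 := by linear_combination hω3
        exact (mul_eq_zero.1 e).resolve_left (sub_ne_zero.2 hω1)
      let kk : K := ⟨_, hsK⟩
      have hkk3 : kk ^ 3 = 1 := Subtype.ext (by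
        have := congrArg Units.val hs3
        rw [Units.val_pow_eq_pow_val] at this
        exact this)
      have hw3 : (algebraMap F K (ω : F)) ^ 3 = 1 := by rw [← map_pow, hω3, map_one]
      have hw2 : 1 + algebraMap F K (ω : F) + (algebraMap F K (ω : F)) ^ 2 = 0 := by
        rw [← map_pow, ← map_one (algebraMap F K), ← map_add, ← map_add, hω2, map_zero]
      have hprod : (kk - 1) * ((kk - algebraMap F K (ω : F)) * (kk - (algebraMap F K (ω : F)) ^ 2)) = 0 := by
        linear_combination hkk3 - (kk ^ 2 - kk * (algebraMap F K (ω : F))) * hw2 - hw3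
      rw [mem_scalars_iff]
      rcases mul_eq_zero.1 hprod with h4 | h4
      · refine ⟨1, ?_⟩
        have h5 := congrArg Subtype.val (sub_eq_zero.1 h4)
        rw [Units.val_one, one_smul]
        exact h5
      rcases mul_eq_zero.1 h4 with h4 | h4
      · refine ⟨ω, ?_⟩
        have h5 := congrArg Subtype.val (sub_eq_zero.1 h4)
        rw [← Algebra.algebraMap_eq_smul_one]
        exact h5
      · refine ⟨ω ^ 2, ?_⟩
        rw [← map_pow] at h4
        have h5 := congrArg Subtype.val (sub_eq_zero.1 h4)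
        rw [← Algebra.algebraMap_eq_smul_one, Units.val_pow_eq_pow_val]
        exact h5
  -- abelian
  have hab : ∀ a ∈ Hat.im m Th, ∀ b ∈ Hat.im m Th, a * b = b * a := by
    rintro _ ⟨s, hs, rfl⟩ _ ⟨t, ht, rfl⟩
    rw [← map_mul, ← map_mul]
    congr 1
    apply Subtype.ext
    apply Units.ext
    exact hK.comm _ ((hThmem _).1 hs).1 _ ((hThmem _).1 ht).1
  -- the index of `T` in `A`
  have hidx : (Hat.im m Th).relIndex A ≤ 3 := by
    have e1 : Th.relIndex (m.hat A) = (Hat.im m Th).relIndex A := by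
      conv_lhs => rw [← hhat]
      rw [Hat.relIndex_hat m (m.hat_le A)]
      congr 1
      exact m.map_hat A
    rw [← e1]
    let φ : m.hat A →* (K ≃ₐ[F] K) :=
      (theta K).comp (Subgroup.inclusion (fun g hg => ((hmem g).1 hg).1 : m.hat A ≤ subalgebraNormalizer K))
    have hker : φ.ker ≤ Th.subgroupOf (m.hat A) := by
      intro g hg
      rw [Subgroup.mem_subgroupOf, hThmem]
      exact ⟨hKmem ⟨g, ((hmem g).1 g.2).1⟩ hg, ((hmem g).1 g.2).2⟩
    have h1 := Subgroup.index_dvd_of_le hker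
    rw [Subgroup.index_ker] at h1
    have h2 : Nat.card φ.range ≤ 3 :=
      (Nat.card_le_card_of_injective _ φ.range.subtype_injective).trans hcardG.le
    exact (Nat.le_of_dvd Nat.card_pos h1).trans h2
  have hcardA : Nat.card A ≤ 3 * Nat.card (Hat.im m Th) := by
    rw [← relIndex_mul_card' hTA]
    exact Nat.mul_le_mul_right _ hidx
  have hcount := count_le h hTA hab h3 hcube hcardA
  -- the order of `T̂`
  have hThcard : Nat.card Th ≤ q ^ 2 - q + 1 := by
    have hcyc : IsCyclic Th := by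
      have := isCyclic_KU hK
      have hle' : Th ≤ KU hK := by rw [hTh]; exact inf_le_left
      exact isCyclic_of_injective (Subgroup.inclusion hle') (Subgroup.inclusion_injective hle')
    obtain ⟨g, hg⟩ := hcyc.exists_generator
    rw [← orderOf_eq_card_of_forall_mem_zpowers hg]
    apply Nat.le_of_dvd (by omega)
    apply orderOf_dvd_of_pow_eq_one
    apply Subtype.ext
    rw [Subgroup.coe_pow]
    exact pow_eq_one_of_mem_SU hF hK hadj ((hThmem _).1 g.2).1 ((hThmem _).1 g.2).2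
  have hS : Nat.card (Cfsg.GU 3 F q ⊓ Cfsg.Geo.specialLinear (Fin 3) F : Subgroup (GL (Fin 3) F)) =
      q ^ 3 * (q ^ 2 - 1) * (q ^ 3 + 1) := SU3.card_SUg hF
  have hrel : Nat.card Th * Nat.card Q = Nat.card (Hat.im m Th) *
      Nat.card (Cfsg.GU 3 F q ⊓ Cfsg.Geo.specialLinear (Fin 3) F : Subgroup (GL (Fin 3) F)) := by
    have e1 := Hat.index_hat (A := Hat.im m Th) m
    rw [hhat] at e1
    have e2 := relIndex_mul_card' hThS
    rw [← e2, e1, ← Subgroup.card_mul_index (Hat.im m Th)]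
    ring
  have hQS : Nat.card Q ≤ Nat.card (Cfsg.GU 3 F q ⊓ Cfsg.Geo.specialLinear (Fin 3) F : Subgroup (GL (Fin 3) F)) :=
    Nat.card_le_card_of_surjective _ m.surj
  have hTpos : 0 < Nat.card (Hat.im m Th) := Nat.card_pos
  have hSpos : 0 < Nat.card (Cfsg.GU 3 F q ⊓ Cfsg.Geo.specialLinear (Fin 3) F : Subgroup (GL (Fin 3) F)) := Nat.card_pos
  generalize Nat.card (Cfsg.GU 3 F q ⊓ Cfsg.Geo.specialLinear (Fin 3) F : Subgroup (GL (Fin 3) F)) = NS at *
  generalize Nat.card (Hat.im m Th) = NT at *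
  generalize Nat.card Th = NTh at *
  generalize Nat.card Q = NQ at *
  generalize Nat.card A = NA at *
  have h4 : NT ≤ NTh := by
    apply Nat.le_of_mul_le_mul_right (c := NS) _ hSpos
    rw [← hrel]
    exact Nat.mul_le_mul_left _ hQS
  have h5 : 4 * NS * NT ≤ (27 * NTh ^ 3) * NT := by
    calc 4 * NS * NT = NTh * (4 * NQ) := by
          have : 4 * NS * NT = 4 * (NT * NS) := by ring
          rw [this, ← hrel]
          ring
      _ ≤ NTh * NA ^ 3 := Nat.mul_le_mul_left _ hcount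
      _ ≤ NTh * (3 * NT) ^ 3 := Nat.mul_le_mul_left _ (Nat.pow_le_pow_left hcardA 3)
      _ = 27 * NTh * (NT * NT) * NT := by ring
      _ ≤ 27 * NTh * (NTh * NTh) * NT := Nat.mul_le_mul_right _ (Nat.mul_le_mul_left _ (Nat.mul_le_mul h4 h4))
      _ = (27 * NTh ^ 3) * NT := by ring
  have h6 := Nat.le_of_mul_le_mul_right h5 hTpos
  have h7 : 27 * NTh ^ 3 ≤ 27 * (q ^ 2 - q + 1) ^ 3 := Nat.mul_le_mul_left _ (Nat.pow_le_pow_left hThcard 3)
  have h8 := num_ineq hq
  rw [hS] at h6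
  omega

end three

end Cfsg.Agent.H558.EPU
end

-- part: H558/EPU/Main
section
/-!
# S3499, row SU-C3 (helper558)
-/

set_option autoImplicit false

namespace Cfsg.Agent.H588.EPU

open Cfsg Cfsg.Geo Cfsg.Agent.H284 Cfsg.Agent.H419.EP

/-- **extension fields** -/
theorem kills_C3 : Kills C3 := by
  intro Q _ _ _ A Γ he F _ _ n q m hF hn h1 h2 M hM hle
  obtain ⟨r, K, hr, hr2, hK, hadj, rfl⟩ := hM
  have hne : Nonempty (Fin n) := ⟨⟨0, by omega⟩⟩
  by_cases h5 : 5 ≤ n
  · exact Cfsg.Agent.H558.EPU.big_false m he hF h5 hr hr2 hK hadj hle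
  have hdvd := Cfsg.Agent.H912.finrank_dvd_of_fieldSub hK
  rw [Fintype.card_fin] at hdvd
  have hr3 : 3 ≤ r := by
    have := hr.two_le
    obtain ⟨j, hj⟩ := hr2
    omega
  have hrn := Nat.le_of_dvd (by omega) hdvd
  have hn3 : n = 3 := by
    rcases (show n = 3 ∨ n = 4 by omega) with h | h
    · exact h
    · exfalso
      subst h
      have hr4 : r = 3 ∨ r = 4 := by omega
      rcases hr4 with h | h
      · rw [h] at hdvd; norm_num at hdvd
      · rw [h] at hr; norm_num at hr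
  subst hn3
  have hr' : r = 3 := by omega
  subst hr'
  have hq := Cfsg.Agent.LieClassical.HermBasic.two_le hF
  exact Cfsg.Agent.H558.EPU.three_false m he hF (by omega) hK hadj hle

end Cfsg.Agent.H588.EPU
end

private theorem dce_56b3d9b5e8c3 : _root_.True := by
  try have : _root_.True := by simp only [_root_.Cfsg.Agent.H918.tv.congr_simp]
  try have : _root_.True := by simp only [_root_.Cfsg.Agent.H558.EPU.Gm.eq_1]
  try have : _root_.True := by simp only [_root_.Cfsg.Agent.H558.EPU.mt.eq_1]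
  exact _root_.True.intro
end

-- part: H128/EP/AsmPsl_mg
section
prune_inst 0x402044008010000018808461001c428200000000080800008200000480ac4004000820a02001001800004420340048100804800040000004000000013806890000040080080000400090000180000000000000000000000000000000000000000400000
set_option linter.all false
open scoped Cfsg.Agent.FastGrp

-- part: H128/EP/AsmPsl
section
/-!
# S3499-III, assembly of `PslNonRes` from the rows SL-C1 ... SL-C8

`Row Φ` : no extremely primitive point stabiliser with socle `PSL_n(F)` has its preimage in the class `Φ`.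
-/

set_option autoImplicit false

namespace Cfsg.Agent.H128.EP

open Subgroup Cfsg.Agent.H284 Cfsg.Agent.H419.EP
open scoped MatrixGroups

/-- the shape of a row: `Φ F n Â` is impossible -/
def Row (Φ : ∀ (F : Type) [Field F] [Fintype F] (n : ℕ), Subgroup (GL (Fin n) F) → Prop) : Prop :=
  ∀ {Q : Type} [Group Q] [Finite Q], IsSimpleGroup Q → ∀ {A : Subgroup Q}
    {Γ : Subgroup (MulAut Q)}, EPT A Γ → ∀ {F : Type} [Field F] [Fintype F] {n : ℕ}
    (m : Model Q (Cfsg.Geo.specialLinear (Fin n) F)), 3 ≤ n → ¬ (n = 3 ∧ Fintype.card F = 2) →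
    ¬ (n = 3 ∧ Fintype.card F = 4) → ¬ (n = 4 ∧ Fintype.card F = 2) → Φ F n (m.hat A) → False

/-- (C1) `Â` fixes a proper subspace -/
def C1 (F : Type) [Field F] [Fintype F] (n : ℕ) (H : Subgroup (GL (Fin n) F)) : Prop :=
  ∃ W : Submodule F (Fin n → F), W ≠ ⊥ ∧ W ≠ ⊤ ∧ H ≤ Cfsg.Geo.subspaceStabilizer W

/-- (C2) -/
def C2 (F : Type) [Field F] [Fintype F] (n : ℕ) (H : Subgroup (GL (Fin n) F)) : Prop :=
  ∃ (t k : ℕ) (D : Fin t → Submodule F (Fin n → F)), Cfsg.Geo.IsMDecomposition k D ∧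
    H ≤ Cfsg.Geo.decompositionStabilizer D

/-- (C3) -/
def C3 (F : Type) [Field F] [Fintype F] (n : ℕ) (H : Subgroup (GL (Fin n) F)) : Prop :=
  ∃ (r : ℕ) (K : Subalgebra F (Matrix (Fin n) (Fin n) F)), r.Prime ∧ Cfsg.Geo.IsFieldSubalgebra r K ∧
    H ≤ Cfsg.Geo.subalgebraNormalizer K

/-- (C4) -/
def C4 (F : Type) [Field F] [Fintype F] (n : ℕ) (H : Subgroup (GL (Fin n) F)) : Prop :=
  ∃ (n₁ n₂ : ℕ) (e : Fin n ≃ Fin n₁ × Fin n₂) (P : GL (Fin n) F), 2 ≤ n₁ ∧ n₁ < n₂ ∧
    H ≤ Cfsg.Geo.tensorProductSubgroup n₁ n₂ e P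

/-- (C5) -/
def C5 (F : Type) [Field F] [Fintype F] (n : ℕ) (H : Subgroup (GL (Fin n) F)) : Prop :=
  ∃ (F₀ : Subfield F) (r : ℕ) (P : GL (Fin n) F), r.Prime ∧ Fintype.card F = Nat.card F₀ ^ r ∧
    H ≤ Cfsg.Geo.subfieldSubgroup F₀ P

/-- (C6) -/
def C6 (F : Type) [Field F] [Fintype F] (n : ℕ) (H : Subgroup (GL (Fin n) F)) : Prop :=
  ∃ (r : ℕ) (R : Subgroup (GL (Fin n) F)), Cfsg.Geo.IsLinearSymplecticTypeData r R ∧
    H ≤ Cfsg.Geo.subgroupNormalizer R

/-- (C7) -/
def C7 (F : Type) [Field F] [Fintype F] (n : ℕ) (H : Subgroup (GL (Fin n) F)) : Prop :=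
  ∃ (k t : ℕ) (e : Fin n ≃ (Fin t → Fin k)) (P : GL (Fin n) F), 3 ≤ k ∧ 2 ≤ t ∧
    H ≤ Cfsg.Geo.tensorWreathSubgroup k t e P

/-- (C8Sp) -/
def C8Sp (F : Type) [Field F] [Fintype F] (n : ℕ) (H : Subgroup (GL (Fin n) F)) : Prop :=
  ∃ f : (Fin n → F) → (Fin n → F) → F, Cfsg.Geo.IsSymplecticForm f ∧ Even n ∧ 4 ≤ n ∧
    H ≤ Cfsg.Geo.similarityGroup f

/-- (C8U) -/
def C8U (F : Type) [Field F] [Fintype F] (n : ℕ) (H : Subgroup (GL (Fin n) F)) : Prop :=
  ∃ (σ : F ≃+* F) (f : (Fin n → F) → (Fin n → F) → F), Cfsg.Geo.IsUnitaryForm σ f ∧ 3 ≤ n ∧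
    H ≤ Cfsg.Geo.similarityGroup f

/-- (C8O) -/
def C8O (F : Type) [Field F] [Fintype F] (n : ℕ) (H : Subgroup (GL (Fin n) F)) : Prop :=
  ∃ Qf : (Fin n → F) → F, Cfsg.Geo.IsNondegenerateQuadraticForm Qf ∧ Odd (Fintype.card F) ∧ 3 ≤ n ∧
    H ≤ Cfsg.Geo.quadSimilarityGroup Qf

/-- **the assembly** -/
theorem pslNonRes_of (r1 : Row C1) (r2 : Row C2) (r3 : Row C3) (r4 : Row C4) (r5 : Row C5) (r6 : Row C6) (r7 : Row C7)
    (r8s : Row C8Sp) (r8u : Row C8U) (r8o : Row C8O) : PslNonRes := by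
  intro Q _ _ hs A Γ h F _ _ n m hn h32 h34 h42 hres
  rcases Cfsg.Agent.S5630.result n hn (m.hat A) (m.hat_le A) (m.sup_ne h.max) with ⟨M, hM, hle⟩ | h1
  · rcases hM with ⟨W, h0, h1, rfl⟩ | ⟨W, U, h0, hWU, -, rfl⟩ | ⟨W, U, h0, hWU, -, hr, rfl⟩ | ⟨t, k, D, hD, rfl⟩ |
      ⟨r, K, hr, hK, rfl⟩ | ⟨n₁, n₂, e, P, h1, h2, rfl⟩ | ⟨F₀, r, P, h1, h2, rfl⟩ | ⟨r, R, h1, rfl⟩ |
      ⟨k, t, e, P, h1, h2, rfl⟩ | ⟨f, h1, h2, h3, rfl⟩ | ⟨σ, f, h1, h2, rfl⟩ | ⟨Qf, h1, h2, h3, rfl⟩
    · exact r1 hs h m hn h32 h34 h42 ⟨W, h0, h1, hle⟩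
    · exact r1 hs h m hn h32 h34 h42 ⟨W, h0, (hWU.trans_le le_top).ne, hle.trans inf_le_left⟩
    · refine r1 hs h m hn h32 h34 h42 ⟨W, h0, ?_, hle.trans inf_le_left⟩
      rintro rfl
      rw [top_inf_eq] at hWU
      rw [hWU, finrank_bot] at hr
      exact Nat.not_lt_zero _ hr
    · exact r2 hs h m hn h32 h34 h42 ⟨t, k, D, hD, hle⟩
    · exact r3 hs h m hn h32 h34 h42 ⟨r, K, hr, hK, hle⟩
    · exact r4 hs h m hn h32 h34 h42 ⟨n₁, n₂, e, P, h1, h2, hle⟩
    · exact r5 hs h m hn h32 h34 h42 ⟨F₀, r, P, h1, h2, hle⟩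
    · exact r6 hs h m hn h32 h34 h42 ⟨r, R, h1, hle⟩
    · exact r7 hs h m hn h32 h34 h42 ⟨k, t, e, P, h1, h2, hle⟩
    · exact r8s hs h m hn h32 h34 h42 ⟨f, h1, h2, h3, hle⟩
    · exact r8u hs h m hn h32 h34 h42 ⟨σ, f, h1, h2, hle⟩
    · exact r8o hs h m hn h32 h34 h42 ⟨Qf, h1, h2, h3, hle⟩
  · exact hres h1

end Cfsg.Agent.H128.EP
end

-- part: H528/EP/Comm
section
/-!
# S3499: commuting invariant subgroups and transitively permuted factors (helper528)

* `EPT.t2_inf`, `EPT.t2_card` (T2): `X`, `Y` nontrivial `Γ`-invariant subgroups of `A` which commute elementwise: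
  `X ∩ A^x = 1` for `x ∉ A`, `|X| = |Y|`; `EPT.t2_inf_comm` for one abelian subgroup.
* `EPT.t3_mem` (T3): nontrivial subgroups `L i ≤ A`, pairwise commuting, transitively permuted by `Γ`:
  `L i ≤ A^x` implies `x ∈ A`; corollaries `EPT.t3_conj_le`, `EPT.t3_centralizer_le`, `EPT.t3_normalizer_le`.
-/

set_option autoImplicit false

namespace Cfsg.Agent.H284.EPT

open Subgroup

variable {Q : Type*} [Group Q] {A : Subgroup Q} {Γ : Subgroup (MulAut Q)} (h : EPT A Γ)

include h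

/-! ### T2 -/

/-! ### T3 -/

/-- **(T3)**, general form: `N ≤ A` is `Γ`-invariant, contained in the join of the `L j`, normalises each of them, and
`Γ` permutes them transitively. -/
theorem t3_mem' {ι : Type*} {N : Subgroup Q} {L : ι → Subgroup Q} (hN : N ≤ A)
    (hNn : ∀ σ ∈ Γ, ∀ k ∈ N, σ k ∈ N) (hN0 : N ≠ ⊥) (hNL : N ≤ ⨆ i, L i)
    (hNj : ∀ k ∈ N, ∀ j, ∀ z ∈ L j, k * z * k⁻¹ ∈ L j) {i : ι}
    (htr : ∀ j, ∃ σ ∈ Γ, L j ≤ (L i).map σ.toMonoidHom) {x : Q} (hi : L i ≤ A) (hix : L i ≤ cj x A) : x ∈ A := by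
  by_contra hx
  apply hN0
  refine h.F1 x hx N hN hNn (hNL.trans (iSup_le fun j => ?_))
  obtain ⟨σ, hσ, hj⟩ := htr j
  obtain ⟨k, hk, τ, hτ, hτx, rfl⟩ := h.fac hN hNn hN0 hx hσ
  intro z hz
  obtain ⟨y, hy, hyz⟩ := hj (hNj k hk j z hz)
  have h1 : τ y = z := by
    have h2 : k * τ y * k⁻¹ = k * z * k⁻¹ := hyz
    exact mul_left_cancel (mul_right_cancel h2)
  rw [← h1]
  exact (mem_inf.1 (h.stab_M0 hτ hτx ⟨hi hy, hix hy⟩)).2

omit h in
/-- pairwise commuting subgroups are normalised by their join -/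
theorem t3_normalizes {ι : Type*} {L : ι → Subgroup Q} (hcomm : ∀ i j, i ≠ j → ∀ a ∈ L i, ∀ b ∈ L j, a * b = b * a)
    {k : Q} (hk : k ∈ ⨆ i, L i) (j : ι) {z : Q} (hz : z ∈ L j) : k * z * k⁻¹ ∈ L j := by
  have h1 : (⨆ i, L i) ≤ normalizer (L j : Set Q) := by
    refine iSup_le fun i => ?_
    by_cases hij : i = j
    · rw [hij]
      exact le_normalizer
    · intro a ha
      rw [mem_normalizer_iff]
      intro b
      constructor
      · intro hb
        rw [hcomm i j hij a ha b hb, mul_inv_cancel_right]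
        exact hb
      · intro hb
        have h2 := hcomm i j hij a⁻¹ ((L i).inv_mem ha) _ hb
        have h3 : b = a * b * a⁻¹ := by
          have e1 : a⁻¹ * (a * b * a⁻¹) = b * a⁻¹ := by group
          rw [e1] at h2
          exact mul_right_cancel h2
        rw [h3]
        exact hb
  exact (mem_normalizer_iff.1 (h1 hk) z).1 hz

omit h in
/-- the join of permuted subgroups is invariant -/
theorem t3_inv {ι : Type*} {L : ι → Subgroup Q} (hperm : ∀ σ ∈ Γ, ∀ i, ∃ j, ∀ y ∈ L i, σ y ∈ L j) {σ : MulAut Q}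
    (hσ : σ ∈ Γ) {k : Q} (hk : k ∈ ⨆ i, L i) : σ k ∈ ⨆ i, L i := by
  have h1 : (⨆ i, L i) ≤ (⨆ i, L i).comap σ.toMonoidHom := by
    refine iSup_le fun i y hy => ?_
    obtain ⟨j, hj⟩ := hperm σ hσ i
    exact (le_iSup L j) (hj y hy)
  exact h1 hk

/-- **(T3)** pairwise commuting nontrivial subgroups `L i` of `A`, transitively permuted by `Γ`: if `L i ≤ A^x` for
one `i` then `x ∈ A`. -/
theorem t3_mem {ι : Type*} {L : ι → Subgroup Q} (hLA : ∀ i, L i ≤ A)
    (hcomm : ∀ i j, i ≠ j → ∀ a ∈ L i, ∀ b ∈ L j, a * b = b * a)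
    (hperm : ∀ σ ∈ Γ, ∀ i, ∃ j, ∀ y ∈ L i, σ y ∈ L j) {i : ι} (hL0 : L i ≠ ⊥)
    (htr : ∀ j, ∃ σ ∈ Γ, L j ≤ (L i).map σ.toMonoidHom) {x : Q} (hix : L i ≤ cj x A) : x ∈ A := by
  refine h.t3_mem' (N := ⨆ i, L i) (iSup_le hLA) (fun σ hσ k hk => t3_inv hperm hσ hk) ?_ le_rfl
    (fun k hk j z hz => t3_normalizes hcomm hk j hz) htr (hLA i) hix
  intro h0
  apply hL0
  rw [eq_bot_iff, ← h0]
  exact le_iSup L i

end Cfsg.Agent.H284.EPT
end

-- part: H358/EP/CompL
section
/-!
# S3499: the component lemma (helper358)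

* `EPT.fac_or` : for `R ≤ A` invariant under `Γ_{xA}`: `R ≤ A^x` or `Γ = R Γ_{xA}`.
* `EPT.comp_lemma` : `L ≤ A` simple with commuting `Γ`-conjugates, `x ∉ A`; `L ∩ A^x ≠ 1`: the elements `l ∈ L` such that
  `l d ∈ A^x` for some `d ∈ C_A(L)` lie in `A^x`.
* `comm_or_eq` : two simple subnormal subgroups (of depth two) are equal or commute.
-/

set_option autoImplicit false

namespace Cfsg.Agent.H358.EP

open Subgroup Cfsg.Agent.H284
open scoped commutatorElement

section Sub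

variable {G : Type*} [Group G]

/-- Two perfect simple groups `L ⊴ D ⊴ A`, `K ⊴ E ⊴ A` are equal or commute. -/
theorem comm_or_eq {A L D K E : Subgroup G} (hLD : L ≤ D) (hDA : D ≤ A) (hKE : K ≤ E) (hEA : E ≤ A)
    (nD : ∀ a ∈ A, ∀ d ∈ D, a * d * a⁻¹ ∈ D) (nE : ∀ a ∈ A, ∀ d ∈ E, a * d * a⁻¹ ∈ E)
    (nL : ∀ a ∈ D, ∀ d ∈ L, a * d * a⁻¹ ∈ L) (nK : ∀ a ∈ E, ∀ d ∈ K, a * d * a⁻¹ ∈ K)
    (sL : ∀ N ≤ L, (∀ l ∈ L, ∀ n ∈ N, l * n * l⁻¹ ∈ N) → N = ⊥ ∨ N = L)
    (sK : ∀ N ≤ K, (∀ l ∈ K, ∀ n ∈ N, l * n * l⁻¹ ∈ N) → N = ⊥ ∨ N = K)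
    (pL : L ≤ ⁅L, L⁆) (pK : K ≤ ⁅K, K⁆) : L = K ∨ ∀ l ∈ L, ∀ k ∈ K, l * k = k * l := by
  have key : ∀ {L D E : Subgroup G}, L ≤ D → D ≤ A → E ≤ A → (∀ a ∈ A, ∀ d ∈ D, a * d * a⁻¹ ∈ D) →
      (∀ a ∈ A, ∀ d ∈ E, a * d * a⁻¹ ∈ E) → (∀ a ∈ D, ∀ d ∈ L, a * d * a⁻¹ ∈ L) → L ≤ ⁅L, L⁆ → L ⊓ E = ⊥ →
      ⁅L, E⁆ = ⊥ := by
    intro L D E hLD hDA hEA nD nE nL pL hLE
    have h1 : ⁅L, E⁆ ≤ D ⊓ E := by
      rw [commutator_le]
      intro l hl e he
      refine ⟨?_, ?_⟩
      · rw [commutatorElement_def, mul_assoc, mul_assoc]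
        refine D.mul_mem (hLD hl) ?_
        rw [← mul_assoc]
        exact nD e (hEA he) _ (D.inv_mem (hLD hl))
      · rw [commutatorElement_def]
        exact E.mul_mem (nE l (hDA (hLD hl)) e he) (E.inv_mem he)
    have h2 : ⁅D ⊓ E, L⁆ = ⊥ := by
      rw [eq_bot_iff, ← hLE, commutator_le]
      intro y hy l hl
      refine ⟨?_, ?_⟩
      · rw [commutatorElement_def]
        exact L.mul_mem (nL y hy.1 l hl) (L.inv_mem hl)
      · rw [commutatorElement_def, mul_assoc, mul_assoc]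
        refine E.mul_mem hy.2 ?_
        rw [← mul_assoc]
        exact nE l (hDA (hLD hl)) _ (E.inv_mem hy.2)
    have h3 : ⁅⁅L, E⁆, L⁆ = ⊥ := by
      rw [eq_bot_iff, ← h2]
      exact commutator_mono h1 le_rfl
    have h4 : ⁅⁅E, L⁆, L⁆ = ⊥ := by rw [commutator_comm E L]; exact h3
    have h5 := commutator_commutator_eq_bot_of_rotate (H₁ := L) (H₂ := L) (H₃ := E) h3 h4
    rw [eq_bot_iff, ← h5]
    exact commutator_mono pL le_rfl
  rcases sL (L ⊓ E) inf_le_left (fun l hl n hn => ⟨L.mul_mem (L.mul_mem hl hn.1) (L.inv_mem hl),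
    nE l (hDA (hLD hl)) n hn.2⟩) with h1 | h1
  · right
    intro l hl k hk
    have h2 := key hLD hDA hEA nD nE nL pL h1
    have h3 : ⁅l, k⁆ ∈ ⁅L, E⁆ := commutator_mem_commutator hl (hKE hk)
    rw [h2, mem_bot, commutatorElement_eq_one_iff_mul_comm] at h3
    exact h3
  · rcases sK (K ⊓ D) inf_le_left (fun l hl n hn => ⟨K.mul_mem (K.mul_mem hl hn.1) (K.inv_mem hl),
      nD l (hEA (hKE hl)) n hn.2⟩) with h2 | h2
    · right
      intro l hl k hk
      have h3 := key hKE hEA hDA nE nD nK pK h2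
      have h4 : ⁅k, l⁆ ∈ ⁅K, D⁆ := commutator_mem_commutator hk (hLD hl)
      rw [h3, mem_bot, commutatorElement_eq_one_iff_mul_comm] at h4
      exact h4.symm
    · have hLE : L ≤ E := by rw [← h1]; exact inf_le_right
      have hKD : K ≤ D := by rw [← h2]; exact inf_le_right
      rcases sL (L ⊓ K) inf_le_left (fun l hl n hn => ⟨L.mul_mem (L.mul_mem hl hn.1) (L.inv_mem hl),
        nK l (hLE hl) n hn.2⟩) with h3 | h3
      · right
        intro l hl k hk
        have h4 : ⁅l, k⁆ ∈ L ⊓ K := by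
          rw [commutatorElement_def]
          refine ⟨?_, K.mul_mem (nK l (hLE hl) k hk) (K.inv_mem hk)⟩
          rw [mul_assoc, mul_assoc, ← mul_assoc k]
          exact L.mul_mem hl (nL k (hKD hk) _ (L.inv_mem hl))
        rw [h3, mem_bot, commutatorElement_eq_one_iff_mul_comm] at h4
        exact h4
      · have hLK : L ≤ K := by rw [← h3]; exact inf_le_right
        rcases sK (L ⊓ K) inf_le_right (fun l hl n hn => ⟨nL l (hKD hl) n hn.1,
          K.mul_mem (K.mul_mem hl hn.2) (K.inv_mem hl)⟩) with h4 | h4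
        · right
          rw [h3] at h4
          intro l hl k _
          rw [h4, mem_bot] at hl
          rw [hl, one_mul, mul_one]
        · left
          rw [← h3, h4]

end Sub

section Ept

variable {Q : Type*} [Group Q] {A : Subgroup Q} {Γ : Subgroup (MulAut Q)}

/-- `A = R (A ∩ A^x)` or `R ≤ A^x` for `R ≤ A` invariant under the stabiliser of `xA` -/
theorem fac_or (h : EPT A Γ) {R : Subgroup Q} (hR : R ≤ A) {x : Q} (hx : x ∉ A)
    (hRn : ∀ τ ∈ Γ, x⁻¹ * τ x ∈ A → ∀ k ∈ R, τ k ∈ R) :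
    (∀ r ∈ R, r ∈ cj x A) ∨ ∀ σ ∈ Γ, ∃ k ∈ R, ∃ τ ∈ Γ, x⁻¹ * τ x ∈ A ∧ σ = MulAut.conj k * τ := by
  let L : Subgroup (MulAut Q) :=
    { carrier := {σ | ∃ k ∈ R, ∃ τ ∈ Γ, x⁻¹ * τ x ∈ A ∧ σ = MulAut.conj k * τ}
      one_mem' := ⟨1, one_mem _, 1, one_mem _, by
        rw [MulAut.one_apply, inv_mul_cancel]; exact one_mem _, by rw [map_one, one_mul]⟩
      mul_mem' := by
        rintro σ₁ σ₂ ⟨k₁, hk₁, τ₁, hτ₁, hx₁, e₁⟩ ⟨k₂, hk₂, τ₂, hτ₂, hx₂, e₂⟩
        refine ⟨k₁ * τ₁ k₂, mul_mem hk₁ (hRn _ hτ₁ hx₁ _ hk₂), τ₁ * τ₂, mul_mem hτ₁ hτ₂, ?_, ?_⟩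
        · rw [MulAut.mul_apply]
          have e : x⁻¹ * τ₁ (τ₂ x) = (x⁻¹ * τ₁ x) * τ₁ (x⁻¹ * τ₂ x) := by
            rw [map_mul, map_inv]; group
          rw [e]
          exact A.mul_mem hx₁ ((h.inv _ hτ₁ _).2 hx₂)
        · rw [e₁, e₂, map_mul, ← aut_conj]
          group
      inv_mem' := by
        rintro σ ⟨k, hk, τ, hτ, hx₁, e⟩
        have hx2 : x⁻¹ * τ⁻¹ x ∈ A := by
          have h3 := (h.inv _ (Γ.inv_mem hτ) _).2 (A.inv_mem hx₁)
          have e4 : τ⁻¹ (x⁻¹ * τ x)⁻¹ = x⁻¹ * τ⁻¹ x := by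
            rw [mul_inv_rev, map_mul, map_inv, MulAut.inv_apply_self, inv_inv]
          rwa [e4] at h3
        refine ⟨τ⁻¹ k⁻¹, hRn _ (inv_mem hτ) hx2 _ (inv_mem hk), τ⁻¹, inv_mem hτ, hx2, ?_⟩
        rw [e, ← aut_conj, map_inv MulAut.conj k]
        group }
  have hLΓ : L ≤ Γ := by
    rintro σ ⟨k, hk, τ, hτ, _, rfl⟩
    exact mul_mem ((h.conj k).2 (hR hk)) hτ
  have hKL : ∀ k ∈ R, MulAut.conj k ∈ L := fun k hk =>
    ⟨k, hk, 1, one_mem _, by
      rw [MulAut.one_apply, inv_mul_cancel]; exact one_mem _, by rw [mul_one]⟩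
  rcases h.two x hx L hLΓ (fun σ hσ hσx => ⟨1, one_mem _, σ, hσ, hσx, by rw [map_one, one_mul]⟩)
    with h1 | h1
  · right
    intro σ hσ
    rw [← h1] at hσ
    exact hσ
  · left
    intro k hk
    exact (h.conj_stab (hR hk)).1 (h1 _ (hKL k hk))

/-- the projection of `A ∩ A^x` to the factor `K` -/
def Rp (A : Subgroup Q) (x : Q) (K : Subgroup Q) : Subgroup Q where
  carrier := {r | r ∈ K ∧ ∃ c ∈ A, (∀ k ∈ K, c * k = k * c) ∧ r * c ∈ cj x A}
  one_mem' := ⟨one_mem _, 1, one_mem _, fun k _ => by rw [one_mul, mul_one], by rw [mul_one]; exact one_mem _⟩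
  mul_mem' := by
    rintro a b ⟨ha, c, hc, hc1, hc2⟩ ⟨hb, d, hd, hd1, hd2⟩
    refine ⟨mul_mem ha hb, c * d, mul_mem hc hd, fun k hk => ?_, ?_⟩
    · rw [mul_assoc, hd1 k hk, ← mul_assoc, hc1 k hk, mul_assoc]
    · have e : a * b * (c * d) = a * c * (b * d) := by
        rw [mul_assoc a c, ← mul_assoc c b d, hc1 b hb, mul_assoc a b, ← mul_assoc b c d]
      rw [e]
      exact mul_mem hc2 hd2
  inv_mem' := by
    rintro a ⟨ha, c, hc, hc1, hc2⟩
    refine ⟨inv_mem ha, c⁻¹, inv_mem hc, fun k hk => ?_, ?_⟩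
    · rw [inv_mul_eq_iff_eq_mul, ← mul_assoc, hc1 k hk, mul_inv_cancel_right]
    · have e : a⁻¹ * c⁻¹ = (a * c)⁻¹ := by rw [← hc1 a ha, mul_inv_rev]
      rw [e]
      exact inv_mem hc2

theorem Rp_le {x : Q} {K : Subgroup Q} : Rp A x K ≤ K := fun _ hr => hr.1

/-- **The component lemma.** -/
theorem comp_lemma (h : EPT A Γ) {L : Subgroup Q} (hLA : L ≤ A)
    (hcomm : ∀ σ ∈ Γ, L.map σ.toMonoidHom = L ∨ ∀ a ∈ L, ∀ b ∈ L, a * σ b = σ b * a)
    (hsim : ∀ N ≤ L, (∀ l ∈ L, ∀ n ∈ N, l * n * l⁻¹ ∈ N) → N = ⊥ ∨ N = L) {x : Q} (hx : x ∉ A) {c l d : Q}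
    (hc : c ∈ L) (hc1 : c ≠ 1) (hcx : c ∈ cj x A) (hl : l ∈ L) (hd : d ∈ A) (hdL : ∀ k ∈ L, d * k = k * d)
    (hld : l * d ∈ cj x A) : l ∈ cj x A := by
  -- the orbit of `L`
  let ι := {K : Subgroup Q // ∃ σ ∈ Γ, K = L.map σ.toMonoidHom}
  let o : ι := ⟨L, 1, one_mem _, by
    ext y
    constructor
    · intro hy
      exact ⟨y, hy, rfl⟩
    · rintro ⟨z, hz, rfl⟩
      exact hz⟩
  have hKA : ∀ K : ι, K.1 ≤ A := by
    rintro ⟨_, σ, hσ, rfl⟩ _ ⟨y, hy, rfl⟩
    exact (h.inv σ hσ y).2 (hLA hy)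
  have hpair : ∀ i j : ι, i ≠ j → ∀ a ∈ i.1, ∀ b ∈ j.1, a * b = b * a := by
    rintro ⟨_, σ, hσ, rfl⟩ ⟨_, τ, hτ, rfl⟩ hij _ ⟨a, ha, rfl⟩ _ ⟨b, hb, rfl⟩
    rcases hcomm (σ⁻¹ * τ) (mul_mem (inv_mem hσ) hτ) with h1 | h1
    · exfalso
      apply hij
      apply Subtype.ext
      show L.map σ.toMonoidHom = L.map τ.toMonoidHom
      conv_lhs => rw [← h1]
      rw [Subgroup.map_map]
      congr 1
      ext y
      show σ ((σ⁻¹ * τ) y) = τ y
      rw [MulAut.mul_apply, MulAut.apply_inv_self]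
    · have h2 := congrArg σ (h1 a ha b hb)
      rw [map_mul, map_mul, MulAut.mul_apply, MulAut.apply_inv_self] at h2
      exact h2
  have hmove : ∀ σ ∈ Γ, ∀ i : ι, ∃ j : ι, j.1 = i.1.map σ.toMonoidHom := by
    rintro σ hσ ⟨_, τ, hτ, rfl⟩
    refine ⟨⟨_, σ * τ, mul_mem hσ hτ, rfl⟩, ?_⟩
    show L.map (σ * τ).toMonoidHom = (L.map τ.toMonoidHom).map σ.toMonoidHom
    rw [Subgroup.map_map]
    rfl
  set R : Subgroup Q := ⨆ i : ι, Rp A x i.1 with hRdef
  have hRN : R ≤ ⨆ i : ι, i.1 := iSup_mono fun i => Rp_le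
  have hRA : R ≤ A := iSup_le fun i => Rp_le.trans (hKA i)
  have hL0 : L ≠ ⊥ := by
    rintro rfl
    exact hc1 (mem_bot.1 hc)
  -- invariance
  have hRp : ∀ τ ∈ Γ, x⁻¹ * τ x ∈ A → ∀ K : Subgroup Q, K ≤ A → ∀ r ∈ Rp A x K, τ r ∈ Rp A x (K.map τ.toMonoidHom) := by
    rintro τ hτ hτx K hK r ⟨hr, e, he, he1, he2⟩
    refine ⟨⟨r, hr, rfl⟩, τ e, (h.inv τ hτ e).2 he, ?_, ?_⟩
    · rintro _ ⟨k, hk, rfl⟩
      show τ e * τ k = τ k * τ e
      rw [← map_mul, he1 k hk, map_mul]
    · rw [← map_mul]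
      exact (mem_inf.1 (h.stab_M0 hτ hτx ⟨mul_mem (hK hr) he, he2⟩)).2
  have hRn : ∀ τ ∈ Γ, x⁻¹ * τ x ∈ A → ∀ k ∈ R, τ k ∈ R := by
    intro τ hτ hτx
    have h1 : R ≤ R.comap τ.toMonoidHom := by
      refine iSup_le fun i y hy => ?_
      obtain ⟨j, hj⟩ := hmove τ hτ i
      have h2 := hRp τ hτ hτx i.1 (hKA i) y hy
      rw [← hj] at h2
      exact (le_iSup (fun i : ι => Rp A x i.1) j) h2
    exact fun k hk => h1 hk
  have hNK : ∀ r ∈ R, ∀ i : ι, ∀ z ∈ i.1, r * z * r⁻¹ ∈ i.1 := fun r hr i z hz =>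
    EPT.t3_normalizes hpair (hRN hr) i hz
  have hRK : ∀ r ∈ R, ∀ i : ι, ∀ z ∈ Rp A x i.1, r * z * r⁻¹ ∈ Rp A x i.1 := fun r hr i z hz =>
    EPT.t3_normalizes (L := fun i : ι => Rp A x i.1)
      (fun i j hij a ha b hb => hpair i j hij a (Rp_le ha) b (Rp_le hb)) hr i hz
  rcases fac_or h hRA hx hRn with h1 | h1
  · apply h1
    exact (le_iSup (fun i : ι => Rp A x i.1) o) ⟨hl, d, hd, hdL, hld⟩
  · exfalso
    -- the decomposition of `σ` and its effect on `L`
    have hfix : ∀ σ ∈ Γ, ∀ i j : ι, (∀ y ∈ i.1, σ y ∈ j.1) → ∀ k ∈ R, ∀ τ : MulAut Q, σ = MulAut.conj k * τ →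
        ∀ y ∈ i.1, τ y ∈ j.1 := by
      intro σ hσ i j hij k hk τ e y hy
      have h2 := hij y hy
      rw [e, MulAut.mul_apply, MulAut.conj_apply] at h2
      have h3 := hNK k⁻¹ (inv_mem hk) j _ h2
      have h4 : k⁻¹ * (k * τ y * k⁻¹) * k⁻¹⁻¹ = τ y := by group
      rwa [h4] at h3
    have hLc : Rp A x L = L := by
      rcases hsim (Rp A x L) Rp_le (fun g hg r hr => by
        obtain ⟨k, hk, τ, hτ, hτx, e⟩ := h1 _ ((h.conj g).2 (hLA hg))
        have h2 : ∀ y ∈ L, τ y ∈ L := hfix _ ((h.conj g).2 (hLA hg)) o o (fun y hy => by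
          rw [MulAut.conj_apply]
          exact L.mul_mem (L.mul_mem hg hy) (L.inv_mem hg)) k hk τ e
        have h2' : ∀ y ∈ L, τ⁻¹ y ∈ L := by
          intro y hy
          have h3 : (τ⁻¹ : MulAut Q) = MulAut.conj (τ⁻¹ k) * (MulAut.conj g)⁻¹ := by
            rw [e, ← aut_conj]
            group
          have h4 : ((MulAut.conj g)⁻¹ : MulAut Q) y ∈ L := by
            rw [← map_inv, MulAut.conj_apply]
            exact L.mul_mem (L.mul_mem (L.inv_mem hg) hy) (L.inv_mem (L.inv_mem hg))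
          have hτ' : x⁻¹ * τ⁻¹ x ∈ A := by
            have h3 := (h.inv _ (Γ.inv_mem hτ) _).2 (A.inv_mem hτx)
            have e4 : τ⁻¹ (x⁻¹ * τ x)⁻¹ = x⁻¹ * τ⁻¹ x := by
              rw [mul_inv_rev, map_mul, map_inv, MulAut.inv_apply_self, inv_inv]
            rwa [e4] at h3
          have h5 : τ⁻¹ k ∈ R := hRn _ (inv_mem hτ) hτ' k hk
          rw [h3, MulAut.mul_apply, MulAut.conj_apply]
          exact hNK _ h5 o _ h4
        have h3 : L.map τ.toMonoidHom = L := by
          apply le_antisymm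
          · rintro _ ⟨y, hy, rfl⟩
            exact h2 y hy
          · intro y hy
            exact ⟨τ⁻¹ y, h2' y hy, MulAut.apply_inv_self Q τ y⟩
        have h4 := hRp τ hτ hτx L hLA r hr
        rw [h3] at h4
        have h5 : g * r * g⁻¹ = k * τ r * k⁻¹ := by
          have := congrArg (fun σ : MulAut Q => σ r) e
          simpa only [MulAut.conj_apply, MulAut.mul_apply] using this
        rw [h5]
        exact hRK k hk o _ h4) with h2 | h2
      · exfalso
        apply hc1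
        have h3 : c ∈ Rp A x L := ⟨hc, 1, one_mem _, fun k _ => by rw [one_mul, mul_one], by rwa [mul_one]⟩
        rw [h2, mem_bot] at h3
        exact h3
      · exact h2
    have hLx : L ≤ cj x A := by
      rcases hsim (L ⊓ cj x A) inf_le_left (fun g hg r hr => by
        refine ⟨L.mul_mem (L.mul_mem hg hr.1) (L.inv_mem hg), ?_⟩
        rw [← hLc] at hg
        obtain ⟨_, e, he, he1, he2⟩ := hg
        have h2 : g * r * g⁻¹ = (g * e) * r * (g * e)⁻¹ := by
          rw [mul_assoc g e r, he1 r hr.1, mul_inv_rev]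
          group
        rw [h2]
        exact (cj x A).mul_mem ((cj x A).mul_mem he2 hr.2) ((cj x A).inv_mem he2)) with h2 | h2
      · exfalso
        apply hc1
        have h3 : c ∈ L ⊓ cj x A := ⟨hc, hcx⟩
        rw [h2, mem_bot] at h3
        exact h3
      · rw [← h2]
        exact inf_le_right
    apply hx
    refine h.t3_mem (L := fun i : ι => i.1) hKA hpair ?_ (i := o) hL0 ?_ hLx
    · intro σ hσ i
      obtain ⟨j, hj⟩ := hmove σ hσ i
      refine ⟨j, fun y hy => ?_⟩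
      rw [hj]
      exact ⟨y, hy, rfl⟩
    · rintro ⟨_, σ, hσ, rfl⟩
      exact ⟨σ, hσ, le_rfl⟩

end Ept

end Cfsg.Agent.H358.EP
end

-- part: H358/EP/TvSlot
section
/-!
# Transvections and slots of a tensor power (helper358)
-/

set_option autoImplicit false

namespace Cfsg.Agent.H358.EP

open Cfsg Cfsg.Agent.H919
open scoped MatrixGroups Matrix

section Tv

variable {ι : Type} [Fintype ι] [DecidableEq ι] {F : Type*} [Field F]

/-- the transvection `1 + v φ` -/
def tv (v φ : ι → F) (h : φ ⬝ᵥ v = 0) : GL ι F where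
  val := 1 + Matrix.vecMulVec v φ
  inv := 1 - Matrix.vecMulVec v φ
  val_inv := by
    have : Matrix.vecMulVec v φ * Matrix.vecMulVec v φ = 0 := by
      rw [Matrix.vecMulVec_mul_vecMulVec, h, zero_smul]
      ext i j
      simp [Matrix.vecMulVec_apply]
    rw [mul_sub, mul_one, add_mul, one_mul, this, add_zero, add_sub_cancel_right]
  inv_val := by
    have : Matrix.vecMulVec v φ * Matrix.vecMulVec v φ = 0 := by
      rw [Matrix.vecMulVec_mul_vecMulVec, h, zero_smul]
      ext i j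
      simp [Matrix.vecMulVec_apply]
    rw [mul_add, mul_one, sub_mul, one_mul, this, sub_zero, sub_add_cancel]

theorem tv_val (v φ : ι → F) (h : φ ⬝ᵥ v = 0) : (tv v φ h : Matrix ι ι F) = 1 + Matrix.vecMulVec v φ := rfl

theorem det_tv (v φ : ι → F) (h : φ ⬝ᵥ v = 0) : Matrix.GeneralLinearGroup.det (tv v φ h) = 1 := by
  ext
  rw [Matrix.GeneralLinearGroup.val_det_apply, tv_val, Matrix.vecMulVec_eq Unit,
    Matrix.det_one_add_replicateCol_mul_replicateRow, h]
  simp

/-- `g` fixes `v` and `φ`: it commutes with the transvection -/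
theorem tv_comm {v φ : ι → F} (h : φ ⬝ᵥ v = 0) {g : GL ι F} (hv : (g : Matrix ι ι F) *ᵥ v = v)
    (hφ : φ ᵥ* (g : Matrix ι ι F) = φ) : g * tv v φ h = tv v φ h * g := by
  ext1
  rw [Units.val_mul, Units.val_mul, tv_val, mul_add, mul_one, add_mul, one_mul, Matrix.mul_vecMulVec,
    Matrix.vecMulVec_mul, hv, hφ]

/-- the commutator of a transvection with an element fixing `φ` but not `v` is of rank one -/
theorem tv_rankOne {v φ : ι → F} (h : φ ⬝ᵥ v = 0) (hφ0 : φ ≠ 0) {g : GL ι F} (hv : (g : Matrix ι ι F) *ᵥ v ≠ v)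
    (hφ : φ ᵥ* (g : Matrix ι ι F) = φ) : H918.IsRankOneElt (g⁻¹ * ((tv v φ h)⁻¹ * g * tv v φ h)) := by
  refine ⟨v - ((g⁻¹ : GL ι F) : Matrix ι ι F) *ᵥ v, φ, ?_, ?_, ?_⟩
  · intro h0
    apply hv
    rw [sub_eq_zero] at h0
    have h1 := congrArg (fun y => (g : Matrix ι ι F) *ᵥ y) h0
    simp only [Matrix.mulVec_mulVec] at h1
    rw [← Units.val_mul, mul_inv_cancel, Units.val_one, Matrix.one_mulVec] at h1
    exact h1
  · exact hφ0
  · have e1 : (((tv v φ h)⁻¹ : GL ι F) : Matrix ι ι F) = 1 - Matrix.vecMulVec v φ := rfl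
    have e2 : ((g⁻¹ : GL ι F) : Matrix ι ι F) * (g : Matrix ι ι F) = 1 := by
      rw [← Units.val_mul, inv_mul_cancel, Units.val_one]
    have e0 : Matrix.vecMulVec v φ * Matrix.vecMulVec v φ = 0 := by
      rw [Matrix.vecMulVec_mul_vecMulVec, h, zero_smul]
      ext i j
      simp [Matrix.vecMulVec_apply]
    rw [Units.val_mul, Units.val_mul, Units.val_mul, e1, tv_val, sub_mul, one_mul, Matrix.vecMulVec_mul, hφ,
      mul_add, mul_one, sub_mul, e0, sub_zero, Matrix.mul_vecMulVec, mul_add, mul_sub, e2, Matrix.mul_vecMulVec,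
      Matrix.mul_vecMulVec, Matrix.mulVec_mulVec, e2, Matrix.one_mulVec, Matrix.sub_vecMulVec]
    abel

theorem tv_isRankOne {v φ : ι → F} (h : φ ⬝ᵥ v = 0) (hφ0 : φ ≠ 0) (hv0 : v ≠ 0) : H918.IsRankOneElt (tv v φ h) :=
  ⟨v, φ, hv0, hφ0, rfl⟩

end Tv

section Slot

variable {F : Type*} [Field F] {k t : ℕ}

/-- the tensor product of invertible matrices -/
def pureHom : (Fin t → GL (Fin k) F) →* GL (Fin t → Fin k) F where
  toFun := pureGL
  map_one' := by
    ext1
    rw [pureGL_val]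
    simp only [Pi.one_apply, Units.val_one]
    exact pureMat_one
  map_mul' a b := by
    ext1
    rw [Units.val_mul, pureGL_val, pureGL_val, pureGL_val, pureMat_mul]
    rfl

theorem pureHom_apply (b : Fin t → GL (Fin k) F) : pureHom b = pureGL b := rfl

theorem pureHom_mem (b : Fin t → GL (Fin k) F) : pureHom b ∈ Geo.tensorWreathStandard k t F := pureGL_mem b

/-- an element of the slot `i` -/
def slot (i : Fin t) : GL (Fin k) F →* GL (Fin t → Fin k) F := pureHom.comp (MonoidHom.mulSingle (fun _ => GL (Fin k) F) i)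

theorem slot_eq (i : Fin t) (g : GL (Fin k) F) : slot i g = pureHom (Pi.mulSingle i g) := rfl

theorem slot_val (i : Fin t) (g : GL (Fin k) F) :
    (slot i g : Matrix (Fin t → Fin k) (Fin t → Fin k) F) = slotMat i (g : Matrix (Fin k) (Fin k) F) := by
  rw [slot_eq, pureHom_apply, pureGL_val, slotMat]
  congr 1
  funext j
  by_cases h : j = i
  · subst h
    rw [Pi.mulSingle_eq_same, Function.update_self]
  · rw [Pi.mulSingle_eq_of_ne h, Function.update_of_ne h, Units.val_one]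

theorem slot_comm {i j : Fin t} (hij : i ≠ j) (a b : GL (Fin k) F) : slot i a * slot j b = slot j b * slot i a := by
  rw [slot_eq, slot_eq, ← map_mul, ← map_mul, (Pi.mulSingle_commute (f := fun _ : Fin t => GL (Fin k) F) hij a b).eq]

theorem pureHom_conj_slot (b : Fin t → GL (Fin k) F) (i : Fin t) (g : GL (Fin k) F) :
    pureHom b * slot i g * (pureHom b)⁻¹ = slot i (b i * g * (b i)⁻¹) := by
  rw [slot_eq, slot_eq, ← map_inv, ← map_mul, ← map_mul]
  congr 1
  funext j
  by_cases h : j = i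
  · subst h
    rw [Pi.mulSingle_eq_same, Pi.mul_apply, Pi.mul_apply, Pi.mulSingle_eq_same, Pi.inv_apply]
  · rw [Pi.mulSingle_eq_of_ne h, Pi.mul_apply, Pi.mul_apply, Pi.mulSingle_eq_of_ne h, mul_one, Pi.inv_apply,
      mul_inv_cancel]

/-- the pure tensors are normal in the wreath group -/
theorem conj_pure {g : GL (Fin t → Fin k) F} (hg : g ∈ Geo.tensorWreathStandard k t F) (b : Fin t → GL (Fin k) F) :
    ∃ c : Fin t → GL (Fin k) F, g * pureHom b * g⁻¹ = pureHom c := by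
  obtain ⟨gs, σ, hgs⟩ := H918.isWreathElt_of_mem hg
  refine ⟨fun i => gs i * b (σ i) * (gs i)⁻¹, ?_⟩
  rw [mul_inv_eq_iff_eq_mul]
  ext x z
  have h1 := H918.wreath_mul_apply (g := g) (h := pureHom b) (τ := 1) hgs (fun _ _ => rfl) x z
  have h2 := H918.wreath_mul_apply (g := pureHom (fun i => gs i * b (σ i) * (gs i)⁻¹)) (h := g) (σ := 1)
    (fun _ _ => rfl) hgs x z
  rw [h1, h2]
  refine Finset.prod_congr rfl fun i _ => ?_
  rw [Equiv.Perm.one_apply, Equiv.Perm.one_apply, inv_mul_cancel_right]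

/-- the determinant of an element of a slot -/
theorem det_slot (hk : 3 ≤ k) (i : Fin t) (s : Matrix.SpecialLinearGroup (Fin k) F) :
    Matrix.GeneralLinearGroup.det (slot i (Matrix.SpecialLinearGroup.toGL s)) = 1 := by
  let f : Matrix.SpecialLinearGroup (Fin k) F →* Fˣ :=
    (Matrix.GeneralLinearGroup.det.comp (slot i)).comp Matrix.SpecialLinearGroup.toGL
  have h1 : commutator (Matrix.SpecialLinearGroup (Fin k) F) ≤ f.ker := Abelianization.commutator_subset_ker f
  rw [LieClassical.SLGen.commutator_eq_top (by simpa only [_root_.Fintype.card_fin] using hk)] at h1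
  exact h1 (Subgroup.mem_top s)

/-- the action of a transvection of a slot on the basis -/
theorem slot_tr_mulVec (i : Fin t) {p q : Fin k} (hpq : p ≠ q) (a : F) (x : Fin t → Fin k) :
    (slot i (Matrix.SpecialLinearGroup.toGL (Matrix.SpecialLinearGroup.transvection hpq a)) :
      Matrix (Fin t → Fin k) (Fin t → Fin k) F) *ᵥ Pi.single x 1 =
      Pi.single x 1 + if x i = q then a • Pi.single (Function.update x i p) 1 else 0 := by
  rw [slot_val]
  have e1 : ((Matrix.SpecialLinearGroup.toGL (Matrix.SpecialLinearGroup.transvection hpq a) : GL (Fin k) F) :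
      Matrix (Fin k) (Fin k) F) = 1 + Matrix.single p q a := rfl
  rw [e1, slotMat_add, slotMat_one, Matrix.add_mulVec, Matrix.one_mulVec]
  congr 1
  funext y
  rw [Matrix.mulVec_single_one, Matrix.col_apply, slotMat_apply_eq, Matrix.single_apply]
  by_cases h1 : x i = q
  · rw [if_pos h1, Pi.smul_apply, smul_eq_mul]
    by_cases h2 : y = Function.update x i p
    · subst h2
      rw [Pi.single_eq_same, mul_one, Function.update_self, if_pos rfl, if_pos ⟨rfl, h1.symm⟩]
    · rw [Pi.single_eq_of_ne h2, mul_zero]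
      by_cases h3 : y = Function.update x i (y i)
      · rw [if_pos h3, if_neg]
        rintro ⟨h4, _⟩
        apply h2
        rw [h3, ← h4]
      · rw [if_neg h3]
  · rw [if_neg h1]
    by_cases h3 : y = Function.update x i (y i)
    · rw [if_pos h3, if_neg (fun h4 => h1 h4.2.symm)]
      rfl
    · rw [if_neg h3]
      rfl

/-- the action of a transvection of a slot on the dual basis -/
theorem slot_tr_vecMul (i : Fin t) {p q : Fin k} (hpq : p ≠ q) (a : F) (x : Fin t → Fin k) (hx : x i ≠ p) :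
    Pi.single x 1 ᵥ* (slot i (Matrix.SpecialLinearGroup.toGL (Matrix.SpecialLinearGroup.transvection hpq a)) :
      Matrix (Fin t → Fin k) (Fin t → Fin k) F) = Pi.single x 1 := by
  rw [slot_val]
  have e1 : ((Matrix.SpecialLinearGroup.toGL (Matrix.SpecialLinearGroup.transvection hpq a) : GL (Fin k) F) :
      Matrix (Fin k) (Fin k) F) = 1 + Matrix.single p q a := rfl
  rw [e1, slotMat_add, slotMat_one, Matrix.vecMul_add, Matrix.vecMul_one, add_eq_left]
  funext y
  rw [Matrix.single_one_vecMul, Matrix.row_apply, slotMat_apply_eq, Matrix.single_apply]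
  split_ifs with h1 h2
  · exact absurd h2.1.symm hx
  · rfl
  · rfl

/-- scalars in a slot -/
theorem slot_scalar (i : Fin t) {g : GL (Fin k) F} (hg : g ∈ Geo.scalars (Fin k) F) :
    slot i g ∈ Geo.scalars (Fin t → Fin k) F := by
  rw [Geo.mem_scalars_iff] at hg ⊢
  obtain ⟨c, hc⟩ := hg
  refine ⟨c, ?_⟩
  rw [slot_val, hc, slotMat_smul, slotMat_one]

open Matrix.SpecialLinearGroup (toGL transvection) in
/-- **The elements**: a vector `v` and a covector `φ` of the tensor power, `c`, `l` in the slot `j0`, `d` in the slot `j1`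
such that `c` and `l d` fix `v` and `φ`, and `l` fixes `φ` but not `v`. -/
theorem exists_elts (F : Type*) [Field F] {k t : ℕ} (hk : 3 ≤ k) (ht : 2 ≤ t) :
    ∃ (j0 j1 : Fin t) (v φ : (Fin t → Fin k) → F) (_ : φ ⬝ᵥ v = 0) (c l d : Matrix.SpecialLinearGroup (Fin k) F),
      j0 ≠ j1 ∧ φ ≠ 0 ∧ v ≠ 0 ∧ c ∉ Subgroup.center (Matrix.SpecialLinearGroup (Fin k) F) ∧
      (slot j0 (toGL c)).val *ᵥ v = v ∧ φ ᵥ* (slot j0 (toGL c)).val = φ ∧
      (slot j0 (toGL l)).val *ᵥ v ≠ v ∧ φ ᵥ* (slot j0 (toGL l)).val = φ ∧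
      (slot j0 (toGL l) * slot j1 (toGL d)).val *ᵥ v = v ∧ φ ᵥ* (slot j0 (toGL l) * slot j1 (toGL d)).val = φ := by
  let i0 : Fin k := ⟨0, by omega⟩
  let i1 : Fin k := ⟨1, by omega⟩
  let i2 : Fin k := ⟨2, by omega⟩
  let j0 : Fin t := ⟨0, by omega⟩
  let j1 : Fin t := ⟨1, by omega⟩
  have h01 : i0 ≠ i1 := by simp [i0, i1]
  have h02 : i0 ≠ i2 := by simp [i0, i2]
  have h12 : i1 ≠ i2 := by simp [i1, i2]
  have hj : j0 ≠ j1 := by simp [j0, j1]
  let a1 : Fin t → Fin k := fun _ => i0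
  let a2 : Fin t → Fin k := Function.update (Function.update a1 j0 i1) j1 i1
  let a3 : Fin t → Fin k := Function.update (Function.update a1 j0 i2) j1 i2
  let b : Fin t → Fin k := Function.update a1 j1 i1
  have a2j0 : a2 j0 = i1 := by simp [a2, Function.update_of_ne hj]
  have a2j1 : a2 j1 = i1 := by simp [a2]
  have a3j0 : a3 j0 = i2 := by simp [a3, Function.update_of_ne hj]
  have a3j1 : a3 j1 = i2 := by simp [a3]
  have bj0 : b j0 = i0 := by simp [b, Function.update_of_ne hj, a1]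
  have e1 : Function.update a2 j0 i0 = b := by
    simp only [a2, b]
    rw [Function.update_comm hj.symm, Function.update_idem]
    congr 1
    exact Function.update_eq_self j0 a1
  have h31 : a3 ≠ a1 := fun e => h02 (by rw [← a3j0, e])
  have h32 : a3 ≠ a2 := fun e => h12 (by rw [← a3j0, e, a2j0])
  have h12' : a1 ≠ a2 := fun e => h01 (by rw [← a2j0, ← e])
  let v : (Fin t → Fin k) → F := Pi.single a1 1 + Pi.single a2 1
  let φ : (Fin t → Fin k) → F := Pi.single a3 1
  have hb1 : b ≠ a1 := fun e => h01 (by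
    have h1 : b j1 = i1 := by simp [b]
    rw [e] at h1
    exact h1)
  refine ⟨j0, j1, v, φ, ?_, transvection h02 1, transvection h01 1, transvection h01.symm (-1), hj, ?_, ?_, ?_, ?_, ?_,
    ?_, ?_, ?_, ?_⟩
  · show Pi.single a3 1 ⬝ᵥ (Pi.single a1 1 + Pi.single a2 1) = (0 : F)
    rw [single_one_dotProduct, Pi.add_apply, Pi.single_eq_of_ne h31, Pi.single_eq_of_ne h32, add_zero]
  · intro h
    have := congrFun h a3
    rw [show φ a3 = 1 from Pi.single_eq_same _ _] at this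
    exact one_ne_zero this
  · intro h
    have := congrFun h a1
    rw [show v a1 = 1 by
      show (Pi.single a1 1 + Pi.single a2 1 : (Fin t → Fin k) → F) a1 = 1
      rw [Pi.add_apply, Pi.single_eq_same, Pi.single_eq_of_ne h12', add_zero]] at this
    exact one_ne_zero this
  · rw [Matrix.SpecialLinearGroup.transvection_mem_center_iff]
    exact one_ne_zero
  · show _ *ᵥ (Pi.single a1 1 + Pi.single a2 1) = Pi.single a1 1 + Pi.single a2 1
    rw [Matrix.mulVec_add, slot_tr_mulVec, slot_tr_mulVec, if_neg h02, if_neg (by rw [a2j0]; exact h12), add_zero,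
      add_zero]
  · exact slot_tr_vecMul j0 h02 1 a3 (by rw [a3j0]; exact h02.symm)
  · show _ *ᵥ (Pi.single a1 1 + Pi.single a2 1) ≠ Pi.single a1 1 + Pi.single a2 1
    rw [Matrix.mulVec_add, slot_tr_mulVec, slot_tr_mulVec, if_neg h01, if_pos a2j0, add_zero, e1, ← add_assoc]
    intro h
    have := congrFun h b
    rw [Pi.add_apply, add_eq_left, Pi.smul_apply, Pi.single_eq_same, smul_eq_mul, mul_one] at this
    exact one_ne_zero this
  · exact slot_tr_vecMul j0 h01 1 a3 (by rw [a3j0]; exact h02.symm)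
  · show _ *ᵥ (Pi.single a1 1 + Pi.single a2 1) = Pi.single a1 1 + Pi.single a2 1
    rw [Units.val_mul, ← Matrix.mulVec_mulVec, Matrix.mulVec_add, slot_tr_mulVec, slot_tr_mulVec, if_pos rfl,
      if_neg (by rw [a2j1]; exact h01.symm), add_zero, Matrix.mulVec_add, Matrix.mulVec_add, Matrix.mulVec_smul]
    rw [slot_tr_mulVec, slot_tr_mulVec, slot_tr_mulVec, if_neg h01, if_pos a2j0, if_neg (by
      show b j0 ≠ i1
      rw [bj0]; exact h01), e1]
    show Pi.single a1 1 + 0 + (-1 : F) • (Pi.single b 1 + 0) + (Pi.single a2 1 + (1 : F) • Pi.single b 1) = _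
    rw [add_zero, add_zero, neg_one_smul, one_smul]
    abel
  · show Pi.single a3 1 ᵥ* _ = Pi.single a3 1
    rw [Units.val_mul, ← Matrix.vecMul_vecMul, slot_tr_vecMul j0 h01 1 a3 (by rw [a3j0]; exact h02.symm),
      slot_tr_vecMul j1 h01.symm (-1) a3 (by rw [a3j1]; exact h12.symm)]

end Slot

end Cfsg.Agent.H358.EP
end

-- part: H358/EP/SLC7
section
/-!
# S3499, linear groups, class 7 (helper358)
-/

set_option autoImplicit false

namespace Cfsg.Agent.H358.EP

open Subgroup Cfsg.Agent.H284 Cfsg.Agent.H419.EP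
open Cfsg.Agent.H919 (frameGL frameMat frameGL_val frameMat_injective mem_tensorWreathSubgroup_iff)
open scoped commutatorElement MatrixGroups Matrix

section Pull

variable {Q : Type*} [Group Q] {ι κ : Type} [Fintype ι] [DecidableEq ι] [Fintype κ] [DecidableEq κ] {F : Type*}
  [Field F] {S : Subgroup (GL ι F)}

/-- a model transported along an isomorphism of the linear groups -/
def pull (m : Model Q S) (f : GL κ F ≃* GL ι F) {S' : Subgroup (GL κ F)} (hS : ∀ g, f g ∈ S ↔ g ∈ S')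
    (hf : ∀ g, f g ∈ Geo.scalars ι F ↔ g ∈ Geo.scalars κ F) : Model Q S' where
  π := m.π.comp ((f.toMonoidHom.comp S'.subtype).codRestrict S fun s => (hS s).2 s.2)
  surj := by
    intro q
    obtain ⟨s, rfl⟩ := m.surj q
    refine ⟨⟨f.symm s, (hS _).1 (by rw [MulEquiv.apply_symm_apply]; exact s.2)⟩, ?_⟩
    show m.π ⟨f (f.symm s), _⟩ = m.π s
    congr 1
    apply Subtype.ext
    exact f.apply_symm_apply s
  ker := by
    intro s
    rw [← hf s]
    exact m.ker ⟨f s, (hS s).2 s.2⟩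

theorem mem_hat_pull (m : Model Q S) (f : GL κ F ≃* GL ι F) {S' : Subgroup (GL κ F)} (hS : ∀ g, f g ∈ S ↔ g ∈ S')
    (hf : ∀ g, f g ∈ Geo.scalars ι F ↔ g ∈ Geo.scalars κ F) {A : Subgroup Q} (g : GL κ F) :
    g ∈ (pull m f hS hf).hat A ↔ f g ∈ m.hat A := by
  rw [Model.mem_hat, Model.mem_hat]
  constructor
  · rintro ⟨hg, h⟩
    exact ⟨(hS g).2 hg, h⟩
  · rintro ⟨hg, h⟩
    exact ⟨(hS g).1 hg, h⟩

theorem det_frameGL {k t : ℕ} (e : ι ≃ (Fin t → Fin k)) (P : GL ι F) (g : GL (Fin t → Fin k) F) :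
    Matrix.GeneralLinearGroup.det (frameGL e P g) = Matrix.GeneralLinearGroup.det g := by
  show Matrix.GeneralLinearGroup.det (P * Geo.glReindex e.symm g * P⁻¹) = _
  rw [map_mul, map_mul, map_inv, mul_comm (Matrix.GeneralLinearGroup.det P), mul_inv_cancel_right]
  ext
  rw [Matrix.GeneralLinearGroup.val_det_apply, Matrix.GeneralLinearGroup.val_det_apply]
  exact Matrix.det_reindexAlgEquiv F F e.symm _

theorem frameGL_scalars {k t : ℕ} (e : ι ≃ (Fin t → Fin k)) (P : GL ι F) (g : GL (Fin t → Fin k) F) :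
    frameGL e P g ∈ Geo.scalars ι F ↔ g ∈ Geo.scalars (Fin t → Fin k) F := by
  rw [Geo.mem_scalars_iff, Geo.mem_scalars_iff]
  refine exists_congr fun c => ?_
  rw [frameGL_val]
  have e1 : frameMat e P ((c : F) • 1) = (c : F) • (1 : Matrix ι ι F) := by
    rw [frameMat, map_smul, map_one, mul_smul_comm, mul_one, smul_mul_assoc, ← Units.val_mul, mul_inv_cancel,
      Units.val_one]
  rw [← e1, (frameMat_injective e P).eq_iff]

end Pull

section Rng

variable {F : Type*} [Field F] {k : ℕ} {Q : Type*} [Group Q]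

/-- the image of `SL_k(F)`, `k ≥ 3`, modulo scalars is simple -/
theorem range_simple (hk : 3 ≤ k) (ψ : Matrix.SpecialLinearGroup (Fin k) F →* Q)
    (hz : ∀ z ∈ center (Matrix.SpecialLinearGroup (Fin k) F), ψ z = 1) (N : Subgroup Q) (hN : N ≤ ψ.range)
    (hNn : ∀ l ∈ ψ.range, ∀ n ∈ N, l * n * l⁻¹ ∈ N) : N = ⊥ ∨ N = ψ.range := by
  have : NeZero k := ⟨by omega⟩
  have hn : (N.comap ψ).Normal := by
    refine ⟨fun n hn g => ?_⟩
    rw [mem_comap, map_mul, map_mul, map_inv]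
    exact hNn _ ⟨g, rfl⟩ _ hn
  by_cases hq : ∃ g, QuotientGroup.mk' (N.comap ψ) g ≠ 1
  · left
    have h1 := H321.Ker.ker_le_center hk hq
    rw [QuotientGroup.ker_mk'] at h1
    rw [eq_bot_iff_forall]
    intro n hn
    obtain ⟨g, rfl⟩ := hN hn
    exact hz g (h1 hn)
  · right
    push Not at hq
    refine le_antisymm hN ?_
    rintro _ ⟨g, rfl⟩
    have h1 := hq g
    rw [QuotientGroup.mk'_apply, QuotientGroup.eq_one_iff] at h1
    exact h1

theorem range_perfect (hk : 3 ≤ k) (ψ : Matrix.SpecialLinearGroup (Fin k) F →* Q) :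
    ψ.range ≤ ⁅ψ.range, ψ.range⁆ := by
  rw [MonoidHom.range_eq_map, ← map_commutator]
  apply map_mono
  have h1 := LieClassical.SLGen.commutator_eq_top (ι := Fin k) (F := F) (by simpa only [_root_.Fintype.card_fin] using hk)
  rw [commutator_def] at h1
  rw [h1]

end Rng

section Std

variable {Q : Type*} [Group Q] {A : Subgroup Q} {Γ : Subgroup (MulAut Q)}

open Matrix.SpecialLinearGroup (toGL transvection)

theorem slC7_std (h : EPT A Γ) {k t : ℕ} (hk : 3 ≤ k) (ht : 2 ≤ t) {F : Type*} [Field F]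
    (m : Model Q (Geo.specialLinear (Fin t → Fin k) F)) (hA : m.hat A ≤ Geo.tensorWreathStandard k t F) : False := by
  have : NeZero k := ⟨by omega⟩
  obtain ⟨j0, j1, v, φ, hvφ, c, l, d, hj, hφ0, hv0, hcc, hc1, hc2, hl1, hl2, hd1, hd2⟩ := exists_elts F hk ht
  let S := Geo.specialLinear (Fin t → Fin k) F
  set z : GL (Fin t → Fin k) F := tv v φ hvφ with hz
  have hzS : z ∈ S := det_tv v φ hvφ
  have hzM : z ∉ Geo.tensorWreathStandard k t F :=
    (tv_isRankOne hvφ hφ0 hv0).not_mem_tensorWreathStandard hk ht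
  have hhat : m.hat A = Geo.tensorWreathStandard k t F ⊓ S :=
    H918.eq_inf_of_maximal (m.isMaximalIn h.max) hA fun hle => hzM (hle hzS)
  have hmemA : ∀ s : S, m.π s ∈ A ↔ (s : GL (Fin t → Fin k) F) ∈ Geo.tensorWreathStandard k t F := by
    intro s
    rw [← m.mem_hat_iff, hhat, mem_inf]
    exact and_iff_left s.2
  -- the slots
  let η : Fin t → Matrix.SpecialLinearGroup (Fin k) F →* S := fun i =>
    ((slot i).comp toGL).codRestrict S fun s => det_slot hk i s
  have hη : ∀ i s, ((η i s : S) : GL (Fin t → Fin k) F) = slot i (toGL s) := fun _ _ => rfl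
  have hηA : ∀ i s, m.π (η i s) ∈ A := fun i s => (hmemA _).2 (pureHom_mem _)
  let ψ : Matrix.SpecialLinearGroup (Fin k) F →* Q := m.π.comp (η j0)
  have hψz : ∀ y ∈ center (Matrix.SpecialLinearGroup (Fin k) F), ψ y = 1 := by
    intro y hy
    show m.π (η j0 y) = 1
    rw [m.ker, hη]
    apply slot_scalar
    rw [Matrix.SpecialLinearGroup.mem_center_iff] at hy
    obtain ⟨r, hr, hr2⟩ := hy
    rw [Geo.mem_scalars_iff]
    have hr0 : r ≠ 0 := by
      rintro rfl
      rw [Fintype.card_fin, zero_pow (by omega)] at hr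
      exact zero_ne_one hr
    refine ⟨Units.mk0 r hr0, ?_⟩
    show (y : Matrix (Fin k) (Fin k) F) = _
    rw [← hr2, Matrix.scalar_apply, Units.val_mk0, Matrix.smul_one_eq_diagonal]
  set L : Subgroup Q := ψ.range with hL
  have hLA : L ≤ A := by
    rintro _ ⟨s, rfl⟩
    exact hηA j0 s
  -- the pure tensors
  let D : Subgroup Q := ((pureHom (F := F) (k := k) (t := t)).range.subgroupOf S).map m.π
  have hDA : D ≤ A := by
    rintro _ ⟨s, ⟨b, hb⟩, rfl⟩
    rw [hmemA]
    have hb' : pureHom b = (s : GL (Fin t → Fin k) F) := hb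
    rw [← hb']
    exact pureHom_mem b
  have hLD : L ≤ D := by
    rintro _ ⟨s, rfl⟩
    exact ⟨η j0 s, ⟨Pi.mulSingle j0 (toGL s), rfl⟩, rfl⟩
  have nD : ∀ a ∈ A, ∀ y ∈ D, a * y * a⁻¹ ∈ D := by
    rintro a ha _ ⟨s, ⟨b, hb⟩, rfl⟩
    obtain ⟨g, rfl⟩ := m.surj a
    rw [hmemA] at ha
    have hb' : pureHom b = (s : GL (Fin t → Fin k) F) := hb
    obtain ⟨b', hb2⟩ := conj_pure ha b
    refine ⟨g * s * g⁻¹, ⟨b', ?_⟩, by rw [map_mul, map_mul, map_inv]⟩
    show pureHom b' = (g : GL (Fin t → Fin k) F) * s * (g : GL (Fin t → Fin k) F)⁻¹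
    rw [← hb', ← hb2]
  have nL : ∀ a ∈ D, ∀ y ∈ L, a * y * a⁻¹ ∈ L := by
    rintro _ ⟨s, ⟨b, hb⟩, rfl⟩ _ ⟨y, rfl⟩
    have hb' : pureHom b = (s : GL (Fin t → Fin k) F) := hb
    let y' : Matrix.SpecialLinearGroup (Fin k) F := ⟨((b j0 * toGL y * (b j0)⁻¹ : GL (Fin k) F) : Matrix _ _ F), by
      have h1 : Matrix.GeneralLinearGroup.det (b j0 * toGL y * (b j0)⁻¹) = 1 := by
        rw [map_mul, map_mul, map_inv, mul_comm (Matrix.GeneralLinearGroup.det (b j0)), mul_inv_cancel_right]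
        ext
        exact y.2
      have h2 := congrArg Units.val h1
      rw [Matrix.GeneralLinearGroup.val_det_apply] at h2
      exact h2⟩
    have hy' : toGL y' = b j0 * toGL y * (b j0)⁻¹ := by
      ext1
      rfl
    refine ⟨y', ?_⟩
    show m.π (η j0 y') = m.π s * m.π (η j0 y) * (m.π s)⁻¹
    rw [← map_inv, ← map_mul, ← map_mul]
    congr 1
    apply Subtype.ext
    show slot j0 (toGL y') = (s : GL (Fin t → Fin k) F) * slot j0 (toGL y) * (s : GL (Fin t → Fin k) F)⁻¹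
    rw [hy', ← hb', pureHom_conj_slot]
  have hsim := range_simple hk ψ hψz
  have hperf := range_perfect hk ψ
  rw [← hL] at hsim hperf
  have hcomm : ∀ σ ∈ Γ, L.map σ.toMonoidHom = L ∨ ∀ a ∈ L, ∀ b ∈ L, a * σ b = σ b * a := by
    intro σ hσ
    have hσA : ∀ a ∈ A, ∃ a' ∈ A, σ a' = a := fun a ha =>
      ⟨σ⁻¹ a, (h.inv _ (inv_mem hσ) a).2 ha, MulAut.apply_inv_self Q σ a⟩
    rcases comm_or_eq (A := A) (L := L) (D := D) (K := L.map σ.toMonoidHom) (E := D.map σ.toMonoidHom) hLD hDA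
      (map_mono hLD) (by
        rintro _ ⟨y, hy, rfl⟩
        exact (h.inv σ hσ y).2 (hDA hy)) nD (by
        rintro a ha _ ⟨y, hy, rfl⟩
        obtain ⟨a', ha', rfl⟩ := hσA a ha
        exact ⟨a' * y * a'⁻¹, nD a' ha' y hy, by
          show σ (a' * y * a'⁻¹) = σ a' * σ y * (σ a')⁻¹
          rw [map_mul, map_mul, map_inv]⟩) nL (by
        rintro _ ⟨a, ha, rfl⟩ _ ⟨y, hy, rfl⟩
        exact ⟨a * y * a⁻¹, nL a ha y hy, by
          show σ (a * y * a⁻¹) = σ a * σ y * (σ a)⁻¹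
          rw [map_mul, map_mul, map_inv]⟩) hsim (by
        intro N hN hNn
        have h1 := hsim (N.comap σ.toMonoidHom) (by
          intro y hy
          obtain ⟨y', hy', e⟩ := hN hy
          have : y' = y := σ.injective e
          rwa [← this]) (by
          intro a ha n hn
          show σ (a * n * a⁻¹) ∈ N
          rw [map_mul, map_mul, map_inv]
          exact hNn _ ⟨a, ha, rfl⟩ _ hn)
        have h2 : (N.comap σ.toMonoidHom).map σ.toMonoidHom = N :=
          map_comap_eq_self_of_surjective σ.surjective N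
        rcases h1 with h1 | h1
        · left
          rw [← h2, h1, Subgroup.map_bot]
        · right
          rw [← h2, h1]) hperf (by
        rw [← map_commutator]
        exact map_mono hperf) with h1 | h1
    · left
      exact h1.symm
    · right
      intro a ha b hb
      exact h1 a ha _ ⟨b, hb, rfl⟩
  -- the point
  set x : Q := m.π ⟨z, hzS⟩ with hx
  have hxA : x ∉ A := fun h1 => hzM ((hmemA _).1 h1)
  -- `l` does not fix the point
  have hlx : ψ l ∉ cj x A := by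
    intro h1
    rw [mem_cj] at h1
    have h2 : (ψ l)⁻¹ * (x⁻¹ * ψ l * x) ∈ A := A.mul_mem (A.inv_mem (hηA j0 l)) h1
    have h3 : (ψ l)⁻¹ * (x⁻¹ * ψ l * x) = m.π ((η j0 l)⁻¹ * ((⟨z, hzS⟩ : S)⁻¹ * η j0 l * ⟨z, hzS⟩)) := by
      rw [map_mul, map_mul, map_mul, map_inv, map_inv]
      rfl
    rw [h3, hmemA] at h2
    exact (tv_rankOne hvφ hφ0 hl1 hl2).not_mem_tensorWreathStandard hk ht h2
  have hcomx : ∀ g : S, (g : GL (Fin t → Fin k) F) * z = z * (g : GL (Fin t → Fin k) F) → m.π g ∈ A →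
      m.π g ∈ cj x A := by
    intro g hg hgA
    rw [mem_cj]
    have h1 : x⁻¹ * m.π g * x = m.π g := by
      rw [mul_assoc, inv_mul_eq_iff_eq_mul, hx, ← map_mul, ← map_mul]
      congr 1
      exact Subtype.ext hg
    rw [h1]
    exact hgA
  apply hlx
  refine comp_lemma h hLA hcomm hsim hxA (c := ψ c) (d := m.π (η j1 d)) ⟨c, rfl⟩ ?_ ?_ ⟨l, rfl⟩ (hηA j1 d) ?_ ?_
  · intro h1
    apply hcc
    apply H321.Ker.ker_le_center hk (ψ := ψ) ⟨l, fun h2 => hlx (by rw [h2]; exact one_mem _)⟩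
    exact h1
  · exact hcomx (η j0 c) (tv_comm hvφ hc1 hc2) (hηA j0 c)
  · rintro _ ⟨y, rfl⟩
    show m.π (η j1 d) * m.π (η j0 y) = m.π (η j0 y) * m.π (η j1 d)
    rw [← map_mul, ← map_mul]
    congr 1
    apply Subtype.ext
    exact slot_comm hj.symm _ _
  · have h1 := hcomx (η j0 l * η j1 d) (tv_comm hvφ hd1 hd2) (by
      rw [map_mul]
      exact A.mul_mem (hηA j0 l) (hηA j1 d))
    rw [map_mul] at h1
    exact h1

end Std

/-- **S3499-III-SL-C7** -/
theorem slC7 {Q : Type*} [Group Q] {A : Subgroup Q} {Γ : Subgroup (MulAut Q)} (h : EPT A Γ) {ι : Type} [Fintype ι]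
    [DecidableEq ι] {F : Type*} [Field F] (m : Model Q (Geo.specialLinear ι F)) {k t : ℕ} (hk : 3 ≤ k) (ht : 2 ≤ t)
    (e : ι ≃ (Fin t → Fin k)) (P : GL ι F) (hA : m.hat A ≤ Geo.tensorWreathSubgroup k t e P) : False := by
  let m' : Model Q (Geo.specialLinear (Fin t → Fin k) F) := pull m (frameGL e P)
    (fun g => by
      show Matrix.GeneralLinearGroup.det (frameGL e P g) = 1 ↔ Matrix.GeneralLinearGroup.det g = 1
      rw [det_frameGL]) (frameGL_scalars e P)
  refine slC7_std h hk ht m' ?_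
  intro g hg
  have h1 : frameGL e P g ∈ m.hat A := (mem_hat_pull m _ _ _ g).1 hg
  obtain ⟨g', hg', e1⟩ := (mem_tensorWreathSubgroup_iff e P _).1 (hA h1)
  rwa [(frameGL e P).injective e1] at hg'

end Cfsg.Agent.H358.EP
end

-- part: H72/EPX/Tr
section
/-!
# Trace forms and an irreducible self-adjoint element of prime order (S3499, class 8, helper72)
-/

set_option autoImplicit false
set_option linter.unusedSectionVars false

namespace Cfsg.Agent.H72.EPX

open Matrix Module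

section trace

variable {F : Type*} [Field F] {K : Type*} [Field K] [Algebra F K] [FiniteDimensional F K] {n : ℕ}
  (β : Basis (Fin n) F K)

/-- Gram matrix of `Tr (a v w)` -/
noncomputable def Gm (a : K) : Matrix (Fin n) (Fin n) F := Matrix.of fun i j => Algebra.trace F K (a * β i * β j)

theorem Gm_apply (a : K) (i j : Fin n) : Gm β a i j = Algebra.trace F K (a * β i * β j) := rfl

theorem Gm_transpose (a : K) : (Gm β a)ᵀ = Gm β a := by
  ext i j
  rw [Matrix.transpose_apply, Gm_apply, Gm_apply]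
  congr 1
  ring

theorem Gm_mul (a b : K) : Gm β a * Algebra.leftMulMatrix β b = Gm β (a * b) := by
  ext i j
  rw [Matrix.mul_apply, Gm_apply]
  simp only [Gm_apply, Algebra.leftMulMatrix_eq_repr_mul]
  have h1 : b * β j = ∑ k, β.repr (b * β j) k • β k := (β.sum_repr _).symm
  have h2 : a * b * β i * β j = ∑ k, β.repr (b * β j) k • (a * β i * β k) := by
    rw [show a * b * β i * β j = a * β i * (b * β j) by ring]
    conv_lhs => rw [h1]
    rw [Finset.mul_sum]
    refine Finset.sum_congr rfl fun k _ => ?_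
    rw [mul_smul_comm]
  rw [h2, map_sum]
  refine Finset.sum_congr rfl fun k _ => ?_
  rw [map_smul, smul_eq_mul, mul_comm]

theorem Gm_one : Gm β 1 = Algebra.traceMatrix F β := by
  ext i j
  rw [Gm_apply, one_mul, Algebra.traceMatrix_apply, Algebra.traceForm_apply]

theorem det_Gm (a : K) : (Gm β a).det = (Gm β 1).det * Algebra.norm F a := by
  rw [Algebra.norm_eq_matrix_det β, ← Matrix.det_mul, Gm_mul, one_mul]

theorem det_Gm_one [Algebra.IsSeparable F K] : (Gm β 1).det ≠ 0 := by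
  rw [Gm_one]
  exact Algebra.discr_not_zero_of_basis F β

theorem det_Gm_ne [Algebra.IsSeparable F K] {a : K} (ha : a ≠ 0) : (Gm β a).det ≠ 0 := by
  rw [det_Gm]
  exact mul_ne_zero (det_Gm_one β) (fun h => ha ((Algebra.norm_eq_zero_iff).1 h))

/-- the commutant of `z` -/
theorem exists_of_comm {z : K} (hz : Algebra.adjoin F {z} = ⊤) {T : Matrix (Fin n) (Fin n) F}
    (hT : T * Algebra.leftMulMatrix β z = Algebra.leftMulMatrix β z * T) :
    ∃ g : K, T = Algebra.leftMulMatrix β g := by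
  have h1 : ∀ w : K, T * Algebra.leftMulMatrix β w = Algebra.leftMulMatrix β w * T := by
    intro w
    have hw : w ∈ Algebra.adjoin F {z} := by rw [hz]; trivial
    induction hw using Algebra.adjoin_induction with
    | mem x hx =>
      rw [Set.mem_singleton_iff] at hx
      rw [hx]
      exact hT
    | algebraMap r =>
      rw [AlgHom.commutes]
      exact (Algebra.commutes r T).symm
    | add x y _ _ hx hy => rw [map_add, mul_add, add_mul, hx, hy]
    | mul x y _ _ hx hy => rw [map_mul, ← mul_assoc, hx, mul_assoc, hy, mul_assoc]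
  obtain ⟨t, ht⟩ : ∃ t : K →ₗ[F] K, LinearMap.toMatrix β β t = T := ⟨Matrix.toLin β β T, LinearMap.toMatrix_toLin β β T⟩
  have h2 : ∀ w v : K, t (w * v) = w * t v := by
    intro w v
    have h3 := h1 w
    rw [← ht, Algebra.leftMulMatrix_apply, ← LinearMap.toMatrix_mul, ← LinearMap.toMatrix_mul] at h3
    have h4 := (LinearMap.toMatrix β β).injective h3
    have h5 := LinearMap.congr_fun h4 v
    exact h5
  refine ⟨t 1, ?_⟩
  rw [← ht, Algebra.leftMulMatrix_apply]
  congr 1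
  refine LinearMap.ext fun w => ?_
  have := h2 w 1
  rw [mul_one] at this
  rw [this, mul_comm]
  rfl

end trace

section finite

variable (F : Type*) [Field F] [Fintype F]

/-- an extension of degree `n` with an element of prime order generating it -/
theorem exists_field {n : ℕ} (hn : 3 ≤ n) (hodd : Odd (Fintype.card F)) :
    ∃ (K : Type) (_ : Field K) (_ : Algebra F K) (_ : FiniteDimensional F K) (_ : Finite K) (β : Basis (Fin n) F K)
      (z : K) (R : ℕ), R.Prime ∧ Algebra.adjoin F {z} = ⊤ ∧ z ^ R = 1 ∧ z ≠ 0 ∧ R.Coprime (Fintype.card F - 1) := by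
  obtain ⟨p, hp⟩ := CharP.exists F
  have hpp : Fact p.Prime := ⟨CharP.char_is_prime F p⟩
  have hn0 : NeZero n := ⟨by omega⟩
  have hq2 : 2 ≤ Fintype.card F := Fintype.one_lt_card
  obtain ⟨R, hR, hRn, -, hRq⟩ := Cfsg.Agent.Lib.Zsigmondy.exists_primitive hq2 (by omega : 2 ≤ n) (by omega) (by
    rintro ⟨h, -⟩
    rw [h] at hodd
    exact absurd hodd (by decide))
  let K := FiniteField.Extension F p n
  have hK : finrank F K = n := FiniteField.finrank_extension F p n
  have hcard : Nat.card K = Nat.card F ^ n := FiniteField.natCard_extension F p n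
  have hFc : Nat.card F = Fintype.card F := Nat.card_eq_fintype_card
  have hRK : R ∣ Nat.card Kˣ := by
    rw [Nat.card_units, hcard, hFc]
    exact (hRn n).2 dvd_rfl
  have := Fact.mk hR
  obtain ⟨z, hz⟩ := exists_prime_orderOf_dvd_card' R hRK
  have hcop : R.Coprime (Fintype.card F - 1) := by
    rw [hR.coprime_iff_not_dvd]
    intro h
    have h1 := (hRn 1).1 (by rwa [pow_one])
    have := Nat.le_of_dvd one_pos h1
    omega
  refine ⟨K, inferInstance, inferInstance, inferInstance, inferInstance, finBasisOfFinrankEq F K hK, z, R, hR, ?_, ?_,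
    z.ne_zero, hcop⟩
  · -- `z` generates
    have hL : IntermediateField.adjoin F {(z : K)} = ⊤ := by
      set L := IntermediateField.adjoin F {(z : K)} with hLd
      have hzL : (z : K) ∈ L := IntermediateField.mem_adjoin_simple_self F _
      have hfinL : Finite L := inferInstance
      have hfrL : Nat.card L = Nat.card F ^ finrank F L := Module.natCard_eq_pow_finrank
      have h1 : (⟨z, hzL⟩ : L) ^ (Nat.card L - 1) = 1 := by
        have : Fintype L := Fintype.ofFinite L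
        rw [Nat.card_eq_fintype_card]
        exact FiniteField.pow_card_sub_one_eq_one _ (fun h => z.ne_zero (congrArg Subtype.val h))
      have h2 : z ^ (Nat.card L - 1) = 1 := by
        apply Units.ext
        rw [Units.val_pow_eq_pow_val]
        exact congrArg Subtype.val h1
      have h3 := orderOf_dvd_of_pow_eq_one h2
      rw [hz, hfrL, hFc, hRn] at h3
      have h4 : finrank F L = n := by
        have h5 : 0 < finrank F L := finrank_pos
        have h6 := Nat.le_of_dvd h5 h3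
        have h7 : finrank F L ≤ finrank F K := L.toSubalgebra.toSubmodule.finrank_le
        omega
      exact IntermediateField.eq_of_le_of_finrank_eq le_top (by rw [h4, IntermediateField.finrank_top', hK])
    have h5 := IntermediateField.adjoin_simple_toSubalgebra_of_isAlgebraic (F := F) (α := (z : K))
      (Algebra.IsAlgebraic.isAlgebraic _)
    rw [hL] at h5
    rw [← h5]
    rfl
  · have := pow_orderOf_eq_one z
    rw [hz] at this
    have h1 := congrArg Units.val this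
    rwa [Units.val_pow_eq_pow_val, Units.val_one] at h1

end finite

end Cfsg.Agent.H72.EPX
end

-- part: H72/EPX/Sl
section
/-!
# A conjugate of a symmetric form with small common stabiliser (S3499, class 8, helper72)

`B` symmetric, `n ≥ 3`, `q` odd: there is `Y` of determinant one with `Yᵀ B Y = B c`, `c` of prime order irreducible and
self-adjoint; the common similarities of `B` and `B c` are, modulo scalars, a group of order at most two.
-/

set_option autoImplicit false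
set_option linter.unusedSectionVars false

namespace Cfsg.Agent.H72.EPX

open Matrix Module

section diag

variable {F : Type*} [Field F] {n : ℕ}

/-- the matrix `T diag(ε) T⁻¹` -/
def eT (T : GL (Fin n) F) (ε : Fin n → F) (hε : ∀ i, ε i * ε i = 1) : GL (Fin n) F :=
  T * ⟨diagonal ε, diagonal ε, by rw [diagonal_mul_diagonal, ← diagonal_one]; congr 1; funext i; exact hε i, by
    rw [diagonal_mul_diagonal, ← diagonal_one]; congr 1; funext i; exact hε i⟩ * T⁻¹

theorem coe_eT (T : GL (Fin n) F) (ε : Fin n → F) (hε : ∀ i, ε i * ε i = 1) :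
    (eT T ε hε : Matrix (Fin n) (Fin n) F) = T * diagonal ε * ((T⁻¹ : GL (Fin n) F) : Matrix (Fin n) (Fin n) F) := rfl

theorem mul_inv_val (T : GL (Fin n) F) : (T : Matrix (Fin n) (Fin n) F) * ((T⁻¹ : GL (Fin n) F) : Matrix (Fin n) (Fin n) F) = 1 := by
  rw [← Units.val_mul, mul_inv_cancel, Units.val_one]

theorem inv_mul_val (T : GL (Fin n) F) : ((T⁻¹ : GL (Fin n) F) : Matrix (Fin n) (Fin n) F) * (T : Matrix (Fin n) (Fin n) F) = 1 := by
  rw [← Units.val_mul, inv_mul_cancel, Units.val_one]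

theorem det_ne (T : GL (Fin n) F) : (T : Matrix (Fin n) (Fin n) F).det ≠ 0 := by
  have h := congrArg Matrix.det (mul_inv_val T)
  rw [det_mul, det_one] at h
  exact left_ne_zero_of_mul_eq_one h

theorem det_eT (T : GL (Fin n) F) (ε : Fin n → F) (hε : ∀ i, ε i * ε i = 1) :
    (eT T ε hε : Matrix (Fin n) (Fin n) F).det = ∏ i, ε i := by
  rw [coe_eT, det_mul, det_mul, det_diagonal, mul_comm (T : Matrix (Fin n) (Fin n) F).det, mul_assoc, ← det_mul,
    mul_inv_val, det_one, mul_one]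

theorem eT_mul (T : GL (Fin n) F) (ε ε' : Fin n → F) (hε : ∀ i, ε i * ε i = 1) (hε' : ∀ i, ε' i * ε' i = 1) :
    eT T ε hε * eT T ε' hε' = eT T (fun i => ε i * ε' i) (fun i => by
      rw [show ε i * ε' i * (ε i * ε' i) = (ε i * ε i) * (ε' i * ε' i) by ring, hε, hε', one_mul]) := by
  apply Units.ext
  rw [Units.val_mul, coe_eT, coe_eT, coe_eT, ← diagonal_mul_diagonal]
  calc _ = (T : Matrix (Fin n) (Fin n) F) * diagonal ε * (((T⁻¹ : GL (Fin n) F) : Matrix (Fin n) (Fin n) F) * T) *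
      diagonal ε' * ((T⁻¹ : GL (Fin n) F) : Matrix (Fin n) (Fin n) F) := by simp only [Matrix.mul_assoc]
    _ = _ := by rw [inv_mul_val, Matrix.mul_one]; simp only [Matrix.mul_assoc]

theorem eT_sq (T : GL (Fin n) F) (ε : Fin n → F) (hε : ∀ i, ε i * ε i = 1) : eT T ε hε * eT T ε hε = 1 := by
  rw [eT_mul]
  apply Units.ext
  rw [coe_eT, Units.val_one]
  have : (fun i => ε i * ε i) = 1 := funext hε
  rw [this, diagonal_one', Matrix.mul_one, mul_inv_val]

theorem eT_comm (T : GL (Fin n) F) (ε ε' : Fin n → F) (hε : ∀ i, ε i * ε i = 1) (hε' : ∀ i, ε' i * ε' i = 1) :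
    eT T ε hε * eT T ε' hε' = eT T ε' hε' * eT T ε hε := by
  rw [eT_mul, eT_mul]
  congr 1
  funext i
  exact mul_comm _ _

theorem eT_isom {B : Matrix (Fin n) (Fin n) F} (T : GL (Fin n) F) {d : Fin n → F}
    (hT : (T : Matrix (Fin n) (Fin n) F)ᵀ * B * T = diagonal d) (ε : Fin n → F) (hε : ∀ i, ε i * ε i = 1) :
    (eT T ε hε : Matrix (Fin n) (Fin n) F)ᵀ * B * eT T ε hε = B := by
  rw [coe_eT, transpose_mul, transpose_mul, diagonal_transpose]
  have e1 : (((T⁻¹ : GL (Fin n) F) : Matrix (Fin n) (Fin n) F)ᵀ * (diagonal ε * (T : Matrix (Fin n) (Fin n) F)ᵀ)) * B *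
      (T * diagonal ε * ((T⁻¹ : GL (Fin n) F) : Matrix (Fin n) (Fin n) F)) =
      ((T⁻¹ : GL (Fin n) F) : Matrix (Fin n) (Fin n) F)ᵀ * (diagonal ε * ((T : Matrix (Fin n) (Fin n) F)ᵀ * B * T) *
      diagonal ε) * ((T⁻¹ : GL (Fin n) F) : Matrix (Fin n) (Fin n) F) := by simp only [Matrix.mul_assoc]
  rw [e1, hT, diagonal_mul_diagonal, diagonal_mul_diagonal]
  have e2 : (fun i => ε i * d i * ε i) = d := by
    funext i
    rw [show ε i * d i * ε i = (ε i * ε i) * d i by ring, hε, one_mul]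
  rw [e2, ← hT]
  have e3 : ((T⁻¹ : GL (Fin n) F) : Matrix (Fin n) (Fin n) F)ᵀ * ((T : Matrix (Fin n) (Fin n) F)ᵀ * B * T) *
      ((T⁻¹ : GL (Fin n) F) : Matrix (Fin n) (Fin n) F) =
      ((T : Matrix (Fin n) (Fin n) F) * ((T⁻¹ : GL (Fin n) F) : Matrix (Fin n) (Fin n) F))ᵀ * B *
      ((T : Matrix (Fin n) (Fin n) F) * ((T⁻¹ : GL (Fin n) F) : Matrix (Fin n) (Fin n) F)) := by
    rw [transpose_mul]
    simp only [Matrix.mul_assoc]
  rw [e3, mul_inv_val, transpose_one, Matrix.one_mul, Matrix.mul_one]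

/-- `T diag(ε) T⁻¹` is scalar only if `ε` is constant -/
theorem eT_scalar (T : GL (Fin n) F) (ε : Fin n → F) (hε : ∀ i, ε i * ε i = 1) {c : F}
    (h : (eT T ε hε : Matrix (Fin n) (Fin n) F) = c • (1 : Matrix (Fin n) (Fin n) F)) (i : Fin n) : ε i = c := by
  have e : diagonal ε = c • (1 : Matrix (Fin n) (Fin n) F) := by
    have h1 : ((T⁻¹ : GL (Fin n) F) : Matrix (Fin n) (Fin n) F) * (eT T ε hε : Matrix (Fin n) (Fin n) F) * T =
        diagonal ε := by
      rw [coe_eT]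
      calc _ = (((T⁻¹ : GL (Fin n) F) : Matrix (Fin n) (Fin n) F) * T) * diagonal ε *
          (((T⁻¹ : GL (Fin n) F) : Matrix (Fin n) (Fin n) F) * T) := by simp only [Matrix.mul_assoc]
        _ = _ := by rw [inv_mul_val, Matrix.one_mul, Matrix.mul_one]
    rw [← h1, h, Matrix.mul_smul, Matrix.mul_one, Matrix.smul_mul, inv_mul_val]
  have := congrFun (congrFun e i) i
  rwa [diagonal_apply_eq, Matrix.smul_apply, one_apply_eq, smul_eq_mul, mul_one] at this

end diag

section pair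

variable {F : Type*} [Field F] [Fintype F]

theorem two_ne (hodd : Odd (Fintype.card F)) : (2 : F) ≠ 0 := by
  intro h
  have h1 : ringChar F ∣ 2 := ringChar.dvd (by exact_mod_cast h)
  have hp : (ringChar F).Prime := CharP.char_is_prime F _
  have h2 : ringChar F = 2 := (Nat.prime_dvd_prime_iff_eq hp Nat.prime_two).1 h1
  have h3 := FiniteField.even_card_of_char_two h2
  rcases hodd with ⟨k, hk⟩
  omega

theorem exists_pair (hodd : Odd (Fintype.card F)) {n : ℕ} (hn : 3 ≤ n) (B : GL (Fin n) F)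
    (hB : (B : Matrix (Fin n) (Fin n) F)ᵀ = B) :
    ∃ (Y : GL (Fin n) F) (c : Matrix (Fin n) (Fin n) F), (Y : Matrix (Fin n) (Fin n) F).det = 1 ∧
      (Y : Matrix (Fin n) (Fin n) F)ᵀ * B * Y = B * c ∧ (∀ μ : F, c ≠ μ • (1 : Matrix (Fin n) (Fin n) F)) ∧
      ∀ g g' : GL (Fin n) F,
        (∃ μ : F, (g : Matrix (Fin n) (Fin n) F)ᵀ * B * g = μ • (B : Matrix (Fin n) (Fin n) F)) →
        (∃ ν : F, (g : Matrix (Fin n) (Fin n) F)ᵀ * (B * c) * g = ν • (B * c : Matrix (Fin n) (Fin n) F)) →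
        (∃ μ : F, (g' : Matrix (Fin n) (Fin n) F)ᵀ * B * g' = μ • (B : Matrix (Fin n) (Fin n) F)) →
        (∃ ν : F, (g' : Matrix (Fin n) (Fin n) F)ᵀ * (B * c) * g' = ν • (B * c : Matrix (Fin n) (Fin n) F)) →
        (∀ r : F, (g : Matrix (Fin n) (Fin n) F) ≠ r • (1 : Matrix (Fin n) (Fin n) F)) →
        (∀ r : F, (g' : Matrix (Fin n) (Fin n) F) ≠ r • (1 : Matrix (Fin n) (Fin n) F)) →
        ∃ r : F, (g' : Matrix (Fin n) (Fin n) F) = r • (g : Matrix (Fin n) (Fin n) F) := by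
  have h2 : (2 : F) ≠ 0 := two_ne hodd
  obtain ⟨K, _, _, _, hKf, β, z, R, hR, hz, hzR, hz0, hcop⟩ := exists_field F hn hodd
  have : Fintype K := Fintype.ofFinite K
  obtain ⟨a, ha⟩ := FiniteField.norm_surjective F K ((Gm β 1).det * (B : Matrix (Fin n) (Fin n) F).det)
  have hBd := det_ne B
  have ha0 : a ≠ 0 := by
    intro h
    rw [h, Algebra.norm_zero] at ha
    exact mul_ne_zero (det_Gm_one β) hBd ha.symm
  have hGa : (Gm β a).det ≠ 0 := det_Gm_ne β ha0
  let G0 : GL (Fin n) F := Matrix.GeneralLinearGroup.mkOfDetNeZero (Gm β a) hGa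
  have hG0 : (G0 : Matrix (Fin n) (Fin n) F) = Gm β a := rfl
  obtain ⟨P, hP⟩ := Cfsg.Agent.H999.PslGraphOdd.exists_congr_of_disc h2 (by omega) G0 B (by rw [hG0, Gm_transpose]) hB (by
    rw [hG0, det_Gm, ha]
    exact ⟨(Gm β 1).det * (B : Matrix (Fin n) (Fin n) F).det, by ring⟩)
  rw [hG0] at hP
  -- the element `c`
  let L : K → Matrix (Fin n) (Fin n) F := fun b => ((P⁻¹ : GL (Fin n) F) : Matrix (Fin n) (Fin n) F) *
    Algebra.leftMulMatrix β b * P
  have hBL : ∀ b, (B : Matrix (Fin n) (Fin n) F) * L b = (P : Matrix (Fin n) (Fin n) F)ᵀ * Gm β (a * b) * P := by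
    intro b
    rw [hP, ← Gm_mul]
    calc _ = (P : Matrix (Fin n) (Fin n) F)ᵀ * Gm β a * ((P : Matrix (Fin n) (Fin n) F) *
        ((P⁻¹ : GL (Fin n) F) : Matrix (Fin n) (Fin n) F)) * Algebra.leftMulMatrix β b * P := by
          simp only [L, Matrix.mul_assoc]
      _ = _ := by rw [mul_inv_val, Matrix.mul_one]; simp only [Matrix.mul_assoc]
  have hLmul : ∀ b b', L b * L b' = L (b * b') := by
    intro b b'
    calc L b * L b' = ((P⁻¹ : GL (Fin n) F) : Matrix (Fin n) (Fin n) F) * Algebra.leftMulMatrix β b *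
        ((P : Matrix (Fin n) (Fin n) F) * ((P⁻¹ : GL (Fin n) F) : Matrix (Fin n) (Fin n) F)) *
        Algebra.leftMulMatrix β b' * P := by simp only [L, Matrix.mul_assoc]
      _ = _ := by
        rw [mul_inv_val, Matrix.mul_one]
        simp only [L]
        rw [map_mul]
        simp only [Matrix.mul_assoc]
  have hLalg : ∀ r : F, L (algebraMap F K r) = r • (1 : Matrix (Fin n) (Fin n) F) := by
    intro r
    simp only [L]
    rw [AlgHom.commutes, Algebra.algebraMap_eq_smul_one, Matrix.mul_smul, Matrix.mul_one, Matrix.smul_mul, inv_mul_val]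
  have hPL : ∀ b, (P : Matrix (Fin n) (Fin n) F) * L b * ((P⁻¹ : GL (Fin n) F) : Matrix (Fin n) (Fin n) F) =
      Algebra.leftMulMatrix β b := by
    intro b
    calc _ = ((P : Matrix (Fin n) (Fin n) F) * ((P⁻¹ : GL (Fin n) F) : Matrix (Fin n) (Fin n) F)) *
        Algebra.leftMulMatrix β b * ((P : Matrix (Fin n) (Fin n) F) * ((P⁻¹ : GL (Fin n) F) : Matrix (Fin n) (Fin n) F)) := by
          simp only [L, Matrix.mul_assoc]
      _ = _ := by rw [mul_inv_val, Matrix.mul_one, Matrix.one_mul]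
  have hLinj : ∀ b b', L b = L b' → b = b' := by
    intro b b' h
    apply Algebra.leftMulMatrix_injective β
    rw [← hPL, ← hPL, h]
  have hLsmul : ∀ (r : F) b, L (algebraMap F K r * b) = r • L b := by
    intro r b
    rw [← hLmul, hLalg, Matrix.smul_mul, Matrix.one_mul]
  have hLpow : ∀ b (k : ℕ), L b ^ k = L (b ^ k) := by
    intro b k
    induction k with
    | zero =>
      rw [pow_zero, pow_zero, ← map_one (algebraMap F K), hLalg, one_smul]
    | succ k ih => rw [pow_succ, pow_succ, ih, hLmul]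
  -- norm one
  have hNz : Algebra.norm F z = 1 := by
    have h1 : (Algebra.norm F z) ^ R = 1 := by rw [← map_pow, hzR, map_one]
    have h3 : Algebra.norm F z ≠ 0 := fun h => hz0 (Algebra.norm_eq_zero_iff.1 h)
    have h4 := FiniteField.pow_card_sub_one_eq_one _ h3
    have h5 := pow_gcd_eq_one.2 ⟨h1, h4⟩
    rwa [hcop.gcd_eq_one, pow_one] at h5
  have hLdet : (L z).det = 1 := by
    simp only [L]
    rw [det_mul, det_mul, mul_comm (det ((P⁻¹ : GL (Fin n) F) : Matrix (Fin n) (Fin n) F)), mul_assoc, ← det_mul,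
      inv_mul_val, det_one, mul_one, ← Algebra.norm_eq_matrix_det β, hNz]
  have hBcT : ((B : Matrix (Fin n) (Fin n) F) * L z)ᵀ = B * L z := by
    rw [hBL, transpose_mul, transpose_mul, Gm_transpose, transpose_transpose]
    simp only [Matrix.mul_assoc]
  have hBcd : ((B : Matrix (Fin n) (Fin n) F) * L z).det ≠ 0 := by
    rw [det_mul, hLdet, mul_one]
    exact hBd
  let B1 : GL (Fin n) F := Matrix.GeneralLinearGroup.mkOfDetNeZero _ hBcd
  have hB1 : (B1 : Matrix (Fin n) (Fin n) F) = B * L z := rfl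
  obtain ⟨Y0, hY0⟩ := Cfsg.Agent.H999.PslGraphOdd.exists_congr_of_disc h2 (by omega) B B1 hB (by rw [hB1, hBcT]) (by
    rw [hB1, det_mul, hLdet, mul_one]
    exact ⟨_, rfl⟩)
  rw [hB1] at hY0
  have hY0d : (Y0 : Matrix (Fin n) (Fin n) F).det = 1 ∨ (Y0 : Matrix (Fin n) (Fin n) F).det = -1 := by
    have h3 := congrArg Matrix.det hY0
    rw [det_mul (B : Matrix (Fin n) (Fin n) F) (L z), hLdet, mul_one, det_mul, det_mul, det_transpose] at h3
    have h4 : (Y0 : Matrix (Fin n) (Fin n) F).det * (Y0 : Matrix (Fin n) (Fin n) F).det = 1 := by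
      apply mul_left_cancel₀ hBd
      linear_combination -h3
    exact mul_self_eq_one_iff.1 h4
  -- a reflection
  obtain ⟨T, hT⟩ : ∃ (T : GL (Fin n) F), ∃ d : Fin n → F, (T : Matrix (Fin n) (Fin n) F)ᵀ * B * T = diagonal d := by
    let d : Fin n → F := Function.update 1 ⟨0, by omega⟩ (B : Matrix (Fin n) (Fin n) F).det
    have hd : ∀ i, d i ≠ 0 := by
      intro i
      by_cases hi : i = ⟨0, by omega⟩
      · subst hi
        simp only [d, Function.update_self]
        exact hBd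
      · simp only [d, Function.update_of_ne hi, Pi.one_apply]
        exact one_ne_zero
    obtain ⟨T, hT⟩ := Cfsg.Agent.H999.PslGraphOdd.exists_diag h2 B hB d hd 1 (by
      simp only [d]
      rw [Finset.prod_update_of_mem (Finset.mem_univ _)]
      simp only [_root_.one_pow, _root_.Pi.one_apply, _root_.Finset.prod_const_one, _root_.mul_one, _root_.one_mul])
    exact ⟨T, d, hT⟩
  obtain ⟨d, hT⟩ := hT
  obtain ⟨Y, hYd, hY⟩ : ∃ Y : GL (Fin n) F, (Y : Matrix (Fin n) (Fin n) F).det = 1 ∧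
      (Y : Matrix (Fin n) (Fin n) F)ᵀ * B * Y = B * L z := by
    rcases hY0d with h | h
    · exact ⟨Y0, h, hY0.symm⟩
    · let ε : Fin n → F := Function.update 1 ⟨0, by omega⟩ (-1)
      have hε : ∀ i, ε i * ε i = 1 := by
        intro i
        by_cases hi : i = ⟨0, by omega⟩
        · subst hi
          simp only [ε, Function.update_self]
          ring
        · simp only [ε, Function.update_of_ne hi, Pi.one_apply]
          ring
      refine ⟨eT T ε hε * Y0, ?_, ?_⟩
      · rw [Units.val_mul, det_mul, det_eT, h]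
        simp only [ε]
        rw [Finset.prod_update_of_mem (Finset.mem_univ _)]
        simp only [_root_.Pi.one_apply, _root_.Finset.prod_const_one, _root_.mul_one, _root_.mul_neg, _root_.neg_neg]
      · rw [Units.val_mul, transpose_mul, hY0]
        calc _ = (Y0 : Matrix (Fin n) (Fin n) F)ᵀ * ((eT T ε hε : Matrix (Fin n) (Fin n) F)ᵀ * B * eT T ε hε) * Y0 := by
              simp only [Matrix.mul_assoc]
          _ = _ := by rw [eT_isom T hT]
  -- `z` is not in `F`
  have hzF : ∀ μ : F, z ≠ algebraMap F K μ := by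
    intro μ h
    have h1 : (⊥ : Subalgebra F K) = ⊤ := by
      rw [← hz, h, Algebra.adjoin_singleton_algebraMap]
    have h3 : finrank F K = 1 := Subalgebra.bot_eq_top_iff_finrank_eq_one.1 h1
    have h4 := finrank_eq_card_basis β
    rw [Fintype.card_fin] at h4
    omega
  -- the structure of the good elements
  have key : ∀ g : GL (Fin n) F,
      (∃ μ : F, (g : Matrix (Fin n) (Fin n) F)ᵀ * B * g = μ • (B : Matrix (Fin n) (Fin n) F)) →
      (∃ ν : F, (g : Matrix (Fin n) (Fin n) F)ᵀ * (B * L z) * g = ν • (B * L z : Matrix (Fin n) (Fin n) F)) →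
      (∀ r : F, (g : Matrix (Fin n) (Fin n) F) ≠ r • (1 : Matrix (Fin n) (Fin n) F)) →
      ∃ (γ : K) (μ : F), (g : Matrix (Fin n) (Fin n) F) = L γ ∧ γ * γ = algebraMap F K μ ∧ ¬ IsSquare μ := by
    rintro g ⟨μ, hμ⟩ ⟨ν, hν⟩ hgs
    have hμ0 : μ ≠ 0 := by
      rintro rfl
      have h1 := congrArg Matrix.det hμ
      have : Nonempty (Fin n) := ⟨⟨0, by omega⟩⟩
      rw [zero_smul, det_zero, det_mul, det_mul, det_transpose] at h1
      exact mul_ne_zero (mul_ne_zero (det_ne g) hBd) (det_ne g) h1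
    -- `g⁻¹ c g = ρ c`
    have h3 : L z * g = (ν / μ) • ((g : Matrix (Fin n) (Fin n) F) * L z) := by
      have h4 : (g : Matrix (Fin n) (Fin n) F)ᵀ * B * (L z * g) =
          (g : Matrix (Fin n) (Fin n) F)ᵀ * B * ((ν / μ) • ((g : Matrix (Fin n) (Fin n) F) * L z)) := by
        have e1 : (g : Matrix (Fin n) (Fin n) F)ᵀ * B * (L z * g) = (g : Matrix (Fin n) (Fin n) F)ᵀ * (B * L z) * g := by
          simp only [Matrix.mul_assoc]
        have e2 : (g : Matrix (Fin n) (Fin n) F)ᵀ * B * ((ν / μ) • ((g : Matrix (Fin n) (Fin n) F) * L z)) =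
            (ν / μ) • (((g : Matrix (Fin n) (Fin n) F)ᵀ * B * g) * L z) := by
          rw [Matrix.mul_smul]
          simp only [Matrix.mul_assoc]
        rw [e1, e2, hν, hμ, Matrix.smul_mul, smul_smul, div_mul_cancel₀ _ hμ0]
      have hu : IsUnit ((g : Matrix (Fin n) (Fin n) F)ᵀ * B) := by
        rw [Matrix.isUnit_iff_isUnit_det, det_mul, det_transpose]
        exact isUnit_iff_ne_zero.2 (mul_ne_zero (det_ne g) hBd)
      exact hu.mul_left_cancel h4
    set ρ := ν / μ with hρ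
    have hpow : ∀ k : ℕ, L z ^ k * g = ρ ^ k • ((g : Matrix (Fin n) (Fin n) F) * L z ^ k) := by
      intro k
      induction k with
      | zero => rw [pow_zero, pow_zero, one_smul, Matrix.one_mul, Matrix.mul_one]
      | succ k ih =>
        rw [pow_succ, Matrix.mul_assoc, h3, Matrix.mul_smul, ← Matrix.mul_assoc, ih, Matrix.smul_mul, smul_smul,
          Matrix.mul_assoc, ← pow_succ, pow_succ' ρ]
    have hρR : ρ ^ R = 1 := by
      have h5 := hpow R
      rw [hLpow, hzR, ← map_one (algebraMap F K), hLalg, one_smul, Matrix.one_mul, Matrix.mul_one] at h5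
      have h6 := congrArg (fun M => M * ((g⁻¹ : GL (Fin n) F) : Matrix (Fin n) (Fin n) F)) h5
      simp only [Matrix.smul_mul, mul_inv_val] at h6
      have h7 := congrFun (congrFun h6 ⟨0, by omega⟩) ⟨0, by omega⟩
      rw [Matrix.smul_apply, one_apply_eq, smul_eq_mul, mul_one] at h7
      exact h7.symm
    have hρ0 : ρ ≠ 0 := by
      intro h
      rw [h, zero_pow hR.ne_zero] at hρR
      exact zero_ne_one hρR
    have hρ1 : ρ = 1 := by
      have h5 := pow_gcd_eq_one.2 ⟨hρR, FiniteField.pow_card_sub_one_eq_one _ hρ0⟩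
      rwa [hcop.gcd_eq_one, pow_one] at h5
    rw [hρ1, one_smul] at h3
    obtain ⟨γ, hγ⟩ := exists_of_comm β hz (T := (P : Matrix (Fin n) (Fin n) F) * g *
        ((P⁻¹ : GL (Fin n) F) : Matrix (Fin n) (Fin n) F)) (by
      rw [← hPL]
      calc _ = (P : Matrix (Fin n) (Fin n) F) * g * (((P⁻¹ : GL (Fin n) F) : Matrix (Fin n) (Fin n) F) *
          (P : Matrix (Fin n) (Fin n) F)) * L z * ((P⁻¹ : GL (Fin n) F) : Matrix (Fin n) (Fin n) F) := by
            simp only [Matrix.mul_assoc]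
        _ = (P : Matrix (Fin n) (Fin n) F) * ((g : Matrix (Fin n) (Fin n) F) * L z) *
          ((P⁻¹ : GL (Fin n) F) : Matrix (Fin n) (Fin n) F) := by
            rw [inv_mul_val, Matrix.mul_one]
            simp only [Matrix.mul_assoc]
        _ = (P : Matrix (Fin n) (Fin n) F) * L z * (((P⁻¹ : GL (Fin n) F) : Matrix (Fin n) (Fin n) F) *
          (P : Matrix (Fin n) (Fin n) F)) * g * ((P⁻¹ : GL (Fin n) F) : Matrix (Fin n) (Fin n) F) := by
            rw [← h3, inv_mul_val, Matrix.mul_one]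
            simp only [Matrix.mul_assoc]
        _ = _ := by simp only [Matrix.mul_assoc])
    have hgL : (g : Matrix (Fin n) (Fin n) F) = L γ := by
      simp only [L]
      rw [← hγ]
      calc (g : Matrix (Fin n) (Fin n) F) = (((P⁻¹ : GL (Fin n) F) : Matrix (Fin n) (Fin n) F) *
          (P : Matrix (Fin n) (Fin n) F)) * g * (((P⁻¹ : GL (Fin n) F) : Matrix (Fin n) (Fin n) F) *
          (P : Matrix (Fin n) (Fin n) F)) := by rw [inv_mul_val, Matrix.mul_one, Matrix.one_mul]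
        _ = _ := by simp only [Matrix.mul_assoc]
    have hγ2 : γ * γ = algebraMap F K μ := by
      rw [hgL] at hμ
      have e1 : (L γ)ᵀ * (B : Matrix (Fin n) (Fin n) F) = B * L γ := by
        have : (L γ)ᵀ * (B : Matrix (Fin n) (Fin n) F) = ((B : Matrix (Fin n) (Fin n) F) * L γ)ᵀ := by
          rw [transpose_mul (B : Matrix (Fin n) (Fin n) F) (L γ), hB]
        rw [this, hBL, transpose_mul, transpose_mul, Gm_transpose, transpose_transpose]
        simp only [Matrix.mul_assoc]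
      rw [e1, Matrix.mul_assoc, hLmul] at hμ
      have e2 : (B : Matrix (Fin n) (Fin n) F) * L (γ * γ) = B * L (algebraMap F K μ) := by
        rw [hμ, hLalg, Matrix.mul_smul, Matrix.mul_one]
      exact hLinj _ _ (B.isUnit.mul_left_cancel e2)
    refine ⟨γ, μ, hgL, hγ2, ?_⟩
    rintro ⟨s, hs⟩
    rw [hs, map_mul] at hγ2
    rcases mul_self_eq_mul_self_iff.1 hγ2 with h5 | h5
    · exact hgs s (by rw [hgL, h5, hLalg])
    · exact hgs (-s) (by rw [hgL, h5, ← map_neg, hLalg])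
  refine ⟨Y, L z, hYd, hY, ?_, ?_⟩
  · intro μ h
    rw [← hLalg] at h
    exact hzF μ (hLinj _ _ h)
  · intro g g' h1 h3 h1' h3' hs hs'
    obtain ⟨γ, μ, hg, hγ, hμ⟩ := key g h1 h3 hs
    obtain ⟨γ', μ', hg', hγ', hμ'⟩ := key g' h1' h3' hs'
    have hμ0 : μ ≠ 0 := fun h => hμ (h ▸ IsSquare.zero)
    have hγ0 : γ ≠ 0 := by
      rintro rfl
      rw [mul_zero] at hγ
      exact hμ0 ((map_eq_zero (algebraMap F K)).1 hγ.symm)
    have hμ'0 : μ' ≠ 0 := fun h => hμ' (h ▸ IsSquare.zero)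
    -- `μ μ'` is a square
    obtain ⟨s, hsq⟩ : IsSquare (μ * μ') := by
      classical
      have hch : ringChar F ≠ 2 := by
        intro h
        have h5 := FiniteField.even_card_of_char_two h
        rcases hodd with ⟨k, hk⟩
        omega
      rw [← quadraticChar_one_iff_isSquare (mul_ne_zero hμ0 hμ'0), map_mul,
        quadraticChar_neg_one_iff_not_isSquare.2 hμ, quadraticChar_neg_one_iff_not_isSquare.2 hμ']
      norm_num
    have h5 : (γ * γ') * (γ * γ') = algebraMap F K s * algebraMap F K s := by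
      rw [← map_mul, ← hsq, map_mul, ← hγ, ← hγ']
      ring
    have h6 : ∀ r : F, γ * γ' = algebraMap F K r → (g' : Matrix (Fin n) (Fin n) F) = (r / μ) • (g : Matrix (Fin n) (Fin n) F) := by
      intro r hr
      rw [hg, hg', ← hLsmul]
      congr 1
      apply mul_left_cancel₀ hγ0
      rw [hr, map_div₀, ← hγ]
      field_simp
    rcases mul_self_eq_mul_self_iff.1 h5 with h7 | h7
    · exact ⟨_, h6 s h7⟩
    · exact ⟨_, h6 (-s) (by rw [h7, map_neg])⟩

end pair

end Cfsg.Agent.H72.EPX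
end

-- part: H72/EPX/SLO
section
/-!
# S3499, class 8 in `SL_n(q)`: similarity groups of quadratic forms, `q` odd (helper72)
-/

set_option autoImplicit false
set_option linter.unusedSectionVars false

namespace Cfsg.Agent.H72.EPX

open Matrix Subgroup Cfsg.Agent.H284 Cfsg.Agent.H999.PslGraph Cfsg.Agent.H999.PslGraphOdd

section group

/-- two commuting involutions -/
theorem four_dvd {A : Type*} [Group A] [Finite A] {a b : A} (ha1 : a ≠ 1) (hb1 : b ≠ 1) (hab : a ≠ b)
    (ha2 : a * a = 1) (hb2 : b * b = 1) (hc : a * b = b * a) : 4 ∣ Nat.card A := by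
  have hoa : orderOf a = 2 := orderOf_eq_prime (by rw [pow_two, ha2]) ha1
  have hob : orderOf b = 2 := orderOf_eq_prime (by rw [pow_two, hb2]) hb1
  have hcomm : ∀ (m : zpowers a) (n : zpowers b), Commute ((zpowers a).subtype m) ((zpowers b).subtype n) := by
    rintro ⟨_, i, rfl⟩ ⟨_, j, rfl⟩
    exact (Commute.zpow_zpow (show Commute a b from hc) i j)
  have hinj : Function.Injective (MonoidHom.noncommCoprod (zpowers a).subtype (zpowers b).subtype hcomm) := by
    rw [MonoidHom.noncommCoprod_injective]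
    refine ⟨Subtype.val_injective, Subtype.val_injective, ?_⟩
    rw [Subgroup.range_subtype, Subgroup.range_subtype, Subgroup.disjoint_def]
    intro y hya hyb
    have h1 : ∀ {c : A}, c * c = 1 → y ∈ zpowers c → y = 1 ∨ y = c := by
      rintro c hc2 ⟨i, rfl⟩
      rcases Int.even_or_odd' i with ⟨k, rfl | rfl⟩
      · left
        show c ^ (2 * k) = 1
        rw [_root_.zpow_mul, zpow_two, hc2, _root_.one_zpow]
      · right
        show c ^ (2 * k + 1) = c
        rw [_root_.zpow_add, _root_.zpow_mul, zpow_two, hc2, _root_.one_zpow, one_mul, _root_.zpow_one]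
    rcases h1 ha2 hya with h | h
    · exact h
    · rcases h1 hb2 hyb with h' | h'
      · exact h'
      · exact absurd (h.symm.trans h') hab
  have h3 := Subgroup.card_dvd_of_injective _ hinj
  rwa [Nat.card_prod, Nat.card_zpowers, Nat.card_zpowers, hoa, hob] at h3

/-- **Kill criterion**: `A ∩ A^x` of order two and `4 ∣ |A|` -/
theorem kill_two {Q : Type*} [Group Q] [Finite Q] {A : Subgroup Q} {Γ : Subgroup (MulAut Q)} (h : EPT A Γ) {x : Q}
    (hx : x ∉ A) (h1 : ∀ s ∈ A ⊓ cj x A, ∀ t ∈ A ⊓ cj x A, s ≠ 1 → t ≠ 1 → s = t) (h4 : 4 ∣ Nat.card A) : False := by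
  have hM := h.M0 x hx
  obtain ⟨t, ht, ht1⟩ : ∃ t ∈ A ⊓ cj x A, t ≠ 1 := by
    by_contra hcon
    push Not at hcon
    exact hM ((Subgroup.eq_bot_iff_forall _).2 hcon)
  have hsq : ∀ y ∈ A ⊓ cj x A, y * y = 1 := by
    intro y hy
    by_contra hcon
    have hy1 : y ≠ 1 := by
      rintro rfl
      exact hcon (one_mul 1)
    have := h1 (y * y) (mul_mem hy hy) y hy hcon hy1
    exact hy1 (mul_eq_left.1 this)
  have hp2 : IsPGroup 2 ((A ⊓ cj x A).subgroupOf A) := by
    rintro ⟨⟨y, hyA⟩, hy⟩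
    refine ⟨1, Subtype.ext (Subtype.ext ?_)⟩
    show y ^ (2 ^ 1) = 1
    rw [pow_one, pow_two]
    exact hsq y hy
  obtain ⟨S, hS⟩ := hp2.exists_le_sylow
  have hSe : (S : Subgroup A).map A.subtype = A ⊓ cj x A := by
    refine h.sylow hx Nat.prime_two (R := A ⊓ cj x A) ?_ hM ?_ ?_ ?_
    · intro y
      constructor
      · intro hy
        exact ⟨hy, 1, by rw [pow_one, pow_two, hsq y hy]⟩
      · exact fun hy => hy.1
    · rintro _ ⟨y, _, rfl⟩
      exact y.2
    · exact S.2.map _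
    · intro y hy
      exact ⟨⟨y, (mem_inf.1 hy).1⟩, hS (by exact hy), rfl⟩
  have hcardM : Nat.card (A ⊓ cj x A : Subgroup Q) ≤ 2 := by
    have h5 : ((A ⊓ cj x A : Subgroup Q) : Set Q) ⊆ {1, t} := by
      intro y hy
      by_cases hy1 : y = 1
      · exact Or.inl hy1
      · exact Or.inr (h1 y hy t ht hy1 ht1)
    calc Nat.card (A ⊓ cj x A : Subgroup Q) = ((A ⊓ cj x A : Subgroup Q) : Set Q).ncard := rfl
      _ ≤ ({1, t} : Set Q).ncard := Set.ncard_le_ncard h5 (Set.toFinite _)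
      _ ≤ 2 := by
        have := Set.ncard_insert_le (1 : Q) {t}
        rwa [Set.ncard_singleton] at this
  have hcardS : Nat.card S = Nat.card (A ⊓ cj x A : Subgroup Q) := by
    rw [← hSe]
    exact Nat.card_congr ((S : Subgroup A).equivMapOfInjective _ A.subtype_injective).toEquiv
  have h6 : 2 ^ 2 ∣ Nat.card S := S.pow_dvd_card_of_pow_dvd_card (by simpa only [_root_.Nat.reducePow] using h4)
  have h7 := Nat.le_of_dvd Nat.card_pos h6
  omega

end group

section form

variable {F : Type*} [Field F] {n : ℕ}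

theorem bil_sim_iff (B : Matrix (Fin n) (Fin n) F) (g : GL (Fin n) F) :
    g ∈ Cfsg.Geo.similarityGroup (ι := Fin n) (bil B) ↔
      ∃ c : Fˣ, (g : Matrix (Fin n) (Fin n) F)ᵀ * B * g = (c : F) • B := by
  constructor
  · rintro ⟨c, hc⟩
    refine ⟨c, Matrix.ext fun i j => ?_⟩
    have := hc (Pi.single i 1) (Pi.single j 1)
    rw [bil_mulVec, bil_single, bil_single] at this
    rw [Matrix.smul_apply, smul_eq_mul]
    exact this
  · rintro ⟨c, hc⟩
    refine ⟨c, fun u v => ?_⟩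
    rw [bil_mulVec, hc, bil, bil, smul_mulVec, dotProduct_smul, smul_eq_mul]

theorem exists_gram (h2 : (2 : F) ≠ 0) {Qf : (Fin n → F) → F} (hQ : Cfsg.Geo.IsNondegenerateQuadraticForm Qf) :
    ∃ B : GL (Fin n) F, (B : Matrix (Fin n) (Fin n) F)ᵀ = B ∧
      Cfsg.Geo.quadSimilarityGroup Qf = Cfsg.Geo.similarityGroup (ι := Fin n) (bil (B : Matrix (Fin n) (Fin n) F)) := by
  let b : LinearMap.BilinForm F (Fin n → F) := LinearMap.mk₂ F (QuadraticMap.polar Qf) hQ.polar_bilinear.add_left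
    hQ.polar_bilinear.smul_left (fun v x y => hQ.polar_bilinear.add_right v x y)
    (fun c v x => hQ.polar_bilinear.smul_right c v x)
  let B : Matrix (Fin n) (Fin n) F := LinearMap.BilinForm.toMatrix' b
  have hBb : ∀ u v, bil B u v = QuadraticMap.polar Qf u v := by
    intro u v
    rw [bil_eq_toBilin]
    show Matrix.toBilin' (LinearMap.BilinForm.toMatrix' b) u v = _
    rw [Matrix.toBilin'_toMatrix']
    rfl
  have hBt : Bᵀ = B := by
    refine Matrix.ext fun i j => ?_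
    rw [transpose_apply, ← bil_single B j i, ← bil_single B i j, hBb, hBb, QuadraticMap.polar_comm]
  have hdet : B.det ≠ 0 := by
    rw [← Matrix.nondegenerate_iff_det_ne_zero]
    rw [Matrix.nondegenerate_def]
    constructor
    · intro v hv
      by_contra hv0
      obtain ⟨y, hy⟩ := (hQ.nondegenerate v hv0).2
      apply hy
      rw [← hBb]
      exact hv y
    · intro w hw
      by_contra hv0
      obtain ⟨y, hy⟩ := (hQ.nondegenerate w hv0).1
      apply hy
      rw [← hBb]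
      exact hw y
  refine ⟨Matrix.GeneralLinearGroup.mkOfDetNeZero B hdet, hBt, ?_⟩
  have hQv : ∀ v, bil B v v = 2 * Qf v := by
    intro v
    rw [hBb, QuadraticMap.polar]
    have : Qf (v + v) = 4 * Qf v := by
      have := hQ.smul 2 v
      rw [two_smul] at this
      rw [this]; ring
    rw [this]; ring
  exact (sim_eq_quad h2 hBt hQv).symm

end form

theorem congr_conj {F : Type*} [Field F] {n : ℕ} (Y : GL (Fin n) F) {G B : Matrix (Fin n) (Fin n) F} (ν : F)
    (h : ((Y : Matrix (Fin n) (Fin n) F) * G * ((Y⁻¹ : GL (Fin n) F) : Matrix (Fin n) (Fin n) F))ᵀ * B *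
      ((Y : Matrix (Fin n) (Fin n) F) * G * ((Y⁻¹ : GL (Fin n) F) : Matrix (Fin n) (Fin n) F)) = ν • B) :
    Gᵀ * ((Y : Matrix (Fin n) (Fin n) F)ᵀ * B * Y) * G = ν • ((Y : Matrix (Fin n) (Fin n) F)ᵀ * B * Y) := by
  have e2 : Gᵀ * ((Y : Matrix (Fin n) (Fin n) F)ᵀ * B * Y) * G =
      (Y : Matrix (Fin n) (Fin n) F)ᵀ * (((Y : Matrix (Fin n) (Fin n) F) * G *
        ((Y⁻¹ : GL (Fin n) F) : Matrix (Fin n) (Fin n) F))ᵀ * B * ((Y : Matrix (Fin n) (Fin n) F) * G *
        ((Y⁻¹ : GL (Fin n) F) : Matrix (Fin n) (Fin n) F))) * Y := by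
    rw [transpose_mul, transpose_mul]
    calc _ = (((Y⁻¹ : GL (Fin n) F) : Matrix (Fin n) (Fin n) F) * (Y : Matrix (Fin n) (Fin n) F))ᵀ * Gᵀ *
        ((Y : Matrix (Fin n) (Fin n) F)ᵀ * B * Y) * G *
        (((Y⁻¹ : GL (Fin n) F) : Matrix (Fin n) (Fin n) F) * (Y : Matrix (Fin n) (Fin n) F)) := by
          rw [inv_mul_val, transpose_one, Matrix.mul_one, Matrix.one_mul]
      _ = _ := by
        rw [transpose_mul]
        simp only [Matrix.mul_assoc]
  rw [e2, h, Matrix.mul_smul, Matrix.smul_mul]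

/-- **S3499-III-SL-C8O** -/
theorem c8o {Q : Type*} [Group Q] [Finite Q] (_hs : IsSimpleGroup Q) {A : Subgroup Q} {Γ : Subgroup (MulAut Q)}
    (h : EPT A Γ) {F : Type*} [Field F] [Fintype F] (hodd : Odd (Fintype.card F)) {n : ℕ} (hn : 3 ≤ n)
    (m : Cfsg.Agent.H419.EP.Model Q (Cfsg.Geo.specialLinear (Fin n) F)) {Qf : (Fin n → F) → F}
    (hQ : Cfsg.Geo.IsNondegenerateQuadraticForm Qf) (hA : m.hat A ≤ Cfsg.Geo.quadSimilarityGroup Qf) : False := by
  have h2 : (2 : F) ≠ 0 := two_ne hodd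
  obtain ⟨B, hB, hsim⟩ := exists_gram h2 hQ
  rw [hsim] at hA
  obtain ⟨Y, c, hYd, hY, hc, hpair⟩ := exists_pair hodd hn B hB
  have hBd := det_ne B
  -- membership in `SL`
  have hSL : ∀ g : GL (Fin n) F, g ∈ Cfsg.Geo.specialLinear (Fin n) F ↔ (g : Matrix (Fin n) (Fin n) F).det = 1 := by
    intro g
    show g ∈ (Matrix.GeneralLinearGroup.det : GL (Fin n) F →* Fˣ).ker ↔ _
    rw [MonoidHom.mem_ker, Units.ext_iff]
    rfl
  have hYS : Y ∈ Cfsg.Geo.specialLinear (Fin n) F := (hSL Y).2 hYd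
  have hYn : Y ∉ Cfsg.Geo.similarityGroup (ι := Fin n) (bil (B : Matrix (Fin n) (Fin n) F)) := by
    rw [bil_sim_iff]
    rintro ⟨μ, hμ⟩
    rw [hY] at hμ
    apply hc μ
    apply B.isUnit.mul_left_cancel
    rw [hμ, Matrix.mul_smul, Matrix.mul_one]
  -- the preimage of `A`
  have hAe : m.hat A = Cfsg.Geo.specialLinear (Fin n) F ⊓
      Cfsg.Geo.similarityGroup (ι := Fin n) (bil (B : Matrix (Fin n) (Fin n) F)) := by
    rcases (m.isMaximalIn h.max).2 _ (le_inf (m.hat_le A) hA) inf_le_left with h3 | h3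
    · exact h3.symm
    · exfalso
      apply hYn
      have : Y ∈ Cfsg.Geo.specialLinear (Fin n) F ⊓
        Cfsg.Geo.similarityGroup (ι := Fin n) (bil (B : Matrix (Fin n) (Fin n) F)) := by
        rw [h3]; exact hYS
      exact (mem_inf.1 this).2
  have hx : (m.π ⟨Y, hYS⟩)⁻¹ ∉ A := by
    intro e
    have h3 : m.π ⟨Y, hYS⟩ ∈ A := by simpa using A.inv_mem e
    have h4 := (m.mem_hat_iff ⟨Y, hYS⟩).2 h3
    exact hYn (hA h4)
  -- elements of `A ∩ A^x`
  have hM : ∀ g : Cfsg.Geo.specialLinear (Fin n) F, m.π g ∈ A ⊓ cj (m.π ⟨Y, hYS⟩)⁻¹ A →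
      (∃ μ : F, ((g : GL (Fin n) F) : Matrix (Fin n) (Fin n) F)ᵀ * B * (g : GL (Fin n) F) =
        μ • (B : Matrix (Fin n) (Fin n) F)) ∧
      (∃ ν : F, ((g : GL (Fin n) F) : Matrix (Fin n) (Fin n) F)ᵀ * (B * c) * (g : GL (Fin n) F) =
        ν • (B * c : Matrix (Fin n) (Fin n) F)) := by
    intro g hg
    obtain ⟨hg1, hg2⟩ := mem_inf.1 hg
    rw [mem_cj, inv_inv] at hg2
    have h3 := hA ((m.mem_hat_iff g).2 hg1)
    rw [bil_sim_iff] at h3
    obtain ⟨μ, hμ⟩ := h3
    refine ⟨⟨μ, hμ⟩, ?_⟩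
    rw [← map_mul, ← map_inv, ← map_mul] at hg2
    have h4 := hA ((m.mem_hat_iff _).2 hg2)
    rw [bil_sim_iff] at h4
    obtain ⟨ν, hν⟩ := h4
    refine ⟨ν, ?_⟩
    rw [← hY]
    have e1 : (((⟨Y, hYS⟩ * g * ⟨Y, hYS⟩⁻¹ : Cfsg.Geo.specialLinear (Fin n) F) : GL (Fin n) F) : Matrix (Fin n) (Fin n) F) =
        Y * (g : GL (Fin n) F) * ((Y⁻¹ : GL (Fin n) F) : Matrix (Fin n) (Fin n) F) := rfl
    rw [e1] at hν
    exact congr_conj Y _ hν

  -- scalar elements
  have hscal : ∀ g : Cfsg.Geo.specialLinear (Fin n) F, m.π g ≠ 1 →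
      ∀ r : F, ((g : GL (Fin n) F) : Matrix (Fin n) (Fin n) F) ≠ r • (1 : Matrix (Fin n) (Fin n) F) := by
    intro g hg r hr
    apply hg
    rw [m.ker, Cfsg.Geo.mem_scalars_iff]
    have hr0 : r ≠ 0 := by
      rintro rfl
      apply det_ne (g : GL (Fin n) F)
      have : Nonempty (Fin n) := ⟨⟨0, by omega⟩⟩
      rw [hr, zero_smul, det_zero]
    exact ⟨Units.mk0 r hr0, hr⟩
  refine kill_two h hx ?_ ?_
  · intro s hs t ht hs1 ht1
    obtain ⟨g, rfl⟩ := m.surj s
    obtain ⟨g', rfl⟩ := m.surj t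
    obtain ⟨r, hr⟩ := hpair g g' (hM g hs).1 (hM g hs).2 (hM g' ht).1 (hM g' ht).2 (hscal g hs1) (hscal g' ht1)
    symm
    rw [m.π_eq_iff]
    have hr0 : r ≠ 0 := by
      rintro rfl
      apply det_ne (g' : GL (Fin n) F)
      have : Nonempty (Fin n) := ⟨⟨0, by omega⟩⟩
      rw [hr, zero_smul, det_zero]
    refine ⟨Units.map (Matrix.scalar (Fin n) : F →+* Matrix (Fin n) (Fin n) F).toMonoidHom (Units.mk0 r hr0),
      ⟨_, rfl⟩, ?_⟩
    apply Units.ext
    rw [Units.val_mul, hr]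
    show r • _ = ((g : GL (Fin n) F) : Matrix (Fin n) (Fin n) F) * Matrix.scalar (Fin n) r
    rw [Matrix.scalar_apply, ← Matrix.smul_one_eq_diagonal, Matrix.mul_smul, Matrix.mul_one]
  · -- the four-group
    obtain ⟨T, d, hT⟩ : ∃ (T : GL (Fin n) F), ∃ d : Fin n → F, (T : Matrix (Fin n) (Fin n) F)ᵀ * B * T = diagonal d := by
      let d : Fin n → F := Function.update 1 ⟨0, by omega⟩ (B : Matrix (Fin n) (Fin n) F).det
      have hd : ∀ i, d i ≠ 0 := by
        intro i
        by_cases hi : i = ⟨0, by omega⟩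
        · subst hi
          simp only [d, Function.update_self]
          exact hBd
        · simp only [d, Function.update_of_ne hi, Pi.one_apply]
          exact one_ne_zero
      obtain ⟨T, hT⟩ := exists_diag h2 B hB d hd 1 (by
        simp only [d]
        rw [Finset.prod_update_of_mem (Finset.mem_univ _)]
        simp only [_root_.one_pow, _root_.Pi.one_apply, _root_.Finset.prod_const_one, _root_.mul_one, _root_.one_mul])
      exact ⟨T, d, hT⟩
    let ε : Fin n → Fin n → (Fin n → F) := fun i j k => if k = i ∨ k = j then -1 else 1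
    have hε : ∀ i j k, ε i j k * ε i j k = 1 := by
      intro i j k
      simp only [ε]
      split_ifs <;> ring
    have hεl : ∀ i j, ε i j i = -1 := fun i j => by simp [ε]
    have hεr : ∀ i j, ε i j j = -1 := fun i j => by simp [ε]
    have hεo : ∀ i j k, k ≠ i → k ≠ j → ε i j k = 1 := fun i j k h1 h3 => by simp [ε, h1, h3]
    have hprod : ∀ i j, i ≠ j → ∏ k, ε i j k = 1 := by
      intro i j hij
      simp only [ε]
      rw [Finset.prod_ite, Finset.prod_const, Finset.prod_const_one, mul_one]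
      have : Finset.univ.filter (fun k => k = i ∨ k = j) = {i, j} := by
        ext k; simp only [_root_.Finset.mem_filter, _root_.Finset.mem_univ, _root_.true_and, _root_.Finset.mem_insert, _root_.Finset.mem_singleton]
      rw [this, Finset.card_pair hij]
      norm_num
    let E : ∀ i j : Fin n, GL (Fin n) F := fun i j => eT T (ε i j) (hε i j)
    have hES : ∀ i j, i ≠ j → E i j ∈ Cfsg.Geo.specialLinear (Fin n) F := by
      intro i j hij
      rw [hSL, det_eT, hprod i j hij]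
    have hEA : ∀ i j (hij : i ≠ j), m.π ⟨E i j, hES i j hij⟩ ∈ A := by
      intro i j hij
      apply (m.mem_hat_iff _).1
      rw [hAe]
      have h3 : (E i j : Matrix (Fin n) (Fin n) F)ᵀ * B * E i j = ((1 : Fˣ) : F) • (B : Matrix (Fin n) (Fin n) F) := by
        rw [Units.val_one, one_smul]
        exact eT_isom T hT (ε i j) (hε i j)
      exact ⟨hES i j hij, (bil_sim_iff _ _).2 ⟨1, h3⟩⟩
    have hne : (-1 : F) ≠ 1 := by
      intro e
      apply h2
      linear_combination -e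
    have hE1 : ∀ i j (hij : i ≠ j), (∃ k, k ≠ i ∧ k ≠ j) → m.π ⟨E i j, hES i j hij⟩ ≠ 1 := by
      rintro i j hij ⟨k, hki, hkj⟩ e
      rw [m.ker, Cfsg.Geo.mem_scalars_iff] at e
      obtain ⟨r, hr⟩ := e
      have h3 := eT_scalar T (ε i j) (hε i j) hr i
      have h4 := eT_scalar T (ε i j) (hε i j) hr k
      rw [hεl] at h3
      rw [hεo i j k hki hkj] at h4
      exact hne (h3.trans h4.symm)
    let i0 : Fin n := ⟨0, by omega⟩
    let i1 : Fin n := ⟨1, by omega⟩
    let i2 : Fin n := ⟨2, by omega⟩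
    have h01 : i0 ≠ i1 := by simp [i0, i1]
    have h02 : i0 ≠ i2 := by simp [i0, i2]
    have h12 : i1 ≠ i2 := by simp [i1, i2]
    have hsqE : ∀ i j (hij : i ≠ j), m.π ⟨E i j, hES i j hij⟩ * m.π ⟨E i j, hES i j hij⟩ = 1 := by
      intro i j hij
      rw [← map_mul, ← map_one m.π]
      congr 1
      exact Subtype.ext (eT_sq T (ε i j) (hε i j))
    refine four_dvd (a := (⟨_, hEA i0 i1 h01⟩ : A)) (b := ⟨_, hEA i0 i2 h02⟩) ?_ ?_ ?_ ?_ ?_ ?_
    · exact fun e => hE1 i0 i1 h01 ⟨i2, h02.symm, h12.symm⟩ (congrArg Subtype.val e)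
    · exact fun e => hE1 i0 i2 h02 ⟨i1, h01.symm, h12⟩ (congrArg Subtype.val e)
    · intro e
      have e' : m.π ⟨E i0 i1, hES i0 i1 h01⟩ = m.π ⟨E i0 i2, hES i0 i2 h02⟩ := congrArg Subtype.val e
      have h3 : m.π ⟨E i0 i1, hES i0 i1 h01⟩ * m.π ⟨E i0 i2, hES i0 i2 h02⟩ = 1 := by
        rw [e']
        exact hsqE i0 i2 h02
      rw [← map_mul, m.ker, Cfsg.Geo.mem_scalars_iff] at h3
      obtain ⟨r, hr⟩ := h3
      have hmul := eT_mul T (ε i0 i1) (ε i0 i2) (hε i0 i1) (hε i0 i2)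
      have hr' : (eT T (fun k => ε i0 i1 k * ε i0 i2 k) (fun k => by
          rw [show ε i0 i1 k * ε i0 i2 k * (ε i0 i1 k * ε i0 i2 k) = (ε i0 i1 k * ε i0 i1 k) * (ε i0 i2 k * ε i0 i2 k) by ring,
            hε, hε, one_mul]) : Matrix (Fin n) (Fin n) F) = (r : F) • (1 : Matrix (Fin n) (Fin n) F) := by
        rw [← hmul]
        exact hr
      have h5 := eT_scalar T _ _ hr' i0
      have h6 := eT_scalar T _ _ hr' i1
      rw [hεl, hεl] at h5
      rw [hεr, hεo i0 i2 i1 h01.symm h12] at h6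
      apply hne
      linear_combination h6 - h5
    · exact Subtype.ext (hsqE i0 i1 h01)
    · exact Subtype.ext (hsqE i0 i2 h02)
    · apply Subtype.ext
      show m.π ⟨E i0 i1, hES i0 i1 h01⟩ * m.π ⟨E i0 i2, hES i0 i2 h02⟩ =
        m.π ⟨E i0 i2, hES i0 i2 h02⟩ * m.π ⟨E i0 i1, hES i0 i1 h01⟩
      rw [← map_mul, ← map_mul]
      congr 1
      exact Subtype.ext (eT_comm T (ε i0 i1) (ε i0 i2) (hε i0 i1) (hε i0 i2))

end Cfsg.Agent.H72.EPX
end

private theorem dce_fdb069424a21 : _root_.True := by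
  try have : _root_.True := by simp only [_root_.Cfsg.Agent.H72.EPX.eT.congr_simp]
  exact _root_.True.intro
end

-- part: H567/EP/Om_mg
section
prune_inst 0x1540690405c0120000188014e0201c42b2000002004804000482000004802c680d82a860a12001155a000845003500481218040000400000040000000120078910000400a1480008c00098000100000000000000000000000000000000010000200400000
set_option linter.all false
open scoped Cfsg.Agent.FastGrp

-- part: H567/EP/Nd
section
/-!
# S3499, orthogonal groups: nondegenerate subspaces, at least three scalars (helper567)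
-/

set_option autoImplicit false
set_option linter.unusedSectionVars false

namespace Cfsg.Agent.H567.EP

open QuadraticMap Cfsg.Agent.LieClassical.OrthCore Cfsg.Agent.LieClassical.OrthTrans
  Cfsg.Agent.LieClassical.OrthFinite Cfsg.Agent.H883.Sub Cfsg.Agent.H284

variable {F V : Type*} [Field F] [AddCommGroup V] [Module F V] [FiniteDimensional F V] {Q : QuadraticForm F V}

theorem refl_of_perp {v : V} (hv : Q v ≠ 0) {x : V} (h : polar Q v x = 0) : refl Q v hv x = x := by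
  rw [refl_apply, h, mul_zero, zero_smul, sub_zero]

/-- an element of the split torus -/
theorem exists_torus [Finite F] (hG : Good Q) {U : Submodule F V} (hU : NondegOn Q U)
    (hd : 4 ≤ Module.finrank F U) {u u' : V} (hu : u ∈ U) (hu' : u' ∈ U) (h : Hyp Q u u')
    (h3 : ∃ a : F, a ≠ 0 ∧ a ≠ 1) :
    ∃ t ∈ E Q, ∃ l : F, l ≠ 1 ∧ t u = l • u ∧ ∀ v ∈ perp Q U, t v = v := by
  have hvU : ∀ v ∈ perp Q U, ∀ w ∈ U, polar Q w v = 0 := fun v hv w hw => mem_perp.1 hv w hw
  by_cases h2 : (2 : F) = 0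
  · obtain ⟨a, ha0, ha1⟩ := h3
    have hchar : CharP F 2 := CharTwo.of_one_ne_zero_of_two_eq_zero one_ne_zero h2
    obtain ⟨c, hc⟩ : ∃ c : F, c * c * a = 1 := by
      have : IsSquare (a⁻¹) := FiniteField.isSquare_of_char_two (ringChar.eq F 2) _
      obtain ⟨c, hc⟩ := this
      exact ⟨c, by rw [← hc, inv_mul_cancel₀ ha0]⟩
    have hneg : ∀ v : V, -v = v := by
      intro v
      have : (2 : F) • v = 0 := by rw [h2, zero_smul]
      rw [two_smul] at this
      exact neg_eq_of_add_eq_zero_left this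
    have hQ1 : Q (u + u') = 1 := by rw [Q_add, h.left, h.right, h.pair]; ring
    have hQ2 : Q (c • (u + a • u')) = 1 := by
      rw [QuadraticMap.map_smul, Q_add, QuadraticMap.map_smul, h.left, h.right, polar_smul_right, h.pair]
      simp only [smul_eq_mul]
      linear_combination hc
    have h1 : Q (u + u') ≠ 0 := by rw [hQ1]; exact one_ne_zero
    have h1' : Q (c • (u + a • u')) ≠ 0 := by rw [hQ2]; exact one_ne_zero
    refine ⟨refl Q (u + u') h1 * refl Q (c • (u + a • u')) h1', hG.refl_mul_refl_mem h1' h1 (by rw [hQ1, hQ2]),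
      a, ha1, ?_, ?_⟩
    · show refl Q (u + u') h1 (refl Q (c • (u + a • u')) h1' u) = a • u
      have e1 : refl Q (c • (u + a • u')) h1' u = -(a • u') := by
        rw [refl_apply, hQ2, polar_smul_left, polar_add_left, polar_smul_left, h.polar_left, h.pair']
        simp only [smul_eq_mul, inv_one, one_mul, zero_add, mul_one]
        rw [smul_smul]
        have e2 : c * a * c = 1 := by linear_combination hc
        rw [e2, one_smul]
        abel
      rw [e1, refl_apply, hQ1, polar_neg_right, polar_smul_right, polar_add_left, h.pair, h.polar_right]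
      simp only [smul_eq_mul, inv_one, one_mul, add_zero, mul_one]
      module
    · intro v hv
      show refl Q (u + u') h1 (refl Q (c • (u + a • u')) h1' v) = v
      have e1 : polar Q (c • (u + a • u')) v = 0 := by
        rw [polar_smul_left, polar_add_left, polar_smul_left, hvU v hv u hu, hvU v hv u' hu']
        simp
      rw [refl_of_perp h1' e1]
      exact refl_of_perp h1 (by rw [polar_add_left, hvU v hv u hu, hvU v hv u' hu', add_zero])
  · set Y := U ⊓ perp Q (Submodule.span F {u, u'}) with hYdef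
    have hY : NondegOn Q Y := nondegOn_compl hU hu hu' h
    have hYd : 2 ≤ Module.finrank F Y := by
      have h8 := finrank_inf_perp_span hG.nondeg U u u'
      rw [← hYdef] at h8
      omega
    obtain ⟨c, hcY, hQc⟩ := exists_val h2 hY hYd 1
    obtain ⟨d, hdY, hQd⟩ := exists_val h2 hY hYd (-1)
    obtain ⟨hcU, hcu, hcu'⟩ := mem_compl.1 hcY
    obtain ⟨hdU, hdu, hdu'⟩ := mem_compl.1 hdY
    have hQ1 : Q (u + u') = 1 := by rw [Q_add, h.left, h.right, h.pair]; ring
    have hQ2 : Q (u - u') = -1 := by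
      rw [sub_eq_add_neg, Q_add, QuadraticMap.map_neg, h.left, h.right, polar_neg_right, h.pair]; ring
    have n1 : Q (u + u') ≠ 0 := by rw [hQ1]; exact one_ne_zero
    have n2 : Q (u - u') ≠ 0 := by rw [hQ2]; exact neg_ne_zero.2 one_ne_zero
    have n3 : Q c ≠ 0 := by rw [hQc]; exact one_ne_zero
    have n4 : Q d ≠ 0 := by rw [hQd]; exact neg_ne_zero.2 one_ne_zero
    refine ⟨(refl Q (u + u') n1 * refl Q c n3) * (refl Q (u - u') n2 * refl Q d n4),
      (E Q).mul_mem (hG.refl_mul_refl_mem n3 n1 (by rw [hQ1, hQc])) (hG.refl_mul_refl_mem n4 n2 (by rw [hQ2, hQd])),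
      -1, ?_, ?_, ?_⟩
    · intro e
      apply h2
      linear_combination -e
    · show refl Q (u + u') n1 (refl Q c n3 (refl Q (u - u') n2 (refl Q d n4 u))) = (-1 : F) • u
      rw [refl_of_perp n4 (by rw [polar_comm]; exact hdu)]
      have e1 : refl Q (u - u') n2 u = u' := by
        rw [refl_apply, hQ2, polar_sub_left, h.polar_left, h.pair']
        have : ((-1 : F)⁻¹ * (0 - 1)) = 1 := by rw [inv_neg, inv_one]; ring
        rw [this, one_smul]
        abel
      rw [e1, refl_of_perp n3 (by rw [polar_comm]; exact hcu'), refl_apply, hQ1, polar_add_left, h.pair, h.polar_right]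
      simp only [inv_one, one_mul, add_zero]
      module
    · intro v hv
      show refl Q (u + u') n1 (refl Q c n3 (refl Q (u - u') n2 (refl Q d n4 v))) = v
      rw [refl_of_perp n4 (hvU v hv d hdU), refl_of_perp n2 (by
        rw [polar_sub_left, hvU v hv u hu, hvU v hv u' hu', sub_zero]), refl_of_perp n3 (hvU v hv c hcU),
        refl_of_perp n1 (by rw [polar_add_left, hvU v hv u hu, hvU v hv u' hu', add_zero])]

variable {T : Type*} [Group T] {A : Subgroup T} {Γ : Subgroup (MulAut T)} {π : E Q →* T}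

/-- **nondegenerate subspaces, `q ≥ 3`** -/
theorem case_nd [Finite F] (hG : Good Q) (h : EPT A Γ) (hπ : Function.Surjective π) {W : Submodule F V}
    (hS : IsStab π A W) (hW : NondegOn Q W) (hW0 : W ≠ ⊥) (hU : 4 ≤ Module.finrank F (perp Q W))
    (h3 : ∃ a : F, a ≠ 0 ∧ a ≠ 1) : False := by
  obtain ⟨b, hb, hb0⟩ := Submodule.exists_mem_ne_zero_of_ne_bot hW0
  obtain ⟨w1, hw1, hbw1⟩ := hW.exists_polar_eq hb hb0 1
  have hU' : NondegOn Q (perp Q W) := hW.perp hG.nondeg
  obtain ⟨u, huU, hu0, hu⟩ := exists_sing_mem (Q := Q) (perp Q W) (by omega)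
  obtain ⟨u', hu'U, hyp⟩ := exists_hyp_in hU' huU hu0 hu
  obtain ⟨t, ht, l, hl, htu, htW⟩ := exists_torus hG hU' hU huU hu'U hyp h3
  rw [perp_perp hG.nondeg] at htW
  have hub : polar Q u b = 0 := mem_perp'.1 huU b hb
  have hxw : ∀ w ∈ W, siegel Q u b hu hub w = w + (-(polar Q b w)) • u := by
    intro w hw
    rw [siegel_apply, mem_perp'.1 huU w hw]
    module
  have hxE : siegel Q u b hu hub ∈ E Q := siegel_mem_E hu hub
  have hmul : ∀ (c : F), c • u ∈ perp Q W := fun c => (perp Q W).smul_mem c huU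
  have hw1x : siegel Q u b hu hub w1 ∉ W := by
    intro e
    rw [hxw w1 hw1, hbw1] at e
    have e1 := nd_split hW e hw1 ((perp Q W).zero_mem) (hmul (-1)) (by rw [add_zero])
    have e2 := e1.2
    rw [neg_smul, one_smul] at e2
    exact hu0 (neg_eq_zero.1 e2.symm)
  have htx : ∀ w ∈ W, t (siegel Q u b hu hub w) = w + (-(l * polar Q b w)) • u := by
    intro w hw
    rw [hxw w hw, map_add, map_smul, htW w hw, htu]
    module
  have h1 := P1W h hπ hS hxE ht ⟨w1, hw1, hw1x⟩ (fun w hw => by rw [htW w hw]; exact hw) (by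
    intro g hg hgW hgx w hw
    obtain ⟨w', hw', e⟩ := hgx w hw
    refine ⟨w', hw', ?_⟩
    rw [hxw w hw, hxw w' hw', map_add, map_smul] at e
    have hgu : g u ∈ perp Q W := perp_stab (E_le_O hg) hgW u huU
    obtain ⟨e1, e2⟩ := nd_split hW (hgW w hw) hw' ((perp Q W).smul_mem _ hgu) (hmul _) e
    rw [htx w hw, htx w' hw', map_add, map_smul, e1]
    have e3 : (-(l * polar Q b w)) • g u = l • ((-polar Q b w) • g u) := by module
    rw [e3, e2]
    module) w1 hw1
  obtain ⟨w', hw', e⟩ := h1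
  rw [htx w1 hw1, hxw w' hw'] at e
  obtain ⟨e1, e2⟩ := nd_split hW hw1 hw' (hmul _) (hmul _) e
  rw [← e1, hbw1, mul_one] at e2
  have e3 : (1 - l) • u = 0 := by
    have : (1 - l) • u = (-l) • u - (-(1 : F)) • u := by module
    rw [this, e2, sub_self]
  rcases smul_eq_zero.1 e3 with e4 | e4
  · exact hl (sub_eq_zero.1 e4).symm
  · exact hu0 e4

end Cfsg.Agent.H567.EP
end

-- part: H567/EP/Two
section
/-!
# S3499, orthogonal groups: nondegenerate subspaces, two scalars (helper567)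
-/

set_option autoImplicit false
set_option linter.unusedSectionVars false

namespace Cfsg.Agent.H567.EP

open QuadraticMap Cfsg.Agent.LieClassical.OrthCore Cfsg.Agent.LieClassical.OrthTrans
  Cfsg.Agent.LieClassical.OrthFinite Cfsg.Agent.H883.Sub Cfsg.Agent.H284

variable {F V : Type*} [Field F] [AddCommGroup V] [Module F V] [FiniteDimensional F V] {Q : QuadraticForm F V}

variable {T : Type*} [Group T] {A : Subgroup T} {Γ : Subgroup (MulAut T)} {π : E Q →* T}

/-- **nondegenerate subspaces, `q = 2`, both contain a hyperbolic pair** -/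
theorem case_two (hG : Good Q) (h : EPT A Γ) (hπ : Function.Surjective π) {R : Submodule F V}
    (hS : IsStab π A R) (hR : NondegOn Q R) (hF : ∀ a : F, a = 0 ∨ a = 1) (h2 : (2 : F) = 0) {e f d b c : V}
    (he : e ∈ R) (hf : f ∈ R) (hef : Hyp Q e f) (hd : d ∈ R) (hed : polar Q e d = 0) (hfd : polar Q f d = 0)
    (hQd : Q d ≠ 0) (hb : b ∈ perp Q R) (hc : c ∈ perp Q R) (hbc : Hyp Q b c) : False := by
  have hne : ∀ v : V, -v = v := by
    intro v
    have : (2 : F) • v = 0 := by rw [h2, zero_smul]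
    rw [two_smul] at this
    exact neg_eq_of_add_eq_zero_left this
  have hQd1 : Q d = 1 := (hF _).resolve_left hQd
  have hR' : ∀ w ∈ R, polar Q b w = 0 ∧ polar Q c w = 0 := fun w hw => ⟨mem_perp'.1 hb w hw, mem_perp'.1 hc w hw⟩
  have hbe := (hR' e he).1
  have hbf := (hR' f hf).1
  have hce := (hR' e he).2
  have hcf := (hR' f hf).2
  have heb : polar Q e b = 0 := by rw [polar_comm]; exact hbe
  have hfb : polar Q f b = 0 := by rw [polar_comm]; exact hbf
  have hec : polar Q e c = 0 := by rw [polar_comm]; exact hce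
  have hfc : polar Q f c = 0 := by rw [polar_comm]; exact hcf
  have hQ1 : Q (b + e + f) = 1 := by
    rw [Q_add, Q_add, hbc.left, hef.left, hef.right, hbe, polar_add_left, hbf, hef.pair]; ring
  have hQ2 : Q (b + c + f) = 1 := by
    rw [Q_add, Q_add, hbc.left, hbc.right, hef.right, hbc.pair, polar_add_left, hbf, hcf]; ring
  have hQ3 : Q (b + c) = 1 := by rw [Q_add, hbc.left, hbc.right, hbc.pair]; ring
  have n1 : Q (b + e + f) ≠ 0 := by rw [hQ1]; exact one_ne_zero
  have n2 : Q (b + c + f) ≠ 0 := by rw [hQ2]; exact one_ne_zero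
  have n3 : Q (b + c) ≠ 0 := by rw [hQ3]; exact one_ne_zero
  -- the two parts of `x w`
  set X : V → V := fun w => w + (polar Q e w + polar Q f w) • e + polar Q e w • f with hX
  have hXR : ∀ w ∈ R, X w ∈ R := fun w hw => R.add_mem (R.add_mem hw (R.smul_mem _ he)) (R.smul_mem _ hf)
  obtain ⟨x, hxE, hx⟩ : ∃ x ∈ E Q, ∀ w ∈ R, x w = X w + (polar Q e w • b + polar Q f w • c) := by
    refine ⟨refl Q (b + e + f) n1 * refl Q (b + c + f) n2, hG.refl_mul_refl_mem n2 n1 (by rw [hQ1, hQ2]), ?_⟩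
    intro w hw
    show refl Q (b + e + f) n1 (refl Q (b + c + f) n2 w) = _
    have e1 : polar Q (b + e + f) (b + c + f) = 0 := by
      simp only [polar_add_left, polar_add_right, hbc.polar_left, hbc.pair, hbf, heb, hec, hef.pair, hfb, hfc,
        hef.polar_right]
      linear_combination h2
    rw [refl_apply, refl_apply, hQ1, hQ2, polar_sub_right, polar_smul_right, e1]
    simp only [polar_add_left, (hR' w hw).1, (hR' w hw).2, inv_one, one_mul, zero_add, smul_zero, sub_zero, hX]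
    have e2 : w - polar Q f w • (b + c + f) - (polar Q e w + polar Q f w) • (b + e + f) =
        w + (polar Q e w + polar Q f w) • e + polar Q e w • f + (polar Q e w • b + polar Q f w • c) +
          (2 : F) • (-((polar Q e w + polar Q f w) • (b + e + f)) - polar Q f w • c) := by
      module
    rw [e2, h2, zero_smul, add_zero]
  -- the element `t`
  obtain ⟨t, htE, htb, htc, htw⟩ : ∃ t ∈ E Q, t b = c ∧ t c = b ∧ ∀ w ∈ R, t w ∈ R ∧ polar Q e (t w) = polar Q e w ∧
      polar Q f (t w) = polar Q f w ∧ t (X w) = X (t w) := by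
    refine ⟨refl Q (b + c) n3 * refl Q d hQd, hG.refl_mul_refl_mem hQd n3 (by rw [hQd1, hQ3]), ?_, ?_, ?_⟩
    · show refl Q (b + c) n3 (refl Q d hQd b) = c
      rw [refl_of_perp hQd (by rw [polar_comm]; exact (hR' d hd).1), refl_apply, hQ3, polar_add_left, hbc.polar_left,
        hbc.pair']
      have : b - ((1 : F)⁻¹ * (0 + 1)) • (b + c) = -c := by
        rw [inv_one, one_mul, zero_add, one_smul]; abel
      rw [this, hne]
    · show refl Q (b + c) n3 (refl Q d hQd c) = b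
      rw [refl_of_perp hQd (by rw [polar_comm]; exact (hR' d hd).2), refl_apply, hQ3, polar_add_left, hbc.polar_right,
        hbc.pair]
      have : c - ((1 : F)⁻¹ * (1 + 0)) • (b + c) = -b := by
        rw [inv_one, one_mul, add_zero, one_smul]; abel
      rw [this, hne]
    · have key : ∀ w ∈ R, (refl Q (b + c) n3 * refl Q d hQd) w = w - polar Q d w • d := by
        intro w hw
        show refl Q (b + c) n3 (refl Q d hQd w) = _
        have e1 : refl Q d hQd w = w - polar Q d w • d := by rw [refl_apply, hQd1, inv_one, one_mul]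
        rw [e1]
        have e2 : w - polar Q d w • d ∈ R := R.sub_mem hw (R.smul_mem _ hd)
        exact refl_of_perp n3 (by rw [polar_add_left, (hR' _ e2).1, (hR' _ e2).2, add_zero])
      intro w hw
      have hde : polar Q d e = 0 := by rw [polar_comm]; exact hed
      have hdf : polar Q d f = 0 := by rw [polar_comm]; exact hfd
      refine ⟨by rw [key w hw]; exact R.sub_mem hw (R.smul_mem _ hd), ?_, ?_, ?_⟩
      · rw [key w hw, polar_sub_right, polar_smul_right, hed, smul_zero, sub_zero]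
      · rw [key w hw, polar_sub_right, polar_smul_right, hfd, smul_zero, sub_zero]
      · rw [key _ (hXR w hw), key w hw]
        simp only [hX, polar_add_right, polar_sub_right, polar_smul_right, hde, hdf, hed, hfd, smul_zero, add_zero,
          sub_zero]
        module
  have hZ : ∀ w, polar Q e w • b + polar Q f w • c ∈ perp Q R :=
    fun w => (perp Q R).add_mem ((perp Q R).smul_mem _ hb) ((perp Q R).smul_mem _ hc)
  have hc0 : c ≠ 0 := hbc.right_ne
  have hX0 : ∀ w, X w = 0 → polar Q e w = 0 := by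
    intro w hw
    have h1 := congrArg (fun v => polar Q f v) hw
    simp only [hX, polar_add_right, polar_smul_right, hef.pair', hef.polar_right, smul_eq_mul, mul_one, mul_zero,
      add_zero, polar_zero_right] at h1
    linear_combination h1 - polar Q f w * h2
  have hxe : x e = c := by
    rw [hx e he]
    simp only [hX, hef.polar_left, hef.pair', zero_add, one_smul, zero_smul, add_zero]
    have : e + e + c = (2 : F) • e + c := by rw [two_smul]
    rw [this, h2, zero_smul, zero_add]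
  have hxf : x f = e + b := by
    rw [hx f hf]
    simp only [hX, hef.polar_right, hef.pair, add_zero, one_smul, zero_smul]
    have : f + e + f + b = e + b + (2 : F) • f := by module
    rw [this, h2, zero_smul, add_zero]
  have hcR : c ∉ R := by
    intro e1
    exact hc0 (hR c e1 fun z hz => (hR' z hz).2)
  have hlin : ∀ (g : V ≃ₗ[F] V) (y : V) (α β : F) (p q : V), g (y + (α • p + β • q)) = g y + (α • g p + β • g q) := by
    intro g y α β p q
    simp only [map_add, map_smul]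
  have htx : ∀ w ∈ R, t (x w) = X (t w) + (polar Q e w • c + polar Q f w • b) := by
    intro w hw
    rw [hx w hw, hlin, htb, htc, (htw w hw).2.2.2]
  have h1 := P1W h hπ hS hxE htE ⟨e, he, by rw [hxe]; exact hcR⟩ (fun w hw => (htw w hw).1) (by
    intro g hg hgR hgx w hw
    have hgP := perp_stab (E_le_O hg) hgR
    have hgc : g c = c := by
      obtain ⟨w', hw', e1⟩ := hgx e he
      rw [hxe, hx w' hw'] at e1
      obtain ⟨e2, e3⟩ := nd_split hR R.zero_mem (hXR w' hw') (hgP c hc) (hZ w') (by rw [zero_add]; exact e1)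
      rw [hX0 w' e2.symm, zero_smul, zero_add] at e3
      rcases hF (polar Q f w') with e4 | e4
      · exfalso
        rw [e4, zero_smul] at e3
        exact hc0 (g.map_eq_zero_iff.1 e3)
      · rw [e4, one_smul] at e3
        exact e3
    have hgb : g b = b := by
      obtain ⟨w', hw', e1⟩ := hgx f hf
      rw [hxf, map_add, hx w' hw'] at e1
      obtain ⟨-, e3⟩ := nd_split hR (hgR e he) (hXR w' hw') (hgP b hb) (hZ w') e1
      have e4 : polar Q e w' = 1 := by
        have e5 : polar Q (g b) (g c) = 1 := by rw [polar_map (E_le_O hg)]; exact hbc.pair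
        rw [hgc, e3, polar_add_left, polar_smul_left, polar_smul_left, hbc.pair, hbc.polar_right, smul_eq_mul,
          mul_one, smul_zero, add_zero] at e5
        exact e5
      have e6 : Q (g b) = 0 := by rw [mem_O.1 (E_le_O hg)]; exact hbc.left
      rw [e3, e4, one_smul, Q_add, QuadraticMap.map_smul, hbc.left, hbc.right, polar_smul_right, hbc.pair, smul_zero,
        zero_add, zero_add, smul_eq_mul, mul_one] at e6
      rw [e3, e4, e6, one_smul, zero_smul, add_zero]
    have htwR := (htw w hw).1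
    obtain ⟨w1, hw1, e1⟩ := hgx (t w) htwR
    rw [hx _ htwR, hx w1 hw1, map_add] at e1
    obtain ⟨e2, e3⟩ := nd_split hR (hgR _ (hXR _ htwR)) (hXR w1 hw1) (hgP _ (hZ _)) (hZ w1) e1
    rw [map_add, map_smul, map_smul, hgb, hgc] at e3
    have e4 : polar Q e (t w) = polar Q e w1 := by
      have := congrArg (fun v => polar Q v c) e3
      simp only [polar_add_left, polar_smul_left, hbc.pair, hbc.polar_right, smul_eq_mul, mul_one, mul_zero,
        add_zero] at this
      exact this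
    have e5 : polar Q f (t w) = polar Q f w1 := by
      have := congrArg (fun v => polar Q v b) e3
      simp only [polar_add_left, polar_smul_left, hbc.pair', hbc.polar_left, smul_eq_mul, mul_one, mul_zero,
        zero_add] at this
      exact this
    -- the vector `t⁻¹ w1`
    have hw2 : t⁻¹ w1 ∈ R := inv_stab (fun w hw => (htw w hw).1) w1 hw1
    have ew : t (t⁻¹ w1) = w1 := LinearEquiv.apply_symm_apply t w1
    refine ⟨t⁻¹ w1, hw2, ?_⟩
    rw [htx w hw, htx _ hw2, ew, hlin, hgb, hgc, e2]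
    have e7 := (htw _ hw2).2.1
    have e8 := (htw _ hw2).2.2.1
    rw [ew] at e7 e8
    rw [← e7, ← e8, ← e4, ← e5, (htw w hw).2.1, (htw w hw).2.2.1]) e he
  obtain ⟨w', hw', e1⟩ := h1
  rw [hxe, htc, hx w' hw'] at e1
  obtain ⟨e2, e3⟩ := nd_split hR R.zero_mem (hXR w' hw') hb (hZ w') (by rw [zero_add]; exact e1)
  rw [hX0 w' e2.symm, zero_smul, zero_add] at e3
  have e4 := hbc.pair
  rw [e3, polar_smul_left, hbc.polar_right, smul_zero] at e4
  exact zero_ne_one e4

/-- **an anisotropic plane, `q = 2`** -/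
theorem case_plane [Finite T] (hG : Good Q) (h : EPT A Γ) (hπ : Function.Surjective π)
    (hk : ∀ s : E Q, π s = 1 → ∃ c : F, ∀ v, (s : V ≃ₗ[F] V) v = c • v) {W : Submodule F V}
    (hS : IsStab π A W) (hW : NondegOn Q W) (hF : ∀ a : F, a = 0 ∨ a = 1) (h2 : (2 : F) = 0) {b c b' c' : V}
    (hb : b ∈ W) (hc : c ∈ W) (hspan : ∀ w ∈ W, ∃ α β : F, w = α • b + β • c) (hQb : Q b = 1) (hQc : Q c = 1)
    (hbc : polar Q b c = 1) (hb' : b' ∈ perp Q W) (hc' : c' ∈ perp Q W) (hQb' : Q b' = 1) (hQc' : Q c' = 1)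
    (hbc' : polar Q b' c' = 1) : False := by
  have hne : ∀ v : V, -v = v := by
    intro v
    have : (2 : F) • v = 0 := by rw [h2, zero_smul]
    rw [two_smul] at this
    exact neg_eq_of_add_eq_zero_left this
  have hsub : ∀ v w : V, v - w = v + w := fun v w => by rw [sub_eq_add_neg, hne]
  have hdbl : ∀ v : V, v + v = 0 := fun v => by rw [← two_smul F, h2, zero_smul]
  have hself : ∀ v : V, polar Q v v = 0 := fun v => by rw [polar_self', h2, zero_mul]
  have hcb : polar Q c b = 1 := by rw [polar_comm]; exact hbc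
  have nb : Q b ≠ 0 := by rw [hQb]; exact one_ne_zero
  have nc : Q c ≠ 0 := by rw [hQc]; exact one_ne_zero
  have hQbc : Q (b + c) = 1 := by rw [Q_add, hQb, hQc, hbc]; linear_combination h2
  have nbc : Q (b + c) ≠ 0 := by rw [hQbc]; exact one_ne_zero
  have hbP : ∀ w ∈ W, polar Q b' w = 0 ∧ polar Q c' w = 0 := fun w hw => ⟨mem_perp'.1 hb' w hw, mem_perp'.1 hc' w hw⟩
  have hbb' := (hbP b hb).1
  have hbc'' := (hbP c hc).1
  have hcb' := (hbP b hb).2
  have hcc' := (hbP c hc).2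
  have hQ1 : Q (b + b') = 0 := by rw [Q_add, hQb, hQb', polar_comm, hbb']; linear_combination h2
  have hQ2 : Q (c + c') = 0 := by rw [Q_add, hQc, hQc', polar_comm, hcc']; linear_combination h2
  have hP : polar Q (b + b') (c + c') = 0 := by
    rw [polar_add_left, polar_add_right, polar_add_right, hbc, hbc', polar_comm Q b c', hcb', hbc'']
    linear_combination h2
  set z := refl Q b nb * refl Q c nc with hz
  have hzE : z ∈ E Q := hG.refl_mul_refl_mem nc nb (by rw [hQb, hQc])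
  have hrb : ∀ v, refl Q b nb v = v + polar Q b v • b := fun v => by
    rw [refl_apply, hQb, inv_one, one_mul, hsub]
  have hrc : ∀ v, refl Q c nc v = v + polar Q c v • c := fun v => by
    rw [refl_apply, hQc, inv_one, one_mul, hsub]
  have hzU : ∀ v ∈ perp Q W, z v = v := by
    intro v hv
    show refl Q b nb (refl Q c nc v) = v
    rw [refl_of_perp nc (mem_perp.1 hv c hc), refl_of_perp nb (mem_perp.1 hv b hb)]
  have hzb : z b = c := by
    show refl Q b nb (refl Q c nc b) = c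
    rw [hrc, hrb, hcb, one_smul, polar_add_right, hself, hbc, zero_add, one_smul]
    have : b + c + b = c + (b + b) := by abel
    rw [this, hdbl, add_zero]
  have hzc : z c = b + c := by
    show refl Q b nb (refl Q c nc c) = b + c
    rw [hrc, hrb, hself, zero_smul, add_zero, hbc, one_smul, add_comm]
  have hzbc : z (b + c) = b := by
    rw [map_add, hzb, hzc]
    have : c + (b + c) = b + (c + c) := by abel
    rw [this, hdbl, add_zero]
  have hz3 : z ^ 3 = 1 := by
    ext v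
    obtain ⟨w, hw, w', hw', rfl⟩ := hW.exists_decomp v
    obtain ⟨α, β, rfl⟩ := hspan w hw
    show z (z (z (α • b + β • c + w'))) = α • b + β • c + w'
    have e1 : z (z (z b)) = b := by rw [hzb, hzc, hzbc]
    have e2 : z (z (z c)) = c := by rw [hzc, hzbc, hzb]
    have e3 : z (z (z w')) = w' := by rw [hzU w' hw', hzU w' hw', hzU w' hw']
    have e4 : z (z (z (α • b + β • c + w'))) = α • z (z (z b)) + β • z (z (z c)) + z (z (z w')) := by
      simp only [LinearEquiv.map_add, LinearEquiv.map_smul]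
    rw [e4, e1, e2, e3]
  have hbb : refl Q b nb * refl Q b nb = 1 := refl_mul_self nb
  have hccr : refl Q c nc * refl Q c nc = 1 := refl_mul_self nc
  have hrbc : refl Q (b + c) nbc = refl Q b nb * refl Q c nc * refl Q b nb := by
    have e1 : refl Q b nb c = b + c := by rw [hrb, hbc, one_smul, add_comm]
    have n1 : Q (refl Q b nb c) ≠ 0 := by rw [e1]; exact nbc
    have e2 := refl_conj (refl_mem_O nb) nc n1
    rw [refl_inv] at e2
    rw [e2]
    congr 1
    exact e1.symm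
  have hcong : ∀ {v w : V} (hv : Q v ≠ 0) (hw : Q w ≠ 0), v = w → refl Q v hv = refl Q w hw := by
    rintro v w hv hw rfl
    rfl
  have hzin : z⁻¹ = refl Q c nc * refl Q b nb := by
    rw [hz, mul_inv_rev, refl_inv, refl_inv]
  have hcases : ∀ w ∈ W, Q w = 1 → w = b ∨ w = c ∨ w = b + c := by
    intro w hw hQw
    obtain ⟨α, β, rfl⟩ := hspan w hw
    rcases hF α with rfl | rfl <;> rcases hF β with rfl | rfl
    · exfalso
      rw [zero_smul, zero_smul, add_zero, QuadraticMap.map_zero] at hQw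
      exact zero_ne_one hQw
    · right; left
      rw [zero_smul, one_smul, zero_add]
    · left
      rw [zero_smul, one_smul, add_zero]
    · right; right
      rw [one_smul, one_smul]
  have hbnec : b ≠ c := by
    intro e
    rw [e, hself] at hbc
    exact zero_ne_one hbc
  have hconj : ∀ a ∈ E Q, (∀ w ∈ W, a w ∈ W) → a * z * a⁻¹ ∈ Subgroup.zpowers z := by
    intro a ha haW
    have haO := E_le_O ha
    have q1 : Q (a b) = 1 := by rw [mem_O.1 haO]; exact hQb
    have q2 : Q (a c) = 1 := by rw [mem_O.1 haO]; exact hQc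
    have n1 : Q (a b) ≠ 0 := by rw [q1]; exact one_ne_zero
    have n2 : Q (a c) ≠ 0 := by rw [q2]; exact one_ne_zero
    have e1 : a * z * a⁻¹ = refl Q (a b) n1 * refl Q (a c) n2 := by
      rw [← refl_conj haO nb n1, ← refl_conj haO nc n2, hz]
      group
    rw [e1]
    have zin : z ∈ Subgroup.zpowers z := Subgroup.mem_zpowers z
    have zin' : z⁻¹ ∈ Subgroup.zpowers z := Subgroup.inv_mem _ zin
    have hinj : a b ≠ a c := fun e => hbnec (a.injective e)
    rcases hcases _ (haW b hb) q1 with h1 | h1 | h1 <;> rcases hcases _ (haW c hc) q2 with h3 | h3 | h3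
    · exact absurd (h1.trans h3.symm) hinj
    · rw [hcong n1 nb h1, hcong n2 nc h3]
      exact zin
    · rw [hcong n1 nb h1, hcong n2 nbc h3, hrbc]
      have : refl Q b nb * (refl Q b nb * refl Q c nc * refl Q b nb) = z⁻¹ := by
        rw [hzin, ← mul_assoc, ← mul_assoc, hbb, one_mul]
      rw [this]
      exact zin'
    · rw [hcong n1 nc h1, hcong n2 nb h3, ← hzin]
      exact zin'
    · exact absurd (h1.trans h3.symm) hinj
    · rw [hcong n1 nc h1, hcong n2 nbc h3, hrbc]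
      have : refl Q c nc * (refl Q b nb * refl Q c nc * refl Q b nb) = z⁻¹ * z⁻¹ := by
        rw [hzin]
        group
      rw [this]
      exact Subgroup.mul_mem _ zin' zin'
    · rw [hcong n1 nbc h1, hcong n2 nb h3, hrbc, mul_assoc, hbb, mul_one]
      exact zin
    · rw [hcong n1 nbc h1, hcong n2 nc h3, hrbc]
      have : refl Q b nb * refl Q c nc * refl Q b nb * refl Q c nc = z * z := by
        rw [hz]
        group
      rw [this]
      exact Subgroup.mul_mem _ zin zin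
    · exact absurd (h1.trans h3.symm) hinj
  have hzW : z ∈ Cfsg.Agent.H883.Bridge.stab W := by
    apply Cfsg.Agent.H883.Bridge.mem_stab_of_le
    intro w hw
    obtain ⟨α, β, rfl⟩ := hspan w hw
    rw [map_add, map_smul, map_smul, hzb, hzc]
    exact W.add_mem (W.smul_mem _ hc) (W.smul_mem _ (W.add_mem hb hc))
  have hxE : siegel Q (b + b') (c + c') hQ1 hP ∈ E Q := siegel_mem_E hQ1 hP
  have hxb : siegel Q (b + b') (c + c') hQ1 hP b = b' := by
    rw [siegel_apply, hQ2, polar_add_left, polar_add_left, hself, hbb', hcb, hcb']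
    simp only [add_zero, zero_smul, one_smul, zero_mul, sub_zero]
    rw [hsub]
    have : b + (b + b') = b' + (b + b) := by abel
    rw [this, hdbl, add_zero]
  have hxc : siegel Q (b + b') (c + c') hQ1 hP c = c' := by
    rw [siegel_apply, hQ2, polar_add_left, polar_add_left, hbc, hbc'', hself, hcc']
    simp only [add_zero, zero_smul, one_smul, zero_mul, sub_zero]
    have : c + (c + c') = c' + (c + c) := by abel
    rw [this, hdbl, add_zero]
  have hbW : b' ∉ W := by
    intro e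
    have := hW b' e fun w hw => (hbP w hw).1
    rw [this, QuadraticMap.map_zero] at hQb'
    exact zero_ne_one hQb'
  obtain ⟨k, hk1⟩ := T1W h hπ hk hS Nat.prime_three (N := Subgroup.zpowers z) (by
      rw [Subgroup.zpowers_le]; exact hzE) (by
      intro g hg w hw
      have h1 : Subgroup.zpowers z ≤ Cfsg.Agent.H883.Bridge.stab W := by
        rw [Subgroup.zpowers_le]; exact hzW
      exact (h1 hg w).1 hw) (by
      rintro ⟨_, k, rfl⟩
      refine ⟨1, Subtype.ext ?_⟩
      show (z ^ k) ^ (3 ^ 1) = 1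
      rw [pow_one, ← zpow_natCast, ← zpow_mul, mul_comm, zpow_mul, zpow_natCast, hz3, one_zpow]) (by
      rintro a ha haW _ ⟨k, rfl⟩
      show a * z ^ k * a⁻¹ ∈ _
      rw [← conj_zpow]
      exact Subgroup.zpow_mem _ (hconj a ha haW) k) hxE ⟨b, hb, by rw [hxb]; exact hbW⟩ (Subgroup.mem_zpowers z) (by
      intro w hw
      apply hzU
      obtain ⟨α, β, rfl⟩ := hspan w hw
      rw [map_add, map_smul, map_smul, hxb, hxc]
      exact (perp Q W).add_mem ((perp Q W).smul_mem _ hb') ((perp Q W).smul_mem _ hc'))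
  have h5 := hk1 b
  rw [hzb] at h5
  rw [h5, polar_smul_right, hself, smul_zero] at hbc
  exact zero_ne_one hbc

end Cfsg.Agent.H567.EP
end

-- part: H567/EP/Ts
section
/-!
# S3499, orthogonal groups: totally singular subspaces (helper567)
-/

set_option autoImplicit false
set_option linter.unusedSectionVars false

namespace Cfsg.Agent.H567.EP

open QuadraticMap Cfsg.Agent.LieClassical.OrthCore Cfsg.Agent.LieClassical.OrthTrans
  Cfsg.Agent.LieClassical.OrthFinite Cfsg.Agent.H883.Sub Cfsg.Agent.H284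
  Cfsg.Agent.ClassicalGeometry.OrthAut1

variable {F V : Type*} [Field F] [AddCommGroup V] [Module F V] [FiniteDimensional F V] {Q : QuadraticForm F V}

theorem sing_avoid [Finite F] (S T : Submodule F V)
    (h : Module.finrank F T + 3 ≤ Module.finrank F S) : ∃ w ∈ S, w ∉ T ∧ Q w = 0 := by
  obtain ⟨C, hC⟩ := Submodule.exists_isCompl (T.comap S.subtype)
  have h1 : Module.finrank F (T.comap S.subtype) ≤ Module.finrank F T := by
    have h2 : Module.finrank F (T.comap S.subtype) = Module.finrank F ((T.comap S.subtype).map S.subtype) :=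
      (Submodule.finrank_map_subtype_eq S _).symm
    rw [h2]
    exact Submodule.finrank_mono (Submodule.map_comap_le _ _)
  have h2 := Submodule.finrank_add_eq_of_isCompl hC
  have h3 : Module.finrank F (C.map S.subtype) = Module.finrank F C := Submodule.finrank_map_subtype_eq S C
  obtain ⟨w, hw, hw0, hQw⟩ := exists_sing_mem (Q := Q) (C.map S.subtype) (by omega)
  obtain ⟨c, hc, rfl⟩ := hw
  refine ⟨c, c.2, fun hcT => hw0 ?_, hQw⟩
  have h4 : c ∈ T.comap S.subtype ⊓ C := ⟨hcT, hc⟩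
  rw [hC.inf_eq_bot, Submodule.mem_bot] at h4
  rw [h4]
  rfl

theorem exists_notMem {W B : Submodule F V} (h : Module.finrank F B < Module.finrank F W) : ∃ w ∈ W, w ∉ B := by
  by_contra hcon
  push Not at hcon
  have := Submodule.finrank_mono (show W ≤ B from hcon)
  omega

theorem span_pair_le (a c : V) : Module.finrank F (Submodule.span F {a, c}) ≤ 2 := by
  classical
  have h := finrank_span_finset_le_card (R := F) ({a, c} : Finset V)
  rw [Finset.coe_insert, Finset.coe_singleton] at h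
  exact h.trans Finset.card_le_two

variable {T : Type*} [Group T] {A : Subgroup T} {Γ : Subgroup (MulAut T)} {π : E Q →* T}

theorem ts_key [Finite F] [Finite T] (h : EPT A Γ) (hπ : Function.Surjective π)
    (hk : ∀ s : E Q, π s = 1 → ∃ c : F, ∀ v, (s : V ≃ₗ[F] V) v = c • v) {W : Submodule F V} (hS : IsStab π A W)
    {z : E Q} (hz : z ∈ U Q W) {x : V ≃ₗ[F] V} (hx : x ∈ E Q) (hxW : ∃ w ∈ W, x w ∉ W)
    (hzx : ∀ w ∈ W, (z : V ≃ₗ[F] V) (x w) = x w) : ∃ c : F, ∀ v, (z : V ≃ₗ[F] V) v = c • v := by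
  obtain ⟨p, hp⟩ := CharP.exists F
  have hp' : p.Prime := CharP.char_is_prime F p
  have := Fact.mk hp'
  refine T1W h hπ hk hS hp' (N := (U Q W).map (E Q).subtype) ?_ ?_ ((isPGroup_U p W).map _) ?_ hx hxW ⟨z, hz, rfl⟩ hzx
  · rintro _ ⟨g, _, rfl⟩
    exact g.2
  · rintro _ ⟨g, hg, rfl⟩ w hw
    have := hg.1 w hw
    show (g : V ≃ₗ[F] V) w ∈ W
    rw [this]
    exact hw
  · rintro a ha haW _ ⟨k, hk', rfl⟩
    refine ⟨⟨a, ha⟩ * k * ⟨a, ha⟩⁻¹, ⟨?_, ?_⟩, rfl⟩
    · intro w hw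
      show a ((k : V ≃ₗ[F] V) (a⁻¹ w)) = w
      rw [hk'.1 _ (inv_stab haW w hw)]
      exact LinearEquiv.apply_symm_apply a w
    · intro v hv
      have h1 : ∀ w ∈ W, polar Q w (a⁻¹ v) = 0 := by
        intro w hw
        have e1 : a (a⁻¹ v) = v := LinearEquiv.apply_symm_apply a v
        have h2 := hv (a w) (haW w hw)
        rw [← e1, polar_map (E_le_O ha)] at h2
        exact h2
      have h2 := haW _ (hk'.2 _ h1)
      have e1 : a (a⁻¹ v) = v := LinearEquiv.apply_symm_apply a v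
      rw [map_sub, e1] at h2
      exact h2

/-- **totally singular subspaces** -/
theorem case_ts [Finite F] [Finite T] (hG : Good Q) (hd : 7 ≤ Module.finrank F V) (h : EPT A Γ)
    (hπ : Function.Surjective π) (hk : ∀ s : E Q, π s = 1 → ∃ c : F, ∀ v, (s : V ≃ₗ[F] V) v = c • v)
    {W : Submodule F V} (hS : IsStab π A W) (hW0 : W ≠ ⊥) (hW : TS Q W) : False := by
  have hfin := finrank_perp hG.nondeg W
  obtain ⟨w1, hw1, hw10⟩ := Submodule.exists_mem_ne_zero_of_ne_bot hW0
  have hQ1 := hW w1 hw1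
  rcases Nat.lt_or_ge (Module.finrank F W) 3 with h3 | h3
  · obtain ⟨u, huP, huW, hu⟩ := sing_avoid (Q := Q) (perp Q W) W (by omega)
    have hu0 : u ≠ 0 := by
      rintro rfl
      exact huW W.zero_mem
    have hw1u : polar Q w1 u = 0 := mem_perp.1 huP w1 hw1
    obtain ⟨b, hub, hwb⟩ := exists_sep (x := w1) (z := u) hG.nondeg (by
      intro c e
      rcases eq_or_ne c 0 with rfl | hc
      · rw [zero_smul] at e
        exact hw10 e
      · apply huW
        have : u = c⁻¹ • w1 := by rw [e, smul_smul, inv_mul_cancel₀ hc, one_smul]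
        rw [this]
        exact W.smul_mem _ hw1)
    have hbw : polar Q b w1 = 1 := by rw [polar_comm]; exact hwb
    have hxw : ∀ w ∈ W, siegel Q u b hu hub w = w + (-(polar Q b w)) • u := by
      intro w hw
      rw [siegel_apply, mem_perp'.1 huP w hw]
      module
    have hxE : siegel Q u b hu hub ∈ E Q := siegel_mem_E hu hub
    have hzE : siegel Q w1 u hQ1 hw1u ∈ E Q := siegel_mem_E hQ1 hw1u
    have hzW : ∀ w ∈ W, siegel Q w1 u hQ1 hw1u w = w := by
      intro w hw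
      rw [siegel_apply, hW.polar hw1 hw, mem_perp'.1 huP w hw]
      module
    have hzu : siegel Q w1 u hQ1 hw1u u = u := by
      rw [siegel_apply, hw1u, polar_self_of_sing hu]
      module
    obtain ⟨c, hc⟩ := ts_key h hπ hk hS (z := ⟨siegel Q w1 u hQ1 hw1u, hzE⟩) (by
      refine ⟨hzW, ?_⟩
      intro v hv
      show siegel Q w1 u hQ1 hw1u v - v ∈ W
      rw [siegel_apply, hv w1 hw1]
      have : v + (0 : F) • u - polar Q u v • w1 - (Q u * 0) • w1 - v = -(polar Q u v) • w1 := by module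
      rw [this]
      exact W.smul_mem _ hw1) hxE ⟨w1, hw1, by
        rw [hxw w1 hw1, hbw]
        intro e
        apply huW
        have : u = w1 - (w1 + (-(1 : F)) • u) := by module
        rw [this]
        exact W.sub_mem hw1 e⟩ (by
      intro w hw
      show siegel Q w1 u hQ1 hw1u (siegel Q u b hu hub w) = _
      rw [hxw w hw, map_add, map_smul, hzW w hw, hzu])
    have h1 : w1 = c • w1 := by
      have := hc w1
      rwa [show ((⟨siegel Q w1 u hQ1 hw1u, hzE⟩ : E Q) : V ≃ₗ[F] V) w1 = w1 from hzW w1 hw1] at this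
    have h2 : b + u = c • b := by
      have := hc b
      have e : ((⟨siegel Q w1 u hQ1 hw1u, hzE⟩ : E Q) : V ≃ₗ[F] V) b = b + u := by
        show siegel Q w1 u hQ1 hw1u b = _
        rw [siegel_apply, hwb, hub, hu]
        module
      rwa [e] at this
    have hc1 : c = 1 := by
      have : (c - 1) • w1 = 0 := by rw [sub_smul, one_smul, ← h1, sub_self]
      rcases smul_eq_zero.1 this with h4 | h4
      · exact sub_eq_zero.1 h4
      · exact absurd h4 hw10
    rw [hc1, one_smul] at h2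
    exact hu0 (add_eq_left.1 h2)
  · obtain ⟨w2, hw2, hw2n⟩ := exists_notMem (W := W) (B := Submodule.span F {w1}) (by
      rw [finrank_span_singleton hw10]; omega)
    obtain ⟨w3, hw3, hw3n⟩ := exists_notMem (W := W) (B := Submodule.span F {w1, w2}) (by
      have := span_pair_le (F := F) w1 w2
      omega)
    have hw20 : w2 ≠ 0 := by
      rintro rfl
      exact hw2n (Submodule.zero_mem _)
    -- the dual vector of `w3`
    obtain ⟨y, hy, hy3⟩ : ∃ y ∈ perp Q (Submodule.span F {w1, w2}), polar Q y w3 ≠ 0 := by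
      by_contra hcon
      push Not at hcon
      apply hw3n
      rw [← perp_perp hG.nondeg (Submodule.span F {w1, w2}), mem_perp]
      exact hcon
    have hy12 : polar Q w1 y = 0 ∧ polar Q w2 y = 0 :=
      ⟨mem_perp.1 hy w1 (Submodule.subset_span (by simp)), mem_perp.1 hy w2 (Submodule.subset_span (by simp))⟩
    obtain ⟨f, hf1, hf2, hf3, hQf⟩ : ∃ f, polar Q w1 f = 0 ∧ polar Q w2 f = 0 ∧ polar Q w3 f = 1 ∧ Q f = 0 := by
      obtain ⟨y', e1, e2, e3⟩ : ∃ y', polar Q w1 y' = 0 ∧ polar Q w2 y' = 0 ∧ polar Q w3 y' = 1 := by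
        refine ⟨(polar Q y w3)⁻¹ • y, ?_, ?_, ?_⟩
        · rw [polar_smul_right, hy12.1, smul_zero]
        · rw [polar_smul_right, hy12.2, smul_zero]
        · rw [polar_smul_right, polar_comm Q w3 y, smul_eq_mul, inv_mul_cancel₀ hy3]
      have e4 : polar Q y' w3 = 1 := by rw [polar_comm]; exact e3
      refine ⟨y' + (-(Q y')) • w3, ?_, ?_, ?_, ?_⟩
      · rw [polar_add_right, polar_smul_right, e1, hW.polar hw1 hw3, smul_zero, add_zero]
      · rw [polar_add_right, polar_smul_right, e2, hW.polar hw2 hw3, smul_zero, add_zero]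
      · rw [polar_add_right, polar_smul_right, e3, hW.polar hw3 hw3, smul_zero, add_zero]
      · rw [Q_add, QuadraticMap.map_smul, hW w3 hw3, polar_smul_right, e4, smul_zero, smul_eq_mul]
        ring
    have hf3' : polar Q f w3 = 1 := by rw [polar_comm]; exact hf3
    -- the vector `b`
    obtain ⟨b, hb1, hb2, hb3, hbf, hbW⟩ : ∃ b, polar Q w1 b = 0 ∧ polar Q w2 b = 0 ∧ polar Q w3 b = 0 ∧
        polar Q f b = 0 ∧ b ∉ W := by
      by_contra hcon
      push Not at hcon
      set P := perp Q (Submodule.span F {w1, w2}) ⊓ perp Q (Submodule.span F {w3, f}) with hP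
      have d1 := finrank_perp hG.nondeg (Submodule.span F {w1, w2})
      have d2 := span_pair_le (F := F) w1 w2
      have d3 := finrank_inf_perp_span hG.nondeg (perp Q (Submodule.span F {w1, w2})) w3 f
      rw [← hP] at d3
      have hmem : ∀ v ∈ P, v ∈ W ∧ polar Q f v = 0 := by
        intro v hv
        obtain ⟨hv1, hv3, hv4⟩ := mem_compl.1 hv
        have e1 := mem_perp.1 hv1 w1 (Submodule.subset_span (by simp))
        have e2 := mem_perp.1 hv1 w2 (Submodule.subset_span (by simp))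
        exact ⟨hcon v e1 e2 hv3 hv4, hv4⟩
      have d4 : Module.finrank F P < Module.finrank F W := by
        apply Submodule.finrank_lt_finrank_of_lt
        refine lt_of_le_of_ne (fun v hv => (hmem v hv).1) ?_
        intro e
        rw [← e] at hw3
        have := (hmem w3 hw3).2
        rw [hf3'] at this
        exact one_ne_zero this
      have d5 : Module.finrank F W ≤ Module.finrank F (perp Q W) := by
        apply Submodule.finrank_mono
        intro w hw
        exact mem_perp.2 fun w' hw' => hW.polar hw' hw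
      omega
    have hb3' : polar Q b w3 = 0 := by rw [polar_comm]; exact hb3
    have h12 : polar Q w1 w2 = 0 := hW.polar hw1 hw2
    have hxE : siegel Q f b hQf hbf ∈ E Q := siegel_mem_E hQf hbf
    have hzE : siegel Q w1 w2 hQ1 h12 ∈ E Q := siegel_mem_E hQ1 h12
    have hzfix : ∀ v, polar Q w1 v = 0 → polar Q w2 v = 0 → siegel Q w1 w2 hQ1 h12 v = v := by
      intro v e1 e2
      rw [siegel_apply, e1, e2]
      module
    obtain ⟨y1, hy1, hy2⟩ := exists_sep (x := w1) (z := w2) hG.nondeg (by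
      intro c e
      rcases eq_or_ne c 0 with rfl | hc
      · rw [zero_smul] at e
        exact hw10 e
      · apply hw2n
        have : w2 = c⁻¹ • w1 := by rw [e, smul_smul, inv_mul_cancel₀ hc, one_smul]
        rw [this]
        exact Submodule.smul_mem _ _ (Submodule.mem_span_singleton_self w1))
    obtain ⟨c, hc⟩ := ts_key h hπ hk hS (z := ⟨siegel Q w1 w2 hQ1 h12, hzE⟩) (by
      refine ⟨fun w hw => hzfix w (hW.polar hw1 hw) (hW.polar hw2 hw), ?_⟩
      intro v hv
      show siegel Q w1 w2 hQ1 h12 v - v ∈ W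
      rw [hzfix v (hv w1 hw1) (hv w2 hw2), sub_self]
      exact W.zero_mem) hxE ⟨w3, hw3, by
        rw [siegel_apply, hf3', hb3']
        intro e
        have e1 : w3 + (1 : F) • b - (0 : F) • f - (Q b * 1) • f = w3 + b + (-(Q b)) • f := by module
        rw [e1] at e
        have e2 := hW.polar hw3 e
        rw [polar_add_right, polar_add_right, polar_smul_right, hW.polar hw3 hw3, hb3, hf3, smul_eq_mul] at e2
        have e3 : Q b = 0 := by linear_combination -e2
        rw [e3, neg_zero, zero_smul, add_zero] at e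
        apply hbW
        have : b = (w3 + b) - w3 := by abel
        rw [this]
        exact W.sub_mem e hw3⟩ (by
      intro w hw
      apply hzfix
      · rw [siegel_apply]
        simp only [polar_add_right, polar_sub_right, polar_smul_right, hW.polar hw1 hw, hb1, hf1, smul_zero, add_zero,
          sub_zero]
      · rw [siegel_apply]
        simp only [polar_add_right, polar_sub_right, polar_smul_right, hW.polar hw2 hw, hb2, hf2, smul_zero, add_zero,
          sub_zero])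
    have h1 : w1 = c • w1 := by
      have := hc w1
      rwa [show ((⟨siegel Q w1 w2 hQ1 h12, hzE⟩ : E Q) : V ≃ₗ[F] V) w1 = w1 from
        hzfix w1 (hW.polar hw1 hw1) (hW.polar hw2 hw1)] at this
    have h2 : y1 + w2 = c • y1 := by
      have := hc y1
      have e : ((⟨siegel Q w1 w2 hQ1 h12, hzE⟩ : E Q) : V ≃ₗ[F] V) y1 = y1 + w2 := by
        show siegel Q w1 w2 hQ1 h12 y1 = _
        rw [siegel_apply, hy2, hy1, hW w2 hw2]
        module
      rwa [e] at this
    have hc1 : c = 1 := by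
      have : (c - 1) • w1 = 0 := by rw [sub_smul, one_smul, ← h1, sub_self]
      rcases smul_eq_zero.1 this with h4 | h4
      · exact sub_eq_zero.1 h4
      · exact absurd h4 hw10
    rw [hc1, one_smul] at h2
    exact hw20 (add_eq_left.1 h2)

end Cfsg.Agent.H567.EP
end

-- part: H567/EP/Red
section
/-!
# S3499, orthogonal groups: reducible subgroups, the reduction (helper567)
-/

set_option autoImplicit false
set_option linter.unusedSectionVars false

namespace Cfsg.Agent.H567.EP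

open QuadraticMap Cfsg.Agent.LieClassical.OrthCore Cfsg.Agent.LieClassical.OrthTrans
  Cfsg.Agent.LieClassical.OrthFinite Cfsg.Agent.H883.Sub Cfsg.Agent.H284
  Cfsg.Agent.ClassicalGeometry.OrthAut1

variable {F V : Type*} [Field F] [AddCommGroup V] [Module F V] [FiniteDimensional F V] {Q : QuadraticForm F V}

variable {T : Type*} [Group T] {A : Subgroup T} {Γ : Subgroup (MulAut T)} {π : E Q →* T}

theorem isStab_of (h : EPT A Γ) (hπ : Function.Surjective π)
    (hirr : ∀ W : Submodule F V, (∀ g ∈ E Q, ∀ w ∈ W, g w ∈ W) → W = ⊥ ∨ W = ⊤)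
    {W : Submodule F V} (h0 : W ≠ ⊥) (h1 : W ≠ ⊤) (hW : ∀ g ∈ pre π A, ∀ w ∈ W, g w ∈ W) : IsStab π A W := by
  rcases pre_max hπ h.max (L := Cfsg.Agent.H883.Bridge.stab W ⊓ E Q) (by
    intro g hg
    exact ⟨Cfsg.Agent.H883.Bridge.mem_stab_of_le (hW g hg), pre_le hg⟩) inf_le_right with h2 | h2
  · intro g hg
    constructor
    · exact hW g
    · intro h3
      exact h2 ⟨Cfsg.Agent.H883.Bridge.mem_stab_of_le h3, hg⟩
  · exfalso
    rcases hirr W (fun g hg w hw => ((h2 hg).1 w).1 hw) with h3 | h3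
    · exact h0 h3
    · exact h1 h3

/-- nondegenerate subspaces -/
theorem nd_final [Finite F] [Finite T] (hG : Good Q) (h : EPT A Γ) (hπ : Function.Surjective π)
    (hk : ∀ s : E Q, π s = 1 → ∃ c : F, ∀ v, (s : V ≃ₗ[F] V) v = c • v) {W : Submodule F V}
    (hS : IsStab π A W) (hW : NondegOn Q W) (hW0 : W ≠ ⊥) (hU : 4 ≤ Module.finrank F (perp Q W)) : False := by
  by_cases h3 : ∃ a : F, a ≠ 0 ∧ a ≠ 1
  · exact case_nd hG h hπ hS hW hW0 hU h3
  push Not at h3
  have hF : ∀ a : F, a = 0 ∨ a = 1 := by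
    intro a
    by_cases ha : a = 0
    · exact Or.inl ha
    · exact Or.inr (h3 a ha)
  have h2 : (2 : F) = 0 := by
    rcases hF 2 with h4 | h4
    · exact h4
    · exfalso
      have : (1 : F) = 0 := by linear_combination h4
      exact one_ne_zero this
  have hR : NondegOn Q (perp Q W) := hW.perp hG.nondeg
  obtain ⟨e, he, he0, hQe⟩ := exists_sing_mem (Q := Q) (perp Q W) (by omega)
  obtain ⟨f, hf, hef⟩ := exists_hyp_in hR he he0 hQe
  obtain ⟨d, hd, hQd⟩ := exists_nonsing_in (nondegOn_compl hR he hf hef) (by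
    intro e1
    have h8 := finrank_inf_perp_span hG.nondeg (perp Q W) e f
    rw [e1, finrank_bot] at h8
    omega)
  obtain ⟨hdR, hed, hfd⟩ := mem_compl.1 hd
  by_cases hs : ∃ u ∈ W, u ≠ 0 ∧ Q u = 0
  · obtain ⟨b, hb, hb0, hQb⟩ := hs
    obtain ⟨c, hc, hbc⟩ := exists_hyp_in hW hb hb0 hQb
    rw [← perp_perp hG.nondeg W] at hb hc
    exact case_two hG h hπ (hS.perp hG.nondeg) hR hF h2 he hf hef hdR hed hfd hQd hb hc hbc
  · push Not at hs
    have hself : ∀ v : V, polar Q v v = 0 := fun v => by rw [polar_self', h2, zero_mul]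
    have hne : ∀ v : V, -v = v := by
      intro v
      have : (2 : F) • v = 0 := by rw [h2, zero_smul]
      rw [two_smul] at this
      exact neg_eq_of_add_eq_zero_left this
    have hval : ∀ w ∈ W, w ≠ 0 → Q w = 1 := fun w hw h0 => (hF _).resolve_left (hs w hw h0)
    obtain ⟨b, hb, hb0⟩ := Submodule.exists_mem_ne_zero_of_ne_bot hW0
    obtain ⟨c, hc, hbc⟩ := hW.exists_polar_eq hb hb0 1
    have hcb : polar Q c b = 1 := by rw [polar_comm]; exact hbc
    have hc0 : c ≠ 0 := by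
      rintro rfl
      rw [polar_zero_right] at hbc
      exact zero_ne_one hbc
    have hspan : ∀ w ∈ W, ∃ α β : F, w = α • b + β • c := by
      intro w hw
      refine ⟨polar Q c w, polar Q b w, ?_⟩
      set w' := w - (polar Q c w • b + polar Q b w • c) with hw'
      have hw'W : w' ∈ W := W.sub_mem hw (W.add_mem (W.smul_mem _ hb) (W.smul_mem _ hc))
      have e1 : polar Q b w' = 0 := by
        rw [hw', polar_sub_right, polar_add_right, polar_smul_right, polar_smul_right, hself, hbc]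
        simp
      have e2 : polar Q c w' = 0 := by
        rw [hw', polar_sub_right, polar_add_right, polar_smul_right, polar_smul_right, hself, hcb]
        simp
      clear_value w'
      by_contra hcon
      have h0 : w' ≠ 0 := by
        intro e3
        apply hcon
        rw [e3] at hw'
        exact sub_eq_zero.1 hw'.symm
      have e4 : Q (b + w') = 0 := by
        rw [Q_add, hval b hb hb0, hval w' hw'W h0, e1]
        linear_combination h2
      have e5 : b + w' = 0 := by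
        by_contra h6
        exact hs _ (W.add_mem hb hw'W) h6 e4
      have e6 : w' = b := by
        have : w' = -b := eq_neg_of_add_eq_zero_right e5
        rw [this, hne]
      rw [e6, hcb] at e2
      exact one_ne_zero e2
    have hQd1 : Q d = 1 := (hF _).resolve_left hQd
    refine case_plane hG h hπ hk hS hW hF h2 hb hc hspan (hval b hb hb0) (hval c hc hc0) hbc
      (b' := e + f) (c' := e + d) ((perp Q W).add_mem he hf) ((perp Q W).add_mem he hdR) ?_ ?_ ?_
    · rw [Q_add, hef.left, hef.right, hef.pair]; ring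
    · rw [Q_add, hef.left, hQd1, hed]; ring
    · rw [polar_add_left, polar_add_right, polar_add_right, hself, hed, hfd, hef.pair']; ring

/-- **the reduction** -/
theorem red [Finite F] [Finite T] (hG : Good Q) (hd : 7 ≤ Module.finrank F V) (h : EPT A Γ)
    (hπ : Function.Surjective π) (hk : ∀ s : E Q, π s = 1 → ∃ c : F, ∀ v, (s : V ≃ₗ[F] V) v = c • v)
    (hirr : ∀ W : Submodule F V, (∀ g ∈ E Q, ∀ w ∈ W, g w ∈ W) → W = ⊥ ∨ W = ⊤)
    (hpt : ∀ v, Q v ≠ 0 → (∀ g ∈ pre π A, g v ∈ Submodule.span F {v}) → False)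
    {W₀ : Submodule F V} (h0 : W₀ ≠ ⊥) (h1 : W₀ ≠ ⊤) (hW₀ : ∀ g ∈ pre π A, ∀ w ∈ W₀, g w ∈ W₀) : False := by
  have wf : WellFounded ((· < ·) : Submodule F V → Submodule F V → Prop) := wellFounded_lt
  obtain ⟨W, ⟨hW0, hW1, hW⟩, hmin⟩ := wf.has_min
    {W : Submodule F V | W ≠ ⊥ ∧ W ≠ ⊤ ∧ ∀ g ∈ pre π A, ∀ w ∈ W, g w ∈ W} ⟨W₀, h0, h1, hW₀⟩
  have hmin' : ∀ X : Submodule F V, X ≤ W → (∀ g ∈ pre π A, ∀ w ∈ X, g w ∈ X) → X = ⊥ ∨ X = W := by
    intro X hX hXi
    by_contra hcon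
    push Not at hcon
    refine hmin X ⟨hcon.1, ?_, hXi⟩ (lt_of_le_of_ne hX hcon.2)
    rintro rfl
    exact hW1 (top_le_iff.1 hX)
  have hS := isStab_of h hπ hirr hW0 hW1 hW
  have hfin := finrank_perp hG.nondeg W
  rcases hmin' (W ⊓ perp Q W) inf_le_left (by
    intro g hg w hw
    exact ⟨hW g hg w hw.1, perp_stab (E_le_O (pre_le hg)) (hW g hg) w hw.2⟩) with h2 | h2
  · have hnd : NondegOn Q W := by
      intro y hy hy'
      have : y ∈ W ⊓ perp Q W := ⟨hy, mem_perp'.2 hy'⟩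
      rw [h2, Submodule.mem_bot] at this
      exact this
    rcases Nat.lt_or_ge (Module.finrank F (perp Q W)) 4 with h3 | h3
    · refine nd_final hG h hπ hk (hS.perp hG.nondeg) (hnd.perp hG.nondeg) ?_ ?_
      · intro e
        rw [e, finrank_bot, add_zero] at hfin
        exact hW1 (Submodule.eq_top_of_finrank_eq hfin)
      · rw [perp_perp hG.nondeg]
        omega
    · exact nd_final hG h hπ hk hS hnd hW0 h3
  · have hti : ∀ w ∈ W, ∀ w' ∈ W, polar Q w w' = 0 := by
      intro w hw w' hw'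
      have : w' ∈ W ⊓ perp Q W := by rw [h2]; exact hw'
      exact mem_perp.1 this.2 w hw
    let W1 : Submodule F V :=
      { carrier := {w | w ∈ W ∧ Q w = 0}
        add_mem' := fun {a b} ha hb => ⟨W.add_mem ha.1 hb.1, by
          rw [Q_add, ha.2, hb.2, hti a ha.1 b hb.1]; simp⟩
        zero_mem' := ⟨W.zero_mem, QuadraticMap.map_zero Q⟩
        smul_mem' := fun c a ha => ⟨W.smul_mem c ha.1, by rw [QuadraticMap.map_smul, ha.2, smul_zero]⟩ }
    rcases hmin' W1 (fun w hw => hw.1) (by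
      rintro g hg w ⟨hw, hQw⟩
      exact ⟨hW g hg w hw, by rw [mem_O.1 (E_le_O (pre_le hg))]; exact hQw⟩) with h3 | h3
    · obtain ⟨v, hv, hv0⟩ := Submodule.exists_mem_ne_zero_of_ne_bot hW0
      have hns : ∀ w ∈ W, Q w = 0 → w = 0 := by
        intro w hw hQw
        have : w ∈ W1 := ⟨hw, hQw⟩
        rw [h3, Submodule.mem_bot] at this
        exact this
      have hQv : Q v ≠ 0 := fun e => hv0 (hns v hv e)
      have hc2 : (2 : F) = 0 := by
        have := hti v hv v hv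
        rw [polar_self'] at this
        exact (mul_eq_zero.1 this).resolve_right hQv
      have hchar : CharP F 2 := CharTwo.of_one_ne_zero_of_two_eq_zero one_ne_zero hc2
      refine hpt v hQv ?_
      intro g hg
      have hgv := hW g hg v hv
      obtain ⟨s, hs⟩ : IsSquare (Q (g v) * (Q v)⁻¹) := FiniteField.isSquare_of_char_two (ringChar.eq F 2) _
      have e1 : Q (g v) = s * s * Q v := by rw [← hs, mul_assoc, inv_mul_cancel₀ hQv, mul_one]
      have e2 : Q (g v + s • v) = 0 := by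
        rw [Q_add, QuadraticMap.map_smul, polar_smul_right, hti _ hgv v hv, e1, smul_zero, smul_eq_mul]
        linear_combination (s * s * Q v) * hc2
      have e3 := hns _ (W.add_mem hgv (W.smul_mem s hv)) e2
      have e4 : g v = (-s) • v := by rw [neg_smul]; exact eq_neg_of_add_eq_zero_left e3
      rw [e4]
      exact Submodule.smul_mem _ _ (Submodule.mem_span_singleton_self v)
    · refine case_ts hG hd h hπ hk hS hW0 ?_
      intro w hw
      have : w ∈ W1 := by rw [h3]; exact hw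
      exact this.2

end Cfsg.Agent.H567.EP
end

-- part: H371/EP/OmPoint
section
/-!
# S3499, task S3499-III-Om-POINT

The stabiliser in `Ω(Qf)` of a nonsingular point `⟨v⟩` is not a point stabiliser of an extremely primitive group.
-/

set_option autoImplicit false
set_option linter.unusedSectionVars false

namespace Cfsg.Agent.H371.EP

open QuadraticMap Matrix
open Cfsg.Agent.LieClassical.OrthCore Cfsg.Agent.LieClassical.OrthTrans Cfsg.Agent.LieClassical.OrthFinite
open Cfsg.Agent.H284 Cfsg.Agent.H419.EP Cfsg.Agent.H925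

section Kill

variable {Q : Type*} [Group Q] [Finite Q] {A : Subgroup Q} {Γ : Subgroup (MulAut Q)} (h : EPT A Γ)
variable {ι : Type} [Fintype ι] [DecidableEq ι] {F : Type*} [Field F] {S : Subgroup (GL ι F)} (m : Model Q S)

include h

/-- **Kill criterion for `M̂0` itself** -/
theorem kill_M0 {x : GL ι F} (hxS : x ∈ S) (hx : x ∉ m.hat A) {g : GL ι F} (hg : g ∈ m.hat A)
    (hgK : ∀ k ∈ m.hat A ⊓ cj x (m.hat A), g * k * g⁻¹ ∈ m.hat A ⊓ cj x (m.hat A)) : g ∈ cj x (m.hat A) := by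
  refine kill_char h m hxS hx _ le_rfl ?_ ?_ hg hgK
  · intro hle
    obtain ⟨s, hs, hs'⟩ := exists_nonscalar h m hxS hx
    exact hs' (hle hs)
  · rw [← M0_eq_map m hxS, Subgroup.subgroupOf_self]
    infer_instance

end Kill

section Free

variable {F V : Type*} [Field F] [AddCommGroup V] [Module F V] {Q : QuadraticForm F V}

/-- `q` odd: an element of `E` fixing `v` and inverting a singular vector in `v^⊥` -/
theorem odd_elts [Finite F] (hQ : Nondeg Q) (hd : 7 ≤ Module.finrank F V) (h2 : (2 : F) ≠ 0)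
    {v : V} (hv : Q v ≠ 0) :
    ∃ w : V, ∃ h ∈ E Q, w ≠ 0 ∧ Q w = 0 ∧ polar Q v w = 0 ∧ h v = v ∧ h w = -w := by
  have hG : Good Q := good_of_finite hQ (by omega)
  have hvv : polar Q v v ≠ 0 := by
    rw [polar_self']
    exact mul_ne_zero h2 hv
  -- adjust partners to be orthogonal to `v`
  have adj : ∀ a b : V, Hyp Q a b → polar Q v a = 0 → ∃ b', Hyp Q a b' ∧ polar Q v b' = 0 ∧
      ∀ c, polar Q c a = 0 → polar Q c b = 0 → polar Q c v = 0 → polar Q c b' = 0 := by
    intro a b hab hva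
    have hav : polar Q a v = 0 := polar_zero_of_comm hva
    have haa : polar Q a a = 0 := hab.polar_left
    set y := b - (polar Q v b / polar Q v v) • v with hy
    have h1 : polar Q a y = 1 := by
      rw [hy, polar_sub_right, polar_smul_right, hav, hab.pair]
      simp
    have h3 : polar Q v y = 0 := by
      rw [hy, polar_sub_right, polar_smul_right, smul_eq_mul, div_mul_cancel₀ _ hvv, sub_self]
    refine ⟨y + (-Q y) • a, ⟨hab.left, ?_, ?_⟩, ?_, ?_⟩
    · rw [Q_add, QuadraticMap.map_smul, hab.left, polar_smul_right, polar_comm Q y a, h1]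
      simp
    · rw [polar_add_right, polar_smul_right, haa, h1]
      simp
    · rw [polar_add_right, polar_smul_right, h3, hva]
      simp
    · intro c hc1 hc2 hc3
      rw [polar_add_right, polar_smul_right, hy, polar_sub_right, polar_smul_right, hc1, hc2, hc3]
      simp only [_root_.QuadraticMap.polar_self, _root_.nsmul_eq_mul, _root_.Nat.cast_ofNat, _root_.smul_eq_mul, _root_.MulZeroClass.mul_zero, _root_.sub_self, _root_.add_zero]
  obtain ⟨w, hw0, hw, hvw'⟩ := exists_sing_perp (Q := Q) ![v] (by omega)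
  have hvw : polar Q v w = 0 := hvw' 0
  obtain ⟨w1, hw1⟩ := Cfsg.Agent.LieClassical.OrthTrans.exists_hyp hQ hw hw0
  obtain ⟨w', hww', hvw2, -⟩ := adj w w1 hw1 hvw
  obtain ⟨a, ha0, ha, hperp⟩ := exists_sing_perp (Q := Q) ![v, w, w'] (by omega)
  have hva : polar Q v a = 0 := hperp 0
  have hwa : polar Q w a = 0 := hperp 1
  have hwa' : polar Q w' a = 0 := hperp 2
  obtain ⟨b1, hab1, hwb1, hwb1'⟩ := exists_hyp_perp hQ hww' ha ha0 hwa hwa'
  obtain ⟨b, hab, hvb, hb⟩ := adj a b1 hab1 hva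
  have hwb : polar Q w b = 0 := hb w hwa hwb1 (polar_zero_of_comm hvw)
  have hwb' : polar Q w' b = 0 := hb w' hwa' hwb1' (polar_zero_of_comm hvw2)
  have n1 : Q (w - w') = -1 := by
    rw [sub_eq_add_neg, Q_add, QuadraticMap.map_neg, polar_neg_right, hw, hww'.right, hww'.pair]
    simp
  have n2 : Q (w + w') = 1 := by
    rw [Q_add, hw, hww'.right, hww'.pair]
    simp
  have n3 : Q (a - b) = -1 := by
    rw [sub_eq_add_neg, Q_add, QuadraticMap.map_neg, polar_neg_right, ha, hab.right, hab.pair]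
    simp
  have n4 : Q (a + b) = 1 := by
    rw [Q_add, ha, hab.right, hab.pair]
    simp
  have hm1 : (-1 : F) ≠ 0 := neg_ne_zero.2 one_ne_zero
  have e1 : Q (w - w') ≠ 0 := by rw [n1]; exact hm1
  have e2 : Q (w + w') ≠ 0 := by rw [n2]; exact one_ne_zero
  have e3 : Q (a - b) ≠ 0 := by rw [n3]; exact hm1
  have e4 : Q (a + b) ≠ 0 := by rw [n4]; exact one_ne_zero
  refine ⟨w, (refl Q (w - w') e1 * refl Q (a - b) e3) * (refl Q (w + w') e2 * refl Q (a + b) e4), ?_, hw0, hw, hvw,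
    ?_, ?_⟩
  · exact E_mul (hG.refl_mul_refl_mem e3 e1 (by rw [n1, n3])) (hG.refl_mul_refl_mem e4 e2 (by rw [n2, n4]))
  · show refl Q (w - w') e1 (refl Q (a - b) e3 (refl Q (w + w') e2 (refl Q (a + b) e4 v))) = v
    have f1 : polar Q (w - w') v = 0 := by
      rw [polar_sub_left, polar_zero_of_comm hvw, polar_zero_of_comm hvw2, sub_zero]
    have f2 : polar Q (w + w') v = 0 := by
      rw [polar_add_left, polar_zero_of_comm hvw, polar_zero_of_comm hvw2, add_zero]
    have f3 : polar Q (a - b) v = 0 := by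
      rw [polar_sub_left, polar_zero_of_comm hva, polar_zero_of_comm hvb, sub_zero]
    have f4 : polar Q (a + b) v = 0 := by
      rw [polar_add_left, polar_zero_of_comm hva, polar_zero_of_comm hvb, add_zero]
    rw [refl_apply e4, f4, mul_zero, zero_smul, sub_zero, refl_apply e2, f2, mul_zero, zero_smul, sub_zero,
      refl_apply e3, f3, mul_zero, zero_smul, sub_zero, refl_apply e1, f1, mul_zero, zero_smul, sub_zero]
  · show refl Q (w - w') e1 (refl Q (a - b) e3 (refl Q (w + w') e2 (refl Q (a + b) e4 w))) = -w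
    have f4 : polar Q (a + b) w = 0 := by
      rw [polar_add_left, polar_zero_of_comm hwa, polar_zero_of_comm hwb, add_zero]
    have f2 : polar Q (w + w') w = 1 := by
      rw [polar_add_left, polar_self_of_sing hw, hww'.pair', zero_add]
    have g1 : refl Q (w + w') e2 w = -w' := by
      rw [refl_apply, f2, n2]
      module
    have f3 : polar Q (a - b) (-w') = 0 := by
      rw [polar_neg_right, polar_sub_left, polar_zero_of_comm hwa', polar_zero_of_comm hwb', sub_zero, neg_zero]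
    have f1 : polar Q (w - w') (-w') = -1 := by
      rw [polar_neg_right, polar_sub_left, hww'.pair, hww'.polar_right, sub_zero]
    rw [refl_apply e4, f4, mul_zero, zero_smul, sub_zero, g1, refl_apply e3, f3, mul_zero, zero_smul, sub_zero,
      refl_apply e1, f1, n1, inv_mul_cancel₀ hm1]
    module

/-- `q` even -/
theorem even_elts [Finite F] (hQ : Nondeg Q) (hd : 7 ≤ Module.finrank F V) (h2 : (2 : F) = 0)
    {v : V} (hv : Q v ≠ 0) :
    ∃ v' : V, ∃ g ∈ E Q, ∃ h ∈ E Q, g v = v' ∧ polar Q v v' ≠ 0 ∧ h v = v ∧ ∃ t : F, t ≠ 0 ∧ h v' = v' - t • v := by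
  have hG : Good Q := good_of_finite hQ (by omega)
  have hv0 : v ≠ 0 := by
    rintro rfl
    exact hv (QuadraticMap.map_zero Q)
  have hss : ∀ u : V, polar Q u u = 0 := fun u => by rw [polar_self', h2, zero_mul]
  obtain ⟨x, y, hxy⟩ := hG.exists_hyp
  obtain ⟨u, hu, huv⟩ := exists_sing_polar_one hQ hxy hv0
  have hu0 : u ≠ 0 := by
    rintro rfl
    rw [polar_zero_left] at huv
    exact zero_ne_one huv
  obtain ⟨u', huu'⟩ := Cfsg.Agent.LieClassical.OrthTrans.exists_hyp hQ hu hu0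
  -- a nonsingular `w` orthogonal to `u`
  obtain ⟨w, huw, hw⟩ : ∃ w, polar Q u w = 0 ∧ Q w ≠ 0 := by
    obtain ⟨a, c, h1, _, h3, _, h5⟩ := exists_perp2 hQ (by omega) huu'
    rcases exists_nonsing h5 with h6 | h6 | h6
    · exact ⟨a, h1, h6⟩
    · exact ⟨c, h3, h6⟩
    · exact ⟨a + c, by rw [polar_add_right, h1, h3, add_zero], h6⟩
  set v' := siegel Q u w hu huw v with hv'
  have hvv' : polar Q v v' ≠ 0 := by
    rw [hv', siegel_apply hu huw, huv]
    simp only [polar_add_right, polar_sub_right, polar_smul_right, hss, polar_comm Q v u, huv, polar_comm Q v w,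
      smul_eq_mul]
    have e : (0 : F) + 1 * polar Q w v - polar Q w v * 1 - Q w * 1 * 1 = - Q w := by ring
    rw [e]
    exact neg_ne_zero.2 hw
  -- a nonsingular vector orthogonal to `v`, `v'`
  obtain ⟨z, hvz, hvz', hz⟩ : ∃ z, polar Q v z = 0 ∧ polar Q v' z = 0 ∧ Q z ≠ 0 := by
    obtain ⟨a, ha0, ha⟩ := exists_perp_ne (Q := Q) ![v, v'] (by omega)
    have h1 : polar Q v a = 0 := ha 0
    have h3 : polar Q v' a = 0 := ha 1
    obtain ⟨c, hc⟩ := hQ.exists_polar_eq ha0 1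
    set s := polar Q v v' with hs
    set c' := c - (polar Q v c / s) • v' - (polar Q v' c / s) • v with hc'
    have hs' : polar Q v' v = s := by rw [polar_comm, hs]
    have h4 : polar Q v c' = 0 := by
      rw [hc', polar_sub_right, polar_sub_right, polar_smul_right, polar_smul_right, hss, ← hs, smul_eq_mul,
        smul_eq_mul, div_mul_cancel₀ _ hvv']
      ring
    have h5 : polar Q v' c' = 0 := by
      rw [hc', polar_sub_right, polar_sub_right, polar_smul_right, polar_smul_right, hss, hs', smul_eq_mul,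
        smul_eq_mul, div_mul_cancel₀ _ hvv']
      ring
    have h6 : polar Q a c' = 1 := by
      rw [hc', polar_sub_right, polar_sub_right, polar_smul_right, polar_smul_right, polar_zero_of_comm h1,
        polar_zero_of_comm h3, hc]
      simp
    rcases exists_nonsing h6 with h7 | h7 | h7
    · exact ⟨a, h1, h3, h7⟩
    · exact ⟨c', h4, h5, h7⟩
    · exact ⟨a + c', by rw [polar_add_right, h1, h4, add_zero], by rw [polar_add_right, h3, h5, add_zero], h7⟩
  -- scale
  have hchar : ringChar F = 2 := by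
    have : ringChar F ∣ 2 := ringChar.dvd (by exact_mod_cast h2)
    rcases (Nat.dvd_prime Nat.prime_two).1 this with h7 | h7
    · exact absurd h7 CharP.ringChar_ne_one
    · exact h7
  obtain ⟨r, hr⟩ : IsSquare (Q v / Q z) := FiniteField.isSquare_of_char_two hchar _
  have hr0 : r ≠ 0 := by
    rintro rfl
    rw [mul_zero, div_eq_zero_iff] at hr
    rcases hr with h7 | h7
    · exact hv h7
    · exact hz h7
  have hzr : Q (r • z) = Q v := by
    rw [QuadraticMap.map_smul, smul_eq_mul, ← hr, div_mul_cancel₀ _ hz]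
  have hzr' : Q (r • z) ≠ 0 := by rw [hzr]; exact hv
  refine ⟨v', siegel Q u w hu huw, siegel_mem_E hu huw, refl Q v hv * refl Q (r • z) hzr',
    hG.refl_mul_refl_mem hzr' hv hzr, rfl, hvv', ?_, (Q v)⁻¹ * polar Q v v', mul_ne_zero (inv_ne_zero hv) hvv', ?_⟩
  · show refl Q v hv (refl Q (r • z) hzr' v) = v
    rw [refl_apply hzr', polar_smul_left, polar_zero_of_comm hvz, smul_zero, mul_zero, zero_smul, sub_zero,
      refl_apply hv, hss, mul_zero, zero_smul, sub_zero]
  · show refl Q v hv (refl Q (r • z) hzr' v') = _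
    rw [refl_apply hzr', polar_smul_left, polar_zero_of_comm hvz', smul_zero, mul_zero, zero_smul, sub_zero,
      refl_apply hv]

end Free

section Row

variable {Q : Type*} [Group Q] [Finite Q] {A : Subgroup Q} {Γ : Subgroup (MulAut Q)}
variable {ι : Type} [Fintype ι] [DecidableEq ι] {F : Type*} [Field F] [Fintype F] {Qf : (ι → F) → F}

/-- **S3499-III-Om-POINT**: `A` does not stabilise a nonsingular point. -/
theorem row_point (h : EPT A Γ) (m : Model Q (Cfsg.Geo.omegaGL Qf)) (hn : 7 ≤ Fintype.card ι)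
    (hQ : Cfsg.Geo.IsNondegenerateQuadraticForm Qf) {v : ι → F} (hv : Qf v ≠ 0)
    (hA : ∀ g ∈ m.hat A, ∃ c : F, (g : Matrix ι ι F) *ᵥ v = c • v) : False := by
  have hn5 : 5 ≤ Fintype.card ι := by omega
  have hd : 7 ≤ Module.finrank F (ι → F) := by rwa [Module.finrank_fintype_fun_eq_card]
  have hND := nondeg_qf hQ
  have hv' : (qf hQ) v ≠ 0 := hv
  have hv0 : v ≠ 0 := by
    rintro rfl
    exact hv' (QuadraticMap.map_zero _)
  have hinv : ∀ {g : GL ι F} {u w : ι → F} , (g : Matrix ι ι F) *ᵥ u = w →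
      ((g⁻¹ : GL ι F) : Matrix ι ι F) *ᵥ w = u := by
    intro g u w e
    rw [← e, Matrix.mulVec_mulVec, ← Units.val_mul, inv_mul_cancel, Units.val_one, Matrix.one_mulVec]
  have hmul : ∀ (g k : GL ι F) (u : ι → F), ((g * k : GL ι F) : Matrix ι ι F) *ᵥ u =
      (g : Matrix ι ι F) *ᵥ ((k : Matrix ι ι F) *ᵥ u) := by
    intro g k u
    rw [Units.val_mul, Matrix.mulVec_mulVec]
  have hiso : ∀ g ∈ Cfsg.Geo.omegaGL Qf, ∀ u, Qf ((g : Matrix ι ι F) *ᵥ u) = Qf u := fun g hg =>
    mem_iso_iff.1 (omegaGL_le_iso Qf hg)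
  have hpol : ∀ g ∈ Cfsg.Geo.omegaGL Qf, ∀ u w, polar (qf hQ) ((g : Matrix ι ι F) *ᵥ u) ((g : Matrix ι ι F) *ᵥ w) =
      polar (qf hQ) u w := by
    intro g hg u w
    show Qf (_ + _) - Qf _ - Qf _ = Qf (_ + _) - Qf _ - Qf _
    rw [← Matrix.mulVec_add, hiso g hg, hiso g hg, hiso g hg]
  -- the hat of `A` is the full stabiliser
  have hmem : ∀ g : GL ι F, g ∈ m.hat A ↔ g ∈ Cfsg.Geo.omegaGL Qf ∧ ∃ c : F, (g : Matrix ι ι F) *ᵥ v = c • v := by
    let P : Subgroup (GL ι F) :=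
      { carrier := {g | g ∈ Cfsg.Geo.omegaGL Qf ∧ ∃ c : F, (g : Matrix ι ι F) *ᵥ v = c • v}
        one_mem' := ⟨one_mem _, 1, by rw [Units.val_one, Matrix.one_mulVec, one_smul]⟩
        mul_mem' := by
          rintro a b ⟨ha, c, hc⟩ ⟨hb, d, hd⟩
          refine ⟨mul_mem ha hb, d * c, ?_⟩
          rw [hmul, hd, Matrix.mulVec_smul, hc, smul_smul]
        inv_mem' := by
          rintro a ⟨ha, c, hc⟩
          have hc0 : c ≠ 0 := by
            rintro rfl
            have h1 := hinv hc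
            rw [zero_smul, Matrix.mulVec_zero] at h1
            exact hv0 h1.symm
          refine ⟨inv_mem ha, c⁻¹, ?_⟩
          have h1 := hinv hc
          rw [Matrix.mulVec_smul] at h1
          rw [← h1, smul_smul, inv_mul_cancel₀ hc0, one_smul]
          exact congrArg _ h1 }
    have hle : m.hat A ≤ P := fun g hg => ⟨m.hat_le A hg, hA g hg⟩
    have hne : P ≠ Cfsg.Geo.omegaGL Qf := by
      intro e
      rcases omegaGL_irreducible hQ hn5 (F ∙ v) (by
        intro g hg w hw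
        rw [← e] at hg
        obtain ⟨_, c, hc⟩ := hg
        obtain ⟨d, rfl⟩ := Submodule.mem_span_singleton.1 hw
        rw [Matrix.mulVec_smul, hc, smul_smul]
        exact Submodule.smul_mem _ _ (Submodule.mem_span_singleton_self v)) with h1 | h1
      · rw [Submodule.span_singleton_eq_bot] at h1
        exact hv0 h1
      · have h2 : Module.finrank F (F ∙ v) = Module.finrank F (ι → F) := by rw [h1, finrank_top]
        rw [finrank_span_singleton hv0] at h2
        omega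
    have hP : P = m.hat A := by
      rcases (m.isMaximalIn h.max).2 P hle (fun g hg => hg.1) with h1 | h1
      · exact h1
      · exact absurd h1 hne
    intro g
    rw [← hP]
    rfl
  -- scalars
  have hsq : ∀ g ∈ Cfsg.Geo.omegaGL Qf, ∀ u, Qf u ≠ 0 → ∀ c : F, (g : Matrix ι ι F) *ᵥ u = c • u → c ^ 2 = 1 := by
    intro g hg u hu c hc
    have h1 := hiso g hg u
    rw [hc, hQ.smul] at h1
    exact mul_right_cancel₀ hu (by rw [h1, one_mul])
  by_cases h2 : (2 : F) = 0
  · -- `q` even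
    obtain ⟨v', g, hg, k, hk, e1, e2, e3, t, ht, e4⟩ := even_elts hND hd h2 hv'
    obtain ⟨x, hx, hxv⟩ := exists_omegaGL hQ hn5 hg
    obtain ⟨y, hy, hyv⟩ := exists_omegaGL hQ hn5 hk
    have hss : ∀ u : ι → F, polar (qf hQ) u u = 0 := fun u => by rw [polar_self', h2, zero_mul]
    have hxv' : (x : Matrix ι ι F) *ᵥ v = v' := by rw [hxv, e1]
    have hone : ∀ c : F, c ^ 2 = 1 → c = 1 := by
      intro c hc
      have h3 : (c - 1) ^ 2 = 0 := by
        have : (c - 1) ^ 2 = c ^ 2 - 1 + 2 * (1 - c) := by ring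
        rw [this, hc, h2]
        ring
      exact sub_eq_zero.1 (pow_eq_zero_iff (by norm_num) |>.1 h3)
    have hxA : x ∉ m.hat A := by
      intro hx'
      obtain ⟨c, hc⟩ := ((hmem x).1 hx').2
      apply e2
      rw [← hxv', hc, polar_smul_right, hss, smul_zero]
    have hv'n : Qf v' ≠ 0 := by
      rw [← hxv', hiso x hx]
      exact hv
    -- the elements of `M0`
    have hM : ∀ k : GL ι F, k ∈ m.hat A ⊓ cj x (m.hat A) ↔ k ∈ Cfsg.Geo.omegaGL Qf ∧ (k : Matrix ι ι F) *ᵥ v = v ∧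
        (k : Matrix ι ι F) *ᵥ v' = v' := by
      intro k
      rw [Subgroup.mem_inf, mem_cj, hmem, hmem]
      constructor
      · rintro ⟨⟨h3, c, hc⟩, h4, d, hd⟩
        rw [hone c (hsq k h3 v hv c hc), one_smul] at hc
        rw [hone d (hsq _ h4 v hv d hd), one_smul, hmul, hmul, hxv'] at hd
        refine ⟨h3, hc, ?_⟩
        have h5 := congrArg (fun u => (x : Matrix ι ι F) *ᵥ u) hd
        beta_reduce at h5
        rw [hxv', ← hmul, mul_inv_cancel, Units.val_one, Matrix.one_mulVec] at h5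
        exact h5
      · rintro ⟨h3, h4, h5⟩
        refine ⟨⟨h3, 1, by rw [h4, one_smul]⟩, mul_mem (mul_mem (inv_mem hx) h3) hx, 1, ?_⟩
        rw [hmul, hmul, hxv', h5, one_smul]
        exact hinv hxv'
    have hyv1 : (y : Matrix ι ι F) *ᵥ v = v := by rw [hyv, e3]
    have hyv2 : (y : Matrix ι ι F) *ᵥ v' = v' - t • v := by rw [hyv, e4]
    have hyA : y ∈ m.hat A := (hmem y).2 ⟨hy, 1, by rw [hyv1, one_smul]⟩
    have hyi : ((y⁻¹ : GL ι F) : Matrix ι ι F) *ᵥ v' = v' + t • v := by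
      apply hinv
      rw [Matrix.mulVec_add, Matrix.mulVec_smul, hyv1, hyv2, sub_add_cancel]
    have key := kill_M0 h m hx hxA hyA (by
      intro k hk
      rw [hM] at hk ⊢
      obtain ⟨h3, h4, h5⟩ := hk
      refine ⟨mul_mem (mul_mem hy h3) (inv_mem hy), ?_, ?_⟩
      · rw [hmul, hmul, hinv hyv1, h4, hyv1]
      · rw [hmul, hmul, hyi, Matrix.mulVec_add, Matrix.mulVec_smul, h4, h5, Matrix.mulVec_add, Matrix.mulVec_smul,
          hyv1, hyv2, sub_add_cancel])
    have h6 := ((hM y).1 ⟨hyA, key⟩).2.2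
    rw [hyv2] at h6
    have h7 : t • v = 0 := by
      have : t • v = v' - (v' - t • v) := by module
      rw [this, h6, sub_self]
    rcases smul_eq_zero.1 h7 with h8 | h8
    · exact ht h8
    · exact hv0 h8
  · -- `q` odd
    obtain ⟨w, k, hk, hw0, hw, hvw, e3, e4⟩ := odd_elts hND hd h2 hv'
    obtain ⟨y, hy, hyv⟩ := exists_omegaGL hQ hn5 hk
    have hQw : Qf w = 0 := hw
    have hvv : polar (qf hQ) v v ≠ 0 := by
      rw [polar_self']
      exact mul_ne_zero h2 hv'
    have hQvw : Qf (v + w) = Qf v := by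
      have h3 : (qf hQ) (v + w) = _ := Q_add (Q := qf hQ) v w
      rw [hw, hvw, add_zero, add_zero] at h3
      exact h3
    have hvw0 : v + w ≠ 0 := by
      intro e
      apply hv
      rw [← hQvw, e]
      exact QuadraticMap.map_zero (qf hQ)
    obtain ⟨x, hx, hxv⟩ := exists_trans hQ hn5 hv0 hvw0 hQvw.symm
    have hcw : ∀ c : F, c • v = w → False := by
      intro c hc
      have h3 := hvw
      rw [← hc, polar_smul_right, smul_eq_mul, mul_eq_zero] at h3
      rcases h3 with h3 | h3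
      · rw [h3, zero_smul] at hc
        exact hw0 hc.symm
      · exact hvv h3
    have hxA : x ∉ m.hat A := by
      intro hx'
      obtain ⟨c, hc⟩ := ((hmem x).1 hx').2
      rw [hxv] at hc
      apply hcw (c - 1)
      rw [sub_smul, one_smul, ← hc, add_sub_cancel_left]
    have hM : ∀ k : GL ι F, k ∈ m.hat A ⊓ cj x (m.hat A) ↔ k ∈ Cfsg.Geo.omegaGL Qf ∧
        ∃ c : F, (k : Matrix ι ι F) *ᵥ v = c • v ∧ (k : Matrix ι ι F) *ᵥ w = c • w := by
      intro k
      rw [Subgroup.mem_inf, mem_cj, hmem, hmem]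
      constructor
      · rintro ⟨⟨h3, c, hc⟩, h4, d, hd⟩
        have hc2 := hsq k h3 v hv c hc
        have hc0 : c ≠ 0 := by
          rintro rfl
          norm_num at hc2
        have hd' : (k : Matrix ι ι F) *ᵥ (v + w) = d • (v + w) := by
          have h5 := congrArg (fun u => (x : Matrix ι ι F) *ᵥ u) hd
          beta_reduce at h5
          rw [Matrix.mulVec_smul, hmul, hmul, hxv, ← hmul, mul_inv_cancel, Units.val_one, Matrix.one_mulVec] at h5
          exact h5
        have hkw : (k : Matrix ι ι F) *ᵥ w = (d - c) • v + d • w := by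
          have h5 : (k : Matrix ι ι F) *ᵥ w = (k : Matrix ι ι F) *ᵥ (v + w) - (k : Matrix ι ι F) *ᵥ v := by
            rw [Matrix.mulVec_add, add_sub_cancel_left]
          rw [h5, hd', hc]
          module
        have h6 := hpol k h3 v w
        rw [hc, hkw, hvw, polar_smul_left, polar_add_right, polar_smul_right, polar_smul_right, hvw, smul_zero,
          add_zero, smul_eq_mul, smul_eq_mul, mul_eq_zero, mul_eq_zero] at h6
        have hdc : d = c := by
          rcases h6 with h6 | h6 | h6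
          · exact absurd h6 hc0
          · exact sub_eq_zero.1 h6
          · exact absurd h6 hvv
        refine ⟨h3, c, hc, ?_⟩
        rw [hkw, hdc, sub_self, zero_smul, zero_add]
      · rintro ⟨h3, c, h4, h5⟩
        refine ⟨⟨h3, c, h4⟩, mul_mem (mul_mem (inv_mem hx) h3) hx, c, ?_⟩
        rw [hmul, hmul, hxv, Matrix.mulVec_add, h4, h5, ← smul_add, Matrix.mulVec_smul, hinv hxv]
    have hyv1 : (y : Matrix ι ι F) *ᵥ v = v := by rw [hyv, e3]
    have hyv2 : (y : Matrix ι ι F) *ᵥ w = -w := by rw [hyv, e4]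
    have hyA : y ∈ m.hat A := (hmem y).2 ⟨hy, 1, by rw [hyv1, one_smul]⟩
    have hyi : ((y⁻¹ : GL ι F) : Matrix ι ι F) *ᵥ w = -w := by
      apply hinv
      rw [Matrix.mulVec_neg, hyv2, neg_neg]
    have key := kill_M0 h m hx hxA hyA (by
      intro k hk
      rw [hM] at hk ⊢
      obtain ⟨h3, c, h4, h5⟩ := hk
      refine ⟨mul_mem (mul_mem hy h3) (inv_mem hy), c, ?_, ?_⟩
      · rw [hmul, hmul, hinv hyv1, h4, Matrix.mulVec_smul, hyv1]
      · rw [hmul, hmul, hyi, Matrix.mulVec_neg, h5, Matrix.mulVec_neg, Matrix.mulVec_smul, hyv2]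
        module)
    obtain ⟨_, c, h6, h7⟩ := (hM y).1 ⟨hyA, key⟩
    rw [hyv1] at h6
    rw [hyv2] at h7
    have hc1 : c = 1 := by
      have h8 : (c - 1) • v = 0 := by rw [sub_smul, one_smul, ← h6, sub_self]
      rcases smul_eq_zero.1 h8 with h9 | h9
      · exact sub_eq_zero.1 h9
      · exact absurd h9 hv0
    rw [hc1, one_smul] at h7
    have h8 : (2 : F) • w = 0 := by
      have : (2 : F) • w = w - (-w) := by module
      rw [this, h7, sub_self]
    rcases smul_eq_zero.1 h8 with h9 | h9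
    · exact h2 h9
    · exact hw0 h9

/-- **S3499-III-Om-POINT**, with `subspaceStabilizer` -/
theorem row_point_stab (h : EPT A Γ) (m : Model Q (Cfsg.Geo.omegaGL Qf)) (hn : 7 ≤ Fintype.card ι)
    (hQ : Cfsg.Geo.IsNondegenerateQuadraticForm Qf) {v : ι → F} (hv : Qf v ≠ 0)
    (hA : m.hat A ≤ Cfsg.Geo.subspaceStabilizer (F ∙ v)) : False := by
  refine row_point h m hn hQ hv fun g hg => ?_
  have h1 : (g : Matrix ι ι F) *ᵥ v ∈ (F ∙ v) := ((hA hg) v).1 (Submodule.mem_span_singleton_self v)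
  obtain ⟨c, hc⟩ := Submodule.mem_span_singleton.1 h1
  exact ⟨c, hc.symm⟩

end Row

end Cfsg.Agent.H371.EP
end

-- part: H371/EP/OmPointRow
section
/-!
# S3499: the row `OmPoint` of the assembly `H778.EP.OmAsm`
-/

set_option autoImplicit false

namespace Cfsg.Agent.H371.EP

theorem omPoint : Cfsg.Agent.H778.EP.OmPoint := by
  intro Q _ _ _ A Γ h F _ _ ι _ _ Qf m h7 hQ hC
  obtain ⟨v, hv, hA⟩ := hC
  exact row_point_stab h m h7 hQ hv hA

end Cfsg.Agent.H371.EP
end

-- part: H567/EP/Om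
section
/-!
# S3499, orthogonal groups: reducible stabilisers (helper567), the row [Om-RED]
-/

set_option autoImplicit false
set_option linter.unusedSectionVars false

namespace Cfsg.Agent.H567.EP

open QuadraticMap Cfsg.Agent.LieClassical.OrthCore Cfsg.Agent.LieClassical.OrthTrans
  Cfsg.Agent.LieClassical.OrthFinite Cfsg.Agent.H883.Sub Cfsg.Agent.H883.Bridge Cfsg.Agent.H284 Cfsg.Agent.H419.EP
open scoped MatrixGroups Matrix

variable {ι : Type} [Fintype ι] [DecidableEq ι] {F : Type*} [Field F] [Finite F] {Q : QuadraticForm F (ι → F)}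

/-- `E Q` inside `omegaGL Q` -/
noncomputable def toOm (hG : Good Q) : E Q →* Cfsg.Geo.omegaGL ⇑Q where
  toFun s := ⟨(glEquiv ι F).symm s, (mem_omegaGL_iff hG _).2 (by rw [MulEquiv.apply_symm_apply]; exact s.2)⟩
  map_one' := by
    apply Subtype.ext
    show (glEquiv ι F).symm ((1 : E Q) : (ι → F) ≃ₗ[F] (ι → F)) = 1
    rw [Subgroup.coe_one, map_one]
  map_mul' s t := by
    apply Subtype.ext
    show (glEquiv ι F).symm ((s * t : E Q) : (ι → F) ≃ₗ[F] (ι → F)) = _
    rw [Subgroup.coe_mul, map_mul]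
    rfl

theorem toOm_surj (hG : Good Q) : Function.Surjective (toOm hG) := by
  intro g
  refine ⟨⟨glEquiv ι F g, (mem_omegaGL_iff hG _).1 g.2⟩, ?_⟩
  apply Subtype.ext
  show (glEquiv ι F).symm (glEquiv ι F g) = g
  rw [MulEquiv.symm_apply_apply]

variable {T : Type*} [Group T] [Finite T] {A : Subgroup T} {Γ : Subgroup (MulAut T)}

/-- **reducible stabilisers in `Ω`** -/
theorem om_red (h : EPT A Γ) {Qf : (ι → F) → F} (m : Model T (Cfsg.Geo.omegaGL Qf)) (h7 : 7 ≤ Fintype.card ι)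
    (hQ : Cfsg.Geo.IsNondegenerateQuadraticForm Qf)
    (hpt : ∀ v : ι → F, Qf v ≠ 0 → (∀ g ∈ m.hat A, ∃ c : F, (g : Matrix ι ι F) *ᵥ v = c • v) → False)
    {W : Submodule F (ι → F)} (h0 : W ≠ ⊥) (h1 : W ≠ ⊤)
    (hW : ∀ g ∈ m.hat A, ∀ w ∈ W, (g : Matrix ι ι F) *ᵥ w ∈ W) : False := by
  obtain ⟨Q, rfl, hN⟩ := exists_quadraticForm hQ
  have hG : Good Q := good_of_card hN (by omega)
  have hpre : ∀ g : (ι → F) ≃ₗ[F] (ι → F), g ∈ pre (m.π.comp (toOm hG)) A → (glEquiv ι F).symm g ∈ m.hat A := by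
    intro g hg
    obtain ⟨hg1, hg2⟩ := mem_pre.1 hg
    exact (m.mem_hat_iff (toOm hG ⟨g, hg1⟩)).2 hg2
  have hap : ∀ (g : (ι → F) ≃ₗ[F] (ι → F)) (v : ι → F),
      (((glEquiv ι F).symm g : GL ι F) : Matrix ι ι F) *ᵥ v = g v := by
    intro g v
    rw [← glEquiv_apply, MulEquiv.apply_symm_apply]
  refine red hG (by rw [Module.finrank_fintype_fun_eq_card]; exact h7) h (π := m.π.comp (toOm hG))
    (m.surj.comp (toOm_surj hG)) ?_ ?_ ?_ h0 h1 ?_
  · intro s hs
    have h2 : ((toOm hG s : Cfsg.Geo.omegaGL ⇑Q) : GL ι F) ∈ Cfsg.Geo.scalars ι F := (m.ker _).1 hs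
    rw [Cfsg.Geo.mem_scalars_iff] at h2
    obtain ⟨c, hc⟩ := h2
    refine ⟨c, fun v => ?_⟩
    rw [← hap]
    have h3 : (((glEquiv ι F).symm (s : (ι → F) ≃ₗ[F] (ι → F)) : GL ι F) : Matrix ι ι F) = (c : F) • 1 := hc
    rw [h3, Matrix.smul_mulVec, Matrix.one_mulVec]
  · intro X hX
    refine Cfsg.Agent.H925.omegaGL_irreducible hQ (by omega) X ?_
    intro g hg w hw
    have h2 := hX (glEquiv ι F g) ((mem_omegaGL_iff hG g).1 hg) w hw
    rwa [glEquiv_apply] at h2
  · intro v hv hg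
    refine hpt v hv ?_
    intro g hg'
    have h2 : glEquiv ι F g ∈ pre (m.π.comp (toOm hG)) A := by
      obtain ⟨h3, h4⟩ := m.mem_hat.1 hg'
      refine mem_pre.2 ⟨(mem_omegaGL_iff hG g).1 h3, ?_⟩
      have e : toOm hG ⟨glEquiv ι F g, (mem_omegaGL_iff hG g).1 h3⟩ = ⟨g, h3⟩ := by
        apply Subtype.ext
        show (glEquiv ι F).symm (glEquiv ι F g) = g
        rw [MulEquiv.symm_apply_apply]
      show m.π (toOm hG _) ∈ A
      rw [e]
      exact h4
    obtain ⟨c, hc⟩ := Submodule.mem_span_singleton.1 (hg _ h2)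
    exact ⟨c, hc.symm⟩
  · intro g hg w hw
    rw [← hap]
    exact hW _ (hpre g hg) w hw

/-- **[Om-RED]** -/
theorem omRed : Cfsg.Agent.H778.EP.OmRed := by
  intro hP _ Q _ _ hs A Γ h F _ _ ι _ _ Qf m h7 hQ hC
  rw [Cfsg.Geo.ActsIrreducibly] at hC
  push Not at hC
  obtain ⟨W, hW, h0, h1⟩ := hC
  have hW' : ∀ g ∈ m.hat A, ∀ w ∈ W, (g : Matrix ι ι F) *ᵥ w ∈ W := by
    intro g hg w hw
    have h2 := hW (g : Matrix ι ι F) ⟨g, hg, rfl⟩
    exact h2 ⟨w, hw, Matrix.toLin'_apply _ _⟩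
  refine om_red h m h7 hQ ?_ h0 h1 hW'
  intro v hv hg
  refine hP hs h m h7 hQ ⟨v, hv, ?_⟩
  intro g hg'
  show glEquiv ι F g ∈ stab (Submodule.span F {v})
  apply mem_stab_of_le
  intro w hw
  obtain ⟨c, rfl⟩ := Submodule.mem_span_singleton.1 hw
  obtain ⟨d, hd⟩ := hg g hg'
  rw [map_smul, glEquiv_apply, hd, smul_smul]
  exact Submodule.smul_mem _ _ (Submodule.mem_span_singleton_self v)

end Cfsg.Agent.H567.EP
end

-- part: H112/OC2/Kill
section
/-!
# S3499 (task 6065, helper112): two criteria for extremely primitive groups in the form `EPT A Γ`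

* `cent_mem` : `b ≠ 1` in a normal `p`-subgroup of `A`: every element commuting with `b` is in `A`;
* `base_kill` : a normal subgroup `B ≠ 1` of `A`, such that for all `1 ≠ N ≤ B` normal in `A` the centraliser
  of `N` in `A` is contained in `B`: then `A = B (A ∩ A^x)` for every `x ∉ A`.
-/

set_option autoImplicit false

namespace Cfsg.Agent.H112.OC2

open Subgroup Cfsg.Agent.H284

variable {P : Type*} [Group P] [Finite P] {A : Subgroup P} {Γ : Subgroup (MulAut P)}

/-- the intersection of the maximal `p`-subgroups of `A` -/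
def pc (p : ℕ) (A : Subgroup P) : Subgroup P :=
  sInf {R | R ≤ A ∧ IsPGroup p R ∧ ∀ T, T ≤ A → IsPGroup p T → R ≤ T → T ≤ R}

omit [Finite P] in
theorem le_pc {p : ℕ} {N : Subgroup P} (hNA : N ≤ A) (hn : ∀ a ∈ A, ∀ n ∈ N, a * n * a⁻¹ ∈ N) (hN : IsPGroup p N) :
    N ≤ pc p A := by
  refine le_sInf ?_
  rintro R ⟨h1, h2, h3⟩
  refine le_sup_right.trans (h3 (R ⊔ N) (sup_le h1 hNA) ?_ le_sup_left)
  refine h2.to_sup_of_normal_right' hN ?_
  intro r hr
  rw [Subgroup.mem_normalizer_iff]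
  intro n
  refine ⟨fun hn' => hn r (h1 hr) n hn', fun hn' => ?_⟩
  have := hn r⁻¹ (A.inv_mem (h1 hr)) _ hn'
  have e : r⁻¹ * (r * n * r⁻¹) * r⁻¹⁻¹ = n := by group
  rwa [e] at this

theorem exists_max (p : ℕ) (A : Subgroup P) :
    ∃ R : Subgroup P, R ≤ A ∧ IsPGroup p R ∧ ∀ T, T ≤ A → IsPGroup p T → R ≤ T → T ≤ R := by
  obtain ⟨R, hR⟩ := (Set.toFinite {R : Subgroup P | R ≤ A ∧ IsPGroup p R}).exists_maximal
    ⟨⊥, bot_le, IsPGroup.of_bot⟩
  exact ⟨R, hR.1.1, hR.1.2, fun T h1 h2 h3 => hR.2 ⟨h1, h2⟩ h3⟩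

omit [Finite P] in
theorem pc_map {p : ℕ} {σ : MulAut P} (hσ : ∀ a, σ a ∈ A ↔ a ∈ A) {k : P} (hk : k ∈ pc p A) : σ k ∈ pc p A := by
  rw [pc, Subgroup.mem_sInf] at hk ⊢
  rintro R ⟨h1, h2, h3⟩
  refine hk (R.comap σ.toMonoidHom) ⟨?_, ?_, ?_⟩
  · intro x hx
    exact (hσ x).1 (h1 hx)
  · exact h2.comap_of_injective _ σ.injective
  · intro T hT1 hT2 hT3
    have h4 := h3 (T.map σ.toMonoidHom) ?_ (hT2.map _) ?_
    · intro t ht
      exact h4 ⟨t, ht, rfl⟩
    · rintro _ ⟨t, ht, rfl⟩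
      exact (hσ t).2 (hT1 ht)
    · intro r hr
      obtain ⟨s, rfl⟩ := σ.surjective r
      exact ⟨s, hT3 hr, rfl⟩

/-- `b ≠ 1` in a normal `p`-subgroup of `A`: every element commuting with `b` is in `A`. -/
theorem cent_mem (h : EPT A Γ) {p : ℕ} [hp : Fact p.Prime] {N : Subgroup P} (hNA : N ≤ A)
    (hn : ∀ a ∈ A, ∀ n ∈ N, a * n * a⁻¹ ∈ N) (hN : IsPGroup p N) {b : P} (hb : b ∈ N) (hb1 : b ≠ 1) {x : P}
    (hx : x * b = b * x) : x ∈ A := by
  by_contra hxA
  have h0 := le_pc hNA hn hN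
  obtain ⟨R, hR1, hR2, hR3⟩ := exists_max p A
  have h1 : pc p A ≤ R := sInf_le ⟨hR1, hR2, hR3⟩
  have h2 : IsPGroup p (pc p A) := hR2.to_le h1
  have h3 : pc p A ≠ ⊥ := by
    intro e
    have := h0 hb
    rw [e, mem_bot] at this
    exact hb1 this
  have h4 := h.nilp (pc p A) (h1.trans hR1) (fun σ hσ k hk => pc_map (h.inv σ hσ) hk) h2.isNilpotent h3
  have h5 := (h4.2.2.2.1 x hxA).1
  have h6 : b ∈ pc p A ⊓ cj x A := by
    refine ⟨h0 hb, mem_cj.2 ?_⟩
    have : x⁻¹ * b * x = b := by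
      rw [mul_assoc, ← hx, inv_mul_cancel_left]
    rw [this]
    exact hNA hb
  rw [h5, mem_bot] at h6
  exact hb1 h6

/-- **Base criterion.** -/
theorem base_kill (h : EPT A Γ) {B : Subgroup P} (hBA : B ≤ A) (hBn : ∀ a ∈ A, ∀ b ∈ B, a * b * a⁻¹ ∈ B) (hB : B ≠ ⊥)
    (hG : ∀ N : Subgroup P, N ≤ B → N ≠ ⊥ → (∀ a ∈ A, ∀ n ∈ N, a * n * a⁻¹ ∈ N) → ∀ a ∈ A, (∀ n ∈ N, a * n = n * a) →
      a ∈ B) {x : P} (hx : x ∉ A) {a : P} (ha : a ∈ A) (hno : ∀ b ∈ B, ∀ m ∈ A ⊓ cj x A, a ≠ b * m) : False := by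
  obtain ⟨N, ⟨hN1, hN2, hN3⟩, hNmin⟩ := (Set.toFinite {N : Subgroup P | N ≤ B ∧ N ≠ ⊥ ∧
    ∀ a ∈ A, ∀ n ∈ N, a * n * a⁻¹ ∈ N}).exists_minimal ⟨B, le_rfl, hB, hBn⟩
  -- every conjugate under `Γ` is in `B`
  have hσ : ∀ σ ∈ Γ, N.map σ.toMonoidHom ≤ B := by
    intro σ hσ
    have hn' : ∀ a ∈ A, ∀ n ∈ N.map σ.toMonoidHom, a * n * a⁻¹ ∈ N.map σ.toMonoidHom := by
      rintro a ha _ ⟨n, hn, rfl⟩
      obtain ⟨c, rfl⟩ := σ.surjective a
      refine ⟨c * n * c⁻¹, hN3 c ((h.inv σ hσ c).1 ha) n hn, ?_⟩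
      show σ (c * n * c⁻¹) = σ c * σ n * (σ c)⁻¹
      rw [map_mul, map_mul, map_inv]
    have hNA' : N.map σ.toMonoidHom ≤ A := by
      rintro _ ⟨n, hn, rfl⟩
      exact (h.inv σ hσ n).2 (hBA (hN1 hn))
    by_cases hint : N ⊓ N.map σ.toMonoidHom = ⊥
    · intro a ha
      refine hG N hN1 hN2 hN3 a (hNA' ha) fun n hn => ?_
      have h1 : a * n * a⁻¹ * n⁻¹ ∈ N ⊓ N.map σ.toMonoidHom := by
        refine ⟨N.mul_mem (hN3 a (hNA' ha) n hn) (N.inv_mem hn), ?_⟩
        have e : a * n * a⁻¹ * n⁻¹ = a * (n * a⁻¹ * n⁻¹) := by group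
        rw [e]
        exact (N.map σ.toMonoidHom).mul_mem ha (hn' n (hBA (hN1 hn)) _ ((N.map σ.toMonoidHom).inv_mem ha))
      rw [hint, mem_bot] at h1
      have h2 : a * n * a⁻¹ = n := by rwa [mul_inv_eq_one] at h1
      rw [mul_inv_eq_iff_eq_mul] at h2
      exact h2
    · have h1 : N ≤ N ⊓ N.map σ.toMonoidHom := by
        refine hNmin ⟨inf_le_left.trans hN1, hint, fun a ha n hn => ⟨hN3 a ha n (mem_inf.1 hn).1, hn' a ha n
          (mem_inf.1 hn).2⟩⟩ inf_le_left
      have h2 : N ≤ N.map σ.toMonoidHom := h1.trans inf_le_right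
      have h3 : Nat.card (N.map σ.toMonoidHom) = Nat.card N :=
        (Nat.card_congr (N.equivMapOfInjective _ σ.injective).toEquiv).symm
      have h4 : N = N.map σ.toMonoidHom := Subgroup.eq_of_le_of_card_ge h2 h3.le
      rw [← h4]
      exact hN1
  -- the subgroup generated by them
  set E : Subgroup P := ⨆ σ : Γ, N.map (σ : MulAut P).toMonoidHom with hE
  have hEB : E ≤ B := iSup_le fun σ => hσ σ σ.2
  have hEinv : ∀ τ ∈ Γ, ∀ k ∈ E, τ k ∈ E := by
    intro τ hτ k hk
    have h1 : E ≤ E.comap τ.toMonoidHom := by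
      refine iSup_le fun σ => ?_
      rintro _ ⟨n, hn, rfl⟩
      have h2 : N.map ((⟨τ * σ, Γ.mul_mem hτ σ.2⟩ : Γ) : MulAut P).toMonoidHom ≤ E :=
        le_iSup (fun σ : Γ => N.map (σ : MulAut P).toMonoidHom) ⟨τ * σ, Γ.mul_mem hτ σ.2⟩
      exact h2 ⟨n, hn, rfl⟩
    exact h1 hk
  have hEne : E ≠ ⊥ := by
    intro e
    apply hN2
    rw [eq_bot_iff, ← e]
    intro n hn
    have h2 : N.map ((⟨1, Γ.one_mem⟩ : Γ) : MulAut P).toMonoidHom ≤ E :=
      le_iSup (fun σ : Γ => N.map (σ : MulAut P).toMonoidHom) ⟨1, Γ.one_mem⟩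
    exact h2 ⟨n, hn, rfl⟩
  obtain ⟨k, hk, m, hm, e⟩ := h.fac_A (hEB.trans hBA) hEinv hEne hx ha
  exact hno k (hEB hk) m hm e

end Cfsg.Agent.H112.OC2
end

-- part: H112/OC2/Dec
section
/-!
# S3499 (task 6065, helper112): orthogonal decompositions, linear algebra

`Dec Q k D` : `D 0, …, D (t-1)` pairwise orthogonal, nondegenerate, isometric of dimension `k`, spanning `V`.

* `Dec.glue` : isometric embeddings of the `D i` with pairwise orthogonal images glue to an isometry;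
* `Dec.neg_pair` : the isometry which is `-1` on `D i ⊥ D j` and `1` on the others is in `⁅O Q, O Q⁆`;
* `Dec.move` : a reflection moving `D i` to no `D l`.
-/

set_option autoImplicit false

namespace Cfsg.Agent.H112.OC2

open QuadraticMap Cfsg.Agent.LieClassical.OrthCore Cfsg.Agent.LieClassical.OrthTrans
open scoped commutatorElement

variable {F V : Type*} [Field F] [AddCommGroup V] [Module F V] {Q : QuadraticForm F V}

/-- an orthogonal decomposition into isometric nondegenerate subspaces -/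
structure Dec (Q : QuadraticForm F V) {t : ℕ} (k : ℕ) (D : Fin t → Submodule F V) : Prop where
  fr : ∀ i, Module.finrank F (D i) = k
  nd : ∀ i, ∀ w ∈ D i, w ≠ 0 → ∃ y ∈ D i, polar Q w y ≠ 0
  orth : ∀ i j, i ≠ j → ∀ u ∈ D i, ∀ v ∈ D j, polar Q u v = 0
  indep : iSupIndep D
  top : iSup D = ⊤
  iso : ∀ i j, ∃ e : D i ≃ₗ[F] D j, ∀ w, Q (e w : V) = Q (w : V)

/-- `g` permutes the family `D` -/
def Pres {t : ℕ} (D : Fin t → Submodule F V) (g : V ≃ₗ[F] V) : Prop :=
  ∃ σ : Equiv.Perm (Fin t), ∀ i, ∀ w ∈ D i, g w ∈ D (σ i)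

section

variable {t k : ℕ} {D : Fin t → Submodule F V}

namespace Dec

variable (hD : Dec Q k D)

include hD

theorem disj {i j : Fin t} (hij : i ≠ j) {w : V} (h1 : w ∈ D i) (h2 : w ∈ D j) : w = 0 := by
  by_contra h0
  obtain ⟨y, hy, h3⟩ := hD.nd i w h1 h0
  apply h3
  rw [polar_comm]
  exact hD.orth i j hij y hy w h2

theorem ext {f g : V →ₗ[F] V} (h : ∀ i, ∀ w ∈ D i, f w = g w) : f = g := by
  apply LinearMap.ext
  intro v
  have hv : v ∈ iSup D := by rw [hD.top]; trivial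
  induction hv using Submodule.iSup_induction' with
  | mem i x hx => exact h i x hx
  | zero => rw [map_zero, map_zero]
  | add x y _ _ hx hy => rw [map_add, map_add, hx, hy]

theorem ext_equiv {f g : V ≃ₗ[F] V} (h : ∀ i, ∀ w ∈ D i, f w = g w) : f = g := by
  apply LinearEquiv.toLinearMap_injective
  exact hD.ext h

theorem mem_of_inv [FiniteDimensional F V] {g : V ≃ₗ[F] V} {i j : Fin t} (h : ∀ w ∈ D i, g w ∈ D j) :
    ∀ w ∈ D j, g⁻¹ w ∈ D i := by
  have h1 : (D i).map g.toLinearMap = D j := by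
    apply Submodule.eq_of_le_of_finrank_eq
    · rintro _ ⟨w, hw, rfl⟩
      exact h w hw
    · rw [LinearEquiv.finrank_map_eq, hD.fr, hD.fr]
  intro w hw
  rw [← h1] at hw
  obtain ⟨y, hy, rfl⟩ := hw
  have h2 : g⁻¹ (g y) = y := g.symm_apply_apply y
  show g⁻¹ (g y) ∈ D i
  rw [h2]
  exact hy

theorem isInternal : DirectSum.IsInternal D :=
  DirectSum.isInternal_submodule_of_iSupIndep_of_iSup_eq_top hD.indep hD.top

/-- Gluing linear maps. -/
theorem exists_lin (e : ∀ i, D i →ₗ[F] V) : ∃ g : V →ₗ[F] V, ∀ i (w : D i), g w = e i w := by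
  classical
  let E : (DirectSum (Fin t) fun i => D i) ≃ₗ[F] V :=
    LinearEquiv.ofBijective (DirectSum.coeLinearMap D) hD.isInternal
  refine ⟨(DirectSum.toModule F (Fin t) V e).comp E.symm.toLinearMap, fun i w => ?_⟩
  have h1 : E.symm (w : V) = DirectSum.lof F (Fin t) (fun i => D i) i w := by
    rw [LinearEquiv.symm_apply_eq]
    exact (DirectSum.coeLinearMap_lof D i w).symm
  rw [LinearMap.comp_apply, LinearEquiv.coe_coe, h1, DirectSum.toModule_lof]

/-- Gluing isometries. -/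
theorem glue [FiniteDimensional F V] (hQ : Nondeg Q) (e : ∀ i, D i →ₗ[F] V) (he : ∀ i w, Q (e i w) = Q (w : V))
    (ho : ∀ i j, i ≠ j → ∀ u v, polar Q (e i u) (e j v) = 0) : ∃ g ∈ O Q, ∀ i (w : D i), g w = e i w := by
  obtain ⟨G, hG⟩ := hD.exists_lin e
  have hp : ∀ u v, polar Q (G u) (G v) = polar Q u v := by
    intro u v
    have hu : u ∈ iSup D := by rw [hD.top]; trivial
    have hv : v ∈ iSup D := by rw [hD.top]; trivial
    induction hu using Submodule.iSup_induction' with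
    | zero => rw [map_zero, polar_zero_left, polar_zero_left]
    | add x y _ _ hx hy => rw [map_add, polar_add_left, polar_add_left, hx, hy]
    | mem i x hx =>
      induction hv using Submodule.iSup_induction' with
      | zero => rw [map_zero, polar_zero_right, polar_zero_right]
      | add y z _ _ hy hz => rw [map_add, polar_add_right, polar_add_right, hy, hz]
      | mem j y hy =>
        by_cases hij : i = j
        · subst hij
          have h1 := he i (⟨x, hx⟩ + ⟨y, hy⟩)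
          have h2 := he i ⟨x, hx⟩
          have h3 := he i ⟨y, hy⟩
          rw [map_add] at h1
          rw [hG i ⟨x, hx⟩, hG i ⟨y, hy⟩, polar, polar, h1, h2, h3]
          rfl
        · rw [hG i ⟨x, hx⟩, hG j ⟨y, hy⟩, ho i j hij, hD.orth i j hij x hx y hy]
  have hq : ∀ v, Q (G v) = Q v := by
    intro v
    have hv : v ∈ iSup D := by rw [hD.top]; trivial
    induction hv using Submodule.iSup_induction' with
    | zero => rw [map_zero]
    | add x y _ _ hx hy => rw [map_add, Q_add, Q_add, hx, hy, hp]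
    | mem i x hx => exact (congrArg Q (hG i ⟨x, hx⟩)).trans (he i ⟨x, hx⟩)
  have hinj : Function.Injective G := by
    rw [← LinearMap.ker_eq_bot, LinearMap.ker_eq_bot']
    intro v hv
    apply hQ
    intro y
    rw [← hp, hv, polar_zero_left]
  refine ⟨LinearEquiv.ofInjectiveEndo G hinj, fun v => ?_, fun i w => ?_⟩
  · rw [LinearEquiv.coe_ofInjectiveEndo]
    exact hq v
  · rw [LinearEquiv.coe_ofInjectiveEndo]
    exact hG i w

/-- an isometry permuting the `D i` as prescribed -/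
theorem exists_perm [FiniteDimensional F V] (hQ : Nondeg Q) (σ : Equiv.Perm (Fin t)) :
    ∃ g ∈ O Q, ∀ i, ∀ w ∈ D i, g w ∈ D (σ i) := by
  choose e he using fun i => hD.iso i (σ i)
  obtain ⟨g, hg, h1⟩ := hD.glue hQ (fun i => (D (σ i)).subtype.comp (e i).toLinearMap) (fun i w => he i w)
    (fun i j hij u v => hD.orth _ _ (fun h => hij (σ.injective h)) _ (e i u).2 _ (e j v).2)
  refine ⟨g, hg, fun i w hw => ?_⟩
  rw [show g w = _ from h1 i ⟨w, hw⟩]
  exact (e i ⟨w, hw⟩).2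

/-- an isometry with prescribed signs -/
theorem exists_sgn [FiniteDimensional F V] (hQ : Nondeg Q) (ε : Fin t → F) (hε : ∀ i, ε i * ε i = 1) :
    ∃ g ∈ O Q, ∀ i, ∀ w ∈ D i, g w = ε i • w := by
  obtain ⟨g, hg, h1⟩ := hD.glue hQ (fun i => ε i • (D i).subtype) (fun i w => by
      rw [LinearMap.smul_apply, Submodule.subtype_apply, QuadraticMap.map_smul, hε, one_smul])
    (fun i j hij u v => by
      rw [LinearMap.smul_apply, LinearMap.smul_apply, Submodule.subtype_apply, Submodule.subtype_apply,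
        polar_smul_left, polar_smul_right, hD.orth i j hij _ u.2 _ v.2, smul_zero, smul_zero])
  exact ⟨g, hg, fun i w hw => h1 i ⟨w, hw⟩⟩

/-- the isometry which is `-1` on `D i ⊥ D j` and `1` on the others is in `⁅O Q, O Q⁆` -/
theorem neg_pair [FiniteDimensional F V] (hQ : Nondeg Q) {i j : Fin t} (hij : i ≠ j) :
    ∃ g ∈ ⁅O Q, O Q⁆, (∀ w ∈ D i, g w = -w) ∧ (∀ w ∈ D j, g w = -w) ∧
      ∀ l, l ≠ i → l ≠ j → ∀ w ∈ D l, g w = w := by
  obtain ⟨s, hs, h1⟩ := hD.exists_perm hQ (Equiv.swap i j)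
  obtain ⟨c, hc, h2⟩ := hD.exists_sgn hQ (fun l => if l = i then -1 else 1) (fun l => by split_ifs <;> simp)
  have hs' : ∀ l, ∀ w ∈ D l, s⁻¹ w ∈ D (Equiv.swap i j l) := by
    intro l w hw
    refine hD.mem_of_inv (h1 (Equiv.swap i j l)) w ?_
    rwa [Equiv.swap_apply_self]
  have hc' : ∀ l, ∀ w ∈ D l, c⁻¹ w = (if l = i then (-1 : F) else 1) • w := by
    intro l w hw
    have h3 := h2 l _ ((D l).smul_mem (if l = i then (-1 : F) else 1) hw)
    have h4 : c⁻¹ (c ((if l = i then (-1 : F) else 1) • w)) = (if l = i then (-1 : F) else 1) • w :=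
      c.symm_apply_apply _
    rw [h3, smul_smul] at h4
    have h5 : (if l = i then (-1 : F) else 1) * (if l = i then (-1 : F) else 1) = 1 := by split_ifs <;> simp
    rw [h5, one_smul] at h4
    exact h4
  have key : ∀ l, ∀ w ∈ D l, ⁅s, c⁆ w =
      ((if Equiv.swap i j l = i then (-1 : F) else 1) * (if l = i then (-1 : F) else 1)) • w := by
    intro l w hw
    have e1 : ⁅s, c⁆ w = s (c (s⁻¹ (c⁻¹ w))) := rfl
    rw [e1, hc' l w hw, map_smul, map_smul, map_smul, h2 _ _ (hs' l w hw), map_smul, smul_smul]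
    have e2 : s (s⁻¹ w) = w := s.apply_symm_apply w
    rw [e2, mul_comm]
  refine ⟨⁅s, c⁆, Subgroup.commutator_mem_commutator hs hc, fun w hw => ?_, fun w hw => ?_, fun l hl1 hl2 w hw => ?_⟩
  · rw [key i w hw, Equiv.swap_apply_left, if_neg hij.symm, if_pos rfl, one_mul, neg_smul, one_smul]
  · rw [key j w hw, Equiv.swap_apply_right, if_neg hij.symm, if_pos rfl, mul_one, neg_smul, one_smul]
  · rw [key l w hw, Equiv.swap_apply_of_ne_of_ne hl1 hl2, if_neg hl1, mul_one, one_smul]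

end Dec

theorem exists_perp_mem {W : Submodule F V} (hW : 2 ≤ Module.finrank F W) (u : V) :
    ∃ z ∈ W, z ≠ 0 ∧ polar Q u z = 0 := by
  have : Module.Finite F W := Module.finite_of_finrank_pos (by omega)
  let f : W →ₗ[F] F := (polarBilin Q u).comp W.subtype
  have hker : LinearMap.ker f ≠ ⊥ := by
    apply LinearMap.ker_ne_bot_of_finrank_lt
    rw [Module.finrank_self]
    omega
  obtain ⟨w, hw, hw0⟩ := Submodule.exists_mem_ne_zero_of_ne_bot hker
  refine ⟨w, w.2, fun h => hw0 (Subtype.ext h), ?_⟩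
  exact LinearMap.mem_ker.1 hw

theorem exists_perp_mem2 {W : Submodule F V} (hW : 3 ≤ Module.finrank F W) (u : V) :
    ∃ z ∈ W, (∀ c : F, z ≠ c • u) ∧ polar Q u z = 0 := by
  have : Module.Finite F W := Module.finite_of_finrank_pos (by omega)
  let f : W →ₗ[F] F := (polarBilin Q u).comp W.subtype
  have h1 : 2 ≤ Module.finrank F (LinearMap.ker f) := by
    have h2 := LinearMap.finrank_range_add_finrank_ker f
    have h3 := Submodule.finrank_le (LinearMap.range f)
    rw [Module.finrank_self] at h3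
    omega
  by_contra hcon
  push Not at hcon
  have h4 : (LinearMap.ker f).map W.subtype ≤ Submodule.span F {u} := by
    rintro _ ⟨z, hz, rfl⟩
    obtain ⟨c, hc⟩ : ∃ c : F, (z : V) = c • u := by
      by_contra hne
      push Not at hne
      exact hcon z z.2 hne (LinearMap.mem_ker.1 hz)
    rw [Submodule.mem_span_singleton]
    exact ⟨c, hc.symm⟩
  have h5 := Submodule.finrank_mono h4
  rw [Submodule.finrank_map_subtype_eq] at h5
  have h6 : Module.finrank F (Submodule.span F {u}) ≤ 1 := by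
    have := finrank_span_le_card (R := F) ({u} : Set V)
    simpa using this
  omega

/-- two vectors of `W` and a third one carrying the sum of their values -/
def PP (Q : QuadraticForm F V) (W : Submodule F V) : Prop :=
  ∃ u ∈ W, ∃ u' ∈ W, ∃ u'' ∈ W, u ≠ 0 ∧ u' ≠ 0 ∧ Q u'' = Q u + Q u' ∧ Q u'' ≠ 0

theorem exists_nonsing_mem {W : Submodule F V} (h : ∀ w ∈ W, w ≠ 0 → ∃ y ∈ W, polar Q w y ≠ 0) {w : V} (hw : w ∈ W)
    (hw0 : w ≠ 0) : ∃ u ∈ W, Q u ≠ 0 := by
  obtain ⟨y, hy, h1⟩ := h w hw hw0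
  by_contra hcon
  push Not at hcon
  apply h1
  rw [polar, hcon _ (W.add_mem hw hy), hcon w hw, hcon y hy]
  ring

namespace Dec

variable (hD : Dec Q k D)

include hD

theorem exists_ne (hk : 1 ≤ k) (i : Fin t) : ∃ w ∈ D i, w ≠ 0 := by
  have h1 : D i ≠ ⊥ := by
    intro e
    have := hD.fr i
    rw [e, finrank_bot] at this
    omega
  obtain ⟨w, hw, h0⟩ := Submodule.exists_mem_ne_zero_of_ne_bot h1
  exact ⟨w, hw, h0⟩

theorem exists_nonsing (hk : 1 ≤ k) (i : Fin t) : ∃ u ∈ D i, Q u ≠ 0 := by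
  obtain ⟨w, hw, h0⟩ := hD.exists_ne hk i
  exact exists_nonsing_mem (hD.nd i) hw h0

/-- a vector of `D j` with the same value -/
theorem exists_copy {i : Fin t} (j : Fin t) {u : V} (hu : u ∈ D i) (hu0 : u ≠ 0) :
    ∃ w ∈ D j, w ≠ 0 ∧ Q w = Q u := by
  obtain ⟨e, he⟩ := hD.iso i j
  refine ⟨e ⟨u, hu⟩, (e ⟨u, hu⟩).2, ?_, he ⟨u, hu⟩⟩
  intro h0
  apply hu0
  have h1 : e ⟨u, hu⟩ = 0 := Subtype.ext h0
  rw [LinearEquiv.map_eq_zero_iff] at h1
  exact congrArg Subtype.val h1

/-- A reflection moving `D i` to no `D l`. -/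
theorem move (hk : 2 ≤ k) {i : Fin t} {u w v : V} (hv : Q v ≠ 0) (hvu : v = u + w) (hu : u ∈ D i) (hu0 : u ≠ 0)
    (hw0 : w ≠ 0) (hw : ∀ y ∈ D i, polar Q w y = 0) (l : Fin t) : ¬ ∀ y ∈ D i, refl Q v hv y ∈ D l := by
  intro hcon
  have hpol : ∀ y ∈ D i, polar Q v y = polar Q u y := by
    intro y hy
    rw [hvu, polar_add_left, hw y hy, add_zero]
  obtain ⟨z, hz, hz0, huz⟩ := exists_perp_mem (Q := Q) (W := D i) (by rw [hD.fr]; exact hk) u
  have h1 : refl Q v hv z = z := by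
    rw [refl_apply, hpol z hz, huz, mul_zero, zero_smul, sub_zero]
  have h2 := hcon z hz
  rw [h1] at h2
  have hli : l = i := by
    by_contra hne
    exact hz0 (hD.disj hne h2 hz)
  subst hli
  obtain ⟨y, hy, huy⟩ := hD.nd l u hu hu0
  have h3 := hcon y hy
  rw [refl_apply, hpol y hy] at h3
  have h4 : ((Q v)⁻¹ * polar Q u y) • v ∈ D l := by
    have := (D l).sub_mem hy h3
    rwa [sub_sub_cancel] at this
  have h5 : v ∈ D l := ((D l).smul_mem_iff (mul_ne_zero (inv_ne_zero hv) huy)).1 h4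
  have h6 : w ∈ D l := by
    have := (D l).sub_mem h5 hu
    rwa [hvu, add_sub_cancel_left] at this
  obtain ⟨y', hy', h7⟩ := hD.nd l w h6 hw0
  exact h7 (hw y' hy')

theorem pp_all {i : Fin t} (h : PP Q (D i)) (j : Fin t) : PP Q (D j) := by
  obtain ⟨e, he⟩ := hD.iso i j
  obtain ⟨u, hu, u', hu', u'', hu'', h1, h2, h3, h4⟩ := h
  have hne : ∀ {w : V} (hw : w ∈ D i), w ≠ 0 → (e ⟨w, hw⟩ : V) ≠ 0 := by
    intro w hw hw0 h0
    apply hw0
    have h1 : e ⟨w, hw⟩ = 0 := Subtype.ext h0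
    rw [LinearEquiv.map_eq_zero_iff] at h1
    exact congrArg Subtype.val h1
  have e1 : Q (e ⟨u, hu⟩ : V) = Q u := he ⟨u, hu⟩
  have e2 : Q (e ⟨u', hu'⟩ : V) = Q u' := he ⟨u', hu'⟩
  have e3 : Q (e ⟨u'', hu''⟩ : V) = Q u'' := he ⟨u'', hu''⟩
  refine ⟨e ⟨u, hu⟩, (e ⟨u, hu⟩).2, e ⟨u', hu'⟩, (e ⟨u', hu'⟩).2, e ⟨u'', hu''⟩, (e ⟨u'', hu''⟩).2, hne hu h1,
    hne hu' h2, ?_, ?_⟩
  · rw [e1, e2, e3]
    exact h3
  · rw [e3]
    exact h4

/-- `PP` or anisotropic planes in characteristic two -/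
theorem pp_or (hk : 2 ≤ k) (i : Fin t) :
    PP Q (D i) ∨ (k = 2 ∧ (2 : F) = 0 ∧ ∀ w ∈ D i, w ≠ 0 → Q w ≠ 0) := by
  by_cases hP : PP Q (D i)
  · exact Or.inl hP
  right
  obtain ⟨u, hu, hQu⟩ := hD.exists_nonsing (by omega) i
  have hu0 : u ≠ 0 := by
    rintro rfl
    exact hQu (map_zero Q)
  have han : ∀ w ∈ D i, w ≠ 0 → Q w ≠ 0 := by
    intro w hw hw0 hQw
    exact hP ⟨u, hu, w, hw, u, hu, hu0, hw0, by rw [hQw, add_zero], hQu⟩
  have hperp : ∀ z ∈ D i, z ≠ 0 → polar Q u z = 0 → z = -u := by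
    intro z hz hz0 huz
    by_contra hne
    have h1 : u + z ≠ 0 := fun h => hne (by rw [eq_neg_iff_add_eq_zero, add_comm]; exact h)
    exact hP ⟨u, hu, z, hz, u + z, (D i).add_mem hu hz, hu0, hz0, by rw [Q_add, huz, add_zero],
      han _ ((D i).add_mem hu hz) h1⟩
  refine ⟨?_, ?_, han⟩
  · by_contra hne
    obtain ⟨z, hz, h1, h2⟩ := exists_perp_mem2 (Q := Q) (W := D i) (by rw [hD.fr]; omega) u
    have h3 := hperp z hz (fun h => h1 0 (by rw [h, zero_smul])) h2
    exact h1 (-1) (by rw [h3, neg_smul, one_smul])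
  · obtain ⟨z, hz, hz0, huz⟩ := exists_perp_mem (Q := Q) (W := D i) (by rw [hD.fr]; exact hk) u
    have h3 := hperp z hz hz0 huz
    rw [h3, polar_neg_right, polar_self', neg_eq_zero] at huz
    exact (mul_eq_zero.1 huz).resolve_right hQu

/-- the two vectors for two blocks -/
theorem pair_vec (hk : 2 ≤ k) {i j : Fin t} (hij : i ≠ j) (hP : PP Q (D i)) :
    ∃ v v' : V, ∃ hv : Q v ≠ 0, Q v' = Q v ∧ v ∈ D i ⊔ D j ∧ v' ∈ D i ∧
      ∀ l, ¬ ∀ y ∈ D i, refl Q v hv y ∈ D l := by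
  obtain ⟨u, hu, u', hu', u'', hu'', h1, h2, h3, h4⟩ := hP
  obtain ⟨w, hw, hw0, hQw⟩ := hD.exists_copy j hu' h2
  have e : Q (u + w) = Q u'' := by
    rw [Q_add, hD.orth i j hij u hu w hw, hQw, h3, add_zero]
  refine ⟨u + w, u'', by rw [e]; exact h4, e.symm, ?_, hu'', ?_⟩
  · exact Submodule.add_mem_sup hu hw
  · exact hD.move hk _ rfl hu h1 hw0 (fun y hy => hD.orth j i hij.symm w hw y hy)

/-- vectors for the criterion -/
theorem exists_mv (hk : 2 ≤ k) (ht : 3 ≤ t) (htk : 7 ≤ t * k) :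
    ∃ i l : Fin t, i ≠ l ∧ ∃ v v' : V, ∃ hv : Q v ≠ 0, Q v' = Q v ∧ v' ∈ D i ∧ (∀ y ∈ D l, polar Q v y = 0) ∧
      ∀ l', ¬ ∀ y ∈ D i, refl Q v hv y ∈ D l' := by
  let i0 : Fin t := ⟨0, by omega⟩
  let i1 : Fin t := ⟨1, by omega⟩
  let i2 : Fin t := ⟨2, by omega⟩
  have h01 : i0 ≠ i1 := by simp [i0, i1]
  have h02 : i0 ≠ i2 := by simp [i0, i2]
  have h12 : i1 ≠ i2 := by simp [i1, i2]
  rcases hD.pp_or hk i0 with hP | ⟨hk2, h2, han⟩
  · obtain ⟨v, v', hv, h3, h4, h5, h6⟩ := hD.pair_vec hk h01 hP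
    refine ⟨i0, i2, h02, v, v', hv, h3, h5, fun y hy => ?_, h6⟩
    obtain ⟨a, ha, b, hb, rfl⟩ := Submodule.mem_sup.1 h4
    rw [polar_add_left, hD.orth i0 i2 h02 a ha y hy, hD.orth i1 i2 h12 b hb y hy, add_zero]
  · have ht4 : 4 ≤ t := by
      rw [hk2] at htk
      omega
    let i3 : Fin t := ⟨3, by omega⟩
    have h03 : i0 ≠ i3 := by simp [i0, i3]
    have h13 : i1 ≠ i3 := by simp [i1, i3]
    have h23 : i2 ≠ i3 := by simp [i2, i3]
    obtain ⟨u, hu, hQu⟩ := hD.exists_nonsing (by omega) i0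
    have hu0 : u ≠ 0 := by
      rintro rfl
      exact hQu (map_zero Q)
    obtain ⟨u1, hu1, hu10, hQu1⟩ := hD.exists_copy i1 hu hu0
    obtain ⟨u2, hu2, hu20, hQu2⟩ := hD.exists_copy i2 hu hu0
    have e1 : Q (u1 + u2) = 0 := by
      rw [Q_add, hD.orth i1 i2 h12 u1 hu1 u2 hu2, hQu1, hQu2, add_zero, ← two_mul, h2, zero_mul]
    have e2 : Q (u + (u1 + u2)) = Q u := by
      rw [Q_add, e1, polar_add_right, hD.orth i0 i1 h01 u hu u1 hu1, hD.orth i0 i2 h02 u hu u2 hu2]
      ring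
    refine ⟨i0, i3, h03, u + (u1 + u2), u, by rw [e2]; exact hQu, e2.symm, hu, fun y hy => ?_, ?_⟩
    · rw [polar_add_left, polar_add_left, hD.orth i0 i3 h03 u hu y hy, hD.orth i1 i3 h13 u1 hu1 y hy,
        hD.orth i2 i3 h23 u2 hu2 y hy, add_zero, add_zero]
    · refine hD.move hk _ rfl hu hu0 ?_ (fun y hy => ?_)
      · intro h0
        have : u1 = -u2 := eq_neg_of_add_eq_zero_left h0
        apply hu10
        refine hD.disj h12 hu1 ?_
        rw [this]
        exact (D i2).neg_mem hu2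
      · rw [polar_add_left, hD.orth i1 i0 h01.symm u1 hu1 y hy, hD.orth i2 i0 h02.symm u2 hu2 y hy, add_zero]

end Dec

/-- the hyperbolic plane over the field with two elements -/
structure Exc (Q : QuadraticForm F V) (W : Submodule F V) (u : V) : Prop where
  mem : u ∈ W
  ns : Q u ≠ 0
  uniq : ∀ y ∈ W, Q y ≠ 0 → y = u
  perp : ∀ y ∈ W, polar Q u y = 0 → y = 0 ∨ y = u

/-- In characteristic two the nonsingular vectors span, except in the hyperbolic plane over the field with two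
elements. -/
theorem exc_of (h2 : (2 : F) = 0) {W : Submodule F V} (hnd : ∀ w ∈ W, w ≠ 0 → ∃ y ∈ W, polar Q w y ≠ 0)
    (hspan : ¬ W ≤ Submodule.span F {u | u ∈ W ∧ Q u ≠ 0}) :
    ∃ u, Exc Q W u ∧ ∃ w ∈ W, w ≠ 0 ∧ Q w = 0 := by
  set S := Submodule.span F {u | u ∈ W ∧ Q u ≠ 0} with hS
  have hSW : S ≤ W := by
    rw [hS, Submodule.span_le]
    exact fun u hu => hu.1
  have hneg : ∀ a : F, -a = a := fun a => by linear_combination (-a) * h2
  have hnegV : ∀ a : V, -a = a := fun a => by rw [← neg_one_smul F a, hneg, one_smul]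
  -- (1)
  have h1 : ∀ w ∈ W, w ∉ S → ∀ u ∈ S, Q (w + u) = 0 := by
    intro w hw hwS u hu
    by_contra hne
    apply hwS
    have h3 : w + u ∈ S := Submodule.subset_span ⟨W.add_mem hw (hSW hu), hne⟩
    have := S.sub_mem h3 hu
    rwa [add_sub_cancel_right] at this
  have h1' : ∀ w ∈ W, w ∉ S → ∀ u ∈ S, polar Q u w = Q u := by
    intro w hw hwS u hu
    have h3 := h1 w hw hwS u hu
    have h4 := h1 w hw hwS 0 S.zero_mem
    rw [add_zero] at h4
    rw [Q_add, h4, zero_add, polar_comm] at h3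
    linear_combination h3 - Q u * h2
  obtain ⟨w, hw, hwS⟩ := Set.not_subset.1 hspan
  have hw0 : w ≠ 0 := fun h => hwS (by rw [h]; exact S.zero_mem)
  have hQw : Q w = 0 := by
    have := h1 w hw hwS 0 S.zero_mem
    rwa [add_zero] at this
  obtain ⟨u, hu, hQu⟩ := exists_nonsing_mem hnd hw hw0
  have huS : u ∈ S := Submodule.subset_span ⟨hu, hQu⟩
  -- the field
  have hF : ∀ a : F, a = 0 ∨ a = 1 := by
    intro a
    have h3 := h1' w hw hwS (a • u) (S.smul_mem a huS)
    rw [polar_smul_left, h1' w hw hwS u huS, QuadraticMap.map_smul, smul_eq_mul, smul_eq_mul] at h3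
    have h4 : a * (1 - a) = 0 := by
      have h5 : (a * (1 - a)) * Q u = 0 := by linear_combination h3
      exact (mul_eq_zero.1 h5).resolve_right hQu
    rcases mul_eq_zero.1 h4 with h5 | h5
    · exact Or.inl h5
    · exact Or.inr (sub_eq_zero.1 h5).symm
  -- (2)
  have h3 : ∀ a ∈ S, ∀ b ∈ S, polar Q a b = 0 := by
    intro a ha b hb
    have e1 := h1' w hw hwS a ha
    have e2 := h1' w hw hwS b hb
    have e3 := h1' w hw hwS (a + b) (S.add_mem ha hb)
    rw [polar_add_left, e1, e2, Q_add] at e3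
    linear_combination -e3
  have h4 : ∀ a ∈ S, a ≠ 0 → Q a = 1 := by
    intro a ha ha0
    rcases hF (Q a) with h5 | h5
    · exfalso
      obtain ⟨y, hy, h6⟩ := hnd a (hSW ha) ha0
      apply h6
      by_cases hyS : y ∈ S
      · exact h3 a ha y hyS
      · rw [h1' y hy hyS a ha, h5]
    · exact h5
  have hu0 : u ≠ 0 := by
    rintro rfl
    exact hQu (map_zero Q)
  have h5 : ∀ a ∈ S, a ≠ 0 → a = u := by
    intro a ha ha0
    by_contra hne
    have h6 : a + u ≠ 0 := by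
      intro h
      apply hne
      rw [eq_neg_of_add_eq_zero_left h, hnegV]
    have h7 := h4 (a + u) (S.add_mem ha huS) h6
    rw [Q_add, h4 a ha ha0, h4 u huS hu0, h3 a ha u huS] at h7
    have h8 : (1 : F) = 0 := by linear_combination h7
    exact one_ne_zero h8
  refine ⟨u, ⟨hu, hQu, fun y hy hQy => ?_, fun y hy hp => ?_⟩, w, hw, hw0, hQw⟩
  · refine h5 y (Submodule.subset_span ⟨hy, hQy⟩) ?_
    rintro rfl
    exact hQy (map_zero Q)
  · by_cases hyS : y ∈ S
    · by_cases hy0 : y = 0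
      · exact Or.inl hy0
      · exact Or.inr (h5 y hyS hy0)
    · exfalso
      rw [h1' y hy hyS u huS] at hp
      exact hQu hp

namespace Dec

variable (hD : Dec Q k D)

include hD

theorem exc_le {i : Fin t} {u : V} (hu : Exc Q (D i) u) : k ≤ 2 := by
  by_contra hne
  obtain ⟨z, hz, h1, h2⟩ := exists_perp_mem2 (Q := Q) (W := D i) (by rw [hD.fr]; omega) u
  rcases hu.perp z hz h2 with h3 | h3
  · exact h1 0 (by rw [h3, zero_smul])
  · exact h1 1 (by rw [h3, one_smul])

theorem exc_all {i : Fin t} {u : V} (hu : Exc Q (D i) u) (j : Fin t) : ∃ u', Exc Q (D j) u' := by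
  obtain ⟨e, he⟩ := hD.iso i j
  have hp : ∀ a b : D i, polar Q (e a : V) (e b : V) = polar Q (a : V) (b : V) := by
    intro a b
    have h1 := he (a + b)
    rw [map_add] at h1
    rw [polar, polar, he a, he b]
    rw [show (e a : V) + (e b : V) = ((e a + e b : D j) : V) from rfl, h1]
    rfl
  refine ⟨e ⟨u, hu.mem⟩, (e ⟨u, hu.mem⟩).2, ?_, ?_, ?_⟩
  · rw [he ⟨u, hu.mem⟩]
    exact hu.ns
  · intro y hy hQy
    obtain ⟨x, hx⟩ := e.surjective ⟨y, hy⟩
    have h1 : Q (x : V) ≠ 0 := by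
      rw [← he x, hx]
      exact hQy
    have h2 : x = ⟨u, hu.mem⟩ := Subtype.ext (hu.uniq x x.2 h1)
    rw [← h2, hx]
  · intro y hy h1
    obtain ⟨x, hx⟩ := e.surjective ⟨y, hy⟩
    have h2 : polar Q u (x : V) = 0 := by
      rw [← h1, ← hp ⟨u, hu.mem⟩ x, hx]
    rcases hu.perp x x.2 h2 with h3 | h3
    · left
      have h4 : x = 0 := Subtype.ext h3
      rw [h4, map_zero] at hx
      exact (congrArg Subtype.val hx).symm
    · right
      have h4 : x = ⟨u, hu.mem⟩ := Subtype.ext h3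
      rw [← h4, hx]

end Dec

end

end Cfsg.Agent.H112.OC2
end

-- part: H112/OC2/Main
section
/-!
# S3499 (task 6065, helper112): stabilisers of orthogonal decompositions into at least three blocks
-/

set_option autoImplicit false

namespace Cfsg.Agent.H112.OC2

open QuadraticMap Cfsg.Agent.LieClassical.OrthCore Cfsg.Agent.LieClassical.OrthTrans Cfsg.Agent.H284

variable {F V : Type*} [Field F] [AddCommGroup V] [Module F V] {Q : QuadraticForm F V}
variable {t k : ℕ} {D : Fin t → Submodule F V}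

theorem Dec.pres_mul {g h : V ≃ₗ[F] V} (hg : Pres D g) (hh : Pres D h) : Pres D (g * h) := by
  obtain ⟨σ, hσ⟩ := hg
  obtain ⟨τ, hτ⟩ := hh
  exact ⟨τ.trans σ, fun i w hw => hσ _ _ (hτ i w hw)⟩

theorem Dec.pres_inv [FiniteDimensional F V] (hD : Dec Q k D) {g : V ≃ₗ[F] V} (hg : Pres D g) : Pres D g⁻¹ := by
  obtain ⟨σ, hσ⟩ := hg
  refine ⟨σ.symm, fun i => hD.mem_of_inv ?_⟩
  intro w hw
  have := hσ (σ.symm i) w hw
  rwa [Equiv.apply_symm_apply] at this

/-- the situation -/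
structure Ctx {P : Type*} [Group P] (A : Subgroup P) (ρ : E Q →* P) (k : ℕ) (D : Fin t → Submodule F V) : Prop where
  good : Good Q
  dec : Dec Q k D
  surj : Function.Surjective ρ
  ker : ∀ g : E Q, ρ g = 1 → ∃ c : F, ∀ v, (g : V ≃ₗ[F] V) v = c • v
  stab : ∀ g : E Q, ρ g ∈ A → Pres D (g : V ≃ₗ[F] V)
  trans : ∀ i j, ∃ g : E Q, ρ g ∈ A ∧ ∀ w ∈ D i, (g : V ≃ₗ[F] V) w ∈ D j

variable {P : Type*} [Group P] {A : Subgroup P} {ρ : E Q →* P}

namespace Ctx

variable (c : Ctx A ρ k D)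

include c

theorem fd : FiniteDimensional F V := Module.finite_of_finrank_pos (by have := c.good.dim; omega)

theorem mem_A (hmax : IsCoatom A) {x : E Q} (hx : ¬ Pres D (x : V ≃ₗ[F] V)) {g : E Q} (hg : Pres D (g : V ≃ₗ[F] V)) :
    ρ g ∈ A := by
  have := c.fd
  let S : Subgroup (E Q) :=
    { carrier := {g | Pres D (g : V ≃ₗ[F] V)}
      mul_mem' := fun {a b} ha hb => Dec.pres_mul ha hb
      one_mem' := ⟨1, fun i w hw => hw⟩
      inv_mem' := fun {a} ha => c.dec.pres_inv ha }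
  have h1 : A ≤ S.map ρ := by
    intro a ha
    obtain ⟨a', rfl⟩ := c.surj a
    exact ⟨a', c.stab a' ha, rfl⟩
  by_cases h2 : S.map ρ = A
  · rw [← h2]
    exact ⟨g, hg, rfl⟩
  · exfalso
    have h3 := hmax.2 _ (lt_of_le_of_ne h1 (Ne.symm h2))
    have h4 : ρ x ∈ S.map ρ := by rw [h3]; trivial
    obtain ⟨s, hs, e⟩ := h4
    obtain ⟨a, ha⟩ := c.ker (s⁻¹ * x) (by rw [map_mul, map_inv, e, inv_mul_cancel])
    apply hx
    have h5 : Pres D ((s⁻¹ * x : E Q) : V ≃ₗ[F] V) := ⟨1, fun i w hw => by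
      rw [ha w]
      exact (D i).smul_mem a hw⟩
    have h6 := Dec.pres_mul hs h5
    have h7 : ((s : E Q) : V ≃ₗ[F] V) * ((s⁻¹ * x : E Q) : V ≃ₗ[F] V) = (x : V ≃ₗ[F] V) := by
      rw [← Subgroup.coe_mul, mul_inv_cancel_left]
    rwa [h7] at h6

theorem t1kill [Finite P] {Γ : Subgroup (MulAut P)} (h : EPT A Γ) {N : Subgroup (E Q)}
    (hN2 : ∀ g ∈ N, g * g = 1) (hNP : ∀ g ∈ N, Pres D (g : V ≃ₗ[F] V))
    (hNn : ∀ a : E Q, Pres D (a : V ≃ₗ[F] V) → ∀ n ∈ N, a * n * a⁻¹ ∈ N) {b : E Q} (hb : b ∈ N)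
    (hb1 : ∀ a : F, ¬ ∀ v, (b : V ≃ₗ[F] V) v = a • v) {x : E Q} (hx : ¬ Pres D (x : V ≃ₗ[F] V))
    (hxb : x * b = b * x) : False := by
  have : Fact (Nat.Prime 2) := ⟨Nat.prime_two⟩
  apply hx
  apply c.stab
  refine cent_mem (p := 2) h (N := N.map ρ) ?_ ?_ ?_ (b := ρ b) ⟨b, hb, rfl⟩ ?_ ?_
  · rintro _ ⟨n, hn, rfl⟩
    exact c.mem_A h.max hx (hNP n hn)
  · rintro a ha _ ⟨n, hn, rfl⟩
    obtain ⟨a', rfl⟩ := c.surj a
    exact ⟨a' * n * a'⁻¹, hNn a' (c.stab a' ha) n hn, by rw [map_mul, map_mul, map_inv]⟩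
  · rintro ⟨_, n, hn, rfl⟩
    refine ⟨1, Subtype.ext ?_⟩
    show (ρ n) ^ 2 ^ 1 = 1
    rw [pow_one, pow_two, ← map_mul, hN2 n hn, map_one]
  · intro e
    obtain ⟨a, ha⟩ := c.ker b e
    exact hb1 a ha
  · rw [← map_mul, hxb, map_mul]

end Ctx

/-- the element of `E Q` given by two vectors -/
theorem exists_elt (hG : Good Q) {v v' : V} (hv : Q v ≠ 0) (hv' : Q v' ≠ 0) (h : Q v' = Q v) :
    ∃ x : E Q, (x : V ≃ₗ[F] V) = refl Q v hv * refl Q v' hv' :=
  ⟨⟨refl Q v hv * refl Q v' hv', hG.refl_mul_refl_mem hv' hv h⟩, rfl⟩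

theorem refl_fix {v : V} (hv : Q v ≠ 0) {y : V} (h : polar Q v y = 0) : refl Q v hv y = y := by
  rw [refl_apply, h, mul_zero, zero_smul, sub_zero]

theorem refl_mem {v : V} (hv : Q v ≠ 0) {W : Submodule F V} (h : v ∈ W) {y : V} (hy : y ∈ W) : refl Q v hv y ∈ W := by
  rw [refl_apply]
  exact W.sub_mem hy (W.smul_mem _ h)

theorem Dec.refl_pres (hD : Dec Q k D) {v : V} (hv : Q v ≠ 0) {i : Fin t} (h : v ∈ D i) (j : Fin t) {y : V}
    (hy : y ∈ D j) : refl Q v hv y ∈ D j := by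
  by_cases hij : i = j
  · subst hij
    exact refl_mem hv h hy
  · rw [refl_fix hv (hD.orth i j hij v h y hy)]
    exact hy

/-- `x` moves `D i` to no `D j` -/
theorem Dec.mv_elt (hD : Dec Q k D) {v v' : V} (hv : Q v ≠ 0) (hv' : Q v' ≠ 0)
    {i : Fin t} (hv'i : v' ∈ D i) (hmv : ∀ l, ¬ ∀ y ∈ D i, refl Q v hv y ∈ D l) {x : V ≃ₗ[F] V}
    (hx : x = refl Q v hv * refl Q v' hv') (j : Fin t) : ¬ ∀ y ∈ D i, x⁻¹ y ∈ D j := by
  intro hcon
  apply hmv j
  intro y hy
  have h1 := hcon y hy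
  rw [hx, mul_inv_rev, refl_inv, refl_inv] at h1
  have h2 := hD.refl_pres hv' hv'i j h1
  have h3 : refl Q v' hv' ((refl Q v' hv' * refl Q v hv) y) = (refl Q v' hv' * refl Q v' hv') (refl Q v hv y) := rfl
  rw [h3, refl_mul_self] at h2
  exact h2

theorem Dec.not_pres [FiniteDimensional F V] (hD : Dec Q k D) {x : V ≃ₗ[F] V} {i : Fin t}
    (h : ∀ j, ¬ ∀ y ∈ D i, x⁻¹ y ∈ D j) : ¬ Pres D x := by
  rintro ⟨σ, hσ⟩
  apply h (σ.symm i)
  apply hD.mem_of_inv
  intro w hw
  have := hσ (σ.symm i) w hw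
  rwa [Equiv.apply_symm_apply] at this

/-- the elements of `E Q` preserving every `D i` -/
def Bh (Q : QuadraticForm F V) [FiniteDimensional F V] {D : Fin t → Submodule F V} (hD : Dec Q k D) :
    Subgroup (E Q) where
  carrier := {g | ∀ i, ∀ w ∈ D i, (g : V ≃ₗ[F] V) w ∈ D i}
  mul_mem' := fun ha hb i w hw => ha i _ (hb i w hw)
  one_mem' := fun _ _ hw => hw
  inv_mem' := fun ha i w hw => hD.mem_of_inv (ha i) w hw

theorem Bh_norm [FiniteDimensional F V] (hD : Dec Q k D) {a : E Q} (ha : Pres D (a : V ≃ₗ[F] V)) {n : E Q}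
    (hn : n ∈ Bh Q hD) : a * n * a⁻¹ ∈ Bh Q hD := by
  obtain ⟨σ, hσ⟩ := ha
  intro i w hw
  have h1 : (a : V ≃ₗ[F] V)⁻¹ w ∈ D (σ.symm i) := by
    refine hD.mem_of_inv (i := σ.symm i) (j := i) ?_ w hw
    intro y hy
    have := hσ (σ.symm i) y hy
    rwa [Equiv.apply_symm_apply] at this
  have h2 := hσ _ _ (hn _ _ h1)
  rw [Equiv.apply_symm_apply] at h2
  exact h2

/-- reflections commute with isometries fixing the vector up to sign -/
theorem refl_comm_of {g : V ≃ₗ[F] V} (hg : g ∈ O Q) {v : V} (hv : Q v ≠ 0)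
    (h : g v = v ∨ g v = -v) : refl Q v hv * g = g * refl Q v hv := by
  have hgv : Q (g v) ≠ 0 := by rw [mem_O.1 hg]; exact hv
  have h1 : g * refl Q v hv * g⁻¹ = refl Q v hv := by
    rw [refl_conj hg hv hgv]
    apply LinearEquiv.ext
    intro x
    rw [refl_apply, refl_apply, mem_O.1 hg]
    rcases h with h | h
    · rw [h]
    · rw [h, polar_neg_left, smul_neg, mul_neg, neg_smul, neg_neg]
  calc refl Q v hv * g = g * refl Q v hv * g⁻¹ * g := by rw [h1]
    _ = g * refl Q v hv := by rw [inv_mul_cancel_right]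

/-- the elements of `E Q` acting as `1` or `-1` on every `D i` -/
def Sg (Q : QuadraticForm F V) (D : Fin t → Submodule F V) : Subgroup (E Q) where
  carrier := {g | ∀ i, (∀ w ∈ D i, (g : V ≃ₗ[F] V) w = w) ∨ (∀ w ∈ D i, (g : V ≃ₗ[F] V) w = -w)}
  mul_mem' := by
    intro a b ha hb i
    have e : ∀ w, ((a * b : E Q) : V ≃ₗ[F] V) w = (a : V ≃ₗ[F] V) ((b : V ≃ₗ[F] V) w) := fun _ => rfl
    rcases ha i with h1 | h1 <;> rcases hb i with h2 | h2
    · exact Or.inl fun w hw => by rw [e, h2 w hw, h1 w hw]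
    · exact Or.inr fun w hw => by rw [e, h2 w hw, map_neg, h1 w hw]
    · exact Or.inr fun w hw => by rw [e, h2 w hw, h1 w hw]
    · exact Or.inl fun w hw => by rw [e, h2 w hw, map_neg, h1 w hw, neg_neg]
  one_mem' := fun _ => Or.inl fun _ _ => rfl
  inv_mem' := by
    intro a ha i
    rcases ha i with h1 | h1
    · refine Or.inl fun w hw => ?_
      show (a : V ≃ₗ[F] V)⁻¹ w = w
      conv_lhs => rw [← h1 w hw]
      exact (a : V ≃ₗ[F] V).symm_apply_apply w
    · refine Or.inr fun w hw => ?_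
      show (a : V ≃ₗ[F] V)⁻¹ w = -w
      have h2 := h1 (-w) ((D i).neg_mem hw)
      rw [neg_neg] at h2
      conv_lhs => rw [← h2]
      exact (a : V ≃ₗ[F] V).symm_apply_apply (-w)

namespace Ctx

variable (c : Ctx A ρ k D)

include c

theorem inj (h2 : (2 : F) = 0) : Function.Injective ρ := by
  rw [injective_iff_map_eq_one]
  intro g hg
  obtain ⟨a, ha⟩ := c.ker g hg
  have hne : ∃ u, Q u ≠ 0 := by
    obtain ⟨x, y, hxy⟩ := c.good.exists_hyp
    refine ⟨x + y, ?_⟩
    rw [Q_add, hxy.left, hxy.right, hxy.pair]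
    simp
  obtain ⟨u, hu⟩ := hne
  have h1 : Q ((g : V ≃ₗ[F] V) u) = Q u := E_le_O g.2 u
  rw [ha u, QuadraticMap.map_smul, smul_eq_mul] at h1
  have h3 : a * a = 1 := mul_right_cancel₀ hu (by rw [h1, one_mul])
  have h4 : (a - 1) * (a - 1) = 0 := by linear_combination h3 + (1 - a) * h2
  have h5 : a = 1 := sub_eq_zero.1 (mul_self_eq_zero.1 h4)
  apply Subtype.ext
  apply LinearEquiv.ext
  intro v
  rw [ha v, h5, one_smul]
  rfl

/-- characteristic two, the general case -/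
theorem kill_even [Finite P] {Γ : Subgroup (MulAut P)} (h : EPT A Γ) (h2 : (2 : F) = 0)
    (hspan : ∀ i, D i ≤ Submodule.span F {u | u ∈ D i ∧ Q u ≠ 0}) (hk : 2 ≤ k) (ht : 3 ≤ t) (htk : 7 ≤ t * k) :
    False := by
  have := c.fd
  have hD := c.dec
  have hinj := c.inj h2
  obtain ⟨i, l, hil, v, v', hv, hvv', hv'i, hvl, hmv⟩ := hD.exists_mv hk ht htk
  have hv' : Q v' ≠ 0 := by rw [hvv']; exact hv
  obtain ⟨x, hxe⟩ := exists_elt c.good hv hv' hvv'
  have hxi := hD.mv_elt hv hv' hv'i hmv hxe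
  have hxl : ∀ y ∈ D l, (x : V ≃ₗ[F] V) y = y := by
    intro y hy
    rw [hxe]
    show refl Q v hv (refl Q v' hv' y) = y
    rw [refl_fix hv' (hD.orth i l hil v' hv'i y hy), refl_fix hv (hvl y hy)]
  have hxP : ¬ Pres D (x : V ≃ₗ[F] V) := hD.not_pres hxi
  obtain ⟨a0, ha0, ha0'⟩ := c.trans l i
  refine base_kill h (B := (Bh Q hD).map ρ) ?_ ?_ ?_ ?_ (x := ρ x) (fun hx => hxP (c.stab x hx)) ha0 ?_
  · rintro _ ⟨b, hb, rfl⟩
    exact c.mem_A h.max hxP ⟨1, hb⟩
  · rintro a ha _ ⟨b, hb, rfl⟩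
    obtain ⟨a', rfl⟩ := c.surj a
    exact ⟨a' * b * a'⁻¹, Bh_norm hD (c.stab a' ha) hb, by rw [map_mul, map_mul, map_inv]⟩
  · intro hbot
    obtain ⟨u, hu, hQu⟩ := hD.exists_nonsing (by omega) i
    have hu0 : u ≠ 0 := by
      rintro rfl
      exact hQu (map_zero Q)
    obtain ⟨w, hw, hw0, hQw⟩ := hD.exists_copy l hu hu0
    have hQw0 : Q w ≠ 0 := by rw [hQw]; exact hQu
    obtain ⟨b, hb⟩ := exists_elt c.good hQu hQw0 hQw
    have hbB : b ∈ Bh Q hD := by
      intro j y hy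
      rw [hb]
      exact hD.refl_pres hQu hu j (hD.refl_pres hQw0 hw j hy)
    have h3 : ρ b ∈ (Bh Q hD).map ρ := ⟨b, hbB, rfl⟩
    rw [hbot, Subgroup.mem_bot, ← map_one ρ] at h3
    have h4 : b = 1 := hinj h3
    obtain ⟨y, hy, huy⟩ := hD.nd i u hu hu0
    have h5 : (b : V ≃ₗ[F] V) y = y := by rw [h4]; rfl
    rw [hb] at h5
    have h6 : refl Q u hQu (refl Q w hQw0 y) = y := h5
    rw [refl_fix hQw0 (hD.orth l i hil.symm w hw y hy), refl_apply, sub_eq_self, smul_eq_zero] at h6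
    rcases h6 with h6 | h6
    · exact (mul_ne_zero (inv_ne_zero hQu) huy) h6
    · exact hu0 h6
  · -- (G)
    intro N hNB hNne hNn a ha haN
    obtain ⟨a', rfl⟩ := c.surj a
    obtain ⟨σ, hσ⟩ := c.stab a' ha
    suffices hfix : ∀ i, σ i = i by
      refine ⟨a', ?_, rfl⟩
      intro j w hw
      have := hσ j w hw
      rwa [hfix j] at this
    intro i
    by_contra hij
    -- an element of `N` acting nontrivially on `D i`
    obtain ⟨n, hnN, hnB, w, hw, hnw⟩ : ∃ n : E Q, ρ n ∈ N ∧ n ∈ Bh Q hD ∧ ∃ w ∈ D i, (n : V ≃ₗ[F] V) w ≠ w := by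
      obtain ⟨n0, hn0⟩ := Subgroup.ne_bot_iff_exists_ne_one.1 hNne
      obtain ⟨n, hn, hn'⟩ := hNB n0.2
      have hn1 : n ≠ 1 := by
        rintro rfl
        apply hn0
        apply Subtype.ext
        rw [← hn', map_one]
        rfl
      obtain ⟨i0, w, hw, hw1⟩ : ∃ i0, ∃ w ∈ D i0, (n : V ≃ₗ[F] V) w ≠ w := by
        by_contra hcon
        push Not at hcon
        apply hn1
        apply Subtype.ext
        exact hD.ext_equiv hcon
      obtain ⟨g, hg, hgi⟩ := c.trans i0 i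
      refine ⟨g * n * g⁻¹, ?_, Bh_norm hD (c.stab g hg) hn, (g : V ≃ₗ[F] V) w, hgi w hw, ?_⟩
      · rw [map_mul, map_mul, map_inv, hn']
        exact hNn _ hg _ n0.2
      · intro e
        apply hw1
        apply (g : V ≃ₗ[F] V).injective
        have h3 : ((g * n * g⁻¹ : E Q) : V ≃ₗ[F] V) ((g : V ≃ₗ[F] V) w) =
            (g : V ≃ₗ[F] V) ((n : V ≃ₗ[F] V) ((g : V ≃ₗ[F] V)⁻¹ ((g : V ≃ₗ[F] V) w))) := rfl
        have h4 : (g : V ≃ₗ[F] V)⁻¹ ((g : V ≃ₗ[F] V) w) = w := (g : V ≃ₗ[F] V).symm_apply_apply w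
        rw [h3, h4] at e
        exact e
    -- a nonsingular vector moved by `n`
    obtain ⟨u, hu, hQu, hnu⟩ : ∃ u ∈ D i, Q u ≠ 0 ∧ (n : V ≃ₗ[F] V) u ≠ u := by
      by_contra hcon
      push Not at hcon
      apply hnw
      have h3 : Submodule.span F {u | u ∈ D i ∧ Q u ≠ 0} ≤
          LinearMap.eqLocus (n : V ≃ₗ[F] V).toLinearMap LinearMap.id := by
        rw [Submodule.span_le]
        exact fun u hu => hcon u hu.1 hu.2
      exact h3 (hspan i hw)
    have hu0 : u ≠ 0 := by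
      rintro rfl
      exact hQu (map_zero Q)
    obtain ⟨l', hl'i, hl'j⟩ : ∃ l' : Fin t, l' ≠ i ∧ l' ≠ σ i := by
      by_contra hcon
      push Not at hcon
      have h3 : (Finset.univ : Finset (Fin t)) ⊆ {i, σ i} := by
        intro l' _
        rw [Finset.mem_insert, Finset.mem_singleton]
        by_cases h4 : l' = i
        · exact Or.inl h4
        · exact Or.inr (hcon l' h4)
      have h4 := (Finset.card_le_card h3).trans Finset.card_le_two
      rw [Finset.card_univ, Fintype.card_fin] at h4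
      omega
    obtain ⟨u', hu', hu'0, hQu'⟩ := hD.exists_copy l' hu hu0
    have hQu'0 : Q u' ≠ 0 := by rw [hQu']; exact hQu
    obtain ⟨d, hd⟩ := exists_elt c.good hQu hQu'0 hQu'
    have hdB : d ∈ Bh Q hD := by
      intro j y hy
      rw [hd]
      exact hD.refl_pres hQu hu j (hD.refl_pres hQu'0 hu' j hy)
    have hdi : ∀ y ∈ D i, (d : V ≃ₗ[F] V) y = refl Q u hQu y := by
      intro y hy
      rw [hd]
      show refl Q u hQu (refl Q u' hQu'0 y) = _
      rw [refl_fix hQu'0 (hD.orth l' i hl'i u' hu' y hy)]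
    have hdj : ∀ y ∈ D (σ i), (d : V ≃ₗ[F] V) y = y := by
      intro y hy
      rw [hd]
      show refl Q u hQu (refl Q u' hQu'0 y) = _
      rw [refl_fix hQu'0 (hD.orth l' (σ i) hl'j u' hu' y hy), refl_fix hQu (hD.orth i (σ i) (Ne.symm hij) u hu y hy)]
    -- the commutator
    have hmN : ρ (n * d * n⁻¹ * d⁻¹) ∈ N := by
      have e : n * d * n⁻¹ * d⁻¹ = n * (d * n⁻¹ * d⁻¹) := by group
      rw [e, map_mul]
      refine N.mul_mem hnN ?_
      rw [map_mul, map_mul, map_inv, map_inv]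
      exact hNn _ (c.mem_A h.max hxP ⟨1, hdB⟩) _ (N.inv_mem hnN)
    have hcomm : a' * (n * d * n⁻¹ * d⁻¹) = (n * d * n⁻¹ * d⁻¹) * a' := by
      apply hinj
      rw [map_mul ρ a', map_mul ρ (n * d * n⁻¹ * d⁻¹) a']
      exact haN _ hmN
    -- trivial on `D (σ i)`
    have hm1 : ∀ y ∈ D (σ i), ((n * d * n⁻¹ * d⁻¹ : E Q) : V ≃ₗ[F] V) y = y := by
      intro y hy
      have h3 : ((n * d * n⁻¹ * d⁻¹ : E Q) : V ≃ₗ[F] V) y =
        (n : V ≃ₗ[F] V) ((d : V ≃ₗ[F] V) ((n : V ≃ₗ[F] V)⁻¹ ((d : V ≃ₗ[F] V)⁻¹ y))) := rfl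
      have h4 : (d : V ≃ₗ[F] V)⁻¹ y = y := by
        conv_lhs => rw [← hdj y hy]
        exact (d : V ≃ₗ[F] V).symm_apply_apply y
      have h5 : (n : V ≃ₗ[F] V)⁻¹ y ∈ D (σ i) := hD.mem_of_inv (hnB (σ i)) y hy
      rw [h3, h4, hdj _ h5]
      exact (n : V ≃ₗ[F] V).apply_symm_apply y
    -- trivial on `D i`
    have hm2 : ∀ y ∈ D i, ((n * d * n⁻¹ * d⁻¹ : E Q) : V ≃ₗ[F] V) y = y := by
      intro y hy
      apply (a' : V ≃ₗ[F] V).injective
      have h3 : (a' : V ≃ₗ[F] V) (((n * d * n⁻¹ * d⁻¹ : E Q) : V ≃ₗ[F] V) y) =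
          ((a' * (n * d * n⁻¹ * d⁻¹) : E Q) : V ≃ₗ[F] V) y := rfl
      rw [h3, hcomm]
      exact hm1 _ (hσ i y hy)
    -- `n d = d n` on `D i`
    obtain ⟨z, hz, huz⟩ := hD.nd i u hu hu0
    have h3 : (n : V ≃ₗ[F] V) ((d : V ≃ₗ[F] V) z) = (d : V ≃ₗ[F] V) ((n : V ≃ₗ[F] V) z) := by
      have h4 := hm2 _ (hdB i _ (hnB i z hz))
      have h5 : ((n * d * n⁻¹ * d⁻¹ : E Q) : V ≃ₗ[F] V) ((d : V ≃ₗ[F] V) ((n : V ≃ₗ[F] V) z)) =
        ((n * d * n⁻¹ * d⁻¹ * d * n : E Q) : V ≃ₗ[F] V) z := rfl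
      have h6 : n * d * n⁻¹ * d⁻¹ * d * n = n * d := by group
      rw [h5, h6] at h4
      exact h4
    rw [hdi z hz, hdi _ (hnB i z hz), refl_apply, refl_apply, map_sub, map_smul, sub_right_inj] at h3
    have h4 : (n : V ≃ₗ[F] V) u = (((Q u)⁻¹ * polar Q u z)⁻¹ * ((Q u)⁻¹ * polar Q u ((n : V ≃ₗ[F] V) z))) • u := by
      rw [mul_smul, ← h3, smul_smul, inv_mul_cancel₀ (mul_ne_zero (inv_ne_zero hQu) huz), one_smul]
    set γ := ((Q u)⁻¹ * polar Q u z)⁻¹ * ((Q u)⁻¹ * polar Q u ((n : V ≃ₗ[F] V) z)) with hγ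
    have h5 : Q ((n : V ≃ₗ[F] V) u) = Q u := E_le_O n.2 u
    rw [h4, QuadraticMap.map_smul, smul_eq_mul] at h5
    have h6 : γ * γ = 1 := mul_right_cancel₀ hQu (by rw [h5, one_mul])
    have h7 : (γ - 1) * (γ - 1) = 0 := by linear_combination h6 + (1 - γ) * h2
    have h8 : γ = 1 := sub_eq_zero.1 (mul_self_eq_zero.1 h7)
    apply hnu
    rw [h4, h8, one_smul]
  · -- no factorisation
    rintro _ ⟨b, hb, rfl⟩ m hm hab
    obtain ⟨m', rfl⟩ := c.surj m
    have hm2 := mem_cj.1 (Subgroup.mem_inf.1 hm).2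
    rw [← map_inv, ← map_mul, ← map_mul] at hm2
    obtain ⟨τ, hτ⟩ := c.stab _ hm2
    rw [← map_mul] at hab
    have hab' : a0 = b * m' := hinj hab
    have hm' : ∀ y ∈ D l, (m' : V ≃ₗ[F] V) y ∈ D i := by
      intro y hy
      have h3 : m' = b⁻¹ * a0 := by rw [hab', inv_mul_cancel_left]
      have h4 : (m' : V ≃ₗ[F] V) y = (b : V ≃ₗ[F] V)⁻¹ ((a0 : V ≃ₗ[F] V) y) := by rw [h3]; rfl
      rw [h4]
      exact hD.mem_of_inv (hb i) _ (ha0' y hy)
    apply hxi (τ l)
    intro z hz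
    have h3 : (m' : V ≃ₗ[F] V)⁻¹ z ∈ D l := hD.mem_of_inv hm' z hz
    have h4 := hτ l _ h3
    have h5 : ((x⁻¹ * m' * x : E Q) : V ≃ₗ[F] V) ((m' : V ≃ₗ[F] V)⁻¹ z) =
      (x : V ≃ₗ[F] V)⁻¹ ((m' : V ≃ₗ[F] V) ((x : V ≃ₗ[F] V) ((m' : V ≃ₗ[F] V)⁻¹ z))) := rfl
    have h6 : (m' : V ≃ₗ[F] V) ((m' : V ≃ₗ[F] V)⁻¹ z) = z := (m' : V ≃ₗ[F] V).apply_symm_apply z
    rw [h5, hxl _ h3, h6] at h4
    exact h4

/-- the hyperbolic plane over the field with two elements -/
theorem kill_exc [Finite P] {Γ : Subgroup (MulAut P)} (h : EPT A Γ) (h2 : (2 : F) = 0)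
    {i : Fin t} (hspan : ¬ D i ≤ Submodule.span F {u | u ∈ D i ∧ Q u ≠ 0}) (hk : 2 ≤ k) (htk : 7 ≤ t * k) :
    False := by
  have := c.fd
  have hD := c.dec
  obtain ⟨u, hu, w, hw, hw0, hQw⟩ := exc_of h2 (hD.nd i) hspan
  have hk2 : k = 2 := le_antisymm (hD.exc_le hu) hk
  have ht4 : 4 ≤ t := by
    rw [hk2] at htk
    omega
  have hu0 : u ≠ 0 := by
    rintro rfl
    exact hu.ns (map_zero Q)
  have hP : PP Q (D i) := ⟨u, hu.mem, w, hw, u, hu.mem, hu0, hw0, by rw [hQw, add_zero], hu.ns⟩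
  have hneg : ∀ a : F, -a = a := fun a => by linear_combination (-a) * h2
  have hnegV : ∀ a : V, -a = a := fun a => by rw [← neg_one_smul F a, hneg, one_smul]
  let i0 : Fin t := ⟨0, by omega⟩
  let i1 : Fin t := ⟨1, by omega⟩
  let i2 : Fin t := ⟨2, by omega⟩
  let i3 : Fin t := ⟨3, by omega⟩
  have h01 : i0 ≠ i1 := by simp [i0, i1]
  have h02 : i0 ≠ i2 := by simp [i0, i2]
  have h03 : i0 ≠ i3 := by simp [i0, i3]
  have h12 : i1 ≠ i2 := by simp [i1, i2]
  have h13 : i1 ≠ i3 := by simp [i1, i3]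
  have h23 : i2 ≠ i3 := by simp [i2, i3]
  choose e he using hD.exc_all hu
  have hens := fun j => (he j).ns
  have hem := fun j => (he j).mem
  have heq : Q (e i1) = Q (e i0) := by
    obtain ⟨y, hy, hy0, hQy⟩ := hD.exists_copy i1 (hem i0) (fun h => hens i0 (by rw [h]; exact map_zero Q))
    rw [← hQy, (he i1).uniq y hy (by rw [hQy]; exact hens i0)]
  obtain ⟨b, hb⟩ := exists_elt c.good (hens i0) (hens i1) heq
  have hbfix : ∀ y, polar Q (e i0) y = 0 → polar Q (e i1) y = 0 → (b : V ≃ₗ[F] V) y = y := by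
    intro y h4 h5
    rw [hb]
    show refl Q (e i0) (hens i0) (refl Q (e i1) (hens i1) y) = y
    rw [refl_fix (hens i1) h5, refl_fix (hens i0) h4]
  obtain ⟨v, v', hv, hvv', hvm, hv'i, hmv⟩ := hD.pair_vec hk h23 (hD.pp_all hP i2)
  have hv' : Q v' ≠ 0 := by rw [hvv']; exact hv
  obtain ⟨x, hxe⟩ := exists_elt c.good hv hv' hvv'
  have hxP : ¬ Pres D (x : V ≃ₗ[F] V) := hD.not_pres (hD.mv_elt hv hv' hv'i hmv hxe)
  have hbv : (b : V ≃ₗ[F] V) v = v := by
    obtain ⟨a, ha, a', ha', rfl⟩ := Submodule.mem_sup.1 hvm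
    apply hbfix
    · rw [polar_add_right, hD.orth i0 i2 h02 _ (hem i0) a ha, hD.orth i0 i3 h03 _ (hem i0) a' ha', add_zero]
    · rw [polar_add_right, hD.orth i1 i2 h12 _ (hem i1) a ha, hD.orth i1 i3 h13 _ (hem i1) a' ha', add_zero]
  have hbv' : (b : V ≃ₗ[F] V) v' = v' :=
    hbfix _ (hD.orth i0 i2 h02 _ (hem i0) v' hv'i) (hD.orth i1 i2 h12 _ (hem i1) v' hv'i)
  refine c.t1kill h (N := Bh Q hD) ?_ ?_ ?_ (b := b) ?_ ?_ hxP ?_
  · -- `g * g = 1`
    intro g hg
    have hgi : ∀ j, (g : V ≃ₗ[F] V) (e j) = e j := fun j =>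
      (he j).uniq _ (hg j _ (hem j)) (by rw [mem_O.1 (E_le_O g.2)]; exact hens j)
    apply Subtype.ext
    refine hD.ext_equiv (f := ((g * g : E Q) : V ≃ₗ[F] V)) (g := 1) ?_
    intro j y hy
    show (g : V ≃ₗ[F] V) ((g : V ≃ₗ[F] V) y) = y
    have h4 : (g : V ≃ₗ[F] V) y - y = 0 ∨ (g : V ≃ₗ[F] V) y - y = e j := by
      refine (he j).perp _ ((D j).sub_mem (hg j y hy) hy) ?_
      rw [polar_sub_right]
      have h5 := polar_map (E_le_O g.2) (e j) y
      rw [hgi j] at h5
      rw [h5, sub_self]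
    rcases h4 with h4 | h4
    · have h5 := sub_eq_zero.1 h4
      rw [h5, h5]
    · have h5 : (g : V ≃ₗ[F] V) y = e j + y := sub_eq_iff_eq_add.1 h4
      rw [h5, map_add, hgi, h5, ← add_assoc]
      have h6 : e j + e j = 0 := by
        have := hnegV (e j)
        nth_rewrite 1 [← this]
        rw [neg_add_cancel]
      rw [h6, zero_add]
  · exact fun g hg => ⟨1, hg⟩
  · exact fun a ha n hn => Bh_norm hD ha hn
  · intro j y hy
    rw [hb]
    exact hD.refl_pres (hens i0) (hem i0) j (hD.refl_pres (hens i1) (hem i1) j hy)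
  · intro a ha
    have h4 := ha (e i2)
    rw [hbfix _ (hD.orth i0 i2 h02 _ (hem i0) _ (hem i2)) (hD.orth i1 i2 h12 _ (hem i1) _ (hem i2))] at h4
    have h5 : (1 - a) • e i2 = 0 := by rw [sub_smul, one_smul, ← h4, sub_self]
    rcases smul_eq_zero.1 h5 with h6 | h6
    · have ha1 : a = 1 := (sub_eq_zero.1 h6).symm
      have hei0 : e i0 ≠ 0 := fun h => hens i0 (by rw [h]; exact map_zero Q)
      obtain ⟨y, hy, huy⟩ := hD.nd i0 (e i0) (hem i0) hei0
      have h7 := ha y
      rw [ha1, one_smul, hb] at h7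
      have h8 : refl Q (e i0) (hens i0) (refl Q (e i1) (hens i1) y) = y := h7
      rw [refl_fix (hens i1) (hD.orth i1 i0 h01.symm _ (hem i1) y hy), refl_apply, sub_eq_self, smul_eq_zero] at h8
      rcases h8 with h8 | h8
      · exact (mul_ne_zero (inv_ne_zero (hens i0)) huy) h8
      · exact hei0 h8
    · exact hens i2 (by rw [h6]; exact map_zero Q)
  · apply Subtype.ext
    show (x : V ≃ₗ[F] V) * (b : V ≃ₗ[F] V) = (b : V ≃ₗ[F] V) * (x : V ≃ₗ[F] V)
    rw [hxe, mul_assoc, refl_comm_of (E_le_O b.2) hv' (Or.inl hbv'), ← mul_assoc,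
      refl_comm_of (E_le_O b.2) hv (Or.inl hbv), mul_assoc]

/-- odd characteristic: an element `x` commuting with some nonscalar element of `Sg` -/
theorem kill_sg [Finite P] {Γ : Subgroup (MulAut P)} (h : EPT A Γ) (h2 : (2 : F) ≠ 0) (hk : 1 ≤ k)
    {b : V ≃ₗ[F] V} (hb : b ∈ ⁅O Q, O Q⁆)
    (hbs : ∀ i, (∀ w ∈ D i, b w = w) ∨ (∀ w ∈ D i, b w = -w)) {i j : Fin t} (hi : ∀ w ∈ D i, b w = w)
    (hj : ∀ w ∈ D j, b w = -w) {x : E Q} (hx : ¬ Pres D (x : V ≃ₗ[F] V)) (hxb : (x : V ≃ₗ[F] V) * b = b * x) :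
    False := by
  have := c.fd
  have hD := c.dec
  have hbE : b ∈ E Q := c.good.commutator_le_E hb
  refine c.t1kill h (N := Sg Q D) ?_ ?_ ?_ (b := ⟨b, hbE⟩) hbs ?_ hx (Subtype.ext hxb)
  · intro g hg
    apply Subtype.ext
    refine hD.ext_equiv (f := ((g * g : E Q) : V ≃ₗ[F] V)) (g := 1) ?_
    intro j y hy
    show (g : V ≃ₗ[F] V) ((g : V ≃ₗ[F] V) y) = y
    rcases hg j with h1 | h1
    · rw [h1 y hy, h1 y hy]
    · rw [h1 y hy, map_neg, h1 y hy, neg_neg]
  · intro g hg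
    refine ⟨1, fun i w hw => ?_⟩
    rcases hg i with h1 | h1
    · rw [h1 w hw]
      exact hw
    · rw [h1 w hw]
      exact (D i).neg_mem hw
  · intro a ha n hn j
    obtain ⟨σ, hσ⟩ := hD.pres_inv ha
    have e : ∀ w, ((a * n * a⁻¹ : E Q) : V ≃ₗ[F] V) w =
      (a : V ≃ₗ[F] V) ((n : V ≃ₗ[F] V) ((a : V ≃ₗ[F] V)⁻¹ w)) := fun _ => rfl
    have e2 : ∀ w, (a : V ≃ₗ[F] V) ((a : V ≃ₗ[F] V)⁻¹ w) = w := fun w => (a : V ≃ₗ[F] V).apply_symm_apply w
    rcases hn (σ j) with h1 | h1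
    · refine Or.inl fun w hw => ?_
      rw [e, h1 _ (hσ j w hw), e2]
    · refine Or.inr fun w hw => ?_
      rw [e, h1 _ (hσ j w hw), map_neg, e2]
  · intro a ha
    obtain ⟨y, hy, hy0⟩ := hD.exists_ne hk i
    obtain ⟨z, hz, hz0⟩ := hD.exists_ne hk j
    have h3 : b y = a • y := ha y
    have h4 : b z = a • z := ha z
    rw [hi y hy] at h3
    rw [hj z hz] at h4
    have h5 : a = 1 := by
      have : (1 - a) • y = 0 := by rw [sub_smul, one_smul, ← h3, sub_self]
      exact (sub_eq_zero.1 ((smul_eq_zero.1 this).resolve_right hy0)).symm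
    rw [h5, one_smul] at h4
    apply hz0
    have h6 : (2 : F) • z = 0 := by
      rw [two_smul]
      nth_rewrite 1 [← h4]
      rw [neg_add_cancel]
    exact (smul_eq_zero.1 h6).resolve_left h2

/-- odd characteristic, `k ≥ 2` -/
theorem kill_odd [Finite P] {Γ : Subgroup (MulAut P)} (h : EPT A Γ) (h2 : (2 : F) ≠ 0) (hk : 2 ≤ k) (ht : 3 ≤ t) :
    False := by
  have := c.fd
  have hD := c.dec
  let i0 : Fin t := ⟨0, by omega⟩
  let i1 : Fin t := ⟨1, by omega⟩
  let i2 : Fin t := ⟨2, by omega⟩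
  have h01 : i0 ≠ i1 := by simp [i0, i1]
  have h02 : i0 ≠ i2 := by simp [i0, i2]
  have h12 : i1 ≠ i2 := by simp [i1, i2]
  have hP : PP Q (D i0) := (hD.pp_or hk i0).resolve_right fun h3 => h2 h3.2.1
  obtain ⟨b, hb, hb0, hb1, hb2⟩ := hD.neg_pair c.good.nondeg h01
  obtain ⟨v, v', hv, hvv', hvm, hv'i, hmv⟩ := hD.pair_vec hk h01 hP
  have hv' : Q v' ≠ 0 := by rw [hvv']; exact hv
  obtain ⟨x, hxe⟩ := exists_elt c.good hv hv' hvv'
  have hxP : ¬ Pres D (x : V ≃ₗ[F] V) := hD.not_pres (hD.mv_elt hv hv' hv'i hmv hxe)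
  have hbO : b ∈ O Q := E_le_O (c.good.commutator_le_E hb)
  have hbv : b v = -v := by
    obtain ⟨a, ha, a', ha', rfl⟩ := Submodule.mem_sup.1 hvm
    rw [map_add, hb0 a ha, hb1 a' ha', neg_add]
  refine c.kill_sg h h2 (by omega) hb ?_ (hb2 i2 h02.symm h12.symm) hb0 hxP ?_
  · intro i
    by_cases h3 : i = i0
    · exact Or.inr (by rw [h3]; exact hb0)
    · by_cases h4 : i = i1
      · exact Or.inr (by rw [h4]; exact hb1)
      · exact Or.inl (hb2 i h3 h4)
  · rw [hxe, mul_assoc, refl_comm_of hbO hv' (Or.inr (hb0 v' hv'i)), ← mul_assoc,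
      refl_comm_of hbO hv (Or.inr hbv), mul_assoc]

/-- odd characteristic, at least seven blocks -/
theorem kill_seven [Finite P] {Γ : Subgroup (MulAut P)} (h : EPT A Γ) (h2 : (2 : F) ≠ 0) (hk : 1 ≤ k) (ht : 7 ≤ t) :
    False := by
  have := c.fd
  have hD := c.dec
  let i0 : Fin t := ⟨0, by omega⟩
  let i1 : Fin t := ⟨1, by omega⟩
  let i2 : Fin t := ⟨2, by omega⟩
  let i3 : Fin t := ⟨3, by omega⟩
  let i4 : Fin t := ⟨4, by omega⟩
  let i5 : Fin t := ⟨5, by omega⟩
  let i6 : Fin t := ⟨6, by omega⟩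
  have h56 : i5 ≠ i6 := by simp [i5, i6]
  obtain ⟨u, hu, hQu⟩ := hD.exists_nonsing hk i0
  have hu0 : u ≠ 0 := by
    rintro rfl
    exact hQu (map_zero Q)
  choose w hw hw0 hQw using fun j => hD.exists_copy j hu hu0
  have hp : ∀ i j, i ≠ j → polar Q (w i) (w j) = 0 := fun i j hij => hD.orth i j hij _ (hw i) _ (hw j)
  have hpp : ∀ i, polar Q (w i) (w i) = 2 * Q u := fun i => by rw [polar_self', hQw]
  have h2u : 2 * Q u ≠ 0 := mul_ne_zero h2 hQu
  obtain ⟨b, hb, hb5, hb6, hbo⟩ := hD.neg_pair c.good.nondeg h56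
  have hbO : b ∈ O Q := E_le_O (c.good.commutator_le_E hb)
  -- the two vectors
  obtain ⟨v, v', hv, hvv', hbv, hbv', hv0, hv1, hv2, hv'0⟩ : ∃ v v' : V, Q v ≠ 0 ∧ Q v' = Q v ∧ b v = v ∧ b v' = v' ∧
      polar Q v (w i0) ≠ 0 ∧ polar Q v (w i1) ≠ 0 ∧ polar Q v (w i2) ≠ 0 ∧ polar Q v' (w i0) = 0 := by
    have hb0 : b (w i0) = w i0 := hbo i0 (by simp [i0, i5]) (by simp [i0, i6]) _ (hw i0)
    have hb1 : b (w i1) = w i1 := hbo i1 (by simp [i1, i5]) (by simp [i1, i6]) _ (hw i1)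
    have hb2 : b (w i2) = w i2 := hbo i2 (by simp [i2, i5]) (by simp [i2, i6]) _ (hw i2)
    have hb3 : b (w i3) = w i3 := hbo i3 (by simp [i3, i5]) (by simp [i3, i6]) _ (hw i3)
    have hb4 : b (w i4) = w i4 := hbo i4 (by simp [i4, i5]) (by simp [i4, i6]) _ (hw i4)
    have h01 := hp i0 i1 (by simp [i0, i1])
    have h02 := hp i0 i2 (by simp [i0, i2])
    have h03 := hp i0 i3 (by simp [i0, i3])
    have h10 := hp i1 i0 (by simp [i0, i1])
    have h12 := hp i1 i2 (by simp [i1, i2])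
    have h13 := hp i1 i3 (by simp [i1, i3])
    have h20 := hp i2 i0 (by simp [i0, i2])
    have h21 := hp i2 i1 (by simp [i1, i2])
    have h23 := hp i2 i3 (by simp [i2, i3])
    have h24 := hp i2 i4 (by simp [i2, i4])
    have h30 := hp i3 i0 (by simp [i0, i3])
    have h31 := hp i3 i1 (by simp [i1, i3])
    have h32 := hp i3 i2 (by simp [i2, i3])
    have h34 := hp i3 i4 (by simp [i3, i4])
    have h40 := hp i4 i0 (by simp [i0, i4])
    by_cases h3 : (3 : F) = 0
    · have e1 : Q (w i0 + w i1 + w i2 + w i3) = Q u := by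
        rw [Q_add, Q_add, Q_add, polar_add_left, polar_add_left, polar_add_left, h01, h02, h12, h03, h13, h23,
          hQw, hQw, hQw, hQw]
        linear_combination Q u * h3
      refine ⟨w i0 + w i1 + w i2 + w i3, w i4, by rw [e1]; exact hQu, by rw [e1, hQw], ?_, hb4, ?_, ?_, ?_, h40⟩
      · rw [map_add, map_add, map_add, hb0, hb1, hb2, hb3]
      · rw [polar_add_left, polar_add_left, polar_add_left, hpp, h10, h20, h30]
        simpa only [_root_.add_zero, _root_.ne_eq, _root_.mul_eq_zero, _root_.not_or] using h2u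
      · rw [polar_add_left, polar_add_left, polar_add_left, h01, hpp, h21, h31]
        simpa only [_root_.zero_add, _root_.add_zero, _root_.ne_eq, _root_.mul_eq_zero, _root_.not_or] using h2u
      · rw [polar_add_left, polar_add_left, polar_add_left, h02, h12, hpp, h32]
        simpa only [_root_.add_zero, _root_.zero_add, _root_.ne_eq, _root_.mul_eq_zero, _root_.not_or] using h2u
    · have e1 : Q (w i0 + w i1 + w i2) = 3 * Q u := by
        rw [Q_add, Q_add, polar_add_left, h01, h02, h12, hQw, hQw, hQw]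
        ring
      have e2 : Q (w i2 + w i3 + w i4) = 3 * Q u := by
        rw [Q_add, Q_add, polar_add_left, h23, h24, h34, hQw, hQw, hQw]
        ring
      refine ⟨w i0 + w i1 + w i2, w i2 + w i3 + w i4, by rw [e1]; exact mul_ne_zero h3 hQu, by rw [e1, e2], ?_, ?_,
        ?_, ?_, ?_, ?_⟩
      · rw [map_add, map_add, hb0, hb1, hb2]
      · rw [map_add, map_add, hb2, hb3, hb4]
      · rw [polar_add_left, polar_add_left, hpp, h10, h20]
        simpa only [_root_.add_zero, _root_.ne_eq, _root_.mul_eq_zero, _root_.not_or] using h2u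
      · rw [polar_add_left, polar_add_left, h01, hpp, h21]
        simpa only [_root_.zero_add, _root_.add_zero, _root_.ne_eq, _root_.mul_eq_zero, _root_.not_or] using h2u
      · rw [polar_add_left, polar_add_left, h02, h12, hpp]
        simpa only [_root_.add_zero, _root_.zero_add, _root_.ne_eq, _root_.mul_eq_zero, _root_.not_or] using h2u
      · rw [polar_add_left, polar_add_left, h20, h30, h40, add_zero, add_zero]
  have hv' : Q v' ≠ 0 := by rw [hvv']; exact hv
  obtain ⟨x, hxe⟩ := exists_elt c.good hv hv' hvv'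
  have hx0 : (x : V ≃ₗ[F] V) (w i0) = w i0 - ((Q v)⁻¹ * polar Q v (w i0)) • v := by
    rw [hxe]
    show refl Q v hv (refl Q v' hv' (w i0)) = _
    rw [refl_fix hv' hv'0, refl_apply]
  have hα : (Q v)⁻¹ * polar Q v (w i0) ≠ 0 := mul_ne_zero (inv_ne_zero hv) hv0
  have hxP : ¬ Pres D (x : V ≃ₗ[F] V) := by
    rintro ⟨σ, hσ⟩
    have h3 := hσ i0 _ (hw i0)
    rw [hx0] at h3
    have key : ∀ j, j ≠ i0 → polar Q v (w j) ≠ 0 → σ i0 = j := by
      intro j hj hvj
      by_contra hne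
      have h4 := hD.orth _ _ hne _ h3 _ (hw j)
      rw [polar_sub_left, polar_smul_left, hp i0 j hj.symm, smul_eq_mul, zero_sub, neg_eq_zero] at h4
      exact (mul_ne_zero hα hvj) h4
    have h5 := key i1 (by simp [i0, i1]) hv1
    have h6 := key i2 (by simp [i0, i2]) hv2
    rw [h5] at h6
    exact absurd h6 (by simp [i1, i2])
  refine c.kill_sg h h2 hk hb ?_ (hbo i0 (by simp [i0, i5]) (by simp [i0, i6])) hb5 hxP ?_
  · intro i
    by_cases h3 : i = i5
    · exact Or.inr (by rw [h3]; exact hb5)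
    · by_cases h4 : i = i6
      · exact Or.inr (by rw [h4]; exact hb6)
      · exact Or.inl (hbo i h3 h4)
  · rw [hxe, mul_assoc, refl_comm_of hbO hv' (Or.inl hbv'), ← mul_assoc,
      refl_comm_of hbO hv (Or.inl hbv), mul_assoc]

/-- **Stabilisers of orthogonal decompositions into at least three blocks.** -/
theorem kill [Finite P] {Γ : Subgroup (MulAut P)} (h : EPT A Γ) (hk : 1 ≤ k) (ht : 3 ≤ t) (htk : 7 ≤ t * k) :
    False := by
  have hD := c.dec
  by_cases h2 : (2 : F) = 0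
  · have hk2 : 2 ≤ k := by
      by_contra hne
      have hk1 : k = 1 := by omega
      obtain ⟨w, hw, hw0⟩ := hD.exists_ne hk ⟨0, by omega⟩
      obtain ⟨y, hy, hwy⟩ := hD.nd _ w hw hw0
      apply hwy
      have h3 : Module.finrank F (D ⟨0, by omega⟩) = 1 := by rw [hD.fr, hk1]
      obtain ⟨a, ha⟩ := (finrank_eq_one_iff_of_nonzero' (⟨w, hw⟩ : D ⟨0, by omega⟩)
        (fun h => hw0 (congrArg Subtype.val h))).1 h3 ⟨y, hy⟩
      have h4 : y = a • w := (congrArg Subtype.val ha).symm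
      rw [h4, polar_smul_right, polar_self', h2, zero_mul, smul_zero]
    by_cases hspan : ∀ i, D i ≤ Submodule.span F {u | u ∈ D i ∧ Q u ≠ 0}
    · exact c.kill_even h h2 hspan hk2 ht htk
    · push Not at hspan
      obtain ⟨i, hi⟩ := hspan
      exact c.kill_exc h h2 hi hk2 htk
  · by_cases hk2 : 2 ≤ k
    · exact c.kill_odd h h2 hk2 ht
    · have hk1 : k = 1 := by omega
      rw [hk1, mul_one] at htk
      exact c.kill_seven h h2 hk htk

end Ctx

end Cfsg.Agent.H112.OC2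
end

-- part: H112/OC2/Final
section
/-!
# S3499-III-Om-C2 (task 6065, helper112)

`om_c2` : the preimage `m.hat A ≤ Ω(Q)`, `dim ≥ 7`, of a point stabiliser of an extremely primitive group is not
contained in the stabiliser of an orthogonal decomposition into at least three isometric blocks.
The hypotheses are those of `H925.EvenFine.orth_irreducible_fine` (C2a).
-/

set_option autoImplicit false

namespace Cfsg.Agent.H112.OC2

open QuadraticMap Cfsg.Agent.LieClassical.OrthCore Cfsg.Agent.LieClassical.OrthTrans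
  Cfsg.Agent.LieClassical.OrthFinite Cfsg.Agent.H884.OmegaGL Cfsg.Agent.H284 Cfsg.Agent.H419.EP
open scoped MatrixGroups Matrix

theorem om_c2 {P : Type*} [Group P] [Finite P] {A : Subgroup P} {Γ : Subgroup (MulAut P)} (h : EPT A Γ)
    {F : Type*} [Field F] [Fintype F] {ι : Type} [Fintype ι] [DecidableEq ι] {Qf : (ι → F) → F}
    (m : Model P (Cfsg.Geo.omegaGL Qf)) (hn : 7 ≤ Fintype.card ι) (hQ : Cfsg.Geo.IsNondegenerateQuadraticForm Qf)
    {t k : ℕ} {D : Fin t → Submodule F (ι → F)} (htk : t * k = Fintype.card ι)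
    (hD : Cfsg.Geo.IsOrthogonalMDecomposition Qf k D) (hA : m.hat A ≤ Cfsg.Geo.decompositionStabilizer D)
    (htr : ∀ i j, ∃ h ∈ m.hat A, (D i).map (Matrix.toLin' (h : Matrix ι ι F)) = D j) (ht : 3 ≤ t) : False := by
  have hE : ∀ g : E (bundle Qf hQ), (glEquiv ι F).symm g ∈ Cfsg.Geo.omegaGL Qf := by
    intro g
    rw [mem_omegaGL Qf hQ (by omega), MulEquiv.apply_symm_apply]
    exact g.2
  let f : E (bundle Qf hQ) →* Cfsg.Geo.omegaGL Qf :=
    ((glEquiv ι F).symm.toMonoidHom.comp (E (bundle Qf hQ)).subtype).codRestrict _ hE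
  have hf : ∀ g : E (bundle Qf hQ), glEquiv ι F (f g : GL ι F) = g := fun g => MulEquiv.apply_symm_apply _ _
  have hfa : ∀ (g : E (bundle Qf hQ)) (v : ι → F), ((f g : GL ι F) : Matrix ι ι F) *ᵥ v =
      (g : (ι → F) ≃ₗ[F] (ι → F)) v := by
    intro g v
    rw [← glEquiv_apply, hf]
  have hstab : ∀ g : E (bundle Qf hQ), m.π (f g) ∈ A → Pres D (g : (ι → F) ≃ₗ[F] (ι → F)) := by
    intro g hg
    obtain ⟨σ, hσ⟩ := hA ((m.mem_hat_iff (f g)).2 hg)
    refine ⟨σ, fun i w hw => ?_⟩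
    rw [← hσ i]
    refine ⟨w, hw, ?_⟩
    rw [Matrix.toLin'_apply]
    exact hfa g w
  have c : Ctx A (m.π.comp f) k D := by
    refine ⟨good_bundle Qf hQ (by omega), ⟨hD.decomp.decomp.finrank_eq, ?_, ?_, hD.decomp.decomp.indep,
      hD.decomp.decomp.iSup_eq_top, hD.isometric⟩, ?_, ?_, hstab, ?_⟩
    · intro i w hw hw0
      obtain ⟨-, y, hy, h1⟩ := hD.decomp.nondegenerate i w hw hw0
      exact ⟨y, hy, h1⟩
    · intro i j hij u hu v hv
      exact hD.decomp.orthogonal i j hij u hu v hv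
    · intro p
      obtain ⟨s, rfl⟩ := m.surj p
      refine ⟨⟨glEquiv ι F s, (mem_omegaGL Qf hQ (by omega) _).1 s.2⟩, ?_⟩
      show m.π (f _) = m.π s
      congr 1
      apply Subtype.ext
      exact (glEquiv ι F).symm_apply_apply _
    · intro g hg
      have h1 := (m.ker (f g)).1 hg
      obtain ⟨a, ha⟩ := (Cfsg.Geo.mem_scalars_iff _).1 h1
      refine ⟨a, fun v => ?_⟩
      rw [← hfa, ha, Matrix.smul_mulVec, Matrix.one_mulVec]
    · intro i j
      obtain ⟨s, hs, h1⟩ := htr i j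
      obtain ⟨hsO, hsA⟩ := m.mem_hat.1 hs
      refine ⟨⟨glEquiv ι F s, (mem_omegaGL Qf hQ (by omega) _).1 hsO⟩, ?_, ?_⟩
      · show m.π (f _) ∈ A
        have e : f ⟨glEquiv ι F s, (mem_omegaGL Qf hQ (by omega) _).1 hsO⟩ = ⟨s, hsO⟩ :=
          Subtype.ext ((glEquiv ι F).symm_apply_apply _)
        rw [e]
        exact hsA
      · intro w hw
        rw [← h1]
        exact ⟨w, hw, rfl⟩
  exact c.kill h hD.decomp.decomp.pos ht (by omega)

/-- the row in the form used by the assembly (helper778) -/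
theorem omC2 : Cfsg.Agent.H778.EP.OmC2 := by
  intro P _ _ _ A Γ h F _ _ ι _ _ Qf m hn hQ hC
  obtain ⟨-, t, k, D, htk, ht, hD, hA, htr⟩ := hC
  exact om_c2 h m hn hQ htk hD hA htr ht

end Cfsg.Agent.H112.OC2
end

private theorem dce_36a0e210317a : _root_.True := by
  try have : _root_.True := by simp only [_root_.Cfsg.Agent.H112.OC2.pc.eq_1]
  try have : _root_.True := by simp only [_root_.Cfsg.Geo.ActsIrreducibly.eq_1]
  exact _root_.True.intro
end

-- part: H545/EA/Stmts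
section
set_option linter.all false

/-!
# S3499, V-ALT (socle alternating, dimension at least 13): the exact statements of the tasks (helper545)

A task `EAxx` is done when a theorem `… : H545.EA.EAxx` is proved. Target: `H419.EP.BigOf (fun L _ => Cfsg.IsAlternating L)`.
-/

set_option autoImplicit false

namespace Cfsg.Agent.H545.EA

open Subgroup Cfsg Cfsg.Agent.H284 Cfsg.Agent.H419.EP Cfsg.Agent.H614.AMod Cfsg.Agent.H964.AltMod
open scoped MatrixGroups

/-! ### Representations of alternating groups -/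

/-- EA1: disjoint 5-cycles, characteristic not 5 -/
def EA1 : Prop := ∀ (K V : Type) [Field K] [AddCommGroup V] [Module K V] [FiniteDimensional K V] (c m : ℕ)
  (ρ : Representation K (alternatingGroup (Fin c)) V), (5 : K) ≠ 0 → 2 ≤ m → 5 * m ≤ c →
  Module.finrank K V < 8 * m * (m - 1) → Indep ρ

/-- EA2: disjoint 3-cycles, characteristic not 3 -/
def EA2 : Prop := ∀ (K V : Type) [Field K] [AddCommGroup V] [Module K V] [FiniteDimensional K V] (c m : ℕ)
  (ρ : Representation K (alternatingGroup (Fin c)) V), (3 : K) ≠ 0 → 5 ≤ m → 3 * m ≤ c →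
  Module.finrank K V < (if m = 5 then 32 else 2 * m * (m - 1)) → Indep ρ

/-- EA3: a 5-cycle and a 7-cycle, over the field with two elements -/
def EA3 : Prop := ∀ (K V : Type) [Field K] [AddCommGroup V] [Module K V] [FiniteDimensional K V] (c : ℕ)
  (ρ : Representation K (alternatingGroup (Fin c)) V), Nat.card K = 2 → 12 ≤ c →
  Module.finrank K V ≤ 23 → Indep ρ

/-- EA4: spin representations -/
def EA4 : Prop := ∀ {F : Type} [Field F] [Fintype F] {ι : Type} [Fintype ι] [DecidableEq ι] {P : Subgroup (GL ι F)}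
  (c p : ℕ), p.Prime → CharP F p → 10 ≤ c → Cfsg.Agent.H915.LD.Core P →
  Nonempty (socle P ≃* alternatingGroup (Fin c)) → (Cfsg.Geo.scalars ι F).subgroupOf P ≠ ⊥ →
  p ≠ 2 ∧ (p ≠ 5 → 16 * 4 ^ ((c - 10) / 5) ≤ Fintype.card ι) ∧ (p = 5 → 8 * 2 ^ ((c - 9) / 3) ≤ Fintype.card ι)

/-! ### Natural modules -/

/-- EA10: natural modules in odd characteristic -/
def EA10 : Prop := ∀ {Q : Type} [Group Q] [Finite Q] {A : Subgroup Q} {Γ : Subgroup (MulAut Q)} {ι : Type}
    [Fintype ι] [DecidableEq ι] {F : Type} [Field F] [Fintype F] {S P : Subgroup (GL ι F)}, Big A Γ S P →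
    ∀ (c : ℕ), 14 ≤ c → (2 : F) ≠ 0 → ∀ (f : P ≃* alternatingGroup (Fin c)) (w : Fin c → Fin c → (ι → F)),
    NatM (rep f) w → False

/-- EA11: natural modules in characteristic two -/
def EA11 : Prop := ∀ {Q : Type} [Group Q] [Finite Q] {A : Subgroup Q} {Γ : Subgroup (MulAut Q)} {ι : Type}
    [Fintype ι] [DecidableEq ι] {F : Type} [Field F] [Fintype F] {S P : Subgroup (GL ι F)}, Big A Γ S P →
    ∀ (c : ℕ), 14 ≤ c → (2 : F) = 0 → ∀ (f : P ≃* alternatingGroup (Fin c)) (w : Fin c → Fin c → (ι → F)),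
    NatM (rep f) w → False

end Cfsg.Agent.H545.EA
end

-- part: H417/EP/ASixSoc
section
prune_inst 0x10000000400000
set_option linter.all false
open scoped Cfsg.Agent.FastGrp

/-!
# Extremely primitive groups: point stabilisers with socle `A₆` (helper417)

The index is at most 1486, the order less than 4680000.
-/

set_option autoImplicit false

namespace Cfsg.Agent.H417.EP.Six

open Subgroup Cfsg.Agent.H284 Cfsg.Agent.H419.EP

variable {Q : Type*} [Group Q] [Finite Q] {A : Subgroup Q} {Γ : Subgroup (MulAut Q)}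

theorem index_le (h : EPT A Γ) {N : Subgroup Q} (hNA : N ≤ A) (hN : ∀ a ∈ A, ∀ n ∈ N, a * n * a⁻¹ ∈ N)
    (e : N ≃* A6) (hcent : ∀ a ∈ A, (∀ n ∈ N, a * n = n * a) → a = 1) : A.index ≤ 1486 := by
  classical
  have hOut := out_comm center_A6 (by rw [card_aut, card_A6])
  have hi : Inv A Γ (emb e) := base_inv h hNA hN e hcent
  have hne : ∀ x, x ∉ A → tr (emb e) A x ≠ ⊥ := fun x hx => base_tr h hNA hN ncomm e hcent hOut hx
  have : Fintype A6 := Fintype.ofFinite A6
  have h1 := weight_bound h hi hne (fun t => if orderOf t = 2 then 1 else 0) (if_neg (by rw [orderOf_one]; norm_num))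
    (c := 5) (W := 45) (m := 166) (fun K hK => by
      refine (inv_ge hK).trans (le_of_eq ?_)
      have h2 : ∀ t : A6, (if t ∈ K then (if orderOf t = 2 then 1 else 0) else 0) =
          (if t ∈ K ∧ orderOf t = 2 then 1 else 0) := by
        intro t
        split_ifs <;> simp_all only [_root_.inv_mem_iff, _root_.MonoidHom.mem_range, _root_.Subtype.exists, _root_.Equiv.Perm.mem_alternatingGroup, _root_.ne_eq, _root_.and_self, _root_.not_true_eq_false, _root_.and_false, _root_.not_false_eq_true, _root_.false_and]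
      simp only [h2]
      rw [← Finset.card_filter, Nat.card_eq_fintype_card, Fintype.card_subtype]) (by
      rw [← Finset.card_filter]
      refine le_trans (le_of_eq ?_) two_le
      rw [Eleven.card_filter_univ]
      congr 1
      ext x
      exact mem_D_two.symm) ncard_adm
  omega

theorem index_of_hasSoc (h : EPT A Γ) (hs : HasSoc A (alternatingGroup (Fin 6))) : A.index ≤ 1486 := by
  obtain ⟨N, h1, h2, h3, ⟨e⟩⟩ := hs
  exact index_le h h1 h2 e h3

omit [Finite Q] in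
/-- the order of a group with a simple socle -/
theorem card_le_aut {S : Type*} [Group S] [Finite S] (hs : HasSoc A S) : Nat.card A ≤ Nat.card (MulAut S) := by
  obtain ⟨N, h1, h2, h3, ⟨e⟩⟩ := hs
  have hNf : Finite N := Finite.of_equiv _ e.symm.toEquiv
  have hc : ∀ a : A, ∃ φ : MulAut N, ∀ n : N, ((φ n : N) : Q) = a * n * (a : Q)⁻¹ := by
    intro a
    refine ⟨{ toFun := fun n => ⟨a * n * (a : Q)⁻¹, h2 a a.2 n n.2⟩
              invFun := fun n => ⟨(a : Q)⁻¹ * n * a, by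
                have := h2 (a : Q)⁻¹ (A.inv_mem a.2) n n.2
                rwa [inv_inv] at this⟩
              left_inv := fun n => Subtype.ext (by
                show (a : Q)⁻¹ * (a * n * (a : Q)⁻¹) * a = n
                group)
              right_inv := fun n => Subtype.ext (by
                show (a : Q) * ((a : Q)⁻¹ * n * a) * (a : Q)⁻¹ = n
                group)
              map_mul' := fun n m => Subtype.ext (by
                show (a : Q) * (n * m) * (a : Q)⁻¹ = (a * n * (a : Q)⁻¹) * (a * m * (a : Q)⁻¹)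
                group) }, fun n => rfl⟩
  choose φ hφ using hc
  have hinj : Function.Injective φ := by
    intro a b hab
    have h4 : (a : Q)⁻¹ * b = 1 := by
      apply h3 _ (A.mul_mem (A.inv_mem a.2) b.2)
      intro n hn
      have h5 : (a : Q) * n * (a : Q)⁻¹ = b * n * (b : Q)⁻¹ := by
        rw [← hφ a ⟨n, hn⟩, ← hφ b ⟨n, hn⟩, hab]
      have h6 : (a : Q)⁻¹ * b * n = (a : Q)⁻¹ * (b * n * (b : Q)⁻¹) * b := by group
      rw [h6, ← h5]
      group
    rw [inv_mul_eq_one] at h4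
    exact Subtype.ext h4
  have : Finite (MulAut N) := Finite.of_equiv _ (MulAut.congr e).symm.toEquiv
  rw [← Nat.card_congr (MulAut.congr e).toEquiv]
  exact Nat.card_le_card_of_injective φ hinj

/-- **`soc(A) = A₆`**: the order -/
theorem card_lt (h : EPT A Γ) (hs : HasSoc A (alternatingGroup (Fin 6))) : Nat.card Q < 4680000 := by
  have h1 := index_of_hasSoc h hs
  have h2 := card_le_aut hs
  rw [card_aut] at h2
  have h3 := A.card_mul_index
  have h4 := Nat.mul_le_mul h2 h1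
  omega

theorem false_of_le (h : EPT A Γ) (hs : HasSoc A (alternatingGroup (Fin 6))) (hQ : 4680000 ≤ Nat.card Q) : False := by
  have := card_lt h hs
  omega

/-- the form for the row `PSU₃` -/
theorem H4 : ∀ K : Subgroup (alternatingGroup (Fin 6)), Adm K →
    4 ≤ Nat.card {l : alternatingGroup (Fin 6) // l ∈ K ∧ orderOf l = 2} :=
  fun _ hK => le_trans (by norm_num) (inv_ge hK)

end Cfsg.Agent.H417.EP.Six
end

-- part: H812/EP/Ly
section
set_option linter.all false
open scoped Cfsg.Agent.FastGrp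

/-!
# S3499-V, sporadic rows: Lagrange in `GL_n(F)` against the bounds UB1 + UB2; the row `Ly` (helper812)

* `exists_dvd` : a prime `s ∣ |Q|`, `s ∤ |F|`, divides `|F|^i - 1` for some `1 ≤ i ≤ n`;
* `card_le` : `|Q| ≤ N (1 + (∑ gal · (N/6) + N²/60 + N³/12744000) · 2(N/6))` if `|A| ∣ N`;
* `kill` : the contradiction from a finite table `(q, s, M)` and `bound ≤ q₁ ^ 78`;
* `ly` : `soc(A)` is not the Lyons group.
-/

set_option autoImplicit false

namespace Cfsg.Agent.H812.EP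

open Subgroup Cfsg Cfsg.Agent.H284 Cfsg.Agent.H419.EP Cfsg.Agent.H59.EP
open scoped MatrixGroups

section

variable {Q : Type} [Group Q] [Finite Q] {A : Subgroup Q} {Γ : Subgroup (MulAut Q)} {ι : Type} [Fintype ι]
    [DecidableEq ι] {F : Type} [Field F] [Fintype F] {S P : Subgroup (GL ι F)}

/-- the order of `GL ι F` -/
theorem card_GL : Nat.card (GL ι F) =
    ∏ i : Fin (Fintype.card ι), (Fintype.card F ^ Fintype.card ι - Fintype.card F ^ (i : ℕ)) := by
  rw [← Matrix.card_GL_field (𝔽 := F) (Fintype.card ι)]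
  exact Nat.card_congr (Units.mapEquiv (Matrix.reindexAlgEquiv F F (Fintype.equivFin ι)).toMulEquiv).toEquiv

omit [Finite Q] in
/-- `|Q|` divides `|GL_n(F)|` -/
theorem card_dvd_GL (m : Model Q S) : Nat.card Q ∣
    ∏ i : Fin (Fintype.card ι), (Fintype.card F ^ Fintype.card ι - Fintype.card F ^ (i : ℕ)) := by
  rw [← card_GL]
  exact (Subgroup.card_dvd_of_surjective m.π m.surj).trans (Subgroup.card_subgroup_dvd_card S)

omit [Finite Q] in
/-- a prime dividing `|Q|` -/
theorem exists_dvd (m : Model Q S) {s : ℕ} (hs : s.Prime) (hsQ : s ∣ Nat.card Q) (hsq : ¬ s ∣ Fintype.card F) :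
    ∃ i, 1 ≤ i ∧ i ≤ Fintype.card ι ∧ s ∣ Fintype.card F ^ i - 1 := by
  obtain ⟨i, _, hi⟩ := (Prime.dvd_finsetProd_iff hs.prime _).1 (hsQ.trans (card_dvd_GL m))
  have e : Fintype.card F ^ Fintype.card ι - Fintype.card F ^ (i : ℕ) =
      Fintype.card F ^ (i : ℕ) * (Fintype.card F ^ (Fintype.card ι - i) - 1) := by
    rw [Nat.mul_sub, mul_one, ← pow_add, Nat.add_sub_cancel' i.2.le]
  rw [e, hs.dvd_mul] at hi
  rcases hi with hi | hi
  · exact absurd (hs.dvd_of_dvd_pow hi) hsq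
  · exact ⟨Fintype.card ι - i, by omega, Nat.sub_le _ _, hi⟩

/-- the bound -/
def bnd (l : List (ℕ × ℕ)) (N : ℕ) : ℕ :=
  N * (1 + ((l.map fun x => gal x.1 x.2).sum * (N / 6) + N ^ 2 / 60 + N ^ 3 / 12744000) * (2 * (N / 6)))

/-- **UB1 + UB2** for the order of `Q` -/
theorem card_le (hg : TwoGen.{0}) (b : Big A Γ S P) (l : List (ℕ × ℕ)) (h1 : ∀ x ∈ l, x.1.Prime ∧ 0 < x.2)
    (h2 : (l.map Prod.fst).Nodup) {N : ℕ} (hN : (l.map fun x => x.1 ^ x.2).prod = N) (hc : Nat.card A ∣ N)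
    (hB : N < 60 ^ 61) : Nat.card Q ≤ bnd l N := by
  have hN0 : 0 < N := by
    rw [← hN]
    apply Nat.pos_of_ne_zero
    apply List.prod_ne_zero
    intro h0
    obtain ⟨x, hx, e⟩ := List.mem_map.1 h0
    exact (pow_ne_zero _ (h1 x hx).1.ne_zero) e
  have hab : ∀ K : Subgroup Q, K ≤ A → (∀ a ∈ A, ∀ k ∈ K, a * k * a⁻¹ ∈ K) →
      (∀ a ∈ K, ∀ b ∈ K, a * b = b * a) → K = ⊥ := fun K hK hn hab =>
    b.hasSoc.no_abelian b.core.simple (fun h => b.core.nonabelian ⟨⟨h⟩⟩) hK hn hab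
  have h3 := EPT.ncard_le_gen_dvd b.ept hg hab l h1 h2 (hN ▸ hc) (hN ▸ hB)
  have h4 := index_le_of h3 (Cfsg.Agent.H173.EP.ub1 b.simple b.ept (by norm_num) fun _ hx => EPT.six_le b.ept hab hx)
    le_rfl
  rw [hN] at h4
  have h5 : Nat.card A ≤ N := Nat.le_of_dvd hN0 hc
  rw [← Subgroup.card_mul_index A, bnd]
  refine Nat.mul_le_mul h5 (h4.trans (Nat.add_le_add_left (Nat.mul_le_mul_left _ (Nat.mul_le_mul_left _ ?_)) 1))
  exact Nat.div_le_div_right h5

/-- a table entry `(q, s, M)`: `|F| = q` implies `n ≥ M` by the prime `s`, and then `B < |Q|` -/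
def ok (B N : ℕ) (x : ℕ × ℕ × ℕ) : Bool :=
  decide (8 * B < x.1 ^ (x.2.2 * (x.2.2 - 1) / 2)) && decide (x.2.1.gcd x.1 = 1) && decide (N % x.2.1 = 0) &&
    (List.range (x.2.2 - 1)).all fun i => decide ((x.1 ^ (i + 1) - 1) % x.2.1 ≠ 0)

/-- **The contradiction** from the orders: `B` an upper bound for `|Q|`, `N ∣ |Q|`, `t` a table for the fields with
less than `q₁` elements. -/
theorem kill (b : Big A Γ S P) {B N q₁ : ℕ} (hB : Nat.card Q ≤ B) (hN : N ∣ Nat.card Q) (hq₁ : 8 * B < q₁ ^ 78)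
    (t : List (ℕ × ℕ × ℕ)) (ht : t.all (ok B N) = true) (hp : ∀ x ∈ t, x.2.1.Prime)
    (hq : ∀ q, 2 ≤ q → q < q₁ → q ∈ t.map Prod.fst) : False := by
  have hord := b.ord
  have hn := b.thirteen
  have hmul : 13 * (13 - 1) / 2 ≤ Fintype.card ι * (Fintype.card ι - 1) / 2 :=
    Nat.div_le_div_right (Nat.mul_le_mul hn (by omega))
  have h2 := b.two_le
  rcases Nat.lt_or_ge (Fintype.card F) q₁ with h | h
  · obtain ⟨x, hx, hx1⟩ := List.mem_map.1 (hq _ h2 h)
    have h3 := List.all_eq_true.1 ht x hx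
    simp only [ok, Bool.and_eq_true, decide_eq_true_eq, List.all_eq_true, List.mem_range] at h3
    obtain ⟨⟨⟨h4, h5⟩, h6⟩, h7⟩ := h3
    have hsp := hp x hx
    rw [hx1] at h4 h5 h7
    have hsq : ¬ x.2.1 ∣ Fintype.card F := by
      intro hd
      have := Nat.dvd_gcd dvd_rfl hd
      rw [h5] at this
      exact hsp.one_lt.ne' (Nat.dvd_one.1 this)
    obtain ⟨i, hi1, hi2, hi3⟩ := exists_dvd b.m hsp ((Nat.dvd_of_mod_eq_zero h6).trans hN) hsq
    have h8 : x.2.2 ≤ i := by
      by_contra hcon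
      push Not at hcon
      have := h7 (i - 1) (by omega)
      rw [Nat.sub_add_cancel hi1] at this
      exact this (Nat.mod_eq_zero_of_dvd hi3)
    have h9 : x.2.2 ≤ Fintype.card ι := h8.trans hi2
    have h10 : Fintype.card F ^ (x.2.2 * (x.2.2 - 1) / 2) ≤ 8 * Nat.card Q :=
      le_trans (Nat.pow_le_pow_right (by omega) (Nat.div_le_div_right (Nat.mul_le_mul h9 (by omega)))) hord
    omega
  · have h10 : q₁ ^ 78 ≤ 8 * Nat.card Q :=
      le_trans (Nat.pow_le_pow_left h 78) (le_trans (Nat.pow_le_pow_right (by omega) hmul) hord)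
    omega

omit [Finite Q] in
/-- `|soc(A)|` divides `|Q|` -/
theorem soc_dvd {L : Type*} [Group L] (h : HasSoc A L) : Nat.card L ∣ Nat.card Q :=
  h.card_dvd.trans (Subgroup.card_subgroup_dvd_card A)

/-- `A` is its socle if the socle has no outer automorphisms -/
theorem card_eq_of_inner {L : Type*} [Group L] [Finite L] (h : HasSoc A L)
    (hi : ∀ φ : MulAut L, φ ∈ (MulAut.conj : L →* MulAut L).range) : Nat.card A = Nat.card L := by
  have h1 : Function.Surjective (MulAut.conj : L →* MulAut L) := hi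
  exact le_antisymm (h.card_le.trans (Nat.card_le_card_of_surjective _ h1)) (Nat.le_of_dvd Nat.card_pos h.card_dvd)

end

/-- **Row `Ly`** -/
theorem ly (hg : TwoGen.{0}) : BigOf (fun L _ => Spor.IsoLy L) := by
  rintro Q _ _ A Γ ι _ _ F _ _ S P b ⟨e⟩
  have hcard : Nat.card Spor.Ly = 51765179004000000 := Cfsg.Agent.Ly.Setup.card_ly
  have hfin : Finite Spor.Ly := Cfsg.Agent.Ly.Setup.finite_ly
  have hA : Nat.card A = 51765179004000000 := by
    rw [← hcard]
    exact card_eq_of_inner (b.hasSoc' e) Cfsg.Agent.TypeM.OutLyFin.inner_ly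
  have hQ := card_le hg b [(2, 8), (3, 7), (5, 6), (7, 1), (11, 1), (31, 1), (37, 1), (67, 1)]
    (by
      intro x hx
      simp only [List.mem_cons, List.not_mem_nil, or_false] at hx
      rcases hx with rfl | rfl | rfl | rfl | rfl | rfl | rfl | rfl <;> norm_num) (by decide)
    (N := 51765179004000000) (by norm_num) (by rw [hA]) (by norm_num)
  refine kill b hQ (N := 51765179004000000) (q₁ := 10) (hcard ▸ soc_dvd (b.hasSoc' e)) (by decide +kernel)
    [(2, 67, 24), (3, 67, 19), (4, 67, 17), (5, 67, 16), (6, 67, 15), (7, 67, 15), (8, 67, 14), (9, 31, 14)]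
    (by decide +kernel) ?_ ?_
  · intro x hx
    simp only [List.mem_cons, List.not_mem_nil, or_false] at hx
    rcases hx with rfl | rfl | rfl | rfl | rfl | rfl | rfl | rfl <;> norm_num
  · intro q h1 h2
    interval_cases q <;> decide

end Cfsg.Agent.H812.EP

private theorem dce_a15a24b80488 : _root_.True := by
  try have : _root_.True := by simp only [_root_.Cfsg.Agent.H812.EP.bnd.eq_1]
  try have : _root_.True := by simp only [_root_.Cfsg.Agent.H812.EP.ok.eq_1]
  exact _root_.True.intro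
end
end
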